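import Cfsg.Agent.Lib.ThreeTransp.CentralPair
import Cfsg.Agent.Lib.Coprime.Action

/-!
An odd order group acting on an extraspecial 2-group: `Q = C_Q(A) * [Q, A]`.
-/

set_option autoImplicit false
set_option linter.unusedSectionVars false
set_option linter.style.haveILetI false

namespace CfsgLib.ThreeTransp

open Cfsg CfsgLib.Involutions
open scoped commutatorElement

variable {G : Type*} [Group G] [Finite G]

theorem isExtraspecial_sub {Q H : Subgroup G} {z : G} (h : XCent Q z) (hp : IsPGroup 2 Q)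
    (hH : H ≤ Q) (hz : z ∈ H)
    (hcen : ∀ d ∈ H, (∀ e ∈ H, e * d = d * e) → d = 1 ∨ d = z)
    (hne : ∃ a ∈ H, ∃ b ∈ H, a * b ≠ b * a) : IsExtraspecial 2 ↥H := by
  haveI : Fact (Nat.Prime 2) := ⟨Nat.prime_two⟩
  have hpH : IsPGroup 2 H := (hp.to_subgroup (H.subgroupOf Q)).of_equiv
    (Subgroup.subgroupOfEquivOfLe hH)
  set zH : H := ⟨z, hz⟩
  have hzc : zH ∈ Subgroup.center H :=
    Subgroup.mem_center_iff.2 fun e => Subtype.ext (h.comm e (hH e.2))
  have hcenter : Subgroup.center H = Subgroup.zpowers zH := by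
    refine le_antisymm (fun d hd => ?_) (Subgroup.zpowers_le.2 hzc)
    rcases hcen d d.2 (fun e he => congrArg Subtype.val (Subgroup.mem_center_iff.1 hd ⟨e, he⟩))
      with hh | hh
    · rw [show d = 1 from Subtype.ext hh]; exact one_mem _
    · rw [show d = zH from Subtype.ext hh]; exact Subgroup.mem_zpowers _
  have hcard : Nat.card (Subgroup.center H) = 2 := by
    rw [hcenter, Nat.card_zpowers]
    exact orderOf_eq_prime (by rw [pow_two]; exact Subtype.ext h.inv)
      (fun hh => h.ne_one (congrArg Subtype.val hh))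
  have hle : commutator H ≤ Subgroup.center H := by
    rw [commutator_def, Subgroup.commutator_le]
    intro a _ b _
    rcases h.commEl a (hH a.2) b (hH b.2) with hh | hh
    · rw [show ⁅a, b⁆ = 1 from Subtype.ext (by
        rw [commutatorElement_def]; simp only [Subgroup.coe_mul, Subgroup.coe_inv, hh]; simp)]
      exact one_mem _
    · rw [show ⁅a, b⁆ = zH from Subtype.ext (by
        rw [commutatorElement_def]; simp only [Subgroup.coe_mul, Subgroup.coe_inv, hh]; simp [zH])]
      exact hzc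
  have hcom : commutator H = Subgroup.center H := by
    refine Subgroup.eq_of_le_of_card_ge hle ?_
    obtain ⟨a, ha, b, hb, hab⟩ := hne
    have hn : ⁅(⟨a, ha⟩ : H), (⟨b, hb⟩ : H)⁆ ≠ 1 := fun hh => hab (by
      rw [commutatorElement_eq_one_iff_mul_comm] at hh
      exact congrArg Subtype.val hh)
    haveI : Nontrivial (commutator H) := ⟨⟨⟨_, Subgroup.commutator_mem_commutator
      (Subgroup.mem_top _) (Subgroup.mem_top _)⟩, 1, fun hh => hn (congrArg Subtype.val hh)⟩⟩
    rw [hcard]
    exact Finite.one_lt_card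
  refine ⟨⟨hpH, le_antisymm ?_ (hcom ▸ CfsgLib.PGroups.commutator_le_frattini hpH), hcom⟩, hcard⟩
  refine CfsgLib.PGroups.frattini_le_of_elementary_quotient (p := 2) hle fun a => ?_
  rcases h.sq a (hH a.2) with hh | hh
  · rw [show a ^ 2 = 1 from Subtype.ext (by simpa [pow_two] using hh)]; exact one_mem _
  · rw [show a ^ 2 = zH from Subtype.ext (by simpa [pow_two] using hh)]; exact hzc

/-- The coprime decomposition of a large extraspecial subgroup. -/
theorem large_coprime_split {Q : Subgroup G} (hQ : IsLargeExtraspecial Q) {A : Subgroup G}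
    (hA : A ≤ Subgroup.normalizer (Q : Set G)) (hAodd : Odd (Nat.card ↥A)) (hA1 : A ≠ ⊥) :
    (Q ⊓ Subgroup.centralizer (A : Set G)) ⊔ ⁅Q, A⁆ = Q ∧
    (∀ x ∈ Q ⊓ Subgroup.centralizer (A : Set G), ∀ y ∈ ⁅Q, A⁆, x * y = y * x) ∧
    IsExtraspecial 2 ↥⁅Q, A⁆ ∧
    (Q ⊓ Subgroup.centralizer (A : Set G) = centerIn Q ∨
      IsExtraspecial 2 ↥(Q ⊓ Subgroup.centralizer (A : Set G))) := by
  haveI : Fact (Nat.Prime 2) := ⟨Nat.prime_two⟩
  obtain ⟨hE, hC, hN, -⟩ := hQ
  have hp := isPGroup_of_extraspecial hE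
  obtain ⟨z, hz, hZeq, hZmem⟩ := exists_centerIn_gen hE
  have hzZ : z ∈ centerIn Q := hZeq ▸ Subgroup.mem_zpowers z
  have h := xCent_mk hE (hC.le.trans (Subgroup.map_subtype_le _)) hzZ (invol_ne_one hz)
    (fun c hc => hN (by
      show c ∈ Subgroup.centralizer (centerIn Q : Set G)
      rw [hZeq, Subgroup.mem_centralizer_iff]
      intro t ht
      obtain ⟨n, rfl⟩ := Subgroup.mem_zpowers_iff.1 ht
      exact (Commute.zpow_left
        (Commute.symm (Subgroup.mem_centralizer_singleton_iff.1 hc)) n).eq))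
  have hconj : ∀ a ∈ A, ∀ q ∈ Q, a * q * a⁻¹ ∈ Q := fun a ha q hq =>
    (Subgroup.mem_normalizer_iff.1 (hA ha) q).1 hq
  have haz : ∀ a ∈ A, a * z = z * a := by
    intro a ha
    have hQz : a * z * a⁻¹ ∈ Q := hconj a ha z h.mem
    rcases h.center _ hQz fun q hq => by
      have h1 := h.comm _ ((Subgroup.mem_normalizer_iff.1 (inv_mem (hA ha)) q).1 hq)
      have h2 := congrArg (fun t => a * t * a⁻¹) h1
      simpa [mul_assoc] using h2 with hh | hh
    · exact absurd (by simpa using hh) h.ne_one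
    · exact mul_inv_eq_iff_eq_mul.1 hh
  have hcop : (Nat.card A).Coprime (Nat.card Q) := by
    obtain ⟨n, hn⟩ := hp.exists_card_eq
    rw [hn]
    exact ((Nat.prime_two.coprime_iff_not_dvd.2 hAodd.not_two_dvd_nat).pow_left n).symm
  haveI : Group.IsNilpotent Q := hp.isNilpotent
  have hsup := CfsgLib.Coprime.commutator_sup_centralizer hA hcop (Or.inr inferInstance)
  have hDQ : ⁅Q, A⁆ ≤ Q := CfsgLib.Coprime.commutator_le_of_le_normalizer hA
  set C := Q ⊓ Subgroup.centralizer (A : Set G) with hCdef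
  set D := ⁅Q, A⁆ with hDdef
  have hCD : ∀ x ∈ C, ∀ y ∈ D, x * y = y * x := by
    intro x hx y hy
    obtain ⟨hxQ, hxA⟩ := Subgroup.mem_inf.1 hx
    have hle : D ≤ Subgroup.centralizer ({x} : Set G) := by
      rw [hDdef, Subgroup.commutator_le]
      intro q hq a ha
      rw [Subgroup.mem_centralizer_singleton_iff, commutatorElement_def]
      obtain ⟨e, hea, hecom, hxq⟩ : ∃ e, e * a = a * e ∧ (∀ t ∈ Q, t * e = e * t) ∧
          x * q * x⁻¹ = e * q := by
        rcases h.commEl x hxQ q hq with hh | hh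
        exacts [⟨1, by simp, by simp, by rw [one_mul, hh]⟩, ⟨z, (haz a ha).symm, h.comm, hh⟩]
      have hxa : x * a * x⁻¹ = a :=
        mul_inv_eq_iff_eq_mul.2 ((Subgroup.mem_centralizer_iff.1 hxA a ha).symm)
      symm
      rw [← mul_inv_eq_iff_eq_mul]
      calc x * (q * a * q⁻¹ * a⁻¹) * x⁻¹
          = (x * q * x⁻¹) * (x * a * x⁻¹) * (x * q * x⁻¹)⁻¹ * (x * a * x⁻¹)⁻¹ := by
            simp [mul_assoc]
        _ = e * (q * a * q⁻¹) * (e⁻¹ * a⁻¹) := by rw [hxq, hxa]; simp [mul_assoc]
        _ = q * a * q⁻¹ * a⁻¹ := by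
          have h1 : Commute e a := hea
          have h2 : Commute e q := (hecom q hq).symm
          have h3 : Commute e (q * a * q⁻¹) := (h2.mul_right h1).mul_right h2.inv_right
          rw [h3.eq]; simp [mul_assoc]
    exact (Subgroup.mem_centralizer_singleton_iff.1 (hle hy)).symm
  have hwhole : ∀ d ∈ Q, (∀ e ∈ D, e * d = d * e) → (∀ e ∈ C, e * d = d * e) → d = 1 ∨ d = z := by
    intro d hd hdD hdC
    refine h.center d hd fun q hq => ?_
    obtain ⟨c, hc, hqc⟩ := CfsgLib.Coprime.exists_commutator_mul_centralizer hA hcop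
      (Or.inr inferInstance) hq
    calc q * d = q * c⁻¹ * (c * d) := by simp [mul_assoc]
      _ = (q * c⁻¹ * d) * c := by rw [hdC c hc]; simp [mul_assoc]
      _ = d * q := by rw [hdD _ hqc]; simp [mul_assoc]
  have hcenD : ∀ d ∈ D, (∀ e ∈ D, e * d = d * e) → d = 1 ∨ d = z := fun d hd hdd =>
    hwhole d (hDQ hd) hdd (fun e he => hCD e he d hd)
  have hcenC : ∀ d ∈ C, (∀ e ∈ C, e * d = d * e) → d = 1 ∨ d = z := fun d hd hdd =>
    hwhole d hd.1 (fun e he => (hCD d hd e he).symm) hdd
  have hDne : D ≠ ⊥ := by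
    intro hD
    apply hA1
    rw [eq_bot_iff]
    intro a ha
    have haQ : a ∈ Subgroup.centralizer (Q : Set G) := by
      rw [Subgroup.mem_centralizer_iff]
      intro q hq
      have h1 : ⁅q, a⁆ ∈ D := Subgroup.commutator_mem_commutator hq ha
      rw [hD, Subgroup.mem_bot, commutatorElement_eq_one_iff_mul_comm] at h1
      exact h1
    rw [hC] at haQ
    exact eq_one_of_pgroup_odd hp hAodd (mem_centerIn.1 haQ).1 ha
  have hzD : z ∈ D := by
    haveI : Nontrivial D := (Subgroup.nontrivial_iff_ne_bot _).2 hDne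
    have hpD : IsPGroup 2 D := (hp.to_subgroup (D.subgroupOf Q)).of_equiv
      (Subgroup.subgroupOfEquivOfLe hDQ)
    haveI := hpD.center_nontrivial
    obtain ⟨⟨d, hd⟩, hd1⟩ := exists_ne (1 : Subgroup.center D)
    rcases hcenD d d.2 (fun e he => congrArg Subtype.val
      (Subgroup.mem_center_iff.1 hd ⟨e, he⟩)) with hh | hh
    · exact absurd (Subtype.ext (Subtype.ext hh)) hd1
    · exact hh ▸ d.2
  refine ⟨by rw [sup_comm]; exact hsup, hCD, ?_, ?_⟩
  · refine isExtraspecial_sub h hp hDQ hzD hcenD ?_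
    by_contra hno
    push Not at hno
    apply hDne
    rw [hDdef, ← CfsgLib.Coprime.commutator_commutator_eq hA hcop (Or.inr inferInstance),
      Subgroup.commutator_eq_bot_iff_le_centralizer]
    intro d hd
    rw [Subgroup.mem_centralizer_iff]
    intro a ha
    rcases hcenD d hd (fun e he => hno e he d hd) with rfl | rfl
    · simp
    · exact haz a ha
  · by_cases hno : ∀ a ∈ C, ∀ b ∈ C, a * b = b * a
    · left
      refine le_antisymm (fun d hd => ?_) ?_
      · rcases hcenC d hd (fun e he => hno e he d hd) with rfl | rfl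
        exacts [one_mem _, hzZ]
      · rw [hZeq, Subgroup.zpowers_le]
        exact ⟨h.mem, Subgroup.mem_centralizer_iff.2 fun a ha => haz a ha⟩
    · right
      push Not at hno
      exact isExtraspecial_sub h hp inf_le_left
        ⟨h.mem, Subgroup.mem_centralizer_iff.2 fun a ha => haz a ha⟩ hcenC hno

end CfsgLib.ThreeTransp
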