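import Cfsg.Agent.Lib.ThreeTransp.CentralFour
import Cfsg.Agent.Lib.Components.FStar
import Cfsg.Agent.Lib.Base.Frattini

/-!
# Simplicity criteria for groups with a large extraspecial subgroup
-/

set_option autoImplicit false
set_option linter.unusedSectionVars false
set_option linter.style.haveILetI false

namespace CfsgLib.ThreeTransp

open Cfsg CfsgLib.Involutions

variable {G : Type*} [Group G] [Finite G]

/-- An involution whose centraliser has extraspecial generalized Fitting subgroup `Q`. -/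
theorem fstar_setting {z : G} (hz : orderOf z = 2) {Q : Subgroup G}
    (hF : (generalizedFittingSubgroup ↥(Subgroup.centralizer ({z} : Set G))).map
      (Subgroup.centralizer ({z} : Set G)).subtype = Q) (hE : IsExtraspecial 2 ↥Q) :
    centerIn Q = Subgroup.zpowers z ∧ Subgroup.centralizer (Q : Set G) = centerIn Q ∧
      Subgroup.centralizer (centerIn Q : Set G) ≤ Subgroup.normalizer (Q : Set G) := by
  set H := Subgroup.centralizer ({z} : Set G)
  have hQH : Q ≤ H := hF ▸ Subgroup.map_subtype_le _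
  have hzH : z ∈ H := Subgroup.mem_centralizer_singleton_iff.2 rfl
  have hzc : (⟨z, hzH⟩ : H) ∈ generalizedFittingSubgroup H :=
    Components.centralizer_fstar_le (Subgroup.mem_centralizer_iff.2 fun y _ =>
      Subtype.ext (Subgroup.mem_centralizer_singleton_iff.1 y.2))
  have hzQ : z ∈ Q := hF ▸ ⟨_, hzc, rfl⟩
  have hzZ : z ∈ centerIn Q :=
    mem_centerIn.2 ⟨hzQ, fun q hq => Subgroup.mem_centralizer_singleton_iff.1 (hQH hq)⟩
  obtain ⟨z', hz', hZeq, hmem⟩ := exists_centerIn_gen hE
  obtain rfl : z = z' := (hmem z hzZ).resolve_left (invol_ne_one hz)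
  refine ⟨hZeq, le_antisymm (fun c hc => ?_) (fun c hc => ?_), ?_⟩
  · have hcH : c ∈ H := Subgroup.mem_centralizer_singleton_iff.2
      (Subgroup.mem_centralizer_iff.1 hc z hzQ).symm
    have h1 : (⟨c, hcH⟩ : H) ∈ generalizedFittingSubgroup H :=
      Components.centralizer_fstar_le (Subgroup.mem_centralizer_iff.2 fun y hy => Subtype.ext
        (Subgroup.mem_centralizer_iff.1 hc y (hF ▸ ⟨y, hy, rfl⟩)))
    exact mem_centerIn.2 ⟨hF ▸ ⟨_, h1, rfl⟩, fun q hq => Subgroup.mem_centralizer_iff.1 hc q hq⟩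
  · exact Subgroup.mem_centralizer_iff.2 (mem_centerIn.1 hc).2
  · intro c hc
    have hcH : c ∈ H := Subgroup.mem_centralizer_singleton_iff.2
      (Subgroup.mem_centralizer_iff.1 hc z hzZ).symm
    haveI : (generalizedFittingSubgroup H).Normal := inferInstance
    have key : ∀ d ∈ H, ∀ q ∈ Q, d * q * d⁻¹ ∈ Q := by
      intro d hd q hq
      rw [← hF] at hq ⊢
      obtain ⟨y, hy, rfl⟩ := hq
      exact ⟨_, Subgroup.Normal.conj_mem inferInstance y hy ⟨d, hd⟩, rfl⟩
    rw [Subgroup.mem_normalizer_iff]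
    intro q
    refine ⟨key c hcH q, fun h => ?_⟩
    simpa [mul_assoc] using key c⁻¹ (inv_mem hcH) _ h

theorem large_of_conj_mem {z : G} {Q : Subgroup G} (hE : IsExtraspecial 2 ↥Q)
    (hC : Subgroup.centralizer (Q : Set G) = centerIn Q)
    (hN : Subgroup.centralizer (centerIn Q : Set G) ≤ Subgroup.normalizer (Q : Set G))
    (hZ : centerIn Q = Subgroup.zpowers z) {g : G} (hg : g * z * g⁻¹ ∈ Q)
    (hne : g * z * g⁻¹ ≠ z) : IsLargeExtraspecial Q := by
  obtain ⟨z', -, hZeq, hmem⟩ := exists_centerIn_gen hE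
  refine (four_of_conj hE hC hN g (fun hg' => hne ?_) ?_).2.2
  · have h1 := (Subgroup.mem_normalizer_iff.1 hg' z).1 (hZ ▸ Subgroup.mem_zpowers z)
    rcases hmem _ (hZ ▸ Subgroup.mem_zpowers z) with h | h
    · rw [h]; simp
    rcases hmem _ h1 with h' | h'
    · rw [h] at h'
      have : z' = 1 := by simpa using h'
      rw [h, this]; simp
    · rw [h', h]
  · rw [hZ, MonoidHom.map_zpowers, Subgroup.zpowers_le]
    exact hg

/-- A non-trivial normal subgroup contains the central involution of a large extraspecial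
subgroup. -/
theorem mem_of_normal {Q : Subgroup G} (hQ : IsLargeExtraspecial Q) {z : G}
    (hz : orderOf z = 2) (hZ : centerIn Q = Subgroup.zpowers z) (N : Subgroup G) [hn : N.Normal] :
    N = ⊥ ∨ z ∈ N := by
  obtain ⟨z', -, -, hmem⟩ := exists_centerIn_gen hQ.1
  have hzQ : z ∈ centerIn Q := hZ ▸ Subgroup.mem_zpowers z
  obtain rfl : z = z' := (hmem z hzQ).resolve_left (invol_ne_one hz)
  obtain ⟨hzQ', hzc⟩ := mem_centerIn.1 hzQ
  by_cases hzN : z ∈ N
  · exact Or.inr hzN
  left
  have hNQ : ∀ y ∈ N, y ∈ Q → y = 1 := by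
    intro y hyN hyQ
    have hsub : ∀ q ∈ Q, q * y = y * q := by
      intro q hq
      have h1 : q * y * q⁻¹ * y⁻¹ ∈ N := mul_mem (hn.conj_mem y hyN q) (inv_mem hyN)
      have h2 : (⟨q, hq⟩ : Q) * ⟨y, hyQ⟩ * (⟨q, hq⟩ : Q)⁻¹ * (⟨y, hyQ⟩ : Q)⁻¹ ∈
          Subgroup.center Q := by
        have h3 := Subgroup.commutator_mem_commutator (Subgroup.mem_top (⟨q, hq⟩ : Q))
          (Subgroup.mem_top (⟨y, hyQ⟩ : Q))
        rw [← commutator_def] at h3
        exact hQ.1.1.2.2.le h3
      rcases hmem _ ⟨_, h2, rfl⟩ with h | h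
      · exact mul_inv_eq_iff_eq_mul.1 (mul_inv_eq_one.1 h)
      · exact absurd (show z ∈ N from h ▸ h1) hzN
    rcases hmem y (mem_centerIn.2 ⟨hyQ, hsub⟩) with h | h
    · exact h
    · exact absurd (h ▸ hyN) hzN
  have hfix : ∀ y ∈ N, Commute z y → y = 1 := by
    intro y hy hc
    have hyn : y ∈ Subgroup.normalizer (Q : Set G) := by
      refine hQ.2.2.1 ?_
      show y ∈ Subgroup.centralizer (centerIn Q : Set G)
      rw [Subgroup.mem_centralizer_iff]
      intro t ht
      rcases hmem t ht with rfl | rfl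
      exacts [(Commute.one_left y).eq, hc.eq]
    have hyC : y ∈ centerIn Q := by
      show y ∈ (Subgroup.center Q).map Q.subtype
      rw [← hQ.2.1, Subgroup.mem_centralizer_iff]
      intro q hq
      have h1 : y * q * y⁻¹ * q⁻¹ ∈ N := by
        rw [mul_assoc y, mul_assoc y]
        exact mul_mem hy (hn.conj_mem _ (inv_mem hy) q)
      have h2 : y * q * y⁻¹ * q⁻¹ ∈ Q :=
        mul_mem ((Subgroup.mem_normalizer_iff.1 hyn q).1 hq) (inv_mem hq)
      exact (mul_inv_eq_iff_eq_mul.1 (mul_inv_eq_one.1 (hNQ _ h1 h2))).symm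
    rcases hmem y hyC with h | h
    · exact h
    · exact absurd (h ▸ hy) hzN
  let φ : N →* N := (MulAut.conjNormal z : MulAut N).toMonoidHom
  have hodd : Odd (Nat.card N) := by
    refine MonoidHom.FixedPointFree.odd_card_of_involutive (φ := φ) (fun y hy => ?_) fun y => ?_
    · refine Subtype.ext (hfix y y.2 ?_)
      have h1 : z * (y : G) * z⁻¹ = y := congrArg Subtype.val hy
      exact mul_inv_eq_iff_eq_mul.1 h1
    · refine Subtype.ext ?_
      show z * (z * (y : G) * z⁻¹) * z⁻¹ = y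
      rw [invol_inv hz]
      simp [mul_assoc, ← mul_assoc z z, invol_mul_self hz]
  exact hQ.2.2.2 N hodd fun q _ => by
    rw [Subgroup.normalizer_eq_top]; exact Subgroup.mem_top q

/-- A normal subgroup containing the centraliser of `z` is everything. -/
theorem eq_top_of_centralizer_le {Q : Subgroup G} (hQ : IsLargeExtraspecial Q) {z : G}
    (hZ : centerIn Q = Subgroup.zpowers z) (N : Subgroup G) [N.Normal]
    (hH : Subgroup.centralizer ({z} : Set G) ≤ N) : N = ⊤ := by
  have hzQ : z ∈ centerIn Q := hZ ▸ Subgroup.mem_zpowers z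
  obtain ⟨hzQ', hzc⟩ := mem_centerIn.1 hzQ
  have hQN : Q ≤ N := fun q hq => hH (Subgroup.mem_centralizer_singleton_iff.2 (hzc q hq))
  have hnor : Subgroup.normalizer (Q : Set G) ≤ N := by
    refine le_trans (fun c hc => ?_) hH
    obtain ⟨z', hz', -, hmem⟩ := exists_centerIn_gen hQ.1
    have hc' : c * z * c⁻¹ ∈ centerIn Q := by
      refine mem_centerIn.2 ⟨(Subgroup.mem_normalizer_iff.1 hc z).1 hzQ', fun q hq => ?_⟩
      have hq' : c⁻¹ * q * c ∈ Q := by
        simpa using (Subgroup.mem_normalizer_iff.1 (inv_mem hc) q).1 hq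
      have h1 := congrArg (fun t => c * t * c⁻¹) (hzc _ hq')
      simpa [mul_assoc] using h1
    rw [Subgroup.mem_centralizer_singleton_iff]
    rcases hmem z hzQ with hh | hh
    · rw [hh]; simp
    rcases hmem _ hc' with h | h
    · have : z = 1 := by simpa using h
      rw [this]; simp
    · exact mul_inv_eq_iff_eq_mul.1 (h.trans hh.symm)
  rw [← sup_normalizer_eq_top hQ N hQN]
  exact (sup_eq_left.2 hnor).symm

theorem extraspecial_map {H : Subgroup G} {Q : Subgroup H} (hQ : IsExtraspecial 2 ↥Q) :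
    IsExtraspecial 2 ↥(Q.map H.subtype) := by
  let e := Q.equivMapOfInjective H.subtype H.subtype_injective
  have hc : (Subgroup.center ↥Q).map e.toMonoidHom = Subgroup.center ↥(Q.map H.subtype) := by
    ext x
    rw [Subgroup.mem_map_equiv, Subgroup.mem_center_iff, Subgroup.mem_center_iff]
    exact ⟨fun h y => e.symm.injective (by rw [map_mul, map_mul]; exact h _),
      fun h y => e.injective (by
        rw [map_mul, map_mul, MulEquiv.apply_symm_apply]; exact h (e y))⟩
  have hd : (commutator ↥Q).map e.toMonoidHom = commutator ↥(Q.map H.subtype) := by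
    rw [commutator_def, Subgroup.map_commutator, Subgroup.map_top_of_surjective _ e.surjective,
      ← commutator_def]
  refine ⟨⟨hQ.1.1.of_equiv e, ?_, ?_⟩, ?_⟩
  · rw [← Base.map_frattini_mulEquiv e, hQ.1.2.1, hc]
  · rw [← hd, hQ.1.2.2, hc]
  · rw [← hc, Subgroup.card_map_of_injective (f := e.toMonoidHom) e.injective, hQ.2]

/-- `G` is simple when `C(z)` modulo `Q` is simple and acts irreducibly. -/
theorem isSimpleGroup_of_irreducible {z : G} (hz : orderOf z = 2)
    (Q : Subgroup (Subgroup.centralizer ({z} : Set G))) [Q.Normal]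
    (hF : generalizedFittingSubgroup ↥(Subgroup.centralizer ({z} : Set G)) = Q)
    (hQ : IsExtraspecial 2 ↥Q)
    (hnwc : ∃ g : G, (∃ hq : g * z * g⁻¹ ∈ Subgroup.centralizer ({z} : Set G),
      (⟨g * z * g⁻¹, hq⟩ : Subgroup.centralizer ({z} : Set G)) ∈ Q) ∧ g * z * g⁻¹ ≠ z)
    (hsimp : IsSimpleGroup (↥(Subgroup.centralizer ({z} : Set G)) ⧸ Q))
    (hirr : ∀ W : Subgroup (Subgroup.centralizer ({z} : Set G)), W.Normal → W ≤ Q →
      (W = Q ∨ ∀ x ∈ W, (x : G) ∈ Subgroup.zpowers z))
    (hwcl : Subgroup.closure {x : Subgroup.centralizer ({z} : Set G) | IsConj z (x : G)} ≠ Q) :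
    IsSimpleGroup G := by
  set Q' := Q.map (Subgroup.centralizer ({z} : Set G)).subtype with hQ'
  have hE : IsExtraspecial 2 ↥Q' := extraspecial_map hQ
  obtain ⟨hZ, hC, hN⟩ := fstar_setting hz (Q := Q') (by rw [hF]) hE
  obtain ⟨g, ⟨hgH, hgQ⟩, hne⟩ := hnwc
  have hL := large_of_conj_mem hE hC hN hZ (g := g) ⟨_, hgQ, rfl⟩ hne
  haveI : Nontrivial G := ⟨⟨z, 1, invol_ne_one hz⟩⟩
  refine ⟨fun N hn => ?_⟩
  haveI := hn
  rcases mem_of_normal hL hz hZ N with h | hzN
  · exact Or.inl h
  right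
  refine eq_top_of_centralizer_le hL hZ N ?_
  have hxN : g * z * g⁻¹ ∈ N := hn.conj_mem z hzN g
  have hnot : ¬ (g * z * g⁻¹ ∈ Subgroup.zpowers z) := fun h => by
    obtain ⟨k, hk⟩ := Subgroup.mem_zpowers_iff.1 h
    rcases Int.even_or_odd' k with ⟨m, rfl | rfl⟩
    · rw [zpow_mul, show z ^ (2 : ℤ) = 1 by
        rw [zpow_two, invol_mul_self hz], one_zpow] at hk
      exact invol_ne_one hz (by simpa using hk.symm)
    · rw [zpow_add, zpow_mul, show z ^ (2 : ℤ) = 1 by
        rw [zpow_two, invol_mul_self hz], one_zpow, one_mul, zpow_one] at hk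
      exact hne hk.symm
  have hW : Q ≤ N.subgroupOf (Subgroup.centralizer ({z} : Set G)) := by
    rcases hirr (N.subgroupOf (Subgroup.centralizer ({z} : Set G)) ⊓ Q) inferInstance inf_le_right with h | h
    · exact h ▸ inf_le_left
    · exact absurd (h ⟨_, hgH⟩ ⟨hxN, hgQ⟩) hnot
  rcases (Subgroup.Normal.eq_bot_or_eq_top (inferInstance :
      ((N.subgroupOf (Subgroup.centralizer ({z} : Set G))).map (QuotientGroup.mk' Q)).Normal)) with h | h
  · exfalso
    refine hwcl ?_
    rw [Subgroup.map_eq_bot_iff, QuotientGroup.ker_mk'] at h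
    have hcl : Subgroup.closure {x : ↥(Subgroup.centralizer ({z} : Set G)) | IsConj z (x : G)} ≤ Q := by
      rw [Subgroup.closure_le]
      intro y hy
      refine h ?_
      obtain ⟨c, hc⟩ := isConj_iff.1 hy
      show (y : G) ∈ N
      rw [← hc]
      exact hn.conj_mem z hzN c
    haveI : (Subgroup.closure {x : ↥(Subgroup.centralizer ({z} : Set G)) | IsConj z (x : G)}).Normal := by
      refine Subgroup.normal_iff_map_conj_eq.2 fun c => ?_
      rw [MonoidHom.map_closure]
      refine congrArg Subgroup.closure (Set.ext fun y => ⟨?_, fun hy => ⟨c⁻¹ * y * c, ?_, ?_⟩⟩)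
      · rintro ⟨w, hw, rfl⟩
        exact IsConj.trans hw (isConj_iff.2 ⟨(c : G), by simp⟩)
      · exact IsConj.trans hy (isConj_iff.2 ⟨(c : G)⁻¹, by simp⟩)
      · simp [mul_assoc]
    rcases hirr _ inferInstance hcl with h' | h'
    · exact h'
    · exact absurd (h' ⟨_, hgH⟩ (Subgroup.subset_closure
        (show IsConj z _ from isConj_iff.2 ⟨g, rfl⟩))) hnot
  · intro y hy
    have : (⟨y, hy⟩ : ↥(Subgroup.centralizer ({z} : Set G))) ∈ ((N.subgroupOf (Subgroup.centralizer ({z} : Set G))).map (QuotientGroup.mk' Q)).comap (QuotientGroup.mk' Q) := by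
      rw [h]; trivial
    rw [Subgroup.comap_map_eq, QuotientGroup.ker_mk', sup_eq_left.2 hW] at this
    exact this

/-- `G` is simple when `C(z)` is generated by conjugates of an abelian subgroup generated by
conjugates of `z`. -/
theorem isSimpleGroup_of_generated {z : G} (hz : orderOf z = 2) {Q : Subgroup G}
    (hF : (generalizedFittingSubgroup ↥(Subgroup.centralizer ({z} : Set G))).map
      (Subgroup.centralizer ({z} : Set G)).subtype = Q) (hQ : IsExtraspecial 2 ↥Q)
    (K U : Subgroup G) (hU : U = Subgroup.closure {x : G | ∃ k ∈ K, x = k * z * k⁻¹})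
    (hUab : IsMulCommutative ↥U)
    (hgen : Subgroup.closure {x : G | ∃ c ∈ Subgroup.centralizer ({z} : Set G), ∃ u ∈ U,
      x = c * u * c⁻¹} = Subgroup.centralizer ({z} : Set G))
    (h3 : (∃ k ∈ K, k * z * k⁻¹ ∈ Q ∧ k * z * k⁻¹ ≠ z) ∨ ∃ u ∈ U ⊓ Q, u ∉ Subgroup.zpowers z ∧
      (∃ hz' : z ∈ Subgroup.centralizer ({u} : Set G),
        (⟨z, hz'⟩ : ↥(Subgroup.centralizer ({u} : Set G))) ∈
          Cfsg.pCore 2 ↥(Subgroup.centralizer ({u} : Set G)))) :
    IsSimpleGroup G ∧ IsLargeExtraspecial Q := by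
  obtain ⟨hZ, hC, hN⟩ := fstar_setting hz hF hQ
  have hL : IsLargeExtraspecial Q := by
    rcases h3 with ⟨k, -, hk, hne⟩ | ⟨u, hu, huz, hz', hmem⟩
    · exact large_of_conj_mem hQ hC hN hZ hk hne
    · have hu2 : u * u = 1 := by
        have huU := hu.1
        rw [hU] at huU
        have key : ∀ y ∈ Subgroup.closure {x : G | ∃ k ∈ K, x = k * z * k⁻¹},
            y ∈ U ∧ y * y = 1 := by
          intro y hy
          induction hy using Subgroup.closure_induction with
          | mem y hy =>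
            refine ⟨hU ▸ Subgroup.subset_closure hy, ?_⟩
            obtain ⟨k, -, rfl⟩ := hy
            simp [mul_assoc, ← mul_assoc z z, invol_mul_self hz]
          | one => exact ⟨one_mem _, one_mul 1⟩
          | mul a b _ _ iha ihb =>
            refine ⟨mul_mem iha.1 ihb.1, ?_⟩
            have hab : Commute a b :=
              congrArg Subtype.val (hUab.is_comm.comm ⟨a, iha.1⟩ ⟨b, ihb.1⟩)
            rw [hab.symm.mul_mul_mul_comm, iha.2, ihb.2, one_mul]
          | inv a _ iha => exact ⟨inv_mem iha.1, by rw [← mul_inv_rev, iha.2, inv_one]⟩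
        exact (key u huU).2
      refine isLarge_of_mem_pCore_centralizer hQ hC hN hu.2 (hZ ▸ huz)
        (orderOf_eq_prime (by rw [pow_two, hu2]) fun h => huz (h ▸ one_mem _)) ?_
      rw [hZ, Subgroup.zpowers_le]
      exact ⟨_, hmem, rfl⟩
  haveI : Nontrivial G := ⟨⟨z, 1, invol_ne_one hz⟩⟩
  refine ⟨⟨fun N hn => ?_⟩, hL⟩
  haveI := hn
  rcases mem_of_normal hL hz hZ N with h | hzN
  · exact Or.inl h
  right
  refine eq_top_of_centralizer_le hL hZ N ?_
  have hUN : U ≤ N := by
    rw [hU, Subgroup.closure_le]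
    rintro _ ⟨k, -, rfl⟩
    exact hn.conj_mem z hzN k
  rw [← hgen, Subgroup.closure_le]
  rintro _ ⟨c, -, u, hu, rfl⟩
  exact hn.conj_mem u (hUN hu) c

end CfsgLib.ThreeTransp
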