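import Cfsg.Agent.Lib.ThreeTransp.LargePair
import Cfsg.Agent.Lib.ThreeTransp.LargeSimple
import Cfsg.Agent.Lib.ThreeTransp.CoprimeSplit

/-!
# Large extraspecial subgroups in quotients of centralisers
-/

set_option autoImplicit false
set_option linter.unusedSectionVars false
set_option linter.style.haveILetI false

namespace CfsgLib.ThreeTransp

open Cfsg CfsgLib.Involutions
open scoped commutatorElement

/-- A criterion for being extraspecial. -/
theorem isExtraspecial_of {Γ : Type*} [Group Γ] [Finite Γ] (P : Subgroup Γ) {z : Γ}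
    (hp : IsPGroup 2 P) (hz : z ∈ P) (hz1 : z ≠ 1) (hzz : z * z = 1)
    (hzc : ∀ e ∈ P, e * z = z * e)
    (hcomm : ∀ a ∈ P, ∀ b ∈ P, a * b * a⁻¹ * b⁻¹ = 1 ∨ a * b * a⁻¹ * b⁻¹ = z)
    (hsq : ∀ a ∈ P, a * a = 1 ∨ a * a = z)
    (hcen : ∀ d ∈ P, (∀ e ∈ P, e * d = d * e) → d = 1 ∨ d = z)
    (hne : ∃ a ∈ P, ∃ b ∈ P, a * b ≠ b * a) :
    IsExtraspecial 2 ↥P ∧ centerIn P = Subgroup.zpowers z := by
  haveI : Fact (Nat.Prime 2) := ⟨Nat.prime_two⟩
  set zH : P := ⟨z, hz⟩ with hzH
  have hzcen : zH ∈ Subgroup.center P :=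
    Subgroup.mem_center_iff.2 fun e => Subtype.ext (hzc e e.2)
  have hcenter : Subgroup.center P = Subgroup.zpowers zH := by
    refine le_antisymm (fun d hd => ?_) (Subgroup.zpowers_le.2 hzcen)
    rcases hcen d d.2 (fun e he => congrArg Subtype.val (Subgroup.mem_center_iff.1 hd ⟨e, he⟩))
      with hh | hh
    · rw [show d = 1 from Subtype.ext hh]; exact one_mem _
    · rw [show d = zH from Subtype.ext hh]; exact Subgroup.mem_zpowers _
  have hcard : Nat.card (Subgroup.center P) = 2 := by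
    rw [hcenter, Nat.card_zpowers]
    exact orderOf_eq_prime (by rw [pow_two]; exact Subtype.ext hzz)
      (fun hh => hz1 (congrArg Subtype.val hh))
  have hle : commutator P ≤ Subgroup.center P := by
    rw [commutator_def, Subgroup.commutator_le]
    intro a _ b _
    rcases hcomm a a.2 b b.2 with hh | hh
    · rw [show ⁅a, b⁆ = 1 from Subtype.ext hh]; exact one_mem _
    · rw [show ⁅a, b⁆ = zH from Subtype.ext hh]; exact hzcen
  have hcom : commutator P = Subgroup.center P := by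
    refine Subgroup.eq_of_le_of_card_ge hle ?_
    obtain ⟨a, ha, b, hb, hab⟩ := hne
    have hn : ⁅(⟨a, ha⟩ : P), (⟨b, hb⟩ : P)⁆ ≠ 1 := fun hh => hab (by
      rw [commutatorElement_eq_one_iff_mul_comm] at hh
      exact congrArg Subtype.val hh)
    haveI : Nontrivial (commutator P) := ⟨⟨⟨_, Subgroup.commutator_mem_commutator
      (Subgroup.mem_top _) (Subgroup.mem_top _)⟩, 1, fun hh => hn (congrArg Subtype.val hh)⟩⟩
    rw [hcard]
    exact Finite.one_lt_card
  refine ⟨⟨⟨hp, le_antisymm ?_ (hcom ▸ CfsgLib.PGroups.commutator_le_frattini hp), hcom⟩, hcard⟩,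
    ?_⟩
  · refine CfsgLib.PGroups.frattini_le_of_elementary_quotient (p := 2) hle fun a => ?_
    rcases hsq a a.2 with hh | hh
    · rw [show a ^ 2 = 1 from Subtype.ext (by simpa [pow_two] using hh)]; exact one_mem _
    · rw [show a ^ 2 = zH from Subtype.ext (by simpa [pow_two, hzH] using hh)]; exact hzcen
  · show (Subgroup.center P).map P.subtype = _
    rw [hcenter, MonoidHom.map_zpowers]
    rfl

/-- Large extraspecial subgroup from a moved conjugate of its central involution. -/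
theorem large_map_of_conj {Γ : Type*} [Group Γ] [Finite Γ] (P : Subgroup Γ) {z : Γ}
    (hE : IsExtraspecial 2 ↥P) (hZ : centerIn P = Subgroup.zpowers z)
    (hC : ∀ m, (∀ e ∈ P, e * m = m * e) → m ∈ centerIn P)
    (hN : ∀ m, m * z = z * m → ∀ e ∈ P, m * e * m⁻¹ ∈ P)
    {g : Γ} (hg : g * z * g⁻¹ ∈ P) (hne : g * z * g⁻¹ ≠ z) : IsLargeExtraspecial P := by
  refine large_of_conj_mem hE ?_ ?_ hZ hg hne
  · refine le_antisymm (fun m hm => hC m fun e he => Subgroup.mem_centralizer_iff.1 hm e he) ?_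
    intro m hm
    exact Subgroup.mem_centralizer_iff.2 (mem_centerIn.1 hm).2
  · intro m hm
    have hmz : m * z = z * m :=
      (Subgroup.mem_centralizer_iff.1 hm z (hZ ▸ Subgroup.mem_zpowers z)).symm
    have hmz' : m⁻¹ * z = z * m⁻¹ := (Commute.inv_left (show Commute m z from hmz)).eq
    rw [Subgroup.mem_normalizer_iff]
    intro e
    refine ⟨hN m hmz e, fun h => ?_⟩
    simpa [mul_assoc] using hN m⁻¹ hmz' _ h

variable {G : Type*} [Group G] [Finite G]

/-- The odd order part of a group with central involution and order twice odd. -/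
theorem mem_oddCore_or (W : Type*) [Group W] [Finite W] {z : W} (hz : orderOf z = 2)
    (hc : z ∈ Subgroup.center W) (h4 : ¬ 4 ∣ Nat.card W) (c : W) :
    c ∈ oddCore W ∨ z * c ∈ oddCore W := by
  haveI hn : (Subgroup.zpowers z).Normal := ⟨fun n hn g => by
    obtain ⟨i, rfl⟩ := Subgroup.mem_zpowers_iff.1 hn
    have : Commute g (z ^ i) := (show Commute g z from Subgroup.mem_center_iff.1 hc g).zpow_right i
    rw [this.eq, mul_inv_cancel_right]
    exact Subgroup.mem_zpowers_iff.2 ⟨i, rfl⟩⟩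
  have hcardz : Nat.card (Subgroup.zpowers z) = 2 := by rw [Nat.card_zpowers, hz]
  have hmul := (Subgroup.zpowers z).card_mul_index
  rw [hcardz] at hmul
  have hodd : Odd (Subgroup.zpowers z).index := by
    rw [← Nat.not_even_iff_odd]
    rintro ⟨k, hk⟩
    exact h4 ⟨k, by omega⟩
  obtain ⟨B, hB⟩ := Subgroup.exists_right_complement'_of_coprime (N := Subgroup.zpowers z)
    (by rw [hcardz]; exact (Nat.prime_two.coprime_iff_not_dvd.2 hodd.not_two_dvd_nat))
  have hdec : ∀ y : W, y ∈ B ∨ z * y ∈ B := by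
    intro y
    obtain ⟨⟨⟨a, ha⟩, b⟩, rfl : a * b = y⟩ := hB.2 y
    obtain ⟨i, rfl⟩ := Subgroup.mem_zpowers_iff.1 ha
    rcases Int.even_or_odd' i with ⟨m, rfl | rfl⟩
    · left
      rw [zpow_mul, zpow_two, invol_mul_self hz, one_zpow, one_mul]
      exact b.2
    · right
      rw [zpow_add, zpow_mul, zpow_two, invol_mul_self hz, one_zpow, one_mul, zpow_one,
        ← mul_assoc, invol_mul_self hz, one_mul]
      exact b.2
  haveI : B.Normal := ⟨fun b hb y => by
    rcases hdec y with h | h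
    · exact mul_mem (mul_mem h hb) (inv_mem h)
    · have h1 := mul_mem (mul_mem h hb) (inv_mem h)
      have hzy : Commute z (y * b * y⁻¹) := (Subgroup.mem_center_iff.1 hc _).symm
      rwa [show z * y * b * (z * y)⁻¹ = z * (y * b * y⁻¹) * z⁻¹ by simp [mul_assoc], hzy.eq,
        mul_inv_cancel_right] at h1⟩
  have hcardB : Nat.card B = (Subgroup.zpowers z).index := hB.symm.index_eq_card.symm
  have hBO : B ≤ oddCore W := Base.le_pPrimeCore (by
    rw [hcardB]
    exact (Nat.prime_two.coprime_iff_not_dvd.2 hodd.not_two_dvd_nat).symm)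
  exact (hdec c).imp (fun h => hBO h) (fun h => hBO h)

theorem noncentral_moves {Q : Subgroup G} {z : G} (h : XCent Q z) {R : Subgroup G} (hRQ : R ≤ Q)
    {x : G} (hx : x ∈ R) (hcen : ¬ ∀ r ∈ R, r * x = x * r) :
    ∃ p ∈ R, p * x * p⁻¹ = z * x := by
  by_contra! hno
  exact hcen fun r hr => mul_inv_eq_iff_eq_mul.1
    ((h.commEl r (hRQ hr) x (hRQ hx)).resolve_right (hno r hr))

/-- The quotient of the centraliser of an odd order subgroup. -/
theorem large_odd_quotient {z : G} (hz : orderOf z = 2) {Q : Subgroup G}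
    (hF : (generalizedFittingSubgroup ↥(Subgroup.centralizer ({z} : Set G))).map
      (Subgroup.centralizer ({z} : Set G)).subtype = Q) (hQ : IsExtraspecial 2 ↥Q)
    (A : Subgroup G) (hA : A ≤ Subgroup.centralizer ({z} : Set G)) (hAodd : Odd (Nat.card ↥A))
    (R : Subgroup G) (hR : R = Q ⊓ Subgroup.centralizer (A : Set G)) (hR32 : 32 ≤ Nat.card ↥R)
    (hO : (oddCore ↥(Subgroup.centralizer ((A ⊔ R : Subgroup G) : Set G))).map
      (Subgroup.centralizer ((A ⊔ R : Subgroup G) : Set G)).subtype ≤ A)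
    (h4 : ¬ 4 ∣ Nat.card ↥(Subgroup.centralizer ((A ⊔ R : Subgroup G) : Set G)))
    (g : G) (hgR : g * z * g⁻¹ ∈ R) (hgZ : g * z * g⁻¹ ∉ centerIn Q)
    (M : Subgroup G) (hM : M = Subgroup.centralizer (A : Set G) ⊔ A)
    [(A.subgroupOf M).Normal] :
    (M ⊓ Subgroup.centralizer ((R ⊔ A : Subgroup G) : Set G)) ⊔ A = A ⊔ centerIn Q ∧
    IsLargeExtraspecial ((R.subgroupOf M).map (QuotientGroup.mk' (A.subgroupOf M))) ∧
    ∃ x ∈ R ⊔ (Q.map (MulAut.conj g).toMonoidHom ⊓ Subgroup.centralizer (A : Set G)),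
      x * (g * z * g⁻¹) * x⁻¹ = z := by
  haveI : Fact (Nat.Prime 2) := ⟨Nat.prime_two⟩
  obtain ⟨hZ, hC, hN⟩ := fstar_setting hz hF hQ
  obtain ⟨z', -, hZ', hmem⟩ := exists_centerIn_gen hQ
  obtain rfl : z = z' :=
    (hmem z (hZ ▸ Subgroup.mem_zpowers z)).resolve_left (invol_ne_one hz)
  have hRQ : R ≤ Q := hR ▸ inf_le_left
  have hne : g * z * g⁻¹ ≠ z := fun h => hgZ (by rw [h, hZ]; exact Subgroup.mem_zpowers z)
  have hL := large_of_conj_mem hQ hC hN hZ (hRQ hgR) hne
  have h := XCent.of_large hL hZ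
  have hgH : g ∉ Subgroup.centralizer ({z} : Set G) := fun hh => hne
    (mul_inv_eq_iff_eq_mul.2 (Subgroup.mem_centralizer_singleton_iff.1 hh))
  have P := TwoPair.of_large hL hZ hgH (hRQ hgR)
  have hp := isPGroup_of_extraspecial hQ
  have hAn : A ≤ Subgroup.normalizer (Q : Set G) := fun a ha => by
    refine hN ?_
    show a ∈ Subgroup.centralizer (centerIn Q : Set G)
    rw [Subgroup.mem_centralizer_iff]
    intro t ht
    rcases hmem t ht with rfl | rfl
    exacts [by simp, (Subgroup.mem_centralizer_singleton_iff.1 (hA ha)).symm]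
  have hRA : ∀ r ∈ R, ∀ a ∈ A, a * r = r * a := fun r hr a ha => by
    rw [hR] at hr
    exact Subgroup.mem_centralizer_iff.1 hr.2 a ha
  have hzR : z ∈ R := hR ▸ ⟨h.mem, Subgroup.mem_centralizer_iff.2 fun a ha =>
    Subgroup.mem_centralizer_singleton_iff.1 (hA ha)⟩
  -- `R` is extraspecial
  have hRcen : ∀ d ∈ R, (∀ e ∈ R, e * d = d * e) → d = 1 ∨ d = z := by
    intro d hd hdd
    by_cases hA1 : A = ⊥
    · refine h.center d (hRQ hd) fun q hq => hdd q ?_
      rw [hR]
      refine ⟨hq, Subgroup.mem_centralizer_iff.2 fun a ha => ?_⟩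
      rw [hA1] at ha
      rw [Subgroup.mem_bot.1 ha]; simp
    rcases (large_coprime_split hL hAn hAodd hA1).2.2.2 with h' | h'
    · rw [← hR] at h'
      exact hmem d (h' ▸ hd)
    · rw [← hR] at h'
      obtain ⟨z₁, -, -, hmem'⟩ := exists_centerIn_gen h'
      have e1 := hmem' z (mem_centerIn.2 ⟨hzR, fun q hq => h.comm q (hRQ hq)⟩)
      have e2 := hmem' d (mem_centerIn.2 ⟨hd, hdd⟩)
      rcases e2 with e2 | e2
      · exact Or.inl e2
      · exact Or.inr (e2.trans (e1.resolve_left h.ne_one).symm)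
  have hRne : ∃ a ∈ R, ∃ b ∈ R, a * b ≠ b * a := by
    by_contra! hno
    have hle : R ≤ Subgroup.zpowers z := fun d hd => by
      rcases hRcen d hd (fun e he => hno e he d hd) with rfl | rfl
      exacts [one_mem _, Subgroup.mem_zpowers _]
    have := Subgroup.card_le_of_le hle
    rw [Nat.card_zpowers, hz] at this
    omega
  -- the centraliser of `A R`
  set W := Subgroup.centralizer ((A ⊔ R : Subgroup G) : Set G) with hW
  have hzW : z ∈ W := by
    have : A ⊔ R ≤ Subgroup.centralizer ({z} : Set G) :=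
      sup_le hA fun r hr => Subgroup.mem_centralizer_singleton_iff.2 (h.comm r (hRQ hr))
    exact Subgroup.mem_centralizer_iff.2 fun t ht =>
      Subgroup.mem_centralizer_singleton_iff.1 (this ht)
  have hWz : ∀ w ∈ W, Commute w z := fun w hw =>
    (Subgroup.mem_centralizer_iff.1 hw z (Subgroup.mem_sup_right hzR)).symm
  have hWA : ∀ w ∈ W, w ∈ A ∨ z * w ∈ A := by
    intro w hw
    rcases mem_oddCore_or W (z := (⟨z, hzW⟩ : W)) (by rw [Subgroup.orderOf_mk]; exact hz)
      (Subgroup.mem_center_iff.2 fun v => Subtype.ext (hWz v v.2).eq) h4 ⟨w, hw⟩ with h' | h'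
    · exact Or.inl (hO ⟨_, h', rfl⟩)
    · exact Or.inr (hO ⟨_, h', rfl⟩)
  have hCAM : Subgroup.centralizer (A : Set G) ≤ M := hM ▸ le_sup_left
  have hRM : R ≤ M := fun r hr => hCAM (Subgroup.mem_centralizer_iff.2 (hRA r hr))
  refine ⟨?_, ?_⟩
  · have hWM : W ≤ M := le_trans (Subgroup.centralizer_le fun _ h => Subgroup.mem_sup_left h) hCAM
    rw [sup_comm R A, inf_eq_right.2 hWM, hZ]
    refine le_antisymm (sup_le (fun w hw => ?_) le_sup_left)
      (sup_le le_sup_right (Subgroup.zpowers_le.2 (Subgroup.mem_sup_left hzW)))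
    rcases hWA w hw with h' | h'
    · exact Subgroup.mem_sup_left h'
    · have := mul_mem (Subgroup.mem_sup_right (S := A) (Subgroup.mem_zpowers z))
        (Subgroup.mem_sup_left (T := Subgroup.zpowers z) h')
      rwa [← mul_assoc, invol_mul_self hz, one_mul] at this
  -- elements moving `g z g⁻¹` and `z`
  set x := g * z * g⁻¹ with hxdef
  obtain ⟨p, hpR, hpx⟩ := noncentral_moves h hRQ hgR fun hall => by
    rcases hRcen x hgR hall with e | e
    exacts [P.hQ'.ne_one e, hne e]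
  obtain ⟨q, hq, hqz⟩ := P.symm.moves
  set Q' := Q.map (MulAut.conj g).toMonoidHom
  have hAz : ∀ a ∈ A, Commute a z := fun a ha => Subgroup.mem_centralizer_singleton_iff.1 (hA ha)
  have hAx : ∀ a ∈ A, Commute a x := fun a ha => hRA x hgR a ha
  set N := Q' ⊓ Subgroup.centralizer ({z} : Set G) with hNdef
  have hAN : A ≤ Subgroup.normalizer (N : Set G) := by
    intro a ha
    rw [Subgroup.mem_normalizer_iff]
    intro y
    refine ⟨P.symm.conj_left (hAx a ha) (hAz a ha), fun hy => ?_⟩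
    have h1 := P.symm.conj_left (hAx _ (inv_mem ha)) (hAz _ (inv_mem ha)) hy
    rwa [show a⁻¹ * (a * y * a⁻¹) * a⁻¹⁻¹ = y by simp [mul_assoc]] at h1
  have hcop : (Nat.card A).Coprime (Nat.card N) := by
    obtain ⟨n, hn⟩ := (P.hp'.to_le (inf_le_left : N ≤ Q')).exists_card_eq
    rw [hn]
    exact ((Nat.prime_two.coprime_iff_not_dvd.2 hAodd.not_two_dvd_nat).pow_left n).symm
  haveI : Group.IsNilpotent N := (P.hp'.to_le (inf_le_left : N ≤ Q')).isNilpotent
  obtain ⟨c, hcA, hcN⟩ := CfsgLib.Coprime.exists_centralizing_in_coset hAN hcop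
    (Or.inr inferInstance) (k := q) (fun a ha => by
      have h1 := P.symm.comm_mem (hAx a ha) (hAz a ha) (inv_mem hq)
      rw [inv_inv] at h1
      rw [show q⁻¹ * (a * q * a⁻¹) = q⁻¹ * a * q * a⁻¹ by simp [mul_assoc]]
      exact h1)
  have hcQ : c ∈ Q' := by simpa using mul_mem hq hcN.1
  have hcz : c * z * c⁻¹ = x * z := by
    have h1 : Commute (q⁻¹ * c) z := Subgroup.mem_centralizer_singleton_iff.1 hcN.2
    calc c * z * c⁻¹ = q * ((q⁻¹ * c) * z * (q⁻¹ * c)⁻¹) * q⁻¹ := by simp [mul_assoc]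
      _ = x * z := by rw [mul_inv_eq_iff_eq_mul.2 h1.eq, hqz]
  have hconj : c⁻¹ * p * x * (c⁻¹ * p)⁻¹ = z := by
    calc c⁻¹ * p * x * (c⁻¹ * p)⁻¹ = c⁻¹ * (p * x * p⁻¹) * c := by simp [mul_assoc]
      _ = c⁻¹ * (c * z * c⁻¹) * c := by rw [hpx, hcz, P.comm_xz]
      _ = z := by simp [mul_assoc]
  refine ⟨?_, c⁻¹ * p, mul_mem (inv_mem (Subgroup.mem_sup_right ⟨hcQ, hcA⟩))
    (Subgroup.mem_sup_left hpR), hconj⟩
  -- the quotient
  set f := QuotientGroup.mk' (A.subgroupOf M) with hfdef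
  have hf : ∀ y : M, f y = 1 ↔ (y : G) ∈ A := fun y => QuotientGroup.eq_one_iff y
  have hRA1 : ∀ r ∈ R, r ∈ A → r = 1 := fun r hr ha => eq_one_of_pgroup_odd hp hAodd (hRQ hr) ha
  have hinj : ∀ u v : M, (u : G) ∈ R → (v : G) ∈ R → f u = f v → u = v := by
    intro u v hu hv huv
    refine inv_mul_eq_one.1 (Subtype.ext (hRA1 _ ?_ ((hf _).1 ?_)))
    · exact mul_mem (inv_mem hu) hv
    · rw [map_mul, map_inv, huv, inv_mul_cancel]
  have hmemP : ∀ d ∈ (R.subgroupOf M).map f, ∃ r : M, (r : G) ∈ R ∧ f r = d := by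
    rintro _ ⟨r, hr, rfl⟩
    exact ⟨r, hr, rfl⟩
  set zM : M := ⟨z, hRM hzR⟩ with hzM
  have hfz : f zM ∈ (R.subgroupOf M).map f := ⟨zM, hzR, rfl⟩
  have hE := isExtraspecial_of ((R.subgroupOf M).map f) (z := f zM)
    ((((hp.to_le hRQ)).of_equiv (Subgroup.subgroupOfEquivOfLe hRM).symm).map f) hfz
    (fun h1 => h.ne_one (congrArg Subtype.val (hinj zM 1 hzR (one_mem R) (h1.trans (map_one f).symm))))
    (by rw [← map_mul, show zM * zM = 1 from Subtype.ext h.inv, map_one])
    (fun e he => by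
      obtain ⟨r, hr, rfl⟩ := hmemP e he
      rw [← map_mul, ← map_mul, show r * zM = zM * r from Subtype.ext (h.comm r (hRQ hr))])
    (fun a ha b hb => by
      obtain ⟨r, hr, rfl⟩ := hmemP a ha
      obtain ⟨s, hs, rfl⟩ := hmemP b hb
      rw [← map_inv, ← map_inv, ← map_mul, ← map_mul, ← map_mul]
      rcases h.commEl r (hRQ hr) s (hRQ hs) with e | e
      · left; rw [show r * s * r⁻¹ * s⁻¹ = 1 from Subtype.ext (mul_inv_eq_one.2 e), map_one]
      · right; exact congrArg f (Subtype.ext (mul_inv_eq_iff_eq_mul.2 e)))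
    (fun a ha => by
      obtain ⟨r, hr, rfl⟩ := hmemP a ha
      rw [← map_mul]
      rcases h.sq r (hRQ hr) with e | e
      · left; rw [show r * r = 1 from Subtype.ext e, map_one]
      · right; exact congrArg f (Subtype.ext e))
    (fun d hd hdd => by
      obtain ⟨r, hr, rfl⟩ := hmemP d hd
      rcases hRcen r hr (fun e he => by
        have h1 := hdd (f ⟨e, hRM he⟩) ⟨⟨e, hRM he⟩, he, rfl⟩
        rw [← map_mul, ← map_mul] at h1
        exact congrArg Subtype.val (hinj _ _ (mul_mem he hr) (mul_mem hr he) h1)) with e | e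
      · left; rw [show r = 1 from Subtype.ext e, map_one]
      · right; exact congrArg f (Subtype.ext e))
    (by
      obtain ⟨a, ha, b, hb, hab⟩ := hRne
      refine ⟨f ⟨a, hRM ha⟩, ⟨_, ha, rfl⟩, f ⟨b, hRM hb⟩, ⟨_, hb, rfl⟩, fun he => hab ?_⟩
      rw [← map_mul, ← map_mul] at he
      exact congrArg Subtype.val (hinj _ _ (mul_mem ha hb) (mul_mem hb ha) he))
  have hsurj : ∀ m : M ⧸ A.subgroupOf M, ∃ y : M,
      (y : G) ∈ Subgroup.centralizer (A : Set G) ∧ f y = m := by
    intro m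
    obtain ⟨y, rfl⟩ := QuotientGroup.mk'_surjective _ m
    have hy : (y : G) ∈ Subgroup.centralizer (A : Set G) ⊔ A := hM ▸ y.2
    rw [← SetLike.mem_coe, Subgroup.coe_mul_of_left_le_normalizer_right _ _
      (Subgroup.centralizer_le_normalizer _), Set.mem_mul] at hy
    obtain ⟨u, hu, v, hv, huv⟩ := hy
    refine ⟨⟨u, hCAM hu⟩, hu, ?_⟩
    rw [← mul_inv_eq_one, ← map_inv, ← map_mul, hf]
    show u * (y : G)⁻¹ ∈ A
    rw [← huv, mul_inv_rev, ← mul_assoc]
    have hc' : Commute u v⁻¹ := (Subgroup.mem_centralizer_iff.1 hu _ (inv_mem hv)).symm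
    rw [hc'.eq, mul_inv_cancel_right]
    exact inv_mem hv
  have hfix : ∀ u ∈ Subgroup.centralizer (A : Set G), ∀ r ∈ R,
      u * r * u⁻¹ * r⁻¹ ∈ A → u * r = r * u := by
    intro u hu r hr he
    obtain ⟨e, hee⟩ : ∃ e, e = u * r * u⁻¹ * r⁻¹ := ⟨_, rfl⟩
    rw [← hee] at he
    have her : u * r * u⁻¹ = e * r := by rw [hee]; simp
    have hec : Commute e r := hRA r hr e he
    have hr4 : r * r * (r * r) = 1 := by
      rcases h.sq r (hRQ hr) with e' | e' <;> rw [e']
      exacts [one_mul 1, h.inv]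
    have h4' : e * e * (e * e) = 1 := by
      have h1 : u * r * u⁻¹ * (u * r * u⁻¹) * (u * r * u⁻¹ * (u * r * u⁻¹)) = 1 := by
        calc u * r * u⁻¹ * (u * r * u⁻¹) * (u * r * u⁻¹ * (u * r * u⁻¹))
            = u * (r * r * (r * r)) * u⁻¹ := by simp [mul_assoc]
          _ = 1 := by rw [hr4]; simp
      rw [her, hec.symm.mul_mul_mul_comm,
        (hec.symm.mul_left hec.symm |>.mul_right (hec.symm.mul_left hec.symm)).mul_mul_mul_comm,
        hr4, mul_one] at h1
      exact h1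
    have he1 : e = 1 := by
      have h1 : e ^ 4 = 1 := by rw [← h4']; simp [pow_succ, mul_assoc]
      have h2 : orderOf e ∣ Nat.card A := by
        have := orderOf_dvd_natCard (⟨e, he⟩ : A)
        rwa [Subgroup.orderOf_mk] at this
      have h3 := Nat.dvd_gcd (orderOf_dvd_of_pow_eq_one h1) h2
      rwa [show (4 : ℕ) = 2 ^ 2 from rfl, (Nat.Coprime.pow_left 2
        (Nat.prime_two.coprime_iff_not_dvd.2 hAodd.not_two_dvd_nat)).gcd_eq_one,
        Nat.dvd_one, orderOf_eq_one_iff] at h3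
    rw [he1, one_mul] at her
    exact mul_inv_eq_iff_eq_mul.1 her
  refine large_map_of_conj _ hE.1 hE.2 (fun m hm => ?_) (fun m hm e he => ?_)
    (g := f ⟨p⁻¹ * c, mul_mem (inv_mem (hRM hpR)) (hCAM hcA)⟩) ?_ ?_
  · obtain ⟨y, hyC, rfl⟩ := hsurj m
    have hyW : (y : G) ∈ W := by
      rw [hW, ← SetLike.mem_coe]
      have : A ⊔ R ≤ Subgroup.centralizer ({(y : G)} : Set G) := by
        refine sup_le (fun a ha => ?_) (fun r hr => ?_) <;>
          rw [Subgroup.mem_centralizer_singleton_iff]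
        · exact Subgroup.mem_centralizer_iff.1 hyC a ha
        · refine (hfix _ hyC r hr ?_).symm
          have h1 := hm (f ⟨r, hRM hr⟩) ⟨⟨r, hRM hr⟩, hr, rfl⟩
          have h2 : f (y * ⟨r, hRM hr⟩ * y⁻¹ * (⟨r, hRM hr⟩ : M)⁻¹) = 1 := by
            rw [map_mul, map_mul, map_mul, map_inv, map_inv, ← h1]; simp
          exact (hf _).1 h2
      exact Subgroup.mem_centralizer_iff.2 fun t ht =>
        Subgroup.mem_centralizer_singleton_iff.1 (this ht)
    rw [hE.2]
    rcases hWA _ hyW with h' | h'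
    · rw [(hf y).2 h']; exact one_mem _
    · have h2 : f (zM * y) = 1 := (hf _).2 h'
      rw [map_mul, mul_eq_one_iff_inv_eq] at h2
      rw [← h2]; exact inv_mem (Subgroup.mem_zpowers _)
  · obtain ⟨y, hyC, rfl⟩ := hsurj m
    obtain ⟨r, hr, rfl⟩ := hmemP e he
    have hyz : (y : G) * z = z * y := by
      refine hfix _ hyC z hzR ((hf (y * zM * y⁻¹ * zM⁻¹)).1 ?_)
      rw [map_mul, map_mul, map_mul, map_inv, map_inv, hm]; simp
    refine ⟨y * r * y⁻¹, ?_, by simp⟩
    rw [hR] at hr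
    show (y : G) * r * (y : G)⁻¹ ∈ R
    rw [hR]
    exact Subgroup.mem_inf.2 ⟨h.norm _ hyz _ hr.1, mul_mem (mul_mem hyC hr.2) (inv_mem hyC)⟩
  · refine ⟨⟨x, hRM hgR⟩, hgR, ?_⟩
    rw [← map_mul, ← map_inv, ← map_mul]
    refine congrArg f (Subtype.ext ?_)
    show x = p⁻¹ * c * z * (p⁻¹ * c)⁻¹
    conv_rhs => rw [← hconj]
    simp [mul_assoc]
  · intro heq
    rw [← map_mul, ← map_inv, ← map_mul] at heq
    have h1 : p⁻¹ * c * z * (p⁻¹ * c)⁻¹ = x := by
      conv_lhs => rw [← hconj]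
      simp [mul_assoc]
    have h2 := congrArg Subtype.val (hinj _ zM
      (by show p⁻¹ * c * z * (p⁻¹ * c)⁻¹ ∈ R; rw [h1]; exact hgR) hzR heq)
    exact hne (h1.symm.trans h2)

end CfsgLib.ThreeTransp
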