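import Mathlib

/-!
Euclidean chains with linear quotients: for a monic `P` of degree `n` over a field, almost all `Q`
with `Q(0) = 1` give a pair `(P, Q)` reachable from `(·, 1)` by the moves `Q += a X P`, `P += b Q`.
-/

set_option autoImplicit false

namespace CfsgLib.ThreeTransp.NormalChain

open Polynomial

variable {R : Type*} [CommRing R]

/-- The polynomial attached to a coefficient vector, multiplied by `X ^ e`. -/
noncomputable def vecPoly {m : ℕ} (e : ℕ) (c : Fin m → R) : R[X] :=
  ∑ i, C (c i) * X ^ ((i : ℕ) + e)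

/-- No nonzero small combination of `P` and `Q` has small degree. -/
def Nondeg (n : ℕ) (P Q : R[X]) : Prop :=
  ∀ j < n, ∀ e ≤ 1, ∀ u v : R[X], u.natDegree ≤ j → v.natDegree ≤ j → (e = 1 → u.coeff 0 = 0) →
    (∀ i, n + e ≤ i + j + 1 → (u * P + v * Q).coeff i = 0) → u = 0 ∧ v = 0

section Field

variable {k : Type*} [Field k]

/-- The chain predicate. -/
inductive Chain : k[X] → k[X] → Prop
  | base (b : k) : Chain (C b) 1
  | step (a b : k) {P Q : k[X]} : Chain P Q →
      Chain (P + C b * (Q + C a * X * P)) (Q + C a * X * P)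

theorem chain_of_nondeg : ∀ (n : ℕ) (P Q : k[X]), P.natDegree ≤ n → Q.natDegree ≤ n →
    Q.coeff 0 = 1 → Nondeg n P Q → Chain P Q
  | 0, P, Q, hP, hQ, hQ0, _ => by
    rw [Polynomial.eq_C_of_natDegree_le_zero hQ, hQ0, map_one,
      Polynomial.eq_C_of_natDegree_le_zero hP]
    exact Chain.base _
  | n + 1, P, Q, hP, hQ, hQ0, h => by
    have htop : Q.coeff (n + 1) ≠ 0 := by
      intro h0
      refine one_ne_zero (α := k[X]) (h 0 n.succ_pos 1 le_rfl 0 1 (by simp) (by simp) (by simp)
        fun i hi => ?_).2
      rw [zero_mul, zero_add, one_mul]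
      rcases eq_or_lt_of_le (show n + 1 ≤ i by omega) with rfl | hlt
      · exact h0
      · exact coeff_eq_zero_of_natDegree_lt (by omega)
    set b := P.coeff (n + 1) / Q.coeff (n + 1) with hb
    set P' := P - C b * Q with hP'
    have hP'top : P'.coeff (n + 1) = 0 := by
      rw [hP', coeff_sub, coeff_C_mul, hb, div_mul_cancel₀ _ htop, sub_self]
    have hP'deg : P'.natDegree ≤ n := by
      refine natDegree_le_iff_coeff_eq_zero.2 fun i hi => ?_
      rcases eq_or_lt_of_le (show n + 1 ≤ i from hi) with rfl | hlt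
      · exact hP'top
      · rw [hP', coeff_sub, coeff_C_mul, coeff_eq_zero_of_natDegree_lt (by omega),
          coeff_eq_zero_of_natDegree_lt (by omega : Q.natDegree < i), mul_zero, sub_zero]
    have hP'n : P'.coeff n ≠ 0 := by
      intro h0
      refine one_ne_zero (α := k[X]) (h 0 n.succ_pos 0 (by omega) 1 (-C b) (by simp) (by simp)
        (by simp) fun i hi => ?_).1
      rw [one_mul, neg_mul, ← sub_eq_add_neg, ← hP']
      rcases eq_or_lt_of_le (show n ≤ i by omega) with rfl | hlt
      · exact h0
      · exact coeff_eq_zero_of_natDegree_lt (by omega)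
    set a := Q.coeff (n + 1) / P'.coeff n with ha
    set Q' := Q - C a * X * P' with hQ'
    have hQ'deg : Q'.natDegree ≤ n := by
      refine natDegree_le_iff_coeff_eq_zero.2 fun i hi => ?_
      obtain ⟨m, rfl⟩ : ∃ m, i = m + 1 := ⟨i - 1, by omega⟩
      rw [hQ', coeff_sub, mul_assoc, coeff_C_mul, coeff_X_mul]
      rcases eq_or_lt_of_le (show n ≤ m by omega) with rfl | hlt
      · rw [ha, div_mul_cancel₀ _ hP'n, sub_self]
      · rw [coeff_eq_zero_of_natDegree_lt (by omega),
          coeff_eq_zero_of_natDegree_lt (by omega : P'.natDegree < m), mul_zero, sub_zero]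
    have hQ'0 : Q'.coeff 0 = 1 := by
      rw [hQ', coeff_sub, mul_assoc, coeff_C_mul, coeff_X_mul_zero, mul_zero, sub_zero, hQ0]
    have hnd : Nondeg n P' Q' := by
      intro j hj e he u v hu hv hu0 hc
      have hCX : (C a * X).natDegree ≤ 1 :=
        natDegree_mul_le.trans (by rw [natDegree_C, natDegree_X])
      have hUdeg : (u - C a * X * v).natDegree ≤ j + 1 :=
        (natDegree_sub_le _ _).trans (max_le (by omega) (natDegree_mul_le.trans (by omega)))
      have hVdeg : (v - C b * (u - C a * X * v)).natDegree ≤ j + 1 :=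
        (natDegree_sub_le _ _).trans (max_le (by omega) ((natDegree_C_mul_le _ _).trans hUdeg))
      have hU0 : e = 1 → (u - C a * X * v).coeff 0 = 0 := fun he1 => by
        rw [coeff_sub, mul_assoc, coeff_C_mul, coeff_X_mul_zero, mul_zero, sub_zero, hu0 he1]
      obtain ⟨hU, hV⟩ := h (j + 1) (by omega) e he _ _ hUdeg hVdeg hU0 fun i hi => by
        rw [show (u - C a * X * v) * P + (v - C b * (u - C a * X * v)) * Q = u * P' + v * Q' by
          rw [hQ', hP']; ring]
        exact hc i (by omega)
      rw [hU, mul_zero, sub_zero] at hV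
      subst hV
      rw [mul_zero, sub_zero] at hU
      exact ⟨hU, rfl⟩
    have hch := chain_of_nondeg n P' Q' hP'deg hQ'deg hQ'0 hnd
    have := Chain.step a b hch
    rwa [show Q' + C a * X * P' = Q by rw [hQ']; ring, show P' + C b * Q = P by rw [hP']; ring]
      at this

/-- The candidate `Q` with prescribed coefficients. -/
noncomputable def candQ {n : ℕ} (x : Fin n → R) : R[X] := 1 + vecPoly 1 x

theorem coeff_vecPoly {m : ℕ} (e : ℕ) (c : Fin m → R) (t : ℕ) :
    (vecPoly e c).coeff t = ∑ i : Fin m, if t = (i : ℕ) + e then c i else 0 := by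
  simp [vecPoly, finsetSum_coeff, coeff_C_mul, coeff_X_pow]

theorem natDegree_vecPoly {m : ℕ} (e : ℕ) (c : Fin m → R) (N : ℕ) (h : m + e ≤ N + 1) :
    (vecPoly e c).natDegree ≤ N := by
  refine natDegree_sum_le_of_forall_le _ _ fun i _ => ?_
  exact (natDegree_C_mul_X_pow_le _ _).trans (by omega)

theorem eq_vecPoly {m : ℕ} (e : ℕ) {u : R[X]} (hu : ∀ t, (t < e ∨ m + e ≤ t) → u.coeff t = 0) :
    u = vecPoly e fun i : Fin m => u.coeff ((i : ℕ) + e) := by
  ext t
  rw [coeff_vecPoly]
  by_cases ht : t < e ∨ m + e ≤ t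
  · rw [hu t ht, Finset.sum_eq_zero]
    intro i _
    rw [if_neg]
    rintro rfl
    omega
  · push Not at ht
    rw [Finset.sum_eq_single (⟨t - e, by omega⟩ : Fin m)]
    · rw [if_pos (by simp; omega)]
      congr 1
      simp; omega
    · intro i _ hi
      rw [if_neg]
      rintro rfl
      exact hi (Fin.ext (by simp))
    · simp

/-- Columns of the coefficient matrix. -/
noncomputable def col (j e : ℕ) (P Q : R[X]) : Fin (j + 1 - e) ⊕ Fin (j + 1) → R[X] :=
  Sum.elim (fun i => X ^ ((i : ℕ) + e) * P) (fun i => X ^ (i : ℕ) * Q)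

/-- Rows of the coefficient matrix. -/
def row (n j e : ℕ) : Fin (j + 1 - e) ⊕ Fin (j + 1) → ℕ :=
  Sum.elim (fun i => n + e - (j + 1) + i) (fun i => n + e - (j + 1) + (j + 1 - e) + i)

/-- The coefficient matrix. -/
noncomputable def cmat (n j e : ℕ) (P Q : R[X]) :
    Matrix (Fin (j + 1 - e) ⊕ Fin (j + 1)) (Fin (j + 1 - e) ⊕ Fin (j + 1)) R :=
  fun r c => (col j e P Q c).coeff (row n j e r)

theorem cmat_mulVec (n j e : ℕ) (P Q : R[X]) (w : Fin (j + 1 - e) ⊕ Fin (j + 1) → R)
    (r : Fin (j + 1 - e) ⊕ Fin (j + 1)) :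
    Matrix.mulVec (cmat n j e P Q) w r =
      (vecPoly e (fun i => w (Sum.inl i)) * P + vecPoly 0 (fun i => w (Sum.inr i)) * Q).coeff
        (row n j e r) := by
  simp only [Matrix.mulVec, dotProduct, cmat, Fintype.sum_sum_type, col, Sum.elim_inl,
    Sum.elim_inr, coeff_add, vecPoly, Finset.sum_mul, finsetSum_coeff, mul_assoc, coeff_C_mul,
    add_zero]
  congr 1 <;> exact Finset.sum_congr rfl fun i _ => mul_comm _ _

theorem nondeg_of_det {n : ℕ} {P Q : k[X]}
    (h : ∀ j < n, ∀ e ≤ 1, (cmat n j e P Q).det ≠ 0) : Nondeg n P Q := by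
  intro j hj e he u v hu hv hu0 hc
  set w : Fin (j + 1 - e) ⊕ Fin (j + 1) → k :=
    Sum.elim (fun i => u.coeff ((i : ℕ) + e)) (fun i => v.coeff ((i : ℕ) + 0)) with hw
  have hu' : u = vecPoly e fun i => w (Sum.inl i) := eq_vecPoly e fun t ht => by
    rcases ht with ht | ht
    · obtain rfl : t = 0 := by omega
      exact hu0 (by omega)
    · exact coeff_eq_zero_of_natDegree_lt (by omega)
  have hv' : v = vecPoly 0 fun i => w (Sum.inr i) := eq_vecPoly 0 fun t ht => by
    exact coeff_eq_zero_of_natDegree_lt (by omega)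
  have h0 : Matrix.mulVec (cmat n j e P Q) w = 0 := by
    funext r
    rw [cmat_mulVec, ← hu', ← hv']
    refine hc _ ?_
    rcases r with i | i <;> simp [row] <;> omega
  have := Matrix.eq_zero_of_mulVec_eq_zero (h j hj e he) h0
  rw [hu', hv', this]
  simp [vecPoly]

theorem witness {n j e : ℕ} (hj : j < n) (he : e ≤ 1) {P : k[X]} (hP : P.Monic)
    (hn : P.natDegree = n) :
    ∃ x : Fin n → k, (cmat n j e P (candQ x)).det ≠ 0 := by
  set m := j + 1 - e with hm
  set S := P /ₘ X ^ m with hS
  set c : k := 1 - S.coeff 0 with hc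
  set Q := S + C c with hQ
  have hSdeg : S.natDegree = n - m := by
    rw [hS, natDegree_divByMonic _ (monic_X_pow m), hn, natDegree_X_pow]
  have hStop : S.coeff (n - m) = 1 := by
    rw [← hSdeg, coeff_natDegree, hS, leadingCoeff_divByMonic_of_monic (monic_X_pow m)
      (by rw [degree_X_pow, degree_eq_natDegree hP.ne_zero, hn]; exact_mod_cast (by omega : m ≤ n))]
    exact hP
  have hQ0 : Q.coeff 0 = 1 := by rw [hQ, coeff_add, coeff_C_zero, hc]; ring
  have hQdeg : Q.natDegree = n - m := by
    by_cases hmn : m = n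
    · refine le_antisymm ?_ (by omega)
      rw [hQ]
      refine (natDegree_add_le _ _).trans ?_
      rw [hSdeg, natDegree_C]; omega
    · rw [hQ, natDegree_add_C, hSdeg]
  have hQne : Q ≠ 0 := fun h => by rw [h] at hQ0; simp at hQ0
  set rest := P - X ^ m * Q with hrest
  have hrdeg : rest.natDegree < n := by
    have h2 : rest = P %ₘ X ^ m - X ^ m * C c := by
      rw [hrest, hQ, hS]
      linear_combination -(modByMonic_add_div P (X ^ m))
    have h3 : (P %ₘ X ^ m).natDegree < n := by
      by_cases hm0 : m = 0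
      · rw [hm0, pow_zero, modByMonic_one]; simp; omega
      · have h4 := natDegree_modByMonic_lt P (monic_X_pow (R := k) m) (fun h => hm0 (by
          have := congrArg natDegree h
          simpa using this))
        rw [natDegree_X_pow] at h4
        omega
    rw [h2]
    refine (natDegree_sub_le _ _).trans_lt (max_lt h3 ?_)
    by_cases hmn : m = n
    · have : c = 0 := by
        rw [hc, sub_eq_zero, ← hStop, show n - m = 0 by omega]
      simp [this]; omega
    · refine natDegree_mul_le.trans_lt ?_
      rw [natDegree_X_pow, natDegree_C]; omega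
  refine ⟨fun i => Q.coeff ((i : ℕ) + 1), ?_⟩
  have hcand : candQ (fun i : Fin n => Q.coeff ((i : ℕ) + 1)) = Q := by
    ext t
    rw [candQ, coeff_add, coeff_vecPoly, coeff_one]
    rcases Nat.eq_zero_or_pos t with rfl | ht
    · simp [hQ0]
    · rw [if_neg (by omega), zero_add]
      by_cases htn : t ≤ n
      · rw [Finset.sum_eq_single (⟨t - 1, by omega⟩ : Fin n)]
        · rw [if_pos (by simp; omega)]
          congr 1
          simp; omega
        · intro i _ hi
          rw [if_neg]
          intro h
          exact hi (Fin.ext (by simp; omega))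
        · simp
      · rw [coeff_eq_zero_of_natDegree_lt (by omega), Finset.sum_eq_zero]
        intro i _
        rw [if_neg (by omega)]
  rw [hcand]
  intro hdet
  obtain ⟨w, hw0, hw⟩ := Matrix.exists_mulVec_eq_zero_iff.2 hdet
  set u := vecPoly e fun i => w (Sum.inl i) with hu
  set v := vecPoly 0 fun i => w (Sum.inr i) with hv
  have hvdeg : v.natDegree ≤ j := natDegree_vecPoly 0 _ j (by omega)
  have hudeg : u.natDegree ≤ j := natDegree_vecPoly e _ j (by omega)
  have hu0 : e = 1 → u.coeff 0 = 0 := fun he1 => by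
    rw [hu, coeff_vecPoly]
    refine Finset.sum_eq_zero fun i _ => ?_
    rw [if_neg (by omega)]
  have hwin : ∀ t, n + e - (j + 1) ≤ t → t ≤ n + j → (u * P + v * Q).coeff t = 0 := by
    intro t h1 h2
    by_cases ht : t < n + e - (j + 1) + m
    · have h3 := congrFun hw (Sum.inl ⟨t - (n + e - (j + 1)), by omega⟩)
      rw [cmat_mulVec] at h3
      simp only [row, Sum.elim_inl, Pi.zero_apply, ← hu, ← hv] at h3
      rwa [show n + e - (j + 1) + (t - (n + e - (j + 1))) = t by omega] at h3
    · have h3 := congrFun hw (Sum.inr ⟨t - (n + e - (j + 1) + m), by omega⟩)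
      rw [cmat_mulVec] at h3
      simp only [row, Sum.elim_inr, Pi.zero_apply, ← hu, ← hv, ← hm] at h3
      rwa [show n + e - (j + 1) + m + (t - (n + e - (j + 1) + m)) = t by omega] at h3
  have hu_zero : u = 0 := by
    by_contra hune
    have hde : e ≤ u.natDegree := by
      by_contra hlt
      push Not at hlt
      have : u.natDegree = 0 := by omega
      apply hune
      rw [Polynomial.eq_C_of_natDegree_le_zero this.le, hu0 (by omega), map_zero]
    have hwdeg : (u * X ^ m + v).natDegree = u.natDegree + m := by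
      rw [natDegree_add_eq_left_of_natDegree_lt] <;>
        rw [natDegree_mul hune (pow_ne_zero _ X_ne_zero), natDegree_X_pow]
      omega
    have hwne : u * X ^ m + v ≠ 0 := fun h => by
      rw [h, natDegree_zero] at hwdeg
      omega
    have hexp : u * P + v * Q = (u * X ^ m + v) * Q + u * rest := by rw [hrest]; ring
    have h1 : ((u * X ^ m + v) * Q).natDegree = u.natDegree + n := by
      rw [natDegree_mul hwne hQne, hwdeg, hQdeg]; omega
    have h2 : (u * rest).natDegree < u.natDegree + n := natDegree_mul_le.trans_lt (by omega)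
    have h3 := hwin (u.natDegree + n) (by omega) (by omega)
    rw [hexp, coeff_add, coeff_eq_zero_of_natDegree_lt h2, add_zero, ← h1, coeff_natDegree,
      leadingCoeff_eq_zero] at h3
    exact mul_ne_zero hwne hQne h3
  have hv_zero : v = 0 := by
    by_contra hvne
    have h1 : (v * Q).natDegree = v.natDegree + (n - m) := by rw [natDegree_mul hvne hQne, hQdeg]
    have h3 := hwin (v.natDegree + (n - m)) (by omega) (by omega)
    rw [hu_zero, zero_mul, zero_add, ← h1, coeff_natDegree, leadingCoeff_eq_zero] at h3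
    exact mul_ne_zero hvne hQne h3
  apply hw0
  funext r
  rcases r with i | i
  · have := congrArg (fun p : k[X] => p.coeff ((i : ℕ) + e)) hu_zero
    simp only [hu, coeff_vecPoly, coeff_zero] at this
    rw [Finset.sum_eq_single i, if_pos rfl] at this
    · exact this
    · intro t _ ht
      rw [if_neg]
      intro h
      exact ht (Fin.ext (by omega))
    · simp
  · have := congrArg (fun p : k[X] => p.coeff ((i : ℕ) + 0)) hv_zero
    simp only [hv, coeff_vecPoly, coeff_zero] at this
    rw [Finset.sum_eq_single i, if_pos rfl] at this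
    · exact this
    · intro t _ ht
      rw [if_neg]
      intro h
      exact ht (Fin.ext (by omega))
    · simp

/-- Almost every `Q` gives a chain: there is a nonzero polynomial off whose zero set all do. -/
theorem exists_generic {n : ℕ} {P : k[X]} (hP : P.Monic) (hn : P.natDegree = n) :
    ∃ F : MvPolynomial (Fin n) k, F ≠ 0 ∧
      ∀ x : Fin n → k, MvPolynomial.eval x F ≠ 0 → Chain P (candQ x) := by
  classical
  let D : ℕ → ℕ → MvPolynomial (Fin n) k := fun j e =>
    (cmat n j e (P.map MvPolynomial.C) (candQ fun i : Fin n => MvPolynomial.X i)).det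
  have heval : ∀ (x : Fin n → k) (j e : ℕ),
      MvPolynomial.eval x (D j e) = (cmat n j e P (candQ x)).det := by
    intro x j e
    have hP' : (P.map (MvPolynomial.C (σ := Fin n))).map (MvPolynomial.eval x) = P := by
      rw [Polynomial.map_map, show (MvPolynomial.eval x).comp MvPolynomial.C = RingHom.id k from
        RingHom.ext fun _ => MvPolynomial.eval_C _, Polynomial.map_id]
    have hQ' : (candQ fun i : Fin n => (MvPolynomial.X i : MvPolynomial (Fin n) k)).map
        (MvPolynomial.eval x) = candQ x := by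
      simp [candQ, vecPoly, Polynomial.map_sum]
    show MvPolynomial.eval x (Matrix.det _) = _
    rw [RingHom.map_det]
    congr 1
    ext r c
    show MvPolynomial.eval x ((col j e _ _ c).coeff (row n j e r)) = _
    rw [← Polynomial.coeff_map]
    show _ = (col j e P (candQ x) c).coeff (row n j e r)
    congr 1
    rcases c with i | i <;> simp [col, hP', hQ']
  refine ⟨∏ p ∈ Finset.range n ×ˢ Finset.range 2, D p.1 p.2,
    Finset.prod_ne_zero_iff.2 fun p hp h0 => ?_, fun x hx => ?_⟩
  · obtain ⟨h1, h2⟩ := Finset.mem_product.1 hp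
    obtain ⟨x, hx⟩ := witness (Finset.mem_range.1 h1) (Nat.lt_succ_iff.1 (Finset.mem_range.1 h2))
      hP hn
    exact hx (by rw [← heval, h0, map_zero])
  · rw [map_prod, Finset.prod_ne_zero_iff] at hx
    refine chain_of_nondeg n P _ hn.le ?_ ?_ (nondeg_of_det fun j hj e he => ?_)
    · refine (natDegree_add_le _ _).trans (max_le (by simp) (natDegree_vecPoly 1 x n le_rfl))
    · rw [candQ, coeff_add, coeff_one_zero, coeff_vecPoly, Finset.sum_eq_zero, add_zero]
      intro i _
      rw [if_neg (by omega)]
    · rw [← heval]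
      exact hx (j, e) (Finset.mem_product.2 ⟨Finset.mem_range.2 hj, Finset.mem_range.2 (by omega)⟩)

end Field

end CfsgLib.ThreeTransp.NormalChain
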