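import Mathlib
import Cfsg.Prelude.Def_RootSubgroups

/-!
Conjugates of subgroups and the elementary theory of rank one groups (A, B).
-/

set_option autoImplicit false
set_option linter.style.haveILetI false

namespace CfsgLib.ThreeTransp

open Cfsg

variable {G : Type*} [Group G]

/-! ### Conjugates -/

theorem mem_conjBy {A : Subgroup G} {g x : G} : x ∈ conjBy A g ↔ g⁻¹ * x * g ∈ A := by
  show x ∈ A.map (MulAut.conj g).toMonoidHom ↔ _
  constructor
  · rintro ⟨a, ha, rfl⟩
    simpa [mul_assoc] using ha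
  · intro h
    exact ⟨g⁻¹ * x * g, h, by simp [mul_assoc]⟩

theorem conj_mem_conjBy {A : Subgroup G} {a : G} (ha : a ∈ A) (g : G) :
    g * a * g⁻¹ ∈ conjBy A g := by
  rw [mem_conjBy]; simpa [mul_assoc] using ha

theorem conjBy_one (A : Subgroup G) : conjBy A 1 = A := by
  ext x; simp

theorem conjBy_mul (A : Subgroup G) (g h : G) : conjBy A (g * h) = conjBy (conjBy A h) g := by
  ext x; simp only [mem_conjBy, mul_inv_rev, mul_assoc]

theorem conjBy_inv_conjBy (A : Subgroup G) (g : G) : conjBy (conjBy A g) g⁻¹ = A := by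
  rw [← conjBy_mul, inv_mul_cancel, conjBy_one]

theorem conjBy_conjBy_inv (A : Subgroup G) (g : G) : conjBy (conjBy A g⁻¹) g = A := by
  rw [← conjBy_mul, mul_inv_cancel, conjBy_one]

theorem conjBy_inj {A B : Subgroup G} {g : G} (h : conjBy A g = conjBy B g) : A = B := by
  rw [← conjBy_inv_conjBy A g, h, conjBy_inv_conjBy]

theorem conjBy_eq_self_iff {A : Subgroup G} {g : G} :
    conjBy A g = A ↔ g ∈ Subgroup.normalizer (A : Set G) := by
  rw [Subgroup.mem_normalizer_iff]
  constructor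
  · intro h x
    constructor
    · intro hx; have := conj_mem_conjBy hx g; rwa [h] at this
    · intro hx; rw [← h] at hx; simpa [mem_conjBy, mul_assoc] using hx
  · intro h
    ext x
    rw [mem_conjBy, h]
    simp [mul_assoc]

theorem conjBy_of_mem {A : Subgroup G} {g : G} (h : g ∈ A) : conjBy A g = A :=
  conjBy_eq_self_iff.2 (Subgroup.le_normalizer h)

theorem conjBy_of_commute {A : Subgroup G} {g : G} (h : ∀ a ∈ A, g * a = a * g) :
    conjBy A g = A := by
  refine conjBy_eq_self_iff.2 (Subgroup.mem_normalizer_iff.2 fun x => ⟨fun hx => ?_, fun hx => ?_⟩)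
  · rw [h x hx, mul_inv_cancel_right]; exact hx
  · have hxe : g * x * g⁻¹ = x := by
      have := h _ hx
      have h2 : g * x * g⁻¹ * g = g * (g * x * g⁻¹) := this.symm
      simp only [inv_mul_cancel_right] at h2
      exact (mul_left_cancel h2).symm
    rwa [hxe] at hx

theorem conjBy_sup (A B : Subgroup G) (g : G) : conjBy (A ⊔ B) g = conjBy A g ⊔ conjBy B g :=
  Subgroup.map_sup _ _ _

theorem conjBy_commutator (A B : Subgroup G) (g : G) :
    conjBy ⁅A, B⁆ g = ⁅conjBy A g, conjBy B g⁆ :=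
  Subgroup.map_commutator _ _ _

theorem conjBy_le_iff {A B : Subgroup G} {g : G} : conjBy A g ≤ conjBy B g ↔ A ≤ B :=
  Subgroup.map_le_map_iff_of_injective (MulAut.conj g).injective

theorem conjBy_bot (g : G) : conjBy (⊥ : Subgroup G) g = ⊥ := Subgroup.map_bot _

/-- Elementwise commutation from a trivial commutator subgroup. -/
theorem comm_of_bot {A B : Subgroup G} (h : ⁅A, B⁆ = ⊥) {a b : G} (ha : a ∈ A) (hb : b ∈ B) :
    a * b = b * a := by
  have := Subgroup.commutator_mem_commutator ha hb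
  rw [h, Subgroup.mem_bot] at this
  exact commutatorElement_eq_one_iff_mul_comm.1 this

theorem bot_of_comm {A B : Subgroup G} (h : ∀ a ∈ A, ∀ b ∈ B, a * b = b * a) : ⁅A, B⁆ = ⊥ := by
  rw [eq_bot_iff, Subgroup.commutator_le]
  intro a ha b hb
  rw [Subgroup.mem_bot]
  exact commutatorElement_eq_one_iff_mul_comm.2 (h a ha b hb)

theorem comm_bot_symm {A B : Subgroup G} (h : ⁅A, B⁆ = ⊥) : ⁅B, A⁆ = ⊥ := by
  rwa [Subgroup.commutator_comm]

theorem commute_sup {A B : Subgroup G} {g : G} (hA : ∀ a ∈ A, g * a = a * g)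
    (hB : ∀ b ∈ B, g * b = b * g) : ∀ x ∈ A ⊔ B, g * x = x * g := by
  intro x hx
  have : A ⊔ B ≤ Subgroup.centralizer ({g} : Set G) := sup_le
    (fun a ha => Subgroup.mem_centralizer_singleton_iff.2 (hA a ha).symm)
    (fun b hb => Subgroup.mem_centralizer_singleton_iff.2 (hB b hb).symm)
  exact (Subgroup.mem_centralizer_singleton_iff.1 (this hx)).symm

/-! ### Rank one pairs -/

variable {A B : Subgroup G}

theorem rop_symm (h : IsRankOnePair A B) : IsRankOnePair B A := RankOnePair_symm h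

theorem rop_eq_one_of_normalizes (h : IsRankOnePair A B) {a : G} (ha : a ∈ A)
    (hn : conjBy B a = B) : a = 1 := by
  by_contra h1
  obtain ⟨b, hb, -, he⟩ := h.cond_left a ha h1
  have h2 : conjBy B a⁻¹ = B := by
    conv_lhs => rw [← hn]
    rw [conjBy_inv_conjBy]
  rw [h2] at he
  apply h.ne
  calc A = conjBy (conjBy A b⁻¹) b := (conjBy_conjBy_inv A b).symm
    _ = conjBy B b := by rw [he]
    _ = B := conjBy_of_mem hb

theorem rop_inf_normalizer (h : IsRankOnePair A B) :
    A ⊓ Subgroup.normalizer (B : Set G) = ⊥ := by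
  rw [eq_bot_iff]
  rintro a ⟨ha, hn⟩
  exact Subgroup.mem_bot.2 (rop_eq_one_of_normalizes h ha (conjBy_eq_self_iff.2 hn))

theorem rop_left_ne_bot (h : IsRankOnePair A B) : A ≠ ⊥ := by
  intro hA
  by_cases hB : B = ⊥
  · exact h.ne (hA.trans hB.symm)
  · obtain ⟨b, hb, hb1⟩ := B.bot_or_exists_ne_one.resolve_left hB
    obtain ⟨a, ha, ha1, -⟩ := h.cond_right b hb hb1
    rw [hA, Subgroup.mem_bot] at ha
    exact ha1 ha

theorem rop_exists_ne_one (h : IsRankOnePair A B) : ∃ a ∈ A, a ≠ 1 :=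
  A.bot_or_exists_ne_one.resolve_left (rop_left_ne_bot h)

theorem rop_not_commute (h : IsRankOnePair A B) {a : G} (ha : a ∈ A) (ha1 : a ≠ 1) :
    ¬ ∀ b ∈ B, a * b = b * a :=
  fun hc => ha1 (rop_eq_one_of_normalizes h ha (conjBy_of_commute hc))

theorem rop_commutator_ne_bot (h : IsRankOnePair A B) : ⁅A, B⁆ ≠ ⊥ := by
  intro hc
  obtain ⟨a, ha, ha1⟩ := rop_exists_ne_one h
  exact rop_not_commute h ha ha1 fun b hb => comm_of_bot hc ha hb

theorem rop_not_commute_pair (h : IsRankOnePair A B) :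
    ¬ ∀ a ∈ A, ∀ b ∈ B, a * b = b * a :=
  fun hc => rop_commutator_ne_bot h (bot_of_comm hc)

/-! ### The unipotent subgroups -/

theorem left_mem_unipotent (A B : Subgroup G) : A ∈ unipotentSubgroups A B :=
  ⟨1, one_mem _, (conjBy_one A).symm⟩

theorem conjBy_mem_unipotent {C : Subgroup G} (hC : C ∈ unipotentSubgroups A B) {x : G}
    (hx : x ∈ A ⊔ B) : conjBy C x ∈ unipotentSubgroups A B := by
  obtain ⟨y, hy, rfl⟩ := hC
  exact ⟨x * y, mul_mem hx hy, (conjBy_mul A x y).symm⟩

theorem le_sup_of_mem_unipotent {C : Subgroup G} (hC : C ∈ unipotentSubgroups A B) :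
    C ≤ A ⊔ B := by
  obtain ⟨y, hy, rfl⟩ := hC
  intro x hx
  rw [mem_conjBy] at hx
  have h2 : y⁻¹ * x * y ∈ A ⊔ B := (le_sup_left : A ≤ A ⊔ B) hx
  have h3 := mul_mem (mul_mem hy h2) (inv_mem hy)
  simpa [mul_assoc] using h3

theorem rop_right_mem_unipotent (h : IsRankOnePair A B) : B ∈ unipotentSubgroups A B := by
  obtain ⟨a, ha, ha1⟩ := rop_exists_ne_one h
  obtain ⟨b, hb, -, he⟩ := h.cond_left a ha ha1
  refine ⟨a * b⁻¹, mul_mem ((le_sup_left : A ≤ A ⊔ B) ha)
    (inv_mem ((le_sup_right : B ≤ A ⊔ B) hb)), ?_⟩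
  rw [conjBy_mul, he, conjBy_conjBy_inv]

/-- The set `{A} ∪ B^A`. -/
def unipotentModel (A B : Subgroup G) : Set (Subgroup G) :=
  {C | C = A ∨ ∃ a ∈ A, C = conjBy B a}

theorem unipotentModel_swap (h : IsRankOnePair A B) :
    unipotentModel A B ⊆ unipotentModel B A := by
  rintro C (rfl | ⟨a, ha, rfl⟩)
  · exact Or.inr ⟨1, one_mem _, (conjBy_one _).symm⟩
  · by_cases ha1 : a = 1
    · subst ha1; exact Or.inl (conjBy_one B)
    · obtain ⟨b, hb, -, he⟩ := h.cond_left a⁻¹ (inv_mem ha) (inv_ne_one.2 ha1)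
      rw [inv_inv] at he
      exact Or.inr ⟨b⁻¹, inv_mem hb, he.symm⟩

theorem unipotentModel_conj_left {C : Subgroup G} (hC : C ∈ unipotentModel A B) {a : G}
    (ha : a ∈ A) : conjBy C a ∈ unipotentModel A B := by
  rcases hC with rfl | ⟨a', ha', rfl⟩
  · exact Or.inl (conjBy_of_mem ha)
  · exact Or.inr ⟨a * a', mul_mem ha ha', (conjBy_mul B a a').symm⟩

theorem rop_mem_unipotent_iff (h : IsRankOnePair A B) {C : Subgroup G} :
    C ∈ unipotentSubgroups A B ↔ C = A ∨ ∃ a ∈ A, C = conjBy B a := by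
  constructor
  · rintro ⟨x, hx, rfl⟩
    show conjBy A x ∈ unipotentModel A B
    have key : ∀ g ∈ A ⊔ B, ∀ C ∈ unipotentModel A B, conjBy C g ∈ unipotentModel A B := by
      intro g hg
      rw [Subgroup.sup_eq_closure] at hg
      refine Subgroup.closure_induction'' ?_ ?_ ?_ ?_ hg
      · rintro g (hgA | hgB) C hC
        · exact unipotentModel_conj_left hC hgA
        · exact unipotentModel_swap (rop_symm h)
            (unipotentModel_conj_left (unipotentModel_swap h hC) hgB)
      · rintro g (hgA | hgB) C hC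
        · exact unipotentModel_conj_left hC (inv_mem (show g ∈ A from hgA))
        · exact unipotentModel_swap (rop_symm h)
            (unipotentModel_conj_left (unipotentModel_swap h hC) (inv_mem (show g ∈ B from hgB)))
      · intro C hC; rwa [conjBy_one]
      · intro u v _ _ hu hv C hC
        rw [conjBy_mul]; exact hu _ (hv _ hC)
    exact key x hx A (Or.inl rfl)
  · rintro (rfl | ⟨a, ha, rfl⟩)
    · exact left_mem_unipotent _ _
    · exact conjBy_mem_unipotent (rop_right_mem_unipotent h) ((le_sup_left : A ≤ A ⊔ B) ha)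

theorem rop_unipotent_symm (h : IsRankOnePair A B) :
    unipotentSubgroups A B = unipotentSubgroups B A := by
  ext C
  rw [rop_mem_unipotent_iff h, rop_mem_unipotent_iff (rop_symm h)]
  exact ⟨fun hC => unipotentModel_swap h hC, fun hC => unipotentModel_swap (rop_symm h) hC⟩

/-- Double transitivity. -/
theorem rop_two_transitive (h : IsRankOnePair A B) {C D : Subgroup G}
    (hC : C ∈ unipotentSubgroups A B) (hD : D ∈ unipotentSubgroups A B) (hne : C ≠ D) :
    ∃ x ∈ A ⊔ B, conjBy A x = C ∧ conjBy B x = D := by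
  obtain ⟨y, hy, rfl⟩ := hC
  have hD' : conjBy D y⁻¹ ∈ unipotentSubgroups A B := conjBy_mem_unipotent hD (inv_mem hy)
  rcases (rop_mem_unipotent_iff h).1 hD' with h1 | ⟨a, ha, h1⟩
  · exact absurd (by rw [← h1, conjBy_conjBy_inv]) hne
  · refine ⟨y * a, mul_mem hy ((le_sup_left : A ≤ A ⊔ B) ha), ?_, ?_⟩
    · rw [conjBy_mul, conjBy_of_mem ha]
    · rw [conjBy_mul, ← h1, conjBy_conjBy_inv]

theorem rop_map (h : IsRankOnePair A B) {H : Type*} [Group H] (f : G →* H)
    (hf : Function.Injective f) : IsRankOnePair (A.map f) (B.map f) := by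
  have key : ∀ {A B : Subgroup G}, RankOneCondition A B → RankOneCondition (A.map f) (B.map f) := by
    intro A B hc x hx hx1
    obtain ⟨a, ha, rfl⟩ := hx
    have ha1 : a ≠ 1 := fun h => hx1 (by rw [h, map_one])
    obtain ⟨b, hb, hb1, he⟩ := hc a ha ha1
    refine ⟨f b, Subgroup.mem_map_of_mem f hb, fun h => hb1 (hf (by rw [h, map_one])), ?_⟩
    have hmap : ∀ (C : Subgroup G) (g : G), conjBy (C.map f) (f g) = (conjBy C g).map f := by
      intro C g
      simp only [Cfsg.conjBy, Subgroup.map_map]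
      congr 1
      ext x
      simp
    rw [← map_inv, ← map_inv, hmap, hmap, he]
  refine ⟨fun he => h.ne (Subgroup.map_injective hf he), ?_, ?_, key h.cond_left, key h.cond_right⟩
  · haveI := h.nilpotent_left
    exact Group.nilpotent_of_mulEquiv (A.equivMapOfInjective f hf)
  · haveI := h.nilpotent_right
    exact Group.nilpotent_of_mulEquiv (B.equivMapOfInjective f hf)

theorem rop_conjBy (h : IsRankOnePair A B) (g : G) : IsRankOnePair (conjBy A g) (conjBy B g) :=
  rop_map h _ (MulAut.conj g).injective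

/-- Two different unipotent subgroups form a rank one pair generating the same group. -/
theorem rop_of_mem_mem (h : IsRankOnePair A B) {C D : Subgroup G}
    (hC : C ∈ unipotentSubgroups A B) (hD : D ∈ unipotentSubgroups A B) (hne : C ≠ D) :
    IsRankOnePair C D ∧ C ⊔ D = A ⊔ B := by
  obtain ⟨x, hx, rfl, rfl⟩ := rop_two_transitive h hC hD hne
  exact ⟨rop_conjBy h x, by rw [← conjBy_sup, conjBy_of_mem hx]⟩

theorem rop_eq_one_of_mem_normalizes (h : IsRankOnePair A B) {C D : Subgroup G}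
    (hC : C ∈ unipotentSubgroups A B) (hD : D ∈ unipotentSubgroups A B) (hne : C ≠ D) {c : G}
    (hc : c ∈ C) (hn : conjBy D c = D) : c = 1 :=
  rop_eq_one_of_normalizes (rop_of_mem_mem h hC hD hne).1 hc hn

/-- If `(E, W)` is a rank one pair with `E` unipotent and `W` inside `⟨A, B⟩`, then `W` is unipotent. -/
theorem rop_mem_unipotent_of_pair {E W : Subgroup G}
    (hE : E ∈ unipotentSubgroups A B) (hW : W ≤ A ⊔ B) (hEW : IsRankOnePair E W) :
    W ∈ unipotentSubgroups A B := by
  obtain ⟨w, hw, hw1⟩ := rop_exists_ne_one (rop_symm hEW)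
  obtain ⟨c, hc, -, he⟩ := hEW.cond_right w hw hw1
  have : W = conjBy (conjBy E w⁻¹) c := by rw [← he, conjBy_conjBy_inv]
  rw [this]
  exact conjBy_mem_unipotent (conjBy_mem_unipotent hE (inv_mem (hW hw)))
    (le_sup_of_mem_unipotent hE hc)

/-- An element normalizing all unipotent subgroups, with commutators against `A` doing the same, commutes
with `⟨A, B⟩`. -/
theorem rop_kernel_commutes (h : IsRankOnePair A B) {n : G}
    (hnA : conjBy A n = A) (hnB : conjBy B n = B)
    (hA : ∀ a ∈ A, conjBy B (n * a * n⁻¹ * a⁻¹) = B)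
    (hB : ∀ b ∈ B, conjBy A (n * b * n⁻¹ * b⁻¹) = A) :
    ∀ x ∈ A ⊔ B, n * x = x * n := by
  have key : ∀ {A B : Subgroup G}, IsRankOnePair A B → conjBy A n = A →
      (∀ a ∈ A, conjBy B (n * a * n⁻¹ * a⁻¹) = B) → ∀ a ∈ A, n * a = a * n := by
    intro A B h hn hc a ha
    have h1 : n * a * n⁻¹ ∈ A := by
      have h0 := conj_mem_conjBy ha n; rwa [hn] at h0
    have h2 := rop_eq_one_of_normalizes h (mul_mem h1 (inv_mem ha)) (hc a ha)
    rw [mul_inv_eq_one] at h2
    rwa [mul_inv_eq_iff_eq_mul] at h2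
  exact commute_sup (key h hnA hA) (key (rop_symm h) hnB hB)

/-- The dichotomy for a subgroup normalized by a rank one group. -/
theorem rop_normal_dichotomy (h : IsRankOnePair A B) {N : Subgroup G} (hN : N ≤ A ⊔ B)
    (hnorm : ∀ x ∈ A ⊔ B, ∀ n ∈ N, x * n * x⁻¹ ∈ N) :
    N ⊔ A = A ⊔ B ∨ ∀ n ∈ N, ∀ x ∈ A ⊔ B, n * x = x * n := by
  have hAX : A ≤ A ⊔ B := le_sup_left
  by_cases hfix : ∀ n ∈ N, ∀ C ∈ unipotentSubgroups A B, conjBy C n = C
  · right
    intro n hn
    refine rop_kernel_commutes h (hfix n hn A (left_mem_unipotent _ _))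
      (hfix n hn B (rop_right_mem_unipotent h)) ?_ ?_
    · intro a ha
      refine hfix _ ?_ B (rop_right_mem_unipotent h)
      have h0 := mul_mem hn (hnorm a (hAX ha) n⁻¹ (inv_mem hn))
      simpa [mul_assoc] using h0
    · intro b hb
      refine hfix _ ?_ A (left_mem_unipotent _ _)
      have h0 := mul_mem hn (hnorm b ((le_sup_right : B ≤ A ⊔ B) hb) n⁻¹ (inv_mem hn))
      simpa [mul_assoc] using h0
  · left
    push Not at hfix
    obtain ⟨n, hn, C, ⟨x, hx, rfl⟩, hne⟩ := hfix
    set m := x⁻¹ * n * x with hm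
    have hmN : m ∈ N := by
      have h0 := hnorm x⁻¹ (inv_mem hx) n hn
      simpa [hm] using h0
    have hne' : conjBy A m ≠ A := by
      intro he
      apply hne
      have : n * x = x * m := by simp [hm, mul_assoc]
      rw [← conjBy_mul, this, conjBy_mul, he]
    obtain ⟨a, ha, hma⟩ := ((rop_mem_unipotent_iff h).1
      (conjBy_mem_unipotent (left_mem_unipotent A B) (hN hmN))).resolve_left hne'
    refine le_antisymm (sup_le hN le_sup_left) (sup_le le_sup_right ?_)
    have hB : B = conjBy A (a⁻¹ * m) := by rw [conjBy_mul, hma, conjBy_inv_conjBy]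
    rw [hB]
    intro y hy
    rw [mem_conjBy] at hy
    have hamn : a⁻¹ * m ∈ N ⊔ A :=
      mul_mem ((le_sup_right : A ≤ N ⊔ A) (inv_mem ha)) ((le_sup_left : N ≤ N ⊔ A) hmN)
    have h3 := mul_mem (mul_mem hamn ((le_sup_right : A ≤ N ⊔ A) hy)) (inv_mem hamn)
    simpa [mul_assoc] using h3

/-- Elements whose commutators with `⟨A, B⟩` are central in it are central in it. -/
theorem rop_second_center (h : IsRankOnePair A B) {n : G} (hn : n ∈ A ⊔ B)
    (hc : ∀ x ∈ A ⊔ B, ∀ y ∈ A ⊔ B, (n * x * n⁻¹ * x⁻¹) * y = y * (n * x * n⁻¹ * x⁻¹)) :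
    ∀ x ∈ A ⊔ B, n * x = x * n := by
  have hfix : ∀ {A' B' : Subgroup G}, IsRankOnePair A' B' → A' ⊔ B' = A ⊔ B →
      conjBy A' n = A' := by
    intro A' B' h' he
    by_contra hne
    obtain ⟨a, ha, ha1⟩ := rop_exists_ne_one h'
    have haX : a ∈ A ⊔ B := he ▸ (le_sup_left : A' ≤ A' ⊔ B') ha
    have hA'X : A' ≤ A ⊔ B := he ▸ le_sup_left
    have hnX : n ∈ A' ⊔ B' := by rw [he]; exact hn
    have hmem := conj_mem_conjBy ha n
    set c := n * a * n⁻¹ * a⁻¹ with hcdef
    have hca : n * a * n⁻¹ = c * a := by rw [hcdef]; simp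
    have hcc : ∀ y ∈ A', c * y = y * c := fun y hy => hc a haX y (hA'X hy)
    have hnorm : conjBy A' (c * a) = A' := by
      rw [conjBy_mul, conjBy_of_mem ha, conjBy_of_commute hcc]
    rw [hca] at hmem
    have h1 := rop_eq_one_of_mem_normalizes h'
      (conjBy_mem_unipotent (left_mem_unipotent A' B') hnX) (left_mem_unipotent A' B') hne
      hmem hnorm
    have h2 : n * a * n⁻¹ = 1 := hca.trans h1
    exact ha1 (by simpa using h2)
  refine rop_kernel_commutes h (hfix h rfl) (hfix (rop_symm h) (sup_comm B A)) ?_ ?_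
  · intro a ha
    exact conjBy_of_commute fun b hb =>
      hc a ((le_sup_left : A ≤ A ⊔ B) ha) b ((le_sup_right : B ≤ A ⊔ B) hb)
  · intro b hb
    exact conjBy_of_commute fun a ha =>
      hc b ((le_sup_right : B ≤ A ⊔ B) hb) a ((le_sup_left : A ≤ A ⊔ B) ha)

end CfsgLib.ThreeTransp
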