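import Mathlib
import Cfsg.Agent.Lib.ThreeTransp.RankOne

/-!
`SL₂` of a field as a special rank one group.
-/

set_option autoImplicit false

namespace CfsgLib.ThreeTransp

open Cfsg

variable (k : Type*) [Field k]

/-- Upper transvection. -/
def sl2U (t : k) : Matrix.SpecialLinearGroup (Fin 2) k :=
  ⟨!![1, t; 0, 1], by simp [Matrix.det_fin_two]⟩

/-- Lower transvection. -/
def sl2L (t : k) : Matrix.SpecialLinearGroup (Fin 2) k :=
  ⟨!![1, 0; t, 1], by simp [Matrix.det_fin_two]⟩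

theorem sl2U_val (t : k) :
    ((sl2U k t : Matrix.SpecialLinearGroup (Fin 2) k) : Matrix (Fin 2) (Fin 2) k) = !![1, t; 0, 1] :=
  rfl

theorem sl2L_val (t : k) :
    ((sl2L k t : Matrix.SpecialLinearGroup (Fin 2) k) : Matrix (Fin 2) (Fin 2) k) = !![1, 0; t, 1] :=
  rfl

theorem sl2U_mul (s t : k) : sl2U k s * sl2U k t = sl2U k (s + t) := by
  apply Subtype.ext
  ext i j
  fin_cases i <;> fin_cases j <;> simp [sl2U_val, Matrix.SpecialLinearGroup.coe_mul, Matrix.mul_apply, Fin.sum_univ_two, add_comm]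

theorem sl2L_mul (s t : k) : sl2L k s * sl2L k t = sl2L k (s + t) := by
  apply Subtype.ext
  ext i j
  fin_cases i <;> fin_cases j <;> simp [sl2L_val, Matrix.SpecialLinearGroup.coe_mul, Matrix.mul_apply, Fin.sum_univ_two, add_comm]

theorem sl2U_zero : sl2U k 0 = 1 := by
  apply Subtype.ext
  ext i j
  fin_cases i <;> fin_cases j <;> simp [sl2U_val]

theorem sl2L_zero : sl2L k 0 = 1 := by
  apply Subtype.ext
  ext i j
  fin_cases i <;> fin_cases j <;> simp [sl2L_val]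

theorem sl2U_inv (t : k) : (sl2U k t)⁻¹ = sl2U k (-t) :=
  inv_eq_of_mul_eq_one_right (by rw [sl2U_mul, add_neg_cancel, sl2U_zero])

theorem sl2L_inv (t : k) : (sl2L k t)⁻¹ = sl2L k (-t) :=
  inv_eq_of_mul_eq_one_right (by rw [sl2L_mul, add_neg_cancel, sl2L_zero])

theorem mem_upperUnipotentSL2 {g : Matrix.SpecialLinearGroup (Fin 2) k} :
    g ∈ upperUnipotentSL2 k ↔ ∃ t, g = sl2U k t := by
  constructor
  · intro hg
    refine Subgroup.closure_induction ?_ ⟨0, (sl2U_zero k).symm⟩ ?_ ?_ hg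
    · rintro x ⟨h1, h2, h3⟩
      refine ⟨x.1 0 1, Subtype.ext ?_⟩
      ext i j
      fin_cases i <;> fin_cases j <;> simp [sl2U_val, h1, h2, h3]
    · rintro x y _ _ ⟨s, rfl⟩ ⟨t, rfl⟩
      exact ⟨s + t, sl2U_mul k s t⟩
    · rintro x _ ⟨s, rfl⟩
      exact ⟨-s, sl2U_inv k s⟩
  · rintro ⟨t, rfl⟩
    exact Subgroup.subset_closure ⟨by simp [sl2U_val], by simp [sl2U_val], by simp [sl2U_val]⟩

theorem mem_lowerUnipotentSL2 {g : Matrix.SpecialLinearGroup (Fin 2) k} :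
    g ∈ lowerUnipotentSL2 k ↔ ∃ t, g = sl2L k t := by
  constructor
  · intro hg
    refine Subgroup.closure_induction ?_ ⟨0, (sl2L_zero k).symm⟩ ?_ ?_ hg
    · rintro x ⟨h1, h2, h3⟩
      refine ⟨x.1 1 0, Subtype.ext ?_⟩
      ext i j
      fin_cases i <;> fin_cases j <;> simp [sl2L_val, h1, h2, h3]
    · rintro x y _ _ ⟨s, rfl⟩ ⟨t, rfl⟩
      exact ⟨s + t, sl2L_mul k s t⟩
    · rintro x _ ⟨s, rfl⟩
      exact ⟨-s, sl2L_inv k s⟩
  · rintro ⟨t, rfl⟩
    exact Subgroup.subset_closure ⟨by simp [sl2L_val], by simp [sl2L_val], by simp [sl2L_val]⟩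

theorem sl2_gen : lowerUnipotentSL2 k ⊔ upperUnipotentSL2 k = ⊤ := by
  have hL : ∀ t, sl2L k t ∈ lowerUnipotentSL2 k ⊔ upperUnipotentSL2 k := fun t =>
    (le_sup_left : lowerUnipotentSL2 k ≤ _) ((mem_lowerUnipotentSL2 k).2 ⟨t, rfl⟩)
  have hU : ∀ t, sl2U k t ∈ lowerUnipotentSL2 k ⊔ upperUnipotentSL2 k := fun t =>
    (le_sup_right : upperUnipotentSL2 k ≤ _) ((mem_upperUnipotentSL2 k).2 ⟨t, rfl⟩)
  have hmain : ∀ g : Matrix.SpecialLinearGroup (Fin 2) k, g.1 1 0 ≠ 0 →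
      g ∈ lowerUnipotentSL2 k ⊔ upperUnipotentSL2 k := by
    intro g hc
    have hdet : g.1 0 0 * g.1 1 1 - g.1 0 1 * g.1 1 0 = 1 := by
      have h0 := g.2; rwa [Matrix.det_fin_two] at h0
    have he : g = sl2U k ((g.1 0 0 - 1) / g.1 1 0) * sl2L k (g.1 1 0) *
        sl2U k ((g.1 1 1 - 1) / g.1 1 0) := by
      apply Subtype.ext
      ext i j
      fin_cases i <;> fin_cases j <;>
        simp [sl2U_val, sl2L_val, Matrix.SpecialLinearGroup.coe_mul, Matrix.mul_apply, Fin.sum_univ_two] <;> field_simp <;>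
        first
          | linear_combination (0 : k) * hdet
          | linear_combination hdet
          | linear_combination -hdet
    rw [he]
    exact mul_mem (mul_mem (hU _) (hL _)) (hU _)
  rw [eq_top_iff]
  intro g _
  by_cases hc : g.1 1 0 = 0
  · have hdet : g.1 0 0 * g.1 1 1 - g.1 0 1 * g.1 1 0 = 1 := by
      have h0 := g.2; rwa [Matrix.det_fin_two] at h0
    have h00 : g.1 0 0 ≠ 0 := fun h => by simp [h, hc] at hdet
    have h1 := hmain (sl2L k 1 * g)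
      (by simp [sl2L_val, Matrix.SpecialLinearGroup.coe_mul, Matrix.mul_apply, Fin.sum_univ_two, hc, h00])
    have h2 := mul_mem (inv_mem (hL 1)) h1
    rwa [inv_mul_cancel_left] at h2
  · exact hmain g hc

theorem sl2_conj (u t s : k) (hst : s * t = 1) :
    sl2U k (-s) * sl2L k u * sl2U k s = sl2L k (-t) * sl2U k (-(s * s * u)) * sl2L k t := by
  apply Subtype.ext
  ext i j
  fin_cases i <;> fin_cases j <;>
    simp [sl2U_val, sl2L_val, Matrix.SpecialLinearGroup.coe_mul, Matrix.mul_apply, Fin.sum_univ_two]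
  · linear_combination (-(s * u)) * hst
  · ring
  · linear_combination (-(u * (s * t + 1))) * hst
  · linear_combination (-(s * u)) * hst

theorem sl2_conjBy_eq (t s : k) (hst : s * t = 1) :
    conjBy (lowerUnipotentSL2 k) (sl2U k s)⁻¹ = conjBy (upperUnipotentSL2 k) (sl2L k t)⁻¹ := by
  have hs0 : s ≠ 0 := left_ne_zero_of_mul_eq_one hst
  have hu : ∀ u, (sl2U k s)⁻¹ * sl2L k u * sl2U k s =
      (sl2L k t)⁻¹ * sl2U k (-(s * s * u)) * sl2L k t := fun u => by
    rw [sl2U_inv, sl2L_inv]; exact sl2_conj k u t s hst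
  ext x
  rw [mem_conjBy, mem_conjBy, inv_inv, inv_inv, mem_lowerUnipotentSL2, mem_upperUnipotentSL2]
  constructor
  · rintro ⟨u, hx⟩
    refine ⟨-(s * s * u), ?_⟩
    have hx' : x = (sl2U k s)⁻¹ * sl2L k u * sl2U k s := by rw [← hx]; simp [mul_assoc]
    rw [hx', hu u]; simp [mul_assoc]
  · rintro ⟨v, hx⟩
    refine ⟨-(v / (s * s)), ?_⟩
    have hx' : x = (sl2L k t)⁻¹ * sl2U k v * sl2L k t := by rw [← hx]; simp [mul_assoc]
    have hv : -(s * s * (-(v / (s * s)))) = v := by field_simp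
    rw [hx', ← hv, ← hu, hv]; simp [mul_assoc]

theorem sl2_rankOnePair : IsRankOnePair (lowerUnipotentSL2 k) (upperUnipotentSL2 k) ∧
    HasAbelianUnipotents (lowerUnipotentSL2 k) (upperUnipotentSL2 k) := by
  have hab : HasAbelianUnipotents (lowerUnipotentSL2 k) (upperUnipotentSL2 k) := by
    constructor
    · refine ⟨⟨fun x y => Subtype.ext ?_⟩⟩
      obtain ⟨s, hs⟩ := (mem_lowerUnipotentSL2 k).1 x.2
      obtain ⟨t, ht⟩ := (mem_lowerUnipotentSL2 k).1 y.2
      show x.1 * y.1 = y.1 * x.1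
      rw [hs, ht, sl2L_mul, sl2L_mul, add_comm]
    · refine ⟨⟨fun x y => Subtype.ext ?_⟩⟩
      obtain ⟨s, hs⟩ := (mem_upperUnipotentSL2 k).1 x.2
      obtain ⟨t, ht⟩ := (mem_upperUnipotentSL2 k).1 y.2
      show x.1 * y.1 = y.1 * x.1
      rw [hs, ht, sl2U_mul, sl2U_mul, add_comm]
  refine ⟨⟨?_, ?_, ?_, ?_, ?_⟩, hab⟩
  · intro he
    have h1 : sl2L k 1 ∈ upperUnipotentSL2 k := he ▸ (mem_lowerUnipotentSL2 k).2 ⟨1, rfl⟩
    obtain ⟨t, ht⟩ := (mem_upperUnipotentSL2 k).1 h1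
    have h2 := congrArg (fun g : Matrix.SpecialLinearGroup (Fin 2) k => g.1 1 0) ht
    simp [sl2L_val, sl2U_val] at h2
  · exact ⟨1, (Subgroup.upperCentralSeries_one _).trans
      (eq_top_iff.2 fun x _ => Subgroup.mem_center_iff.2 fun y => hab.1.is_comm.comm y x)⟩
  · exact ⟨1, (Subgroup.upperCentralSeries_one _).trans
      (eq_top_iff.2 fun x _ => Subgroup.mem_center_iff.2 fun y => hab.2.is_comm.comm y x)⟩
  · intro a ha ha1
    obtain ⟨t, rfl⟩ := (mem_lowerUnipotentSL2 k).1 ha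
    have ht : t ≠ 0 := fun h => ha1 (by rw [h, sl2L_zero])
    refine ⟨sl2U k (1 / t), (mem_upperUnipotentSL2 k).2 ⟨_, rfl⟩, fun h => ?_,
      sl2_conjBy_eq k t (1 / t) (by field_simp)⟩
    have h2 := congrArg (fun g : Matrix.SpecialLinearGroup (Fin 2) k => g.1 0 1) h
    simp [sl2U_val, ht] at h2
  · intro b hb hb1
    obtain ⟨s, rfl⟩ := (mem_upperUnipotentSL2 k).1 hb
    have hs : s ≠ 0 := fun h => hb1 (by rw [h, sl2U_zero])
    refine ⟨sl2L k (1 / s), (mem_lowerUnipotentSL2 k).2 ⟨_, rfl⟩, fun h => ?_,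
      (sl2_conjBy_eq k (1 / s) s (by field_simp)).symm⟩
    have h2 := congrArg (fun g : Matrix.SpecialLinearGroup (Fin 2) k => g.1 1 0) h
    simp [sl2L_val, hs] at h2

theorem sl2_special :
    IsSpecialRankOnePair (lowerUnipotentSL2 k) (upperUnipotentSL2 k) := by
  obtain ⟨h, -⟩ := sl2_rankOnePair k
  refine ⟨h, fun a ha ha1 b hb hb1 he => ?_⟩
  obtain ⟨t, rfl⟩ := (mem_lowerUnipotentSL2 k).1 ha
  have ht : t ≠ 0 := fun h => ha1 (by rw [h, sl2L_zero])
  have hst : 1 / t * t = 1 := by field_simp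
  have hb' : b = sl2U k (1 / t) := by
    have h1 := rop_eq_one_of_normalizes (rop_symm h)
      (mul_mem ((mem_upperUnipotentSL2 k).2 ⟨1 / t, rfl⟩) (inv_mem hb))
      (by rw [conjBy_mul, he, ← sl2_conjBy_eq k t (1 / t) hst, conjBy_conjBy_inv])
    exact (mul_inv_eq_one.1 h1).symm
  subst hb'
  have h1 := sl2_conj k t t (1 / t) hst
  have h2 : -(1 / t * (1 / t) * t) = -(1 / t) := by field_simp
  rw [sl2U_inv, sl2L_inv, h1, h2]

end CfsgLib.ThreeTransp
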