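import Mathlib
import Cfsg.Agent.Lib.ThreeTransp.SL2
import Cfsg.Agent.Lib.ThreeTransp.NormalChain
import Cfsg.Agent.Lib.OddOrder.Dickson

/-!
Dickson's lemma over an arbitrary base field: if `α` generates `K` over `k` (algebraically, odd
characteristic, `|k| ≠ 3`) then the upper transvections over `k` and the lower ones over `k α`
generate `SL₂(K)`.
-/

set_option autoImplicit false
set_option linter.unusedSectionVars false

namespace CfsgLib.ThreeTransp

open Cfsg Polynomial
open CfsgLib.Classical (uSL lSL uSL_coe lSL_coe)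
open scoped CfsgLib.OddOrder.SL2 OnePoint

variable {k K : Type*} [Field k] [Field K] [Algebra k K]

/-- The group generated by the two root groups. -/
def pairGroup (k : Type*) {K : Type*} [Field k] [Field K] [Algebra k K] (α : K) :
    Subgroup (Matrix.SpecialLinearGroup (Fin 2) K) :=
  Subgroup.closure (Set.range (fun c : k => sl2U K (algebraMap k K c)) ∪
    Set.range (fun c : k => sl2L K (algebraMap k K c * α)))

theorem pairGroup_U (α : K) (c : k) : sl2U K (algebraMap k K c) ∈ pairGroup k α :=
  Subgroup.subset_closure (Or.inl ⟨c, rfl⟩)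

theorem pairGroup_L (α : K) (c : k) : sl2L K (algebraMap k K c * α) ∈ pairGroup k α :=
  Subgroup.subset_closure (Or.inr ⟨c, rfl⟩)

/-- The additive group of upper transvections in the group. -/
def uSet (H : Subgroup (Matrix.SpecialLinearGroup (Fin 2) K)) : AddSubgroup K where
  carrier := {r | sl2U K r ∈ H}
  zero_mem' := by
    show sl2U K 0 ∈ H
    rw [sl2U_zero]; exact one_mem H
  add_mem' := by
    intro a b ha hb
    show sl2U K (a + b) ∈ H
    rw [← sl2U_mul]; exact mul_mem ha hb
  neg_mem' := by
    intro a ha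
    show sl2U K (-a) ∈ H
    rw [← sl2U_inv]; exact inv_mem ha

theorem eq_top_of_uSet {H : Subgroup (Matrix.SpecialLinearGroup (Fin 2) K)}
    (hU : ∀ r, sl2U K r ∈ H) {α : K} (hα : α ≠ 0) (hL : sl2L K α ∈ H) : H = ⊤ := by
  obtain ⟨g, hg⟩ : ∃ g, g = sl2U K (-1 / α) * sl2L K α * sl2U K (-1 / α) := ⟨_, rfl⟩
  have hgH : g ∈ H := hg ▸ mul_mem (mul_mem (hU _) hL) (hU _)
  have hgv : (g : Matrix (Fin 2) (Fin 2) K) = !![0, -1 / α; α, 0] := by
    ext i j
    fin_cases i <;> fin_cases j <;>
      simp [hg, Matrix.SpecialLinearGroup.coe_mul, Matrix.mul_apply, Fin.sum_univ_two, sl2U_val,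
        sl2L_val] <;> field_simp <;> simp [hα] <;> ring
  have hLall : ∀ r, sl2L K r ∈ H := by
    intro r
    have : sl2L K r * g = g * sl2U K (-r / (α * α)) := by
      apply Subtype.ext
      rw [Matrix.SpecialLinearGroup.coe_mul, Matrix.SpecialLinearGroup.coe_mul, hgv, sl2U_val,
        sl2L_val]
      ext i j
      fin_cases i <;> fin_cases j <;> simp [Matrix.mul_apply, Fin.sum_univ_two] <;>
        field_simp <;> ring
    rw [eq_mul_inv_of_mul_eq this]
    exact mul_mem (mul_mem hgH (hU _)) (inv_mem hgH)
  rw [eq_top_iff, ← sl2_gen K]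
  refine sup_le ?_ ?_
  · intro x hx
    obtain ⟨t, rfl⟩ := (mem_lowerUnipotentSL2 K).1 hx
    exact hLall t
  · intro x hx
    obtain ⟨t, rfl⟩ := (mem_upperUnipotentSL2 K).1 hx
    exact hU t

/-- Chains give group elements. -/
theorem reach_of_chain (α : K) {P Q : k[X]} (h : NormalChain.Chain P Q) :
    ∃ g ∈ pairGroup k α, (g : Matrix (Fin 2) (Fin 2) K) 1 0 = α * aeval α P ∧
      (g : Matrix (Fin 2) (Fin 2) K) 1 1 = aeval α Q := by
  induction h with
  | base b =>
    refine ⟨_, pairGroup_L α b, ?_, ?_⟩ <;> simp [sl2L_val, mul_comm]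
  | step a b _ ih =>
    obtain ⟨g, hg, h0, h1⟩ := ih
    refine ⟨g * sl2U K (algebraMap k K a) * sl2L K (algebraMap k K b * α),
      mul_mem (mul_mem hg (pairGroup_U α a)) (pairGroup_L α b), ?_, ?_⟩
    · simp [Matrix.SpecialLinearGroup.coe_mul, Matrix.mul_apply, Fin.sum_univ_two, sl2U_val,
        sl2L_val, h0, h1]
      ring
    · simp [Matrix.SpecialLinearGroup.coe_mul, Matrix.mul_apply, Fin.sum_univ_two, sl2U_val,
        sl2L_val, h0, h1]
      ring

/-- Infinite base field. -/
theorem pairGroup_eq_top_infinite [Infinite k] [FiniteDimensional k K] (h2 : (2 : K) ≠ 0) {α : K}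
    (hα : α ≠ 0) (hgen : Algebra.adjoin k ({α} : Set K) = ⊤) : pairGroup k α = ⊤ := by
  classical
  set H := pairGroup k α with hH
  have hint : IsIntegral k α := IsIntegral.of_finite k α
  set P := minpoly k α with hP
  set n := P.natDegree with hn
  obtain ⟨F, hF, hgood⟩ := NormalChain.exists_generic (minpoly.monic hint) hn.symm
  set lam : (Fin n → k) → K := fun x => aeval α (NormalChain.candQ x) with hlam
  have hstab : ∀ x, MvPolynomial.eval x F ≠ 0 → ∀ r ∈ uSet H, lam x * lam x * r ∈ uSet H := by
    intro x hx r hr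
    obtain ⟨g, hg, h0, h1⟩ := reach_of_chain α (hgood x hx)
    rw [show aeval α P = 0 from minpoly.aeval k α, mul_zero] at h0
    have hd := g.2
    rw [Matrix.det_fin_two, h0, mul_zero, sub_zero, h1] at hd
    have e : sl2U K (lam x * lam x * r) = g⁻¹ * sl2U K r * g := by
      rw [mul_assoc g⁻¹, eq_inv_mul_iff_mul_eq]
      apply Subtype.ext
      rw [Matrix.SpecialLinearGroup.coe_mul, Matrix.SpecialLinearGroup.coe_mul, sl2U_val, sl2U_val]
      ext i j
      fin_cases i <;> fin_cases j <;> simp [Matrix.mul_apply, Fin.sum_univ_two, h0, h1, hlam]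
      linear_combination (aeval α (NormalChain.candQ x) * r) * hd
    show sl2U K (lam x * lam x * r) ∈ H
    rw [e]
    exact mul_mem (mul_mem (inv_mem hg) hr) hg
  let V : Submodule k K :=
    { carrier := {r | ∀ c : k, c • r ∈ uSet H}
      zero_mem' := fun c => by rw [smul_zero]; exact zero_mem _
      add_mem' := fun ha hb c => by rw [smul_add]; exact add_mem (ha c) (hb c)
      smul_mem' := fun d r hr c => by rw [smul_smul]; exact hr _ }
  have hsq : ∀ x, MvPolynomial.eval x F ≠ 0 → lam x * lam x ∈ V := by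
    intro x hx c
    rw [Algebra.smul_def, mul_comm]
    exact hstab x hx _ (pairGroup_U α c)
  have hV : V = ⊤ := by
    by_contra hne
    obtain ⟨φ, hφ0, hφ⟩ := Submodule.exists_dual_map_eq_bot_of_lt_top (lt_top_iff_ne_top.2 hne)
      inferInstance
    let G : MvPolynomial (Fin n) k := MvPolynomial.C (φ 1) +
      ∑ i : Fin n, MvPolynomial.C (2 * φ (α ^ ((i : ℕ) + 1))) * MvPolynomial.X i +
      ∑ i : Fin n, ∑ j : Fin n, MvPolynomial.C (φ (α ^ ((i : ℕ) + 1) * α ^ ((j : ℕ) + 1))) *
        (MvPolynomial.X i * MvPolynomial.X j)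
    have hG : ∀ x, MvPolynomial.eval x G = φ (lam x * lam x) := by
      intro x
      have hl : lam x = 1 + ∑ i : Fin n, x i • α ^ ((i : ℕ) + 1) := by
        simp [hlam, NormalChain.candQ, NormalChain.vecPoly, map_sum, Algebra.smul_def]
      rw [hl]
      simp only [G, map_add, map_sum, map_mul, MvPolynomial.eval_C, MvPolynomial.eval_X, add_mul,
        mul_add, one_mul, mul_one, Finset.sum_mul, Finset.mul_sum, smul_mul_assoc, mul_smul_comm,
        map_smul, smul_eq_mul]
      have : ∀ i : Fin n, 2 * φ (α ^ ((i : ℕ) + 1)) * x i =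
          x i * φ (α ^ ((i : ℕ) + 1)) + x i * φ (α ^ ((i : ℕ) + 1)) := fun i => by ring
      simp only [this, Finset.sum_add_distrib]
      have h3 : ∀ i j : Fin n, φ (α ^ ((i : ℕ) + 1) * α ^ ((j : ℕ) + 1)) * (x i * x j) =
          x j * (x i * φ (α ^ ((i : ℕ) + 1) * α ^ ((j : ℕ) + 1))) := fun i j => by ring
      simp only [h3]
      rw [Finset.sum_comm]
      ring
    have hFG : F * G = 0 := MvPolynomial.funext fun x => by
      rw [map_mul, map_zero, hG]
      by_cases hx : MvPolynomial.eval x F = 0
      · rw [hx, zero_mul]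
      · have : φ (lam x * lam x) ∈ V.map φ := ⟨_, hsq x hx, rfl⟩
        rw [hφ, Submodule.mem_bot] at this
        rw [this, mul_zero]
    have hG0 : G = 0 := (mul_eq_zero.1 hFG).resolve_left hF
    have hall : ∀ y : K, φ (y * y) = 0 := by
      intro y
      obtain ⟨q, hq⟩ : ∃ q : k[X], aeval α q = (y - 1) / α := by
        have : (y - 1) / α ∈ Algebra.adjoin k ({α} : Set K) := by rw [hgen]; trivial
        rwa [Algebra.adjoin_singleton_eq_range_aeval] at this
      set r := q %ₘ P with hr
      have hrd : r.degree < P.degree := degree_modByMonic_lt _ (minpoly.monic hint)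
      have hra : aeval α r = (y - 1) / α := by
        rw [← hq]
        conv_rhs => rw [← modByMonic_add_div q P]
        rw [map_add, map_mul, hP, minpoly.aeval, zero_mul, add_zero]
      have hlx : lam (fun i : Fin n => r.coeff i) = y := by
        have hrep : r = NormalChain.vecPoly 0 fun i : Fin n => r.coeff ((i : ℕ) + 0) := by
          refine NormalChain.eq_vecPoly 0 fun t ht => coeff_eq_zero_of_degree_lt ?_
          rw [degree_eq_natDegree (minpoly.ne_zero hint)] at hrd
          exact lt_of_lt_of_le hrd (by exact_mod_cast (show n ≤ t by omega))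
        have hcq : NormalChain.candQ (fun i : Fin n => r.coeff i) = 1 + X * r := by
          conv_rhs => rw [hrep]
          simp [NormalChain.candQ, NormalChain.vecPoly, Finset.mul_sum, pow_succ']
          refine Finset.sum_congr rfl fun i _ => ?_
          ring
        show aeval α (NormalChain.candQ _) = y
        rw [hcq, map_add, map_one, map_mul, aeval_X, hra]
        field_simp
        ring
      have := hG (fun i : Fin n => r.coeff i)
      rw [hG0, map_zero, hlx] at this
      exact this.symm
    apply hφ0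
    refine LinearMap.ext fun y => ?_
    have h1 := hall (y + 1)
    have h2' : (y + 1) * (y + 1) = y * y + (2 : k) • y + 1 := by
      rw [show (2 : k) • y = y + y from two_smul k y]; ring
    rw [h2', map_add, map_add, map_smul, hall y, show φ (1 : K) = 0 from by
      simpa using hall 1, add_zero, zero_add, smul_eq_mul, mul_eq_zero] at h1
    rcases h1 with h1 | h1
    · exact absurd (by rw [← map_ofNat (algebraMap k K) 2, h1, map_zero]) h2
    · exact h1
  have hU : ∀ r, sl2U K r ∈ H := fun r => by
    have h := (show r ∈ V by rw [hV]; trivial) 1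
    rw [one_smul] at h
    exact h
  exact eq_top_of_uSet hU hα (by simpa using pairGroup_L (k := k) α 1)

/-- Finite base field. -/
theorem pairGroup_eq_top_finite [Finite k] [FiniteDimensional k K] (h2 : (2 : K) ≠ 0)
    (h3 : Nat.card k ≠ 3) {α : K} (hα : α ≠ 0)
    (hgen : Algebra.adjoin k ({α} : Set K) = ⊤) : pairGroup k α = ⊤ := by
  classical
  haveI : Finite K := Module.finite_of_finite k
  set H := pairGroup k α with hH
  by_cases hin : α ∈ Set.range (algebraMap k K)
  · obtain ⟨a, rfl⟩ := hin
    have hall : ∀ r : K, r ∈ Set.range (algebraMap k K) := by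
      intro r
      have : r ∈ Algebra.adjoin k ({algebraMap k K a} : Set K) := by rw [hgen]; trivial
      exact Algebra.mem_bot.1 ((Algebra.adjoin_le (by
        rintro x rfl; exact Algebra.mem_bot.2 ⟨a, rfl⟩) :
        Algebra.adjoin k ({algebraMap k K a} : Set K) ≤ ⊥) this)
    refine eq_top_of_uSet (fun r => ?_) hα (by simpa using pairGroup_L (k := k) (algebraMap k K a) 1)
    obtain ⟨c, rfl⟩ := hall r
    exact pairGroup_U _ c
  obtain ⟨p, hpk⟩ := CharP.exists k
  haveI := hpk
  haveI hp : Fact p.Prime := ⟨CharP.char_is_prime k p⟩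
  set L := AlgebraicClosure K
  haveI : CharP K p := charP_of_injective_algebraMap (algebraMap k K).injective p
  haveI : CharP L p := charP_of_injective_algebraMap (algebraMap K L).injective p
  have hp2 : p ≠ 2 := fun h => h2 (by
    have := CharP.cast_eq_zero K p
    rw [h] at this
    exact_mod_cast this)
  set f := algebraMap K L with hf
  set Φ := Matrix.SpecialLinearGroup.map (n := Fin 2) f with hΦ
  have hΦU : ∀ r, Φ (sl2U K r) = uSL (f r) := fun r => by
    apply Subtype.ext
    ext i j
    fin_cases i <;> fin_cases j <;> simp [hΦ, uSL_coe, sl2U_val]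
  have hΦL : ∀ r, Φ (sl2L K r) = lSL (f r) := fun r => by
    apply Subtype.ext
    ext i j
    fin_cases i <;> fin_cases j <;> simp [hΦ, lSL_coe, sl2L_val]
  have hΦi : Function.Injective Φ := fun g g' h => by
    apply Subtype.ext
    ext i j
    have := congrArg (fun m : Matrix.SpecialLinearGroup (Fin 2) L => m.1 i j) h
    exact f.injective (by simpa [hΦ] using this)
  set H' := H.map Φ with hH'
  have hu : uSL (1 : L) ∈ H' := ⟨_, pairGroup_U α 1, by rw [hΦU, map_one, map_one]⟩
  have hfα : f α ≠ 0 := by rwa [_root_.map_ne_zero]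
  have hw : lSL (f α) ∈ H' := ⟨_, pairGroup_L α 1, by rw [hΦL, map_one, one_mul]⟩
  haveI : Finite H' := Finite.of_surjective (fun g : H => (⟨Φ g, g, g.2, rfl⟩ : H'))
    fun ⟨_, g, hg, h⟩ => ⟨⟨g, hg⟩, Subtype.ext h⟩
  rcases CfsgLib.OddOrder.SL2.dickson_count hp2 H' hu hfα hw with hcard | ⟨hp3, hS⟩
  · -- the field case
    have hw1 := CfsgLib.OddOrder.SL2.lSL_one_mem hp2 H' hu hfα hw hcard
    set S := CfsgLib.OddOrder.SL2.poleSet H'
    have hL1 : sl2L K 1 ∈ H := by
      obtain ⟨g, hg, hge⟩ := hw1
      rw [show sl2L K 1 = g from hΦi (by rw [hge, hΦL, map_one])]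
      exact hg
    have hU1 : sl2U K 1 ∈ H := by simpa using pairGroup_U (k := k) α 1
    obtain ⟨w, hwdef⟩ : ∃ w, w = sl2U K 1 * (sl2L K 1)⁻¹ * sl2U K 1 := ⟨_, rfl⟩
    have hwH : w ∈ H := hwdef ▸ mul_mem (mul_mem hU1 (inv_mem hL1)) hU1
    have hwv : (w : Matrix (Fin 2) (Fin 2) K) = !![0, 1; -1, 0] := by
      rw [hwdef, sl2L_inv]
      ext i j
      fin_cases i <;> fin_cases j <;>
        simp [Matrix.SpecialLinearGroup.coe_mul, Matrix.mul_apply, Fin.sum_univ_two, sl2U_val,
          sl2L_val]
    have hwα : ∀ c : k, algebraMap k K c * α ∈ uSet H := by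
      intro c
      show sl2U K _ ∈ H
      have e : sl2U K (algebraMap k K c * α) = w * sl2L K (algebraMap k K (-c) * α) * w⁻¹ := by
        rw [eq_mul_inv_iff_mul_eq]
        apply Subtype.ext
        rw [Matrix.SpecialLinearGroup.coe_mul, Matrix.SpecialLinearGroup.coe_mul, hwv, sl2U_val,
          sl2L_val]
        ext i j
        fin_cases i <;> fin_cases j <;> simp [Matrix.mul_apply, Fin.sum_univ_two]
      rw [e]
      exact mul_mem (mul_mem hwH (pairGroup_L α (-c))) (inv_mem hwH)
    -- the poles are exactly the translations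
    have hXE : ∀ y : L, y ∈ S → ∃ x ∈ uSet H, f x = y := by
      have hsub : (CfsgLib.OddOrder.SL2.upperGroup H' : Set L) ⊆ S := by
        intro b hb
        have h0 : ∃ g : H', g.1 • (OnePoint.infty : OnePoint L) = ((0 : L) : OnePoint L) := by
          refine ⟨⟨Φ w, w, hwH, rfl⟩, ?_⟩
          show Φ w • _ = _
          simp [CfsgLib.OddOrder.SL2.smul_infty, hΦ, hwv]
        obtain ⟨g, hg⟩ := h0
        refine ⟨(⟨uSL b, hb⟩ : H') * g, ?_⟩
        show ((⟨uSL b, hb⟩ : H') * g).1 • (OnePoint.infty : OnePoint L) = _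
        rw [Subgroup.coe_mul, mul_smul, hg]
        simp [CfsgLib.OddOrder.SL2.smul_some, uSL_coe]
      have hfin : S.Finite :=
        Set.Finite.preimage (OnePoint.coe_injective.injOn)
          (Set.finite_range (fun g : H' => g • (OnePoint.infty : OnePoint L)))
      have heq : (CfsgLib.OddOrder.SL2.upperGroup H' : Set L) = S :=
        Set.eq_of_subset_of_ncard_le hsub (by rw [← hcard, ← Nat.card_coe_set_eq]; rfl) hfin
      intro y hy
      rw [← heq] at hy
      obtain ⟨g, hg, hge⟩ := (hy : uSL y ∈ H')
      have h01 : f ((g : Matrix (Fin 2) (Fin 2) K) 0 1) = y := by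
        have := congrArg (fun m : Matrix.SpecialLinearGroup (Fin 2) L => m.1 0 1) hge
        simpa [hΦ, uSL_coe] using this
      refine ⟨_, ?_, h01⟩
      show sl2U K _ ∈ H
      rw [show sl2U K _ = g from hΦi (by rw [hΦU, h01, hge])]
      exact hg
    have hinv : ∀ x ∈ uSet H, x ≠ 0 → -1 / x ∈ uSet H := by
      intro x hx hx0
      have hmem : f (-1 / x) * 1 ∈ S := by
        rw [mul_one]
        -- `w (x + ·)` maps `∞` to `-1/x`
        refine ⟨⟨Φ (w⁻¹ * sl2U K x * w), _, mul_mem (mul_mem (inv_mem hwH) hx) hwH, rfl⟩, ?_⟩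
        show Φ (w⁻¹ * sl2U K x * w) • (OnePoint.infty : OnePoint L) = _
        have hm : ((w⁻¹ * sl2U K x * w : Matrix.SpecialLinearGroup (Fin 2) K) :
            Matrix (Fin 2) (Fin 2) K) = !![1, 0; -x, 1] := by
          simp [Matrix.SpecialLinearGroup.coe_mul, Matrix.SpecialLinearGroup.coe_inv, hwv,
            sl2U_val, Matrix.adjugate_fin_two]
        simp [CfsgLib.OddOrder.SL2.smul_infty, hΦ, hwv, sl2U_val, Matrix.adjugate_fin_two,
          Matrix.mul_apply, Matrix.vecMul, dotProduct, Matrix.map_apply, Fin.sum_univ_two, hx0,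
          neg_div]
        ring
      obtain ⟨y, hy, hye⟩ := hXE _ hmem
      rw [mul_one] at hye
      rw [← f.injective hye]; exact hy
    have hone : (1 : K) ∈ uSet H := hU1
    have hsq : ∀ x ∈ uSet H, x * x ∈ uSet H := by
      intro x hx
      rcases eq_or_ne x 0 with rfl | hx0
      · simpa using zero_mem (uSet H)
      rcases eq_or_ne x (-1) with rfl | hx1
      · simpa using hone
      have hx1' : x + 1 ≠ 0 := fun h => hx1 (eq_neg_of_add_eq_zero_left h)
      have hd := sub_mem (hinv _ (add_mem hx hone) hx1') (hinv x hx hx0)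
      have hd' : (-1 : K) / (x + 1) - -1 / x = 1 / (x * x + x) := by field_simp; ring
      rw [hd'] at hd
      have h0 : x * x + x ≠ 0 := by
        rw [show x * x + x = x * (x + 1) by ring]; exact mul_ne_zero hx0 hx1'
      have hd2 := hinv _ hd (one_div_ne_zero h0)
      rw [show (-1 : K) / (1 / (x * x + x)) = -(x * x + x) by field_simp] at hd2
      have := sub_mem (neg_mem hd2) hx
      simpa using this
    have hmul : ∀ x ∈ uSet H, ∀ y ∈ uSet H, x * y ∈ uSet H := by
      intro x hx y hy
      have h := sub_mem (sub_mem (hsq _ (add_mem hx hy)) (hsq x hx)) (hsq y hy)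
      have h' : (x + y) * (x + y) - x * x - y * y = 2 * (x * y) := by ring
      rw [h'] at h
      obtain ⟨m, hm⟩ : Odd p := (Fact.out : p.Prime).odd_of_ne_two hp2
      have h'' := nsmul_mem h (m + 1)
      rw [nsmul_eq_mul, ← mul_assoc] at h''
      have e : ((m + 1 : ℕ) : K) * 2 = 1 := by
        have h0 := CharP.cast_eq_zero K p
        rw [hm] at h0
        push_cast at h0 ⊢
        linear_combination h0
      rwa [e, one_mul] at h''
    let A : Subalgebra k K :=
      { carrier := uSet H
        mul_mem' := fun {a b} ha hb => hmul a ha b hb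
        one_mem' := hone
        add_mem' := fun {a b} ha hb => add_mem ha hb
        zero_mem' := zero_mem _
        algebraMap_mem' := fun c => pairGroup_U α c }
    have hA : A = ⊤ := by
      rw [eq_top_iff, ← hgen, Algebra.adjoin_le_iff, Set.singleton_subset_iff]
      have := hwα 1
      rwa [map_one, one_mul] at this
    exact eq_top_of_uSet (fun r => (show r ∈ A by rw [hA]; trivial)) hα
      (by simpa using pairGroup_L (k := k) α 1)
  · -- characteristic three
    exfalso
    subst hp3
    haveI := Fintype.ofFinite k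
    obtain ⟨m, -, hm⟩ := FiniteField.card k 3
    have hk9 : 9 ≤ Fintype.card k := by
      have h1 : (m : ℕ) ≠ 1 := fun h => h3 (by rw [Nat.card_eq_fintype_card, hm, h, pow_one])
      have h2 : 2 ≤ (m : ℕ) := by have := m.pos; omega
      rw [hm]
      calc 9 = 3 ^ 2 := by norm_num
        _ ≤ 3 ^ (m : ℕ) := Nat.pow_le_pow_right (by norm_num) h2
    obtain ⟨Pp, hPp⟩ : ∃ Pp : L[X], Pp = X ^ 9 - X := ⟨_, rfl⟩
    have hroot : ∀ c : k, f (2 + algebraMap k K c * α) ∈ Pp.roots.toFinset := by
      intro c
      have hg : uSL (f (algebraMap k K c)) * lSL (f α) ∈ H' :=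
        mul_mem ⟨_, pairGroup_U α c, hΦU _⟩ hw
      have htr : CfsgLib.OddOrder.SL2.tr (uSL (f (algebraMap k K c)) * lSL (f α)) =
          f (2 + algebraMap k K c * α) := by
        simp [CfsgLib.OddOrder.SL2.tr, Matrix.mul_apply, Fin.sum_univ_two, uSL_coe, lSL_coe,
          map_add, map_mul, map_ofNat]
        ring
      rw [Multiset.mem_toFinset, mem_roots (hPp ▸ FiniteField.X_pow_card_sub_X_ne_zero L (by norm_num)),
        IsRoot, hPp, eval_sub, eval_pow, eval_X, sub_eq_zero]
      rcases hS _ hg with h | h | h <;> rw [htr] at h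
      · rw [h]; ring
      · linear_combination (f (2 + algebraMap k K c * α) ^ 5 + f (2 + algebraMap k K c * α)) * h
      · linear_combination (f (2 + algebraMap k K c * α) ^ 5 - f (2 + algebraMap k K c * α)) * h
    have hcardR : Pp.roots.toFinset.card ≤ 9 :=
      (Multiset.toFinset_card_le _).trans ((card_roots' _).trans
        (le_of_eq (hPp ▸ FiniteField.X_pow_card_sub_X_natDegree_eq L (by norm_num))))
    have hinj : Function.Injective fun c : k => f (2 + algebraMap k K c * α) := by
      intro c d h
      exact (algebraMap k K).injective (mul_right_cancel₀ hα (add_left_cancel (f.injective h)))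
    have himg : (Finset.univ.image fun c : k => f (2 + algebraMap k K c * α)) = Pp.roots.toFinset := by
      refine Finset.eq_of_subset_of_card_le (fun y hy => ?_) ?_
      · obtain ⟨c, -, rfl⟩ := Finset.mem_image.1 hy
        exact hroot c
      · rw [Finset.card_image_of_injective _ hinj, Finset.card_univ]; omega
    have hc9 : Fintype.card k = 9 := by
      have := congrArg Finset.card himg
      rw [Finset.card_image_of_injective _ hinj, Finset.card_univ] at this
      omega
    have hk : ∀ c : k, f (algebraMap k K c) ∈ Pp.roots.toFinset := by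
      intro c
      rw [Multiset.mem_toFinset, mem_roots (hPp ▸ FiniteField.X_pow_card_sub_X_ne_zero L (by norm_num)),
        IsRoot, hPp, eval_sub, eval_pow, eval_X, sub_eq_zero, ← map_pow, ← map_pow, ← hc9,
        FiniteField.pow_card]
    have himg' : (Finset.univ.image fun c : k => f (algebraMap k K c)) = Pp.roots.toFinset := by
      refine Finset.eq_of_subset_of_card_le (fun y hy => ?_) ?_
      · obtain ⟨c, -, rfl⟩ := Finset.mem_image.1 hy
        exact hk c
      · rw [Finset.card_image_of_injective _ (fun a b h => (algebraMap k K).injective (f.injective h)),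
          Finset.card_univ]
        omega
    have hmem := hroot 1
    rw [← himg', Finset.mem_image] at hmem
    obtain ⟨c, -, hc⟩ := hmem
    apply hin
    refine ⟨c - 2, ?_⟩
    have := f.injective hc
    rw [map_sub, map_ofNat, this, map_one, one_mul]
    ring

/-- Dickson's lemma. -/
theorem pairGroup_eq_top [FiniteDimensional k K] (h2 : (2 : K) ≠ 0) (h3 : Nat.card k ≠ 3) {α : K}
    (hα : α ≠ 0) (hgen : Algebra.adjoin k ({α} : Set K) = ⊤) : pairGroup k α = ⊤ := by
  rcases finite_or_infinite k with h | h
  · exact pairGroup_eq_top_finite h2 h3 hα hgen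
  · exact pairGroup_eq_top_infinite h2 hα hgen

end CfsgLib.ThreeTransp
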