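import Mathlib
import Cfsg.Prelude.Def_FischerSpaces
import Cfsg.Agent.Lib.Involutions.Dihedral

/-!
Basic facts on sets of 3-transpositions and on products of two involutions of a conjugation-closed set.
-/

set_option autoImplicit false

namespace CfsgLib.ThreeTransp

open Cfsg CfsgLib.Involutions

variable {G : Type*} [Group G]

theorem commute_conj_iff {x y : G} (g : G) :
    Commute (g * x * g⁻¹) (g * y * g⁻¹) ↔ Commute x y := by
  constructor
  · intro h
    have h1 : g * x * g⁻¹ * (g * y * g⁻¹) = g * y * g⁻¹ * (g * x * g⁻¹) := h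
    have h2 := congrArg (fun t => g⁻¹ * t * g) h1
    simpa [Commute, SemiconjBy, mul_assoc] using h2
  · intro h
    show g * x * g⁻¹ * (g * y * g⁻¹) = g * y * g⁻¹ * (g * x * g⁻¹)
    simp [mul_assoc]
    rw [← mul_assoc x y, h.eq, mul_assoc]

theorem invol_commute_iff {x y : G} (hx : orderOf x = 2) (hy : orderOf y = 2) :
    Commute x y ↔ (x * y) ^ 2 = 1 := by
  constructor
  · intro h
    rw [h.mul_pow, pow_two, pow_two, invol_mul_self hx, invol_mul_self hy, one_mul]
  · intro h
    have h1 : (x * y)⁻¹ = x * y := inv_eq_of_mul_eq_one_right (by rw [← pow_two]; exact h)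
    rw [mul_inv_rev, invol_inv hx, invol_inv hy] at h1
    exact h1.symm

theorem commute_mul_self {x y : G} (hx : orderOf x = 2) (h : Commute x y) :
    x * y * x = y := by
  rw [h.eq, mul_assoc, invol_mul_self hx, mul_one]

theorem ts_invol {D : Set G} (hD : IsThreeTranspositionSet D) {d : G} (hd : d ∈ D) :
    orderOf d = 2 := hD.1 d hd

theorem ts_inv {D : Set G} (hD : IsThreeTranspositionSet D) {d : G} (hd : d ∈ D) : d⁻¹ = d :=
  invol_inv (hD.1 d hd)

theorem ts_mul_self {D : Set G} (hD : IsThreeTranspositionSet D) {d : G} (hd : d ∈ D) :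
    d * d = 1 := invol_mul_self (hD.1 d hd)

theorem ts_cube {D : Set G} (hD : IsThreeTranspositionSet D) {d e : G} (hd : d ∈ D) (he : e ∈ D)
    (h : ¬ Commute d e) : (d * e) ^ 3 = 1 :=
  (hD.2 d hd e he).resolve_left fun h2 => h ((invol_commute_iff (hD.1 d hd) (hD.1 e he)).2 h2)

theorem ts_orderOf_three {D : Set G} (hD : IsThreeTranspositionSet D) {d e : G} (hd : d ∈ D)
    (he : e ∈ D) (h : ¬ Commute d e) : orderOf (d * e) = 3 := by
  haveI : Fact (Nat.Prime 3) := ⟨by norm_num⟩
  refine orderOf_eq_prime (ts_cube hD hd he h) fun h1 => h ?_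
  rw [invol_commute_iff (hD.1 d hd) (hD.1 e he), h1, one_pow]

theorem ts_braid {D : Set G} (hD : IsThreeTranspositionSet D) {d e : G} (hd : d ∈ D) (he : e ∈ D)
    (h : ¬ Commute d e) : d * e * d = e * d * e := by
  have h1 := ts_cube hD hd he h
  rw [pow_succ, pow_two] at h1
  have h2 : (d * e * d) * (e * d * e) = 1 := by simpa [mul_assoc] using h1
  rw [← inv_eq_of_mul_eq_one_right h2, mul_inv_rev, mul_inv_rev, ts_inv hD hd, ts_inv hD he,
    mul_assoc]

theorem ts_commute_of_twoPow {D : Set G} (hD : IsThreeTranspositionSet D) {d e : G} (hd : d ∈ D)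
    (he : e ∈ D) {n : ℕ} (h : (d * e) ^ 2 ^ n = 1) : Commute d e := by
  rw [invol_commute_iff (hD.1 d hd) (hD.1 e he)]
  rcases hD.2 d hd e he with h2 | h3
  · exact h2
  · have h4 : orderOf (d * e) ∣ Nat.gcd 3 (2 ^ n) :=
      Nat.dvd_gcd (orderOf_dvd_of_pow_eq_one h3) (orderOf_dvd_of_pow_eq_one h)
    rw [Nat.Coprime.gcd_eq_one (Nat.Coprime.pow_right n (by norm_num)), Nat.dvd_one,
      orderOf_eq_one_iff] at h4
    rw [h4, one_pow]

theorem ts_commute_of_mem_pgroup {D : Set G} (hD : IsThreeTranspositionSet D) {d e : G}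
    (hd : d ∈ D) (he : e ∈ D) {T : Subgroup G} (hT : IsPGroup 2 T) (hdT : d ∈ T) (heT : e ∈ T) :
    Commute d e := by
  obtain ⟨n, hn⟩ := hT ⟨d * e, mul_mem hdT heT⟩
  exact ts_commute_of_twoPow hD hd he (n := n) (by simpa using congrArg Subtype.val hn)

/-- `x (x y)^k` lies in a conjugation-closed set containing `x`, for even `k`. -/
theorem refl_even_mem {D : Set G} (hconj : ∀ g : G, ∀ d ∈ D, g * d * g⁻¹ ∈ D) {x y : G}
    (hxD : x ∈ D) (hx : orderOf x = 2) (hy : orderOf y = 2) {k : ℤ} (hk : Even k) :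
    x * (x * y) ^ k ∈ D := by
  obtain ⟨i, rfl⟩ := hk
  have h := hconj ((x * y) ^ (-i)) x hxD
  rw [rot_conj_self hx hy] at h
  convert h using 3
  ring

/-- For members `x`, `y` of a conjugation-closed set of involutions all `x (x y)^k` are members. -/
theorem refl_mem {D : Set G} (hconj : ∀ g : G, ∀ d ∈ D, g * d * g⁻¹ ∈ D) {x y : G}
    (hxD : x ∈ D) (hyD : y ∈ D) (hx : orderOf x = 2) (hy : orderOf y = 2) (k : ℤ) :
    x * (x * y) ^ k ∈ D := by
  rcases Int.even_or_odd k with hk | hk
  · exact refl_even_mem hconj hxD hx hy hk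
  · have h := refl_even_mem hconj hyD hy hx (k := -(k - 1))
      ((show Even (k - 1) from hk.sub_odd odd_one).neg)
    have hinv : (y * x) = (x * y)⁻¹ := by rw [mul_inv_rev, invol_inv hx, invol_inv hy]
    rw [hinv, inv_zpow', neg_neg] at h
    convert h using 1
    calc x * (x * y) ^ k = x * ((x * y) * (x * y) ^ (k - 1)) := by
          rw [← zpow_one_add]; congr 2; ring
      _ = y * (x * y) ^ (k - 1) := by rw [← mul_assoc, ← eq_invol_mul_prod hx]

end CfsgLib.ThreeTransp
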