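import Mathlib
import Cfsg.Agent.Lib.ThreeTransp.Basic
import Cfsg.Agent.Lib.Involutions.ZStar.Main
import Cfsg.Agent.Lib.Coprime.Action
import Cfsg.Agent.Lib.Base.Cores

/-!
Involutions with all products of conjugates of odd prime power order, and the first
consequences for sets of 3-transpositions.
-/

set_option autoImplicit false

namespace CfsgLib.ThreeTransp

open Cfsg CfsgLib.Involutions

universe u

variable {G : Type u} [Group G] [Finite G]

theorem isolated_of_pPower {p : ℕ} (hp : p.Prime) (hp2 : p ≠ 2) {d : G} (hd : orderOf d = 2)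
    (hprod : ∀ a ∈ conjugatesOf d, ∀ b ∈ conjugatesOf d, ∃ k : ℕ, orderOf (a * b) = p ^ k) :
    IsIsolatedInvolution d := by
  refine ⟨hd, fun g hc => ?_⟩
  have hg : orderOf (g * d * g⁻¹) = 2 := conj_invol g hd
  have h2 : (d * (g * d * g⁻¹)) ^ 2 = 1 := (invol_commute_iff hd hg).1 hc
  obtain ⟨k, hk⟩ := hprod d mem_conjugatesOf_self _ (isConj_iff.2 ⟨g, rfl⟩)
  have hdvd := orderOf_dvd_of_pow_eq_one h2
  rw [hk] at hdvd
  have h1 : p ^ k = 1 := by
    rcases (Nat.dvd_prime Nat.prime_two).1 hdvd with h | h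
    · exact h
    · exact absurd (((Nat.prime_dvd_prime_iff_eq Nat.prime_two hp).1
        (Nat.prime_two.dvd_of_dvd_pow (n := k) (by rw [h]))).symm) hp2
  rw [← hk, orderOf_eq_one_iff, mul_eq_one_iff_inv_eq, invol_inv hd] at h1
  exact h1.symm

/-- A subgroup whose index is prime to that of `P` satisfies `G = P C`. -/
theorem exists_mul_of_coprime_index {C P : Subgroup G} (h : C.index.Coprime P.index) (x : G) :
    ∃ y ∈ P, y⁻¹ * x ∈ C := by
  have hdvd : C.index ∣ C.relIndex P := by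
    refine h.dvd_of_dvd_mul_right (⟨(C ⊓ P).relIndex C, ?_⟩ : C.index ∣ C.relIndex P * P.index)
    rw [← Subgroup.inf_relIndex_right C P, Subgroup.relIndex_mul_index inf_le_right,
      mul_comm C.index, Subgroup.relIndex_mul_index inf_le_left]
  let f : P ⧸ C.subgroupOf P → G ⧸ C := Quotient.map' Subtype.val fun a b hab => by
    rw [QuotientGroup.leftRel_apply] at hab ⊢
    exact hab
  have hinj : Function.Injective f := by
    intro a b
    induction a using Quotient.inductionOn' with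
    | h a => induction b using Quotient.inductionOn' with
      | h b =>
        intro hab
        have h1 := (QuotientGroup.eq).1 hab
        exact QuotientGroup.eq.2 h1
  have hle : Nat.card (G ⧸ C) ≤ Nat.card (P ⧸ C.subgroupOf P) :=
    Nat.le_of_dvd Nat.card_pos hdvd
  obtain ⟨y, hy⟩ := (hinj.bijective_of_nat_card_le hle).2 (QuotientGroup.mk x)
  induction y using Quotient.inductionOn' with
  | h y => exact ⟨y, y.2, QuotientGroup.eq.1 hy⟩

/-- A Z*-type statement for odd primes. -/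
theorem mul_mem_pCore_of_pPower {p : ℕ} (hp : p.Prime) (hp2 : p ≠ 2) {d : G} (hd : orderOf d = 2)
    (hprod : ∀ a ∈ conjugatesOf d, ∀ b ∈ conjugatesOf d, ∃ k : ℕ, orderOf (a * b) = p ^ k)
    {a b : G} (ha : a ∈ conjugatesOf d) (hb : b ∈ conjugatesOf d) : a * b ∈ pCore p G := by
  haveI : Fact p.Prime := ⟨hp⟩
  have hiso := isolated_of_pPower hp hp2 hd hprod
  set N := oddCore G with hN
  haveI hNn : N.Normal := by rw [hN]; infer_instance
  set A := Subgroup.zpowers d with hA
  have hAN : A ≤ Subgroup.normalizer (N : Set G) := Subgroup.le_normalizer_of_normal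
  have hcop : (Nat.card A).Coprime (Nat.card N) := by
    rw [hA, Nat.card_zpowers, hd]
    exact Nat.coprime_two_left.2 (Base.odd_card_oddCore G)
  have hsolv : Group.IsSolvable A ∨ Group.IsSolvable N := Or.inl inferInstance
  have hconjP : ∀ {q : ℕ} (Q : Sylow q N),
      A ≤ Subgroup.normalizer ((Q : Subgroup N).map N.subtype : Set G) →
      ∀ x : N, x ∈ (Q : Subgroup N) → d * ((x : G) * d * (x : G)⁻¹) ∈ (Q : Subgroup N).map N.subtype := by
    intro q Q hQ x hx
    have hxm : (x : G) ∈ (Q : Subgroup N).map N.subtype := ⟨x, hx, rfl⟩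
    have h1 := (Subgroup.mem_normalizer_iff.1 (hQ (Subgroup.mem_zpowers d)) _).1 hxm
    rw [invol_inv hd] at h1
    have h2 := mul_mem h1 (inv_mem hxm)
    simpa [mul_assoc] using h2
  set C := (Subgroup.centralizer ({d} : Set G)).subgroupOf N with hC
  obtain ⟨P, hP⟩ := Coprime.exists_invariant_sylow (p := p) hAN hcop hsolv
  have hidx : C.index.Coprime (P : Subgroup N).index := by
    refine Nat.coprime_of_dvd fun q hq hqC hqP => ?_
    haveI : Fact q.Prime := ⟨hq⟩
    obtain ⟨Q, hQ⟩ := Coprime.exists_invariant_sylow (p := q) hAN hcop hsolv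
    refine Q.not_dvd_index (hqC.trans (Subgroup.index_dvd_of_le fun x hx => ?_))
    have hm := hconjP Q hQ x hx
    obtain ⟨k, hk⟩ := hprod d mem_conjugatesOf_self _ (isConj_iff.2 ⟨(x : G), rfl⟩)
    obtain ⟨j, hj⟩ := IsPGroup.iff_orderOf.1 (Q.2.map N.subtype) ⟨_, hm⟩
    have hj' : orderOf (d * ((x : G) * d * (x : G)⁻¹)) = q ^ j := by
      rw [← hj, Subgroup.orderOf_mk]
    have hpq : q ≠ p := fun e => P.not_dvd_index (e ▸ hqP)
    have h1 : orderOf (d * ((x : G) * d * (x : G)⁻¹)) = 1 := by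
      have hc : Nat.Coprime (p ^ k) (q ^ j) :=
        Nat.Coprime.pow _ _ ((Nat.coprime_primes hp hq).2 (Ne.symm hpq))
      rw [← hk, ← hj'] at hc
      exact (Nat.coprime_self _).1 hc
    rw [orderOf_eq_one_iff, mul_eq_one_iff_inv_eq, invol_inv hd, eq_mul_inv_iff_mul_eq] at h1
    rw [hC, Subgroup.mem_subgroupOf, Subgroup.mem_centralizer_singleton_iff]
    exact h1.symm
  have hmain : ∀ c ∈ conjugatesOf d, d * c ∈ (P : Subgroup N).map N.subtype := by
    intro c hc
    obtain ⟨g, rfl⟩ := isConj_iff.1 hc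
    obtain ⟨n, hn, w, hw, rfl⟩ := ZStar.exists_mul_centralizer hiso g
    obtain ⟨y, hy, hyn⟩ := exists_mul_of_coprime_index hidx ⟨n, hn⟩
    rw [hC, Subgroup.mem_subgroupOf, Subgroup.mem_centralizer_singleton_iff] at hyn
    rw [Subgroup.mem_centralizer_singleton_iff] at hw
    have hm := hconjP P hP y hy
    have e1 : n * w * d * (n * w)⁻¹ = (y : G) * d * (y : G)⁻¹ := by
      have e2 : n * w * d * (n * w)⁻¹ = n * d * n⁻¹ := by
        calc n * w * d * (n * w)⁻¹ = n * (w * d) * w⁻¹ * n⁻¹ := by group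
          _ = n * (d * w) * w⁻¹ * n⁻¹ := by rw [hw]
          _ = n * d * n⁻¹ := by group
      rw [e2]
      simp only [Subgroup.coe_mul, Subgroup.coe_inv] at hyn
      calc n * d * n⁻¹ = (y : G) * ((y : G)⁻¹ * n * d) * n⁻¹ := by group
        _ = (y : G) * (d * ((y : G)⁻¹ * n)) * n⁻¹ := by rw [hyn]
        _ = (y : G) * d * (y : G)⁻¹ := by group
    rw [e1]; exact hm
  set Y : Set G := {z | ∃ a ∈ conjugatesOf d, ∃ b ∈ conjugatesOf d, z = a * b} with hY
  have hYP : Subgroup.closure Y ≤ (P : Subgroup N).map N.subtype := by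
    refine (Subgroup.closure_le _).2 ?_
    rintro _ ⟨a, ha, b, hb, rfl⟩
    have e : a * b = (d * a)⁻¹ * (d * b) := by
      obtain ⟨g, rfl⟩ := isConj_iff.1 ha
      rw [mul_inv_rev, invol_inv hd, invol_inv (conj_invol g hd)]
      calc g * d * g⁻¹ * b = g * d * g⁻¹ * (d * d) * b := by rw [invol_mul_self hd, mul_one]
        _ = g * d * g⁻¹ * d * (d * b) := by group
    rw [SetLike.mem_coe, e]
    exact mul_mem (inv_mem (hmain a ha)) (hmain b hb)
  haveI : (Subgroup.closure Y).Normal := by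
    refine ⟨fun z hz g => ?_⟩
    have hle : Subgroup.closure Y ≤ (Subgroup.closure Y).comap (MulAut.conj g).toMonoidHom := by
      refine (Subgroup.closure_le _).2 ?_
      rintro _ ⟨a, ha, b, hb, rfl⟩
      refine Subgroup.subset_closure ⟨g * a * g⁻¹, ?_, g * b * g⁻¹, ?_, ?_⟩
      · exact ha.trans (isConj_iff.2 ⟨g, rfl⟩)
      · exact hb.trans (isConj_iff.2 ⟨g, rfl⟩)
      · show g * (a * b) * g⁻¹ = g * a * g⁻¹ * (g * b * g⁻¹); group
    exact hle hz
  exact Base.le_pCore ((P.2.map N.subtype).to_le hYP) (Subgroup.subset_closure ⟨a, ha, b, hb, rfl⟩)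

omit [Finite G] in
theorem ts_orderOf_mul {D : Set G} (hD : IsThreeTranspositionSet D) {a b : G} (ha : a ∈ D) (hb : b ∈ D)
    (h : Commute a b → a = b) : ∃ k : ℕ, orderOf (a * b) = 3 ^ k := by
  by_cases hc : Commute a b
  · rw [h hc, ts_mul_self hD hb, orderOf_one]
    exact ⟨0, rfl⟩
  · exact ⟨1, ts_orderOf_three hD ha hb hc⟩

omit [Finite G] in
theorem eq_of_commute_of_mul_mem_pgroup {N : Subgroup G} (hN : IsPGroup 3 N) {a b : G}
    (ha : orderOf a = 2) (hb : orderOf b = 2) (hc : Commute a b) (hab : a * b ∈ N) : a = b := by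
  have h2 := (invol_commute_iff ha hb).1 hc
  obtain ⟨k, hk⟩ := hN ⟨_, hab⟩
  have h3 : (a * b) ^ 3 ^ k = 1 := by simpa using congrArg Subtype.val hk
  have h1 : orderOf (a * b) ∣ Nat.gcd 2 (3 ^ k) :=
    Nat.dvd_gcd (orderOf_dvd_of_pow_eq_one h2) (orderOf_dvd_of_pow_eq_one h3)
  rw [Nat.Coprime.gcd_eq_one (Nat.Coprime.pow_right k (by norm_num)), Nat.dvd_one, orderOf_eq_one_iff,
    mul_eq_one_iff_inv_eq, invol_inv ha] at h1
  exact h1

omit [Finite G] in
theorem ts_conj_braid {D : Set G} (hD : IsThreeTranspositionSet D) {a b : G} (ha : a ∈ D) (hb : b ∈ D)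
    (h : ¬ Commute a b) : a * b * a * (a * b)⁻¹ = b := by
  have e := ts_braid hD ha hb h
  rw [mul_inv_rev, ts_inv hD ha, ts_inv hD hb]
  calc a * b * a * (b * a) = (a * b * a) * b * a := by group
    _ = b * a * (b * b) * a := by rw [e]; group
    _ = b * (a * a) := by rw [ts_mul_self hD hb]; group
    _ = b := by rw [ts_mul_self hD ha, mul_one]

/-- A set of 3-transpositions has width one iff it is central modulo `O₃`. -/
theorem commutingWidth_eq_one_iff {D : Set G} (hD : IsThreeTranspositionGroup D) {d : G} (hd : d ∈ D) :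
    commutingWidth D = 1 ↔ Subgroup.zpowers d ⊔ pCore 3 G = ⊤ := by
  obtain ⟨hT, hconj, hgen⟩ := hD
  haveI : Fact (Nat.Prime 3) := ⟨by norm_num⟩
  haveI : (pCore 3 G).Normal := inferInstance
  have hbdd : BddAbove {n : ℕ | ∃ E : Set G, E ⊆ D ∧ E.Finite ∧ (∀ a ∈ E, ∀ b ∈ E, Commute a b) ∧ E.ncard = n} :=
    ⟨Nat.card G, by rintro _ ⟨E, -, -, -, rfl⟩; exact Set.ncard_le_card E⟩
  constructor
  · intro h1
    have hno : ∀ a ∈ D, ∀ b ∈ D, Commute a b → a = b := by
      intro a ha b hb hc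
      by_contra hne
      have h2 : 2 ≤ commutingWidth D :=
        le_csSup hbdd ⟨{a, b}, Set.insert_subset ha (Set.singleton_subset_iff.2 hb), Set.toFinite _,
          by rintro x (rfl | rfl) y (rfl | rfl) <;> first | exact Commute.refl _ | exact hc | exact hc.symm,
          Set.ncard_pair hne⟩
      omega
    have hsub : ∀ a ∈ D, a ∈ conjugatesOf d := by
      intro a ha
      rcases eq_or_ne d a with rfl | hne
      · exact mem_conjugatesOf_self
      · exact isConj_iff.2 ⟨d * a, ts_conj_braid hT hd ha fun hc => hne (hno d hd a ha hc)⟩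
    have hsup : ∀ a ∈ conjugatesOf d, a ∈ D := fun a ha => by
      obtain ⟨g, rfl⟩ := isConj_iff.1 ha
      exact hconj g d hd
    have key := fun {a b : G} => mul_mem_pCore_of_pPower (p := 3) (by norm_num) (by norm_num) (ts_invol hT hd)
      (fun a ha b hb => ts_orderOf_mul hT (hsup a ha) (hsup b hb) (hno a (hsup a ha) b (hsup b hb)))
      (a := a) (b := b)
    refine top_unique (hgen ▸ (Subgroup.closure_le _).2 fun a ha => ?_)
    have h := key mem_conjugatesOf_self (hsub a ha)
    have e : a = d * (d * a) := by rw [← mul_assoc, ts_mul_self hT hd, one_mul]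
    rw [SetLike.mem_coe, e]
    exact Subgroup.mul_mem_sup (Subgroup.mem_zpowers d) h
  · intro htop
    have hmem : ∀ a ∈ D, d * a ∈ pCore 3 G := by
      intro a ha
      obtain ⟨y, hy, z, hz, rfl⟩ : ∃ y ∈ Subgroup.zpowers d, ∃ z ∈ pCore 3 G, y * z = a :=
        Subgroup.mem_sup_of_normal_right.1 (htop ▸ Subgroup.mem_top a)
      obtain ⟨i, rfl⟩ := Subgroup.mem_zpowers_iff.1 hy
      have h2 : d ^ (2 : ℤ) = 1 := by rw [zpow_two, ts_mul_self hT hd]
      rcases Int.even_or_odd i with ⟨j, rfl⟩ | ⟨j, rfl⟩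
      · rw [← two_mul, zpow_mul, h2, one_zpow, one_mul] at ha
        refine absurd ?_ (invol_ne_one (ts_invol hT ha))
        obtain ⟨k, hk⟩ := Base.isPGroup_pCore 3 G ⟨z, hz⟩
        have h1 := Nat.dvd_gcd (orderOf_dvd_of_pow_eq_one (show z ^ 2 = 1 by
          rw [pow_two, ts_mul_self hT ha])) (orderOf_dvd_of_pow_eq_one (show z ^ 3 ^ k = 1 by
          simpa using congrArg Subtype.val hk))
        rw [Nat.Coprime.gcd_eq_one (Nat.Coprime.pow_right k (by norm_num)), Nat.dvd_one,
          orderOf_eq_one_iff] at h1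
        exact h1
      · rw [zpow_add, zpow_mul, h2, one_zpow, one_mul, zpow_one, ← mul_assoc, ts_mul_self hT hd, one_mul]
        exact hz
    have hno : ∀ a ∈ D, ∀ b ∈ D, Commute a b → a = b := by
      intro a ha b hb hc
      refine eq_of_commute_of_mul_mem_pgroup (Base.isPGroup_pCore 3 G) (ts_invol hT ha) (ts_invol hT hb) hc ?_
      have e : a * b = (d * a)⁻¹ * (d * b) := by
        rw [mul_inv_rev, ts_inv hT hd, ts_inv hT ha, mul_assoc, ← mul_assoc d, ts_mul_self hT hd, one_mul]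
      rw [e]
      exact mul_mem (inv_mem (hmem a ha)) (hmem b hb)
    refine le_antisymm (csSup_le ⟨0, ∅, Set.empty_subset _, Set.finite_empty, by simp, Set.ncard_empty _⟩ ?_)
      (le_csSup hbdd ⟨{d}, Set.singleton_subset_iff.2 hd, Set.finite_singleton d,
        by simp, Set.ncard_singleton d⟩)
    rintro _ ⟨E, hE, -, hc, rfl⟩
    exact (Set.ncard_le_one (Set.toFinite E)).2 fun a ha b hb => hno a (hE ha) b (hE hb) (hc a ha b hb)

/-- The commuting partners of a member other than itself. -/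
def tsPartners (D : Set G) (a : G) : Set G := {y | y ∈ D ∧ y ≠ a ∧ Commute a y}

omit [Finite G] in
theorem tsPartners_conj {D : Set G} (hconj : ∀ g : G, ∀ d ∈ D, g * d * g⁻¹ ∈ D) {a b : G} (g : G)
    (h : tsPartners D a = tsPartners D b) :
    tsPartners D (g * a * g⁻¹) = tsPartners D (g * b * g⁻¹) := by
  have key : ∀ c y, y ∈ tsPartners D (g * c * g⁻¹) ↔ g⁻¹ * y * g ∈ tsPartners D c := by
    intro c y
    constructor
    · rintro ⟨h1, h2, h3⟩
      refine ⟨by simpa using hconj g⁻¹ y h1, fun e => h2 (by rw [← e]; group), ?_⟩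
      rw [← commute_conj_iff g, show g * (g⁻¹ * y * g) * g⁻¹ = y by group]
      exact h3
    · rintro ⟨h1, h2, h3⟩
      refine ⟨by simpa [mul_assoc] using hconj g _ h1, fun e => h2 (by rw [e]; group), ?_⟩
      have := (commute_conj_iff g).2 h3
      rwa [show g * (g⁻¹ * y * g) * g⁻¹ = y by group] at this
  ext y
  rw [key, key, h]

omit [Finite G] in
theorem eq_of_tsPartners_eq_of_commute {D : Set G} {a b : G} (hb : b ∈ D)
    (h : tsPartners D a = tsPartners D b) (hc : Commute a b) : a = b := by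
  by_contra hne
  have : b ∈ tsPartners D b := h ▸ ⟨hb, Ne.symm hne, hc⟩
  exact this.2.1 rfl

/-- Equal partner sets give congruence modulo `O₃`. -/
theorem mul_mem_pCore_of_tsPartners_eq {D : Set G} (hT : IsThreeTranspositionSet D)
    (hconj : ∀ g : G, ∀ d ∈ D, g * d * g⁻¹ ∈ D) (hgen : Subgroup.closure D = ⊤) {d w : G} (hd : d ∈ D)
    (hw : w ∈ D) (h : tsPartners D d = tsPartners D w) : d * w ∈ pCore 3 G := by
  haveI : Fact (Nat.Prime 3) := ⟨by norm_num⟩
  set R : G → G → Prop := fun a b => tsPartners D a = tsPartners D b with hR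
  have hconjR : ∀ g a b, R a b → R (g * a * g⁻¹) (g * b * g⁻¹) := fun g a b => tsPartners_conj hconj g
  let K : Subgroup G :=
    { carrier := {g | ∀ a ∈ D, R (g * a * g⁻¹) a}
      one_mem' := fun a _ => by simp [R]
      mul_mem' := fun {g g'} hg hg' a ha => by
        have := (hconjR g _ _ (hg' a ha)).trans (hg a ha)
        rwa [show g * (g' * a * g'⁻¹) * g⁻¹ = g * g' * a * (g * g')⁻¹ by group] at this
      inv_mem' := fun {g} hg a ha => by
        have := hconjR g⁻¹ _ _ (hg a ha)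
        rw [show g⁻¹ * (g * a * g⁻¹) * g⁻¹⁻¹ = a by group] at this
        exact this.symm }
  haveI hKn : K.Normal := ⟨fun n hn g a ha => by
    have := hconjR g _ _ (hn _ (hconj g⁻¹ a ha))
    rw [show g * (g⁻¹ * a * g⁻¹⁻¹) * g⁻¹ = a by group] at this
    rwa [show g * (n * (g⁻¹ * a * g⁻¹⁻¹) * n⁻¹) * g⁻¹ = g * n * g⁻¹ * a * (g * n * g⁻¹)⁻¹ by group] at this⟩
  -- products inside a class
  have hxK : d * w ∈ K := by
    intro c hc
    have hdd := ts_inv hT hd
    have hww := ts_inv hT hw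
    have goal' : R (w * c * w⁻¹) (d * c * d⁻¹) → R (d * w * c * (d * w)⁻¹) c := fun h1 => by
      have := hconjR d _ _ h1
      rw [show d * (d * c * d⁻¹) * d⁻¹ = (d * d) * c * (d * d)⁻¹ by group, ts_mul_self hT hd,
        inv_one, one_mul, mul_one] at this
      rwa [show d * (w * c * w⁻¹) * d⁻¹ = d * w * c * (d * w)⁻¹ by group] at this
    refine goal' ?_
    by_cases hcd : Commute d c
    · rw [show d * c * d⁻¹ = c by rw [hcd.eq, mul_inv_cancel_right]]
      rcases eq_or_ne c d with rfl | hne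
      · have := hconjR w _ _ h
        rw [show w * w * w⁻¹ = w by group] at this
        exact this.trans h.symm
      · have : Commute w c := (h ▸ (⟨hc, hne, hcd⟩ : c ∈ tsPartners D d) : c ∈ tsPartners D w).2.2
        rw [show w * c * w⁻¹ = c by rw [this.eq, mul_inv_cancel_right]]
    · rcases eq_or_ne c w with rfl | hne
      · have := hconjR d _ _ h
        rw [show d * d * d⁻¹ = d by group] at this
        rw [show c * c * c⁻¹ = c by group]
        exact h.symm.trans this
      · have hcw : ¬ Commute w c := fun hcw =>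
          hcd (h.symm ▸ (⟨hc, hne, hcw⟩ : c ∈ tsPartners D w) : c ∈ tsPartners D d).2.2
        have e1 := ts_braid hT hd hc hcd
        have e2 := ts_braid hT hw hc hcw
        have := hconjR c _ _ h.symm
        rw [ts_inv hT hc, ← e1, ← e2] at this
        rwa [hdd, hww]
  -- each member is centralised by `K` modulo `O₃`
  have hcent : ∀ a ∈ D, ∀ k ∈ K, k * a * k⁻¹ * a ∈ pCore 3 G := by
    intro a ha k hk
    let S : Subgroup G :=
      { carrier := {g | R (g * a * g⁻¹) a}
        one_mem' := by simp [R]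
        mul_mem' := fun {g g'} hg hg' => by
          have := (hconjR g _ _ hg').trans hg
          rwa [show g * (g' * a * g'⁻¹) * g⁻¹ = g * g' * a * (g * g')⁻¹ by group] at this
        inv_mem' := fun {g} hg => by
          have := hconjR g⁻¹ _ _ hg
          rw [show g⁻¹ * (g * a * g⁻¹) * g⁻¹⁻¹ = a by group] at this
          exact this.symm }
    have haS : a ∈ S := by show R (a * a * a⁻¹) a; simp [R]
    have hKS : K ≤ S := fun g hg => hg a ha
    set a' : S := ⟨a, haS⟩
    have hsub : ∀ b : S, b ∈ conjugatesOf a' → (b : G) ∈ D ∧ R b a := by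
      intro b hb
      obtain ⟨s, rfl⟩ := isConj_iff.1 hb
      exact ⟨hconj s a ha, s.2⟩
    have hprod : ∀ b ∈ conjugatesOf a', ∀ c ∈ conjugatesOf a', ∃ j : ℕ, orderOf (b * c) = 3 ^ j := by
      intro b hb c hc
      obtain ⟨hbD, hbR⟩ := hsub b hb
      obtain ⟨hcD, hcR⟩ := hsub c hc
      rw [← Subgroup.orderOf_coe, Subgroup.coe_mul]
      exact ts_orderOf_mul hT hbD hcD fun hcom =>
        eq_of_tsPartners_eq_of_commute hcD (hbR.trans hcR.symm) hcom
    have key := mul_mem_pCore_of_pPower (p := 3) (by norm_num) (by norm_num)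
      (by rw [← Subgroup.orderOf_coe]; exact ts_invol hT ha) hprod
      (isConj_iff.2 ⟨(⟨k, hKS hk⟩ : S), rfl⟩) (mem_conjugatesOf_self (a := a'))
    have hmem : k * a * k⁻¹ * a ∈ (pCore 3 S).map S.subtype ⊓ K := by
      refine ⟨⟨_, key, rfl⟩, ?_⟩
      rw [mul_assoc, mul_assoc, ← mul_assoc a]
      refine mul_mem hk ?_
      have := hKn.conj_mem _ (inv_mem hk) a
      rwa [ts_inv hT ha] at this
    have hle : (pCore 3 S).map S.subtype ⊓ K ≤ (pCore 3 K).map K.subtype :=
      Base.le_map_pCore inf_le_right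
        ((le_inf ((hKS.trans (Base.le_normalizer_map_pCore S))) Subgroup.le_normalizer).trans
          (Subgroup.inf_normalizer_le_normalizer_inf))
        ((Base.isPGroup_map_pCore 3 S).to_le inf_le_left)
    exact (Base.map_pCore_eq_inf K ▸ hle hmem : k * a * k⁻¹ * a ∈ pCore 3 G ⊓ K).1
  -- so `d w` is central modulo `O₃`
  set O := pCore 3 G with hO
  haveI hOn : O.Normal := inferInstance
  set x := d * w with hx
  let Z : Subgroup G :=
    { carrier := {g | g * x * g⁻¹ * x⁻¹ ∈ O}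
      one_mem' := by simp
      mul_mem' := fun {g g'} hg hg' => by
        show g * g' * x * (g * g')⁻¹ * x⁻¹ ∈ O
        have := mul_mem (hOn.conj_mem _ hg' g) hg
        rwa [show g * (g' * x * g'⁻¹ * x⁻¹) * g⁻¹ * (g * x * g⁻¹ * x⁻¹) =
          g * g' * x * (g * g')⁻¹ * x⁻¹ by group] at this
      inv_mem' := fun {g} hg => by
        show g⁻¹ * x * g⁻¹⁻¹ * x⁻¹ ∈ O
        have := inv_mem (hOn.conj_mem _ hg g⁻¹)
        rwa [show (g⁻¹ * (g * x * g⁻¹ * x⁻¹) * g⁻¹⁻¹)⁻¹ = g⁻¹ * x * g⁻¹⁻¹ * x⁻¹ by group] at this }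
  have hZ : (⊤ : Subgroup G) ≤ Z := by
    rw [← hgen]
    refine (Subgroup.closure_le _).2 fun a ha => ?_
    show a * x * a⁻¹ * x⁻¹ ∈ O
    have h1 := hOn.conj_mem _ (inv_mem (hcent a ha x hxK)) 1
    simpa [mul_assoc, ts_inv hT ha] using h1
  haveI hn : (O ⊔ Subgroup.zpowers x).Normal := by
    refine ⟨fun z hz g => ?_⟩
    have hle : O ⊔ Subgroup.zpowers x ≤ (O ⊔ Subgroup.zpowers x).comap (MulAut.conj g).toMonoidHom := by
      refine sup_le (fun o ho => Subgroup.mem_sup_left (hOn.conj_mem o ho g)) ?_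
      rw [Subgroup.zpowers_le]
      show g * x * g⁻¹ ∈ O ⊔ Subgroup.zpowers x
      have hg : g * x * g⁻¹ * x⁻¹ ∈ O := hZ (Subgroup.mem_top g)
      have := Subgroup.mul_mem_sup hg (Subgroup.mem_zpowers x)
      rwa [inv_mul_cancel_right] at this
    exact hle hz
  have hp3 : IsPGroup 3 (Subgroup.zpowers x) := by
    obtain ⟨n, hn⟩ := ts_orderOf_mul hT hd hw fun hc => eq_of_tsPartners_eq_of_commute hw h hc
    exact IsPGroup.of_card (n := n) (by rw [Nat.card_zpowers, hx, hn])
  exact Base.le_pCore (IsPGroup.to_sup_of_normal_left (Base.isPGroup_pCore 3 G) hp3)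
    (Subgroup.mem_sup_right (Subgroup.mem_zpowers x))

/-- The partners class is the coset class modulo `O₃` and an orbit of `O₃`. -/
theorem tsPartners_class {D : Set G} (hT : IsThreeTranspositionSet D)
    (hconj : ∀ g : G, ∀ d ∈ D, g * d * g⁻¹ ∈ D) (hgen : Subgroup.closure D = ⊤) {d : G} (hd : d ∈ D) :
    {w | w ∈ D ∧ tsPartners D d = tsPartners D w} = {w | w ∈ D ∧ d⁻¹ * w ∈ pCore 3 G} ∧
    {w | w ∈ D ∧ tsPartners D d = tsPartners D w} = {w | ∃ g ∈ pCore 3 G, w = g * d * g⁻¹} := by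
  haveI : Fact (Nat.Prime 3) := ⟨by norm_num⟩
  have hO := Base.isPGroup_pCore 3 G
  have hn : (pCore 3 G).Normal := inferInstance
  rw [ts_inv hT hd]
  have h12 : ∀ w, w ∈ D → d * w ∈ pCore 3 G → tsPartners D d = tsPartners D w := by
    intro w hw hdw
    have key : ∀ {a b y : G}, a ∈ D → b ∈ D → a * b ∈ pCore 3 G → y ∈ tsPartners D a → y ∈ tsPartners D b := by
      intro a b y ha hb hab ⟨hy, hya, hc⟩
      refine ⟨hy, fun e => hya (?_ : y = a), ?_⟩
      · subst e; exact (eq_of_commute_of_mul_mem_pgroup hO (ts_invol hT ha) (ts_invol hT hb) hc hab).symm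
      · by_contra hne
        refine hya (eq_of_commute_of_mul_mem_pgroup hO (ts_invol hT hy) (ts_invol hT ha) hc.symm ?_)
        have h3 := ts_cube hT hb hy hne
        rw [← QuotientGroup.eq_one_iff (N := pCore 3 G)] at hab ⊢
        have h2 : ((a * y : G) : G ⧸ pCore 3 G) ^ 2 = 1 := by
          rw [← QuotientGroup.mk_pow, (invol_commute_iff (ts_invol hT ha) (ts_invol hT hy)).1 hc]; rfl
        have e : ((b * y : G) : G ⧸ pCore 3 G) = ((a * y : G) : G ⧸ pCore 3 G) := by
          have e1 : ((b : G) : G ⧸ pCore 3 G) = a := by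
            rw [QuotientGroup.mk_mul, mul_eq_one_iff_inv_eq] at hab
            rw [← hab, ← QuotientGroup.mk_inv, ts_inv hT ha]
          rw [QuotientGroup.mk_mul, QuotientGroup.mk_mul, e1]
        have h3' : ((a * y : G) : G ⧸ pCore 3 G) ^ 3 = 1 := by
          rw [← e, ← QuotientGroup.mk_pow, h3]; rfl
        rw [pow_succ, h2, one_mul] at h3'
        have h4 := congrArg (·⁻¹) h3'
        simp only [inv_one] at h4
        rwa [← QuotientGroup.mk_inv, mul_inv_rev, ts_inv hT ha, ts_inv hT hy] at h4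
    ext y
    refine ⟨key hd hw hdw, key hw hd ?_⟩
    have := inv_mem hdw
    rwa [mul_inv_rev, ts_inv hT hd, ts_inv hT hw] at this
  have h21 : ∀ w ∈ D, tsPartners D d = tsPartners D w → d * w ∈ pCore 3 G := fun w hw h =>
    mul_mem_pCore_of_tsPartners_eq hT hconj hgen hd hw h
  refine ⟨Set.ext fun w => ⟨fun h => ⟨h.1, h21 w h.1 h.2⟩, fun h => ⟨h.1, h12 w h.1 h.2⟩⟩,
    Set.ext fun w => ⟨?_, ?_⟩⟩
  · rintro ⟨hw, h⟩
    by_cases hc : Commute d w
    · exact ⟨1, one_mem _, by rw [eq_of_tsPartners_eq_of_commute hw h hc]; simp⟩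
    · exact ⟨d * w, h21 w hw h, (ts_conj_braid hT hd hw hc).symm⟩
  · rintro ⟨g, hg, rfl⟩
    refine ⟨hconj g d hd, h12 _ (hconj g d hd) ?_⟩
    rw [← mul_assoc, ← mul_assoc]
    have h5 := mul_mem (hn.conj_mem g hg d) (inv_mem hg)
    rwa [ts_inv hT hd] at h5

end CfsgLib.ThreeTransp
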