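import Mathlib
import Cfsg.Agent.Lib.ThreeTransp.ZStarOdd
import Cfsg.Agent.Lib.ThreeTransp.RankOne
import Cfsg.Agent.Lib.Components.FStar
import Cfsg.Agent.Lib.Components.Decomposition
import Cfsg.Agent.Lib.Base.Fitting
import Cfsg.Agent.Lib.FgsB.FourOrbits

/-!
The normal structure of a group generated by a class of 3-transpositions.
-/

set_option autoImplicit false

namespace CfsgLib.ThreeTransp

open Cfsg CfsgLib.Involutions

universe u

variable {G : Type u} [Group G]

/-- A conjugacy class of 3-transpositions generating the group, not a single element. -/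
structure TClass (D : Set G) : Prop where
  ts : IsThreeTranspositionSet D
  conj : ∀ g : G, ∀ d ∈ D, g * d * g⁻¹ ∈ D
  gen : Subgroup.closure D = ⊤
  trans : ∀ a ∈ D, ∀ b ∈ D, ∃ g : G, g * a * g⁻¹ = b
  two : ∃ a ∈ D, ∃ b ∈ D, a ≠ b

theorem tclass_of_class {D : Set G} (hD : IsThreeTranspositionClass D)
    (h2 : ∃ a ∈ D, ∃ b ∈ D, a ≠ b) : TClass D := by
  obtain ⟨hT, ⟨d₀, -, hD0⟩, hgen⟩ := hD
  refine ⟨hT, fun g e he => ?_, hgen, fun a ha b hb => ?_, h2⟩
  · rw [hD0] at he ⊢
    exact he.trans (isConj_iff.2 ⟨g, rfl⟩)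
  · rw [hD0] at ha hb
    exact isConj_iff.1 (ha.symm.trans hb)

variable {D : Set G}

theorem TClass.centralized_le_center (hC : TClass D) {N : Subgroup G} [hN : N.Normal] {d : G}
    (hd : d ∈ D) (h : ∀ x ∈ N, Commute d x) : N ≤ Subgroup.center G := by
  intro x hx
  have hle : Subgroup.closure D ≤ Subgroup.centralizer ({x} : Set G) := by
    refine (Subgroup.closure_le _).2 fun e he => ?_
    obtain ⟨g, rfl⟩ := hC.trans d hd e he
    rw [SetLike.mem_coe, Subgroup.mem_centralizer_singleton_iff]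
    have hy := h (g⁻¹ * x * g) (by simpa using hN.conj_mem x hx g⁻¹)
    calc g * d * g⁻¹ * x = g * (d * (g⁻¹ * x * g)) * g⁻¹ := by group
      _ = g * ((g⁻¹ * x * g) * d) * g⁻¹ := by rw [hy.eq]
      _ = x * (g * d * g⁻¹) := by group
  rw [hC.gen] at hle
  exact Subgroup.mem_center_iff.2 fun g =>
    Subgroup.mem_centralizer_singleton_iff.1 (hle (Subgroup.mem_top g))

theorem TClass.not_mem_center (hC : TClass D) {d : G} (hd : d ∈ D) : d ∉ Subgroup.center G := by
  intro hc
  obtain ⟨a, ha, b, hb, hne⟩ := hC.two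
  have h : ∀ e ∈ D, e = d := fun e he => by
    obtain ⟨g, rfl⟩ := hC.trans d hd e he
    rw [Subgroup.mem_center_iff.1 hc g, mul_inv_cancel_right]
  exact hne ((h a ha).trans (h b hb).symm)

theorem TClass.exists_noncommute (hC : TClass D) {d : G} (hd : d ∈ D) : ∃ c ∈ D, ¬ Commute c d := by
  by_contra h
  push Not at h
  refine hC.not_mem_center hd ?_
  have hle : Subgroup.closure D ≤ Subgroup.centralizer ({d} : Set G) :=
    (Subgroup.closure_le _).2 fun c hc => Subgroup.mem_centralizer_singleton_iff.2 (h c hc).eq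
  rw [hC.gen] at hle
  exact Subgroup.mem_center_iff.2 fun g =>
    Subgroup.mem_centralizer_singleton_iff.1 (hle (Subgroup.mem_top g))

theorem TClass.not_all_commute (hC : TClass D) : ¬ ∀ a ∈ D, ∀ b ∈ D, Commute a b := fun h => by
  obtain ⟨a, ha, -⟩ := hC.two
  obtain ⟨c, hc, hn⟩ := hC.exists_noncommute ha
  exact hn (h c hc a ha)

/-- Products of members that are congruent modulo a normal `p`-subgroup. -/
theorem ts_pow_of_pgroup (hT : IsThreeTranspositionSet D) {p : ℕ} [Fact p.Prime] {N : Subgroup G}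
    (hN : IsPGroup p N) {a b : G} (ha : a ∈ D) (hb : b ∈ D) (hab : a * b ∈ N) :
    (p = 2 → Commute a b) ∧ (p = 3 → Commute a b → a = b) ∧ (3 < p → a = b) := by
  refine ⟨?_, ?_, ?_⟩
  · rintro rfl
    exact ts_commute_of_mem_aux hT hN ha hb hab
  · rintro rfl hc
    exact eq_of_commute_of_mul_mem_pgroup hN (ts_invol hT ha) (ts_invol hT hb) hc hab
  · intro h3
    obtain ⟨k, hk⟩ := hN ⟨_, hab⟩
    have hp : (a * b) ^ p ^ k = 1 := by simpa using congrArg Subtype.val hk
    have h6 : (a * b) ^ 6 = 1 := by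
      rcases hT.2 a ha b hb with h | h
      · rw [show (6 : ℕ) = 2 * 3 by norm_num, pow_mul, h, one_pow]
      · rw [show (6 : ℕ) = 3 * 2 by norm_num, pow_mul, h, one_pow]
    have hco : Nat.Coprime 6 (p ^ k) := by
      refine Nat.Coprime.pow_right _ (((Fact.out : p.Prime).coprime_iff_not_dvd.2 fun hd => ?_).symm)
      have := Nat.le_of_dvd (by norm_num) hd
      have hp' := (Fact.out : p.Prime)
      interval_cases p <;> simp_all (config := { decide := true })
    have h1 := Nat.dvd_gcd (orderOf_dvd_of_pow_eq_one h6) (orderOf_dvd_of_pow_eq_one hp)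
    rw [hco.gcd_eq_one, Nat.dvd_one, orderOf_eq_one_iff, mul_eq_one_iff_inv_eq, ts_inv hT ha] at h1
    exact h1
where
  ts_commute_of_mem_aux {D : Set G} (hT : IsThreeTranspositionSet D) {N : Subgroup G} (hN : IsPGroup 2 N)
      {a b : G} (ha : a ∈ D) (hb : b ∈ D) (hab : a * b ∈ N) : Commute a b := by
    obtain ⟨k, hk⟩ := hN ⟨_, hab⟩
    exact ts_commute_of_twoPow hT ha hb (n := k) (by simpa using congrArg Subtype.val hk)

theorem ts_commute_of_mem_two (hT : IsThreeTranspositionSet D) {N : Subgroup G} (hN : IsPGroup 2 N)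
    {a b : G} (ha : a ∈ D) (hb : b ∈ D) (hab : a * b ∈ N) : Commute a b :=
  haveI : Fact (Nat.Prime 2) := ⟨Nat.prime_two⟩
  (ts_pow_of_pgroup hT hN ha hb hab).1 rfl

theorem ts_conj_prod_mem {N : Subgroup G} [hN : N.Normal] (hT : IsThreeTranspositionSet D) {d x : G}
    (hd : d ∈ D) (hx : x ∈ N) : d * (x * d * x⁻¹) ∈ N := by
  have h := mul_mem (hN.conj_mem x hx d) (inv_mem hx)
  rw [ts_inv hT hd] at h
  simpa [mul_assoc] using h

/-- Commuting products of order two and three cannot occur. -/
theorem ts_no_six (hT : IsThreeTranspositionSet D) {d e f : G} (hd : d ∈ D) (he : e ∈ D) (hf : f ∈ D)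
    (hu : Commute d e) (hv : ¬ Commute d f) (hc : Commute (d * e) (d * f)) : d = e := by
  have h2 : (d * e) ^ 2 = 1 := (invol_commute_iff (ts_invol hT hd) (ts_invol hT he)).1 hu
  have h3 := ts_cube hT hd hf hv
  have e1 : e * f = (d * e) * (d * f) := by
    rw [hu.eq, mul_assoc e d, ← mul_assoc d, ts_mul_self hT hd, one_mul]
  rcases hT.2 e he f hf with h | h
  · rw [e1, hc.mul_pow, h2, one_mul] at h
    refine absurd ((invol_commute_iff (ts_invol hT hd) (ts_invol hT hf)).2 h) hv
  · rw [e1, hc.mul_pow, h3, mul_one, pow_succ, h2, one_mul, mul_eq_one_iff_inv_eq, ts_inv hT hd] at h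
    exact h

variable [Finite G]

omit [Finite G] in
theorem pCore_commutator_disjoint {p q : ℕ} [Fact p.Prime] [Fact q.Prime] (h : p ≠ q) :
    ∀ x ∈ pCore p G, ∀ y ∈ pCore q G, Commute x y := by
  intro x hx y hy
  have hd : Disjoint (pCore p G) (pCore q G) :=
    IsPGroup.disjoint_of_ne p q h _ _ (Base.isPGroup_pCore p G) (Base.isPGroup_pCore q G)
  exact Subgroup.commute_of_normal_of_disjoint _ _ inferInstance inferInstance hd x y hx hy

theorem TClass.pCore_le_center (hC : TClass D) {p : ℕ} (hp : p.Prime) (h3 : 3 < p) :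
    pCore p G ≤ Subgroup.center G := by
  haveI : Fact p.Prime := ⟨hp⟩
  haveI : (pCore p G).Normal := inferInstance
  obtain ⟨d, hd, -⟩ := hC.two
  refine hC.centralized_le_center hd fun x hx => ?_
  have h := (ts_pow_of_pgroup hC.ts (Base.isPGroup_pCore p G) hd (hC.conj x d hd)
    (ts_conj_prod_mem hC.ts hd hx)).2.2 h3
  calc d * x = x * d * x⁻¹ * x := by rw [← h]
    _ = x * d := by group

/-- A noncentral `O₂` gives a member commuting with `d` and congruent to it. -/
theorem TClass.exists_two (hC : TClass D) (h : ¬ pCore 2 G ≤ Subgroup.center G) {d : G} (hd : d ∈ D) :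
    ∃ e ∈ D, e ≠ d ∧ Commute d e ∧ d * e ∈ pCore 2 G := by
  haveI : (pCore 2 G).Normal := inferInstance
  by_contra hcon
  push Not at hcon
  refine h (hC.centralized_le_center hd fun x hx => ?_)
  have hm := ts_conj_prod_mem hC.ts hd hx
  have he := hC.conj x d hd
  have : x * d * x⁻¹ = d := by
    by_contra hne
    exact hcon _ he hne (ts_commute_of_mem_two hC.ts (Base.isPGroup_pCore 2 G) hd he hm) hm
  calc d * x = x * d * x⁻¹ * x := by rw [this]
    _ = x * d := by group

/-- A noncentral `O₃` gives a member not commuting with `d` and congruent to it. -/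
theorem TClass.exists_three (hC : TClass D) (h : ¬ pCore 3 G ≤ Subgroup.center G) {d : G} (hd : d ∈ D) :
    ∃ e ∈ D, ¬ Commute d e ∧ d * e ∈ pCore 3 G := by
  haveI : Fact (Nat.Prime 3) := ⟨by norm_num⟩
  haveI : (pCore 3 G).Normal := inferInstance
  by_contra hcon
  push Not at hcon
  refine h (hC.centralized_le_center hd fun x hx => ?_)
  have hm := ts_conj_prod_mem hC.ts hd hx
  have he := hC.conj x d hd
  have hce : Commute d (x * d * x⁻¹) := by
    by_contra hn
    exact hcon _ he hn hm
  have := (ts_pow_of_pgroup hC.ts (Base.isPGroup_pCore 3 G) hd he hm).2.1 rfl hce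
  calc d * x = x * d * x⁻¹ * x := by rw [← this]
    _ = x * d := by group

omit [Finite G] in
theorem solvable_of_quotient_cyclic {A : Type u} [Group A] {N : Subgroup A} [N.Normal] (hN : Group.IsSolvable N)
    {a : A} (htop : Subgroup.zpowers a ⊔ N = ⊤) : Group.IsSolvable A := by
  haveI : IsCyclic (A ⧸ N) := by
    refine ⟨⟨(a : A ⧸ N), fun q => ?_⟩⟩
    induction q using QuotientGroup.induction_on with
    | H g =>
      obtain ⟨y, hy, z, hz, rfl⟩ := Subgroup.mem_sup_of_normal_right.1 (htop ▸ Subgroup.mem_top g)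
      obtain ⟨i, rfl⟩ := Subgroup.mem_zpowers_iff.1 hy
      exact ⟨i, by rw [QuotientGroup.mk_mul, (QuotientGroup.eq_one_iff z).2 hz, mul_one]; rfl⟩
  letI : CommGroup (A ⧸ N) := IsCyclic.commGroup
  haveI := hN
  exact Group.isSolvable_of_ker_le_range N.subtype (QuotientGroup.mk' N) (by
    rw [QuotientGroup.ker_mk', Subgroup.range_subtype])

/-- If the conjugates of an involution under a component are pairwise commuting, or pairwise not,
the component centralises it. -/
theorem component_centralizes (hT : IsThreeTranspositionSet D)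
    (hconj : ∀ g : G, ∀ d ∈ D, g * d * g⁻¹ ∈ D) {K : Subgroup G} (hK : IsComponent K) {d : G} (hd : d ∈ D)
    (hdK : ∀ x ∈ K, d * x * d⁻¹ ∈ K)
    (h : (∀ x ∈ K, Commute d (x * d * x⁻¹)) ∨ ∀ x ∈ K, Commute d (x * d * x⁻¹) → x * d * x⁻¹ = d) :
    ∀ x ∈ K, Commute d x := by
  set S : Set G := {e | ∃ x ∈ K, e = x * d * x⁻¹} with hS
  set A := Subgroup.closure S with hA
  have hKA : K ≤ Subgroup.normalizer (A : Set G) := by
    have key : ∀ y ∈ K, ∀ e ∈ A, y * e * y⁻¹ ∈ A := by
      intro y hy e he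
      have hle : A ≤ A.comap (MulAut.conj y).toMonoidHom := by
        refine (Subgroup.closure_le _).2 ?_
        rintro _ ⟨x, hx, rfl⟩
        exact Subgroup.subset_closure ⟨y * x, mul_mem hy hx, by simp [mul_assoc]⟩
      exact hle he
    intro y hy
    refine Subgroup.mem_normalizer_iff.2 fun e => ⟨key y hy e, fun he => ?_⟩
    have := key y⁻¹ (inv_mem hy) _ he
    simpa [mul_assoc] using this
  have hdS : d ∈ S := ⟨1, one_mem _, by simp⟩
  have hdA : d ∈ A := Subgroup.subset_closure hdS
  have hrel : ∀ a ∈ S, ∀ b ∈ S, ∃ z : G, ∃ x ∈ K, a = z * d * z⁻¹ ∧ b = z * (x * d * x⁻¹) * z⁻¹ := by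
    rintro _ ⟨x, hx, rfl⟩ _ ⟨y, hy, rfl⟩
    exact ⟨x, x⁻¹ * y, mul_mem (inv_mem hx) hy, rfl, by group⟩
  have hsolv : Group.IsSolvable A := by
    rcases h with h | h
    · have hcomm : ∀ a ∈ S, ∀ b ∈ S, a * b = b * a := by
        intro a ha b hb
        obtain ⟨z, x, hx, rfl, rfl⟩ := hrel a ha b hb
        exact ((commute_conj_iff z).2 (h x hx)).eq
      have := Subgroup.isMulCommutative_closure hcomm
      exact Group.isSolvable_of_comm fun a b => this.is_comm.comm a b
    · have hno : ∀ a ∈ S, ∀ b ∈ S, Commute a b → a = b := by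
        intro a ha b hb hc
        obtain ⟨z, x, hx, rfl, rfl⟩ := hrel a ha b hb
        rw [h x hx ((commute_conj_iff z).1 hc)]
      have hSD : ∀ a ∈ S, a ∈ D := by rintro _ ⟨x, -, rfl⟩; exact hconj x d hd
      have hstab : ∀ g ∈ A, (∀ s ∈ S, g * s * g⁻¹ ∈ S) ∧ ∀ s ∈ S, g⁻¹ * s * g ∈ S := by
        intro g hg
        induction hg using Subgroup.closure_induction with
        | mem e he =>
          have h1 : ∀ s ∈ S, e * s * e⁻¹ ∈ S := by
            obtain ⟨x, hx, rfl⟩ := he
            rintro _ ⟨y, hy, rfl⟩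
            refine ⟨x * (d * (x⁻¹ * y) * d⁻¹), mul_mem hx (hdK _ (mul_mem (inv_mem hx) hy)), ?_⟩
            group
          refine ⟨h1, fun s hs => ?_⟩
          rw [ts_inv hT (hSD e he)]
          have := h1 s hs
          rwa [ts_inv hT (hSD e he)] at this
        | one => simp
        | mul a b _ _ ha hb =>
          refine ⟨fun s hs => ?_, fun s hs => ?_⟩
          · simpa [mul_assoc] using ha.1 _ (hb.1 s hs)
          · simpa [mul_assoc] using hb.2 _ (ha.2 s hs)
        | inv a _ ha => exact ⟨by simpa using ha.2, by simpa using ha.1⟩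
      haveI : Fact (Nat.Prime 3) := ⟨by norm_num⟩
      set a' : A := ⟨d, hdA⟩
      have hsub : ∀ b : A, b ∈ conjugatesOf a' → (b : G) ∈ S := by
        intro b hb
        obtain ⟨g, rfl⟩ := isConj_iff.1 hb
        exact (hstab g g.2).1 d hdS
      have hprod : ∀ b ∈ conjugatesOf a', ∀ c ∈ conjugatesOf a', ∃ j : ℕ, orderOf (b * c) = 3 ^ j := by
        intro b hb c hc
        rw [← Subgroup.orderOf_coe, Subgroup.coe_mul]
        exact ts_orderOf_mul hT (hSD _ (hsub b hb)) (hSD _ (hsub c hc)) (hno _ (hsub b hb) _ (hsub c hc))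
      have ha2 : orderOf a' = 2 := by rw [← Subgroup.orderOf_coe]; exact ts_invol hT hd
      have hgenA : ∀ g : A, g ∈ Subgroup.zpowers a' ⊔ pCore 3 A := by
        rintro ⟨g, hg⟩
        induction hg using Subgroup.closure_induction with
        | mem e he =>
          set e' : A := ⟨e, Subgroup.subset_closure he⟩
          have hce : IsConj a' e' := by
            rcases eq_or_ne d e with hde | hne
            · rw [show e' = a' from Subtype.ext hde.symm]
            · exact isConj_iff.2 ⟨a' * e', Subtype.ext (by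
                simpa using ts_conj_braid hT hd (hSD e he) fun hc => hne (hno d hdS e he hc))⟩
          have hm := mul_mem_pCore_of_pPower (p := 3) (by norm_num) (by norm_num) ha2 hprod
            mem_conjugatesOf_self hce
          have e1 : e' = a' * (a' * e') := by rw [← mul_assoc, invol_mul_self ha2, one_mul]
          show e' ∈ _
          rw [e1]
          exact Subgroup.mul_mem_sup (Subgroup.mem_zpowers a') hm
        | one => exact one_mem _
        | mul a b ha hb iha ihb => exact mul_mem (a := (⟨a, ha⟩ : A)) (b := ⟨b, hb⟩) iha ihb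
        | inv a ha iha => exact inv_mem (x := (⟨a, ha⟩ : A)) iha
      haveI : Group.IsNilpotent (pCore 3 A) := (Base.isPGroup_pCore 3 A).isNilpotent
      exact solvable_of_quotient_cyclic inferInstance (eq_top_iff.2 fun g _ => hgenA g)
  have hb := CfsgLib.Components.component_commutator_eq_bot_of_normalizes hK hsolv hKA
  intro x hx
  exact Subgroup.mem_centralizer_iff.1
    ((Subgroup.commutator_eq_bot_iff_le_centralizer.1 hb) hx) d hdA

theorem component_not_le_center {K : Subgroup G} (hK : IsComponent K) : ¬ K ≤ Subgroup.center G := by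
  intro h
  refine CfsgLib.Components.quasisimple_not_isMulCommutative hK.2 ⟨⟨fun a b => Subtype.ext ?_⟩⟩
  exact Subgroup.mem_center_iff.1 (h b.2) a

/-- Every member normalises every component. -/
theorem component_normalized (hT : IsThreeTranspositionSet D)
    (hconj : ∀ g : G, ∀ d ∈ D, g * d * g⁻¹ ∈ D) {K : Subgroup G} (hK : IsComponent K) {d : G} (hd : d ∈ D) :
    ∀ x ∈ K, d * x * d⁻¹ ∈ K := by
  by_contra hcon
  push Not at hcon
  obtain ⟨x₀, hx₀, hx₀'⟩ := hcon
  set K' := K.map (MulAut.conj d).toMonoidHom with hK'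
  have hK'c : IsComponent K' := CfsgLib.Components.isComponent_conj hK d
  have hne : K ≠ K' := fun e => hx₀' (e ▸ ⟨x₀, hx₀, rfl⟩ : d * x₀ * d⁻¹ ∈ K)
  have hcomm := CfsgLib.Components.components_commute hK hK'c hne
  rw [Subgroup.commutator_eq_bot_iff_le_centralizer] at hcomm
  -- every element of `K` has its square or cube central
  have hcube : ∀ x ∈ K, ∃ n, (n = 2 ∨ n = 3) ∧ x ^ n ∈ K ⊓ K' := by
    intro x hx
    have hy : d * x * d⁻¹ ∈ K' := ⟨x, hx, rfl⟩
    have hc : Commute (d * x * d⁻¹) x⁻¹ := Subgroup.mem_centralizer_iff.1 (hcomm (inv_mem hx)) _ hy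
    have he : d * (x * d * x⁻¹) = (d * x * d⁻¹) * x⁻¹ := by rw [ts_inv hT hd]; group
    have key : ∀ n : ℕ, (d * (x * d * x⁻¹)) ^ n = 1 → x ^ n ∈ K ⊓ K' := by
      intro n hn
      refine ⟨pow_mem hx n, ?_⟩
      rw [he, hc.mul_pow, inv_pow, mul_inv_eq_one] at hn
      rw [← hn]
      exact pow_mem hy n
    rcases hT.2 d hd _ (hconj x d hd) with h | h
    · exact ⟨2, Or.inl rfl, key 2 h⟩
    · exact ⟨3, Or.inr rfl, key 3 h⟩
  have hsq : ∀ x : K ⧸ Subgroup.center K, x ^ 2 = 1 ∨ x ^ 3 = 1 := by
    intro q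
    induction q using QuotientGroup.induction_on with
    | H x =>
      obtain ⟨n, hn, hm⟩ := hcube x x.2
      have hz : x ^ n ∈ Subgroup.center K := Subgroup.mem_center_iff.2 fun y => Subtype.ext (by
        simpa using (Subgroup.mem_centralizer_iff.1 (hcomm y.2) _ hm.2).symm)
      rcases hn with rfl | rfl
      · exact Or.inl (by rw [← QuotientGroup.mk_pow]; exact (QuotientGroup.eq_one_iff _).2 hz)
      · exact Or.inr (by rw [← QuotientGroup.mk_pow]; exact (QuotientGroup.eq_one_iff _).2 hz)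
  have hpf : (Nat.card (K ⧸ Subgroup.center K)).primeFactors ⊆ {2, 3} := by
    intro p hp
    obtain ⟨hp1, hp2, -⟩ := Nat.mem_primeFactors.1 hp
    haveI : Fact p.Prime := ⟨hp1⟩
    obtain ⟨q, hq⟩ := exists_prime_orderOf_dvd_card' p hp2
    rw [Finset.mem_insert, Finset.mem_singleton]
    rcases hsq q with h | h
    · exact Or.inl ((Nat.prime_dvd_prime_iff_eq hp1 Nat.prime_two).1 (hq ▸ orderOf_dvd_of_pow_eq_one h))
    · exact Or.inr ((Nat.prime_dvd_prime_iff_eq hp1 Nat.prime_three).1 (hq ▸ orderOf_dvd_of_pow_eq_one h))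
  haveI := CfsgLib.FgsB.FourOrbits.isSolvable_of_card_primeFactors_le_two
    (H := K ⧸ Subgroup.center K) ((Finset.card_le_card hpf).trans Finset.card_le_two)
  haveI : Group.IsSolvable (Subgroup.center K) :=
    Group.isSolvable_of_comm fun a b => Subtype.ext ((Subgroup.mem_center_iff.1 b.2) a)
  refine CfsgLib.Components.quasisimple_not_isSolvable hK.2
    (Group.isSolvable_of_ker_le_range (Subgroup.center K).subtype (QuotientGroup.mk' (Subgroup.center K)) ?_)
  rw [QuotientGroup.ker_mk', Subgroup.range_subtype]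

theorem TClass.component_normal (hC : TClass D) {K : Subgroup G} (hK : IsComponent K) : K.Normal := by
  refine ⟨fun x hx g => ?_⟩
  have key : ∀ g ∈ Subgroup.closure D, ∀ y ∈ K, g * y * g⁻¹ ∈ K ∧ g⁻¹ * y * g ∈ K := by
    intro g hg
    induction hg using Subgroup.closure_induction with
    | mem e he =>
      intro y hy
      have h := component_normalized hC.ts hC.conj hK he y hy
      refine ⟨h, ?_⟩
      rw [ts_inv hC.ts he] at h ⊢
      exact h
    | one => simp
    | mul a b _ _ ha hb =>
      intro y hy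
      exact ⟨by simpa [mul_assoc] using (ha _ (hb y hy).1).1, by simpa [mul_assoc] using (hb _ (ha y hy).2).2⟩
    | inv a _ ha =>
      intro y hy
      exact ⟨by simpa using (ha y hy).2, by simpa using (ha y hy).1⟩
  exact (key g (hC.gen ▸ Subgroup.mem_top g) x hx).1

/-- Both kinds of products occur in every component. -/
theorem TClass.component_both (hC : TClass D) {K : Subgroup G} (hK : IsComponent K) {d : G} (hd : d ∈ D) :
    (∃ e ∈ D, e ≠ d ∧ Commute d e ∧ d * e ∈ K) ∧ ∃ e ∈ D, ¬ Commute d e ∧ d * e ∈ K := by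
  haveI := hC.component_normal hK
  have hnc : ¬ ∀ x ∈ K, Commute d x := fun h => component_not_le_center hK (hC.centralized_le_center hd h)
  constructor
  · by_contra hcon
    push Not at hcon
    refine hnc (component_centralizes hC.ts hC.conj hK hd (component_normalized hC.ts hC.conj hK hd)
      (Or.inr fun x hx hc => ?_))
    by_contra hne
    exact hcon _ (hC.conj x d hd) hne hc (ts_conj_prod_mem hC.ts hd hx)
  · by_contra hcon
    push Not at hcon
    refine hnc (component_centralizes hC.ts hC.conj hK hd (component_normalized hC.ts hC.conj hK hd)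
      (Or.inl fun x hx => ?_))
    by_contra hne
    exact hcon _ (hC.conj x d hd) hne (ts_conj_prod_mem hC.ts hd hx)

theorem TClass.component_unique (hC : TClass D) {K K' : Subgroup G} (hK : IsComponent K)
    (hK' : IsComponent K') : K = K' := by
  by_contra hne
  obtain ⟨d, hd, -⟩ := hC.two
  obtain ⟨⟨e, he, hed, hc, hm⟩, -⟩ := hC.component_both hK hd
  obtain ⟨-, f, hf, hn, hm'⟩ := hC.component_both hK' hd
  have h := CfsgLib.Components.components_commute hK hK' hne
  exact hed (ts_no_six hC.ts hd he hf hc hn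
    (comm_of_bot h hm hm')).symm

theorem layer_commute_pCore {p : ℕ} [Fact p.Prime] {K : Subgroup G} (hK : IsComponent K) :
    ∀ x ∈ K, ∀ y ∈ pCore p G, Commute x y := by
  intro x hx y hy
  haveI : Group.IsNilpotent (pCore p G) := (Base.isPGroup_pCore p G).isNilpotent
  exact comm_of_bot (CfsgLib.Components.component_commutator_eq_bot_of_isSolvable hK
    (inferInstance : (pCore p G).Normal).isSubnormal inferInstance) hx hy

theorem TClass.fitting_le_center (hC : TClass D) (h2 : pCore 2 G ≤ Subgroup.center G)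
    (h3 : pCore 3 G ≤ Subgroup.center G) : fittingSubgroup G ≤ Subgroup.center G := by
  rw [Base.fittingSubgroup_eq_iSup_pCore]
  refine iSup_le fun p => ?_
  rcases Nat.lt_or_ge 3 (p : ℕ) with h | h
  · exact hC.pCore_le_center p.2 h
  · have := p.2.two_le
    obtain hp | hp : (p : ℕ) = 2 ∨ (p : ℕ) = 3 := by omega
    · rwa [hp]
    · rwa [hp]

/-- The three possible types. -/
theorem TClass.trichotomy (hC : TClass D) :
    (¬ pCore 2 G ≤ Subgroup.center G ∧ pCore 3 G ≤ Subgroup.center G ∧ layer G = ⊥) ∨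
    (pCore 2 G ≤ Subgroup.center G ∧ ¬ pCore 3 G ≤ Subgroup.center G ∧ layer G = ⊥) ∨
    (pCore 2 G ≤ Subgroup.center G ∧ pCore 3 G ≤ Subgroup.center G ∧ layer G ≠ ⊥) := by
  obtain ⟨d, hd, -⟩ := hC.two
  haveI : Fact (Nat.Prime 2) := ⟨Nat.prime_two⟩
  haveI : Fact (Nat.Prime 3) := ⟨Nat.prime_three⟩
  have h23 : ¬ pCore 2 G ≤ Subgroup.center G → pCore 3 G ≤ Subgroup.center G := by
    intro h2
    by_contra h3
    obtain ⟨e, he, hne, hc, hm⟩ := hC.exists_two h2 hd
    obtain ⟨f, hf, hn, hm'⟩ := hC.exists_three h3 hd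
    exact hne (ts_no_six hC.ts hd he hf hc hn
      (pCore_commutator_disjoint (by norm_num) _ hm _ hm')).symm
  have h2L : ¬ pCore 2 G ≤ Subgroup.center G → layer G = ⊥ := by
    intro h2
    rw [CfsgLib.Components.layer_eq_bot_iff]
    intro K hK
    obtain ⟨e, he, hne, hc, hm⟩ := hC.exists_two h2 hd
    obtain ⟨-, f, hf, hn, hm'⟩ := hC.component_both hK hd
    exact hne (ts_no_six hC.ts hd he hf hc hn (layer_commute_pCore hK _ hm' _ hm).symm).symm
  have h3L : ¬ pCore 3 G ≤ Subgroup.center G → layer G = ⊥ := by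
    intro h3
    rw [CfsgLib.Components.layer_eq_bot_iff]
    intro K hK
    obtain ⟨⟨e, he, hne, hc, hm⟩, -⟩ := hC.component_both hK hd
    obtain ⟨f, hf, hn, hm'⟩ := hC.exists_three h3 hd
    exact hne (ts_no_six hC.ts hd he hf hc hn (layer_commute_pCore hK _ hm _ hm')).symm
  by_cases h2 : pCore 2 G ≤ Subgroup.center G
  · by_cases h3 : pCore 3 G ≤ Subgroup.center G
    · refine Or.inr (Or.inr ⟨h2, h3, fun hL => ?_⟩)
      have hF : generalizedFittingSubgroup G ≤ Subgroup.center G := by
        rw [generalizedFittingSubgroup, hL, bot_sup_eq]; exact hC.fitting_le_center h2 h3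
      have h := (CfsgLib.Components.centralizer_fstar_le (G := G)).trans hF
      refine hC.not_mem_center hd (h (Subgroup.mem_centralizer_iff.2 fun x hx => ?_))
      exact (Subgroup.mem_center_iff.1 (hF hx) d).symm
    · exact Or.inr (Or.inl ⟨h2, h3, h3L h3⟩)
  · exact Or.inl ⟨h2, h23 h2, h2L h2⟩

omit [Finite G] in
theorem center_le_fitting : Subgroup.center G ≤ fittingSubgroup G := by
  letI : CommGroup (Subgroup.center G) :=
    { (inferInstance : Group (Subgroup.center G)) with
      mul_comm := fun a b => Subtype.ext ((Subgroup.mem_center_iff.1 b.2) a) }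
  exact le_sSup ⟨inferInstance, inferInstance⟩

theorem TClass.exists_layer (hC : TClass D) (h2 : pCore 2 G ≤ Subgroup.center G)
    (h3 : pCore 3 G ≤ Subgroup.center G) : ∃ L : Subgroup G, L.Normal ∧ IsQuasisimple L ∧
      generalizedFittingSubgroup G = L ⊔ Subgroup.center G := by
  rcases hC.trichotomy with ⟨h, -⟩ | ⟨-, h, -⟩ | ⟨-, -, hL⟩
  · exact absurd h2 h
  · exact absurd h3 h
  obtain ⟨K, hK⟩ := CfsgLib.Components.layer_ne_bot_iff.1 hL
  refine ⟨K, hC.component_normal hK, hK.2, ?_⟩
  rw [generalizedFittingSubgroup,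
    show layer G = K from le_antisymm (CfsgLib.Components.layer_le_iff.2 fun K' hK' =>
      (hC.component_unique hK' hK).le) (CfsgLib.Components.component_le_layer hK),
    le_antisymm (hC.fitting_le_center h2 h3) center_le_fitting]

omit [Finite G] in
theorem quasisimple_normal_dichotomy {L : Subgroup G} (hL : IsQuasisimple L) {N : Subgroup G}
    (hN : ∀ x ∈ L, ∀ n ∈ N, x * n * x⁻¹ ∈ N) : L ≤ N ∨ ∀ n ∈ L ⊓ N, ∀ x ∈ L, n * x = x * n := by
  haveI : (N.subgroupOf L).Normal := ⟨fun n hn x => hN x x.2 n hn⟩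
  rcases CfsgLib.Components.quasisimple_normal_eq_top_or_le_center hL (N.subgroupOf L) with h | h
  · exact Or.inl (Subgroup.subgroupOf_eq_top.1 h)
  · refine Or.inr fun n hn x hx => ?_
    have := Subgroup.mem_center_iff.1 (h (show (⟨n, hn.1⟩ : L) ∈ N.subgroupOf L from hn.2)) ⟨x, hx⟩
    exact (congrArg Subtype.val this).symm

omit [Finite G] in
theorem quasisimple_perfect {L : Subgroup G} (hL : IsQuasisimple L) : ⁅L, L⁆ = L := by
  haveI := hL.1
  rw [← Subgroup.map_subtype_commutator, Group.IsPerfect.commutator_eq_top,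
    ← MonoidHom.range_eq_map, Subgroup.range_subtype]

omit [Finite G] in
theorem quasisimple_not_central (hC : TClass D) {L : Subgroup G} [L.Normal] (hL : IsQuasisimple L) {d : G}
    (hd : d ∈ D) : ¬ ∀ x ∈ L, Commute d x := fun h => by
  have := hC.centralized_le_center hd h
  exact CfsgLib.Components.quasisimple_not_isMulCommutative hL
    ⟨⟨fun a b => Subtype.ext (Subgroup.mem_center_iff.1 (this b.2) a)⟩⟩

omit [Finite G] in
/-- Commuting members are congruent modulo a quasisimple normal subgroup. -/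
theorem TClass.mul_mem_of_commute (hC : TClass D) {L : Subgroup G} [hLn : L.Normal] (hL : IsQuasisimple L)
    {a b : G} (ha : a ∈ D) (hb : b ∈ D) (hab : Commute a b) : a * b ∈ L := by
  by_contra hnm
  have hcb : ∀ x ∈ L, Commute (x * a * x⁻¹) b := by
    intro x hx
    by_contra hn
    have hm : (x * a * x⁻¹ * b) * (a * b)⁻¹ ∈ L := by
      have h1 := mul_mem hx (inv_mem (hLn.conj_mem x hx a))
      simpa [mul_assoc] using h1
    refine hnm ?_
    have h3 := ts_cube hC.ts (hC.conj x a ha) hb hn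
    rw [← QuotientGroup.eq_one_iff, QuotientGroup.mk_mul, QuotientGroup.mk_inv, mul_inv_eq_one] at hm
    rw [← QuotientGroup.eq_one_iff]
    have h3' := congrArg (fun g : G => (g : G ⧸ L)) h3
    simp only [QuotientGroup.mk_pow, QuotientGroup.mk_one] at h3'
    rw [hm] at h3'
    have h2' := congrArg (fun g : G => (g : G ⧸ L))
      ((invol_commute_iff (ts_invol hC.ts ha) (ts_invol hC.ts hb)).1 hab)
    simp only [QuotientGroup.mk_pow, QuotientGroup.mk_one] at h2'
    rwa [pow_succ, h2', one_mul] at h3'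
  set M := Subgroup.closure {e | ∃ x ∈ L, e = x * a * x⁻¹} with hM
  have hMn : ∀ y ∈ L, ∀ e ∈ M, y * e * y⁻¹ ∈ M := by
    intro y hy e he
    have hle : M ≤ M.comap (MulAut.conj y).toMonoidHom := by
      refine (Subgroup.closure_le _).2 ?_
      rintro _ ⟨x, hx, rfl⟩
      exact Subgroup.subset_closure ⟨y * x, mul_mem hy hx, by simp [mul_assoc]⟩
    exact hle he
  have haM : a ∈ M := Subgroup.subset_closure ⟨1, one_mem _, by simp⟩
  rcases quasisimple_normal_dichotomy hL hMn with h | h
  · have hle : M ≤ Subgroup.centralizer ({b} : Set G) := by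
      refine (Subgroup.closure_le _).2 ?_
      rintro _ ⟨x, hx, rfl⟩
      exact Subgroup.mem_centralizer_singleton_iff.2 (hcb x hx).eq
    exact quasisimple_not_central hC hL hb fun x hx =>
      (Subgroup.mem_centralizer_singleton_iff.1 (hle (h hx))).symm
  · have hle : ⁅L, Subgroup.zpowers a⁆ ≤ L ⊓ M := by
      refine le_inf (Subgroup.commutator_le_left L _) ((Subgroup.commutator_le).2 fun x hx y hy => ?_)
      have hy' : y ∈ M := Subgroup.zpowers_le.2 haM hy
      exact mul_mem (hMn x hx y hy') (inv_mem hy')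
    have h1 : ⁅⁅L, Subgroup.zpowers a⁆, L⁆ = ⊥ :=
      bot_of_comm fun n hn x hx => h n (hle hn) x hx
    have h4 := CfsgLib.Components.commutator_eq_bot_of_perfect (quasisimple_perfect hL) h1
    exact quasisimple_not_central hC hL ha fun x hx =>
      (comm_of_bot h4 hx (Subgroup.mem_zpowers a)).symm

omit [Finite G] in
theorem TClass.inv_mul_mem_of_commutator (hC : TClass D) {L : Subgroup G} [hLn : L.Normal]
    (hL : IsQuasisimple L) {a b : G} (ha : a ∈ D) (hb : b ∈ D) (h : a * b * a⁻¹ * b⁻¹ ∈ L) :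
    a⁻¹ * b ∈ L := by
  rw [ts_inv hC.ts ha]
  by_cases hc : Commute a b
  · exact hC.mul_mem_of_commute hL ha hb hc
  · rw [ts_inv hC.ts ha, ts_inv hC.ts hb, mul_assoc _ a b, ← pow_two] at h
    have h3 := ts_cube hC.ts ha hb hc
    rw [← QuotientGroup.eq_one_iff, QuotientGroup.mk_pow] at h
    rw [← QuotientGroup.eq_one_iff]
    have h3' := congrArg (fun g : G => (g : G ⧸ L)) h3
    simp only [QuotientGroup.mk_pow, QuotientGroup.mk_one] at h3'
    rwa [pow_succ, h, one_mul] at h3'

end CfsgLib.ThreeTransp
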