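import Mathlib
import Cfsg.Agent.Lib.ThreeTransp.FischerCore

/-!
Primitive classes of 3-transpositions.
-/

set_option autoImplicit false

namespace CfsgLib.ThreeTransp

open Cfsg CfsgLib.Involutions

universe u

variable {G : Type u} [Group G] {D : Set G}

/-- Two members with central product coincide. -/
theorem TClass.eq_of_mul_central (hC : TClass D) {x y : G} (hx : x ∈ D) (hy : y ∈ D)
    (h : x * y ∈ Subgroup.center G) : x = y := by
  have hy' : y = x * (x * y) := by rw [← mul_assoc, ts_mul_self hC.ts hx, one_mul]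
  have hc : Commute x y := by
    have h1 := Subgroup.mem_center_iff.1 h x
    rw [← mul_assoc, ts_mul_self hC.ts hx, one_mul] at h1
    calc x * y = x * (x * y * x) := by rw [← h1]
      _ = y * x := by rw [← mul_assoc, ← mul_assoc, ts_mul_self hC.ts hx, one_mul]
  obtain ⟨e, he, hne⟩ := hC.exists_noncommute hx
  have h2 := (invol_commute_iff (ts_invol hC.ts hx) (ts_invol hC.ts hy)).1 hc
  have hcz : Commute (e * x) (x * y) := (Subgroup.mem_center_iff.1 h (e * x))
  have key : e * y = (e * x) * (x * y) := by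
    rw [mul_assoc, ← mul_assoc x, ts_mul_self hC.ts hx, one_mul]
  rcases hC.ts.2 e he y hy with h' | h'
  · rw [key, hcz.mul_pow, h2, mul_one] at h'
    exact absurd ((invol_commute_iff (ts_invol hC.ts he) (ts_invol hC.ts hx)).2 h') hne
  · rw [key, hcz.mul_pow, ts_cube hC.ts he hx hne, one_mul, pow_succ, h2, one_mul,
      mul_eq_one_iff_inv_eq, ts_inv hC.ts hx] at h'
    exact h'

/-- A conjugation block. -/
def conjSet (g : G) (B : Set G) : Set G := (fun x => g * x * g⁻¹) '' B

theorem conjSet_mul (g h : G) (B : Set G) : conjSet (g * h) B = conjSet g (conjSet h B) := by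
  rw [conjSet, conjSet, conjSet, Set.image_image]
  exact Set.image_congr fun x _ => by group

theorem conjSet_one (B : Set G) : conjSet 1 B = B := by simp [conjSet]

/-- The set stabiliser. -/
def blockStab (B : Set G) : Subgroup G where
  carrier := {g | conjSet g B = B}
  one_mem' := conjSet_one B
  mul_mem' := fun {g h} hg hh => by
    show conjSet (g * h) B = B
    rw [conjSet_mul, hh, hg]
  inv_mem' := fun {g} hg => by
    show conjSet g⁻¹ B = B
    conv_lhs => rw [← (show conjSet g B = B from hg), ← conjSet_mul, inv_mul_cancel, conjSet_one]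

variable [Finite G]

theorem TClass.closure_le_blockStab (hC : TClass D) {L : Subgroup G} {d : G}
    (h : L ⊔ Subgroup.zpowers d = ⊤) {B : Set G} (hBD : B ⊆ D) {b : G} (hb : b ∈ B)
    (hL : L ≤ blockStab B) (hd : d ∈ blockStab B) : B = D := by
  have htop : blockStab B = ⊤ := top_unique (h ▸ sup_le hL (Subgroup.zpowers_le.2 hd))
  refine Set.Subset.antisymm hBD fun e he => ?_
  obtain ⟨g, rfl⟩ := hC.trans b (hBD hb) e he
  have hg : conjSet g B = B := (htop ▸ Subgroup.mem_top g : g ∈ blockStab B)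
  rw [← hg]
  exact ⟨b, hb, rfl⟩

theorem sup_zpowers_of_index_le_two {L : Subgroup G} (hL : L.index ≤ 2) {d : G} (h : d ∈ L → L = ⊤) :
    L ⊔ Subgroup.zpowers d = ⊤ := by
  by_cases hd : d ∈ L
  · rw [h hd, top_sup_eq]
  have hlt : L < L ⊔ Subgroup.zpowers d :=
    lt_of_le_of_ne le_sup_left fun e => hd (e ▸ Subgroup.mem_sup_right (Subgroup.mem_zpowers d))
  have h1 := Subgroup.index_strictAnti hlt
  refine Subgroup.index_eq_one.1 ?_
  have := (Subgroup.index_ne_zero_of_finite (H := L ⊔ Subgroup.zpowers d))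
  omega

/-- Index at most two gives primitivity. -/
theorem TClass.primitive_of_index (hC : TClass D) (h2 : pCore 2 G ≤ Subgroup.center G)
    (h3 : pCore 3 G ≤ Subgroup.center G) {L : Subgroup G} [hLn : L.Normal] (hL : IsQuasisimple L)
    (hF : generalizedFittingSubgroup G = L ⊔ Subgroup.center G) (hidx : L.index ≤ 2) :
    IsPrimitiveUnderConj D := by
  refine ⟨hC.trans, hC.two, fun B hBD hB => ?_⟩
  by_contra hcon
  push Not at hcon
  obtain ⟨⟨x₀, hx₀, y₀, hy₀, hne₀⟩, hBne⟩ := hcon
  have hT := hC.ts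
  have hblock : ∀ g, conjSet g B = B ∨ Disjoint (conjSet g B) B := hB
  have hmem : ∀ {g : G}, ∀ {z}, z ∈ conjSet g B → z ∈ B → g ∈ blockStab B := fun {g z} h1 h2 =>
    (hblock g).resolve_right fun h => Set.disjoint_left.1 h h1 h2
  have hBstab : ∀ x ∈ B, x ∈ blockStab B := fun x hx =>
    hmem ⟨x, hx, by simp⟩ hx
  -- outside members fixing the block centralise it
  have hfix : ∀ e ∈ D, e ∉ B → e ∈ blockStab B → ∀ x ∈ B, Commute e x := by
    intro e he heB hes x hx
    by_contra hn
    refine heB ?_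
    have h1 : e * x * e⁻¹ ∈ B := (show conjSet e B = B from hes) ▸ ⟨x, hx, rfl⟩
    have h4 : x * (e * x * e⁻¹) * x⁻¹ ∈ B :=
      (show conjSet x B = B from hBstab x hx) ▸ ⟨_, h1, rfl⟩
    rw [ts_inv hT he, ← ts_braid hT (hBD hx) he fun h => hn h.symm, ts_inv hT (hBD hx)] at h4
    have hxx : ∀ w, x * (x * w) = w := fun w => by rw [← mul_assoc, ts_mul_self hT (hBD hx), one_mul]
    simpa [mul_assoc, hxx, ts_mul_self hT (hBD hx)] using h4
  have hblock' : ∀ g g' : G, ∀ {z}, z ∈ conjSet g B → z ∈ conjSet g' B → conjSet g B = conjSet g' B := by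
    intro g g' z h1 h2
    have h5 : g'⁻¹ * g ∈ blockStab B := by
      obtain ⟨b, hb, rfl⟩ := h1
      obtain ⟨b', hb', hbb⟩ := h2
      refine hmem (z := b') ⟨b, hb, ?_⟩ hb'
      have hbb' : g' * b' * g'⁻¹ = g * b * g⁻¹ := hbb
      calc g'⁻¹ * g * b * (g'⁻¹ * g)⁻¹ = g'⁻¹ * (g * b * g⁻¹) * g' := by group
        _ = g'⁻¹ * (g' * b' * g'⁻¹) * g' := by rw [hbb']
        _ = b' := by group
    rw [show g = g' * (g'⁻¹ * g) by group, conjSet_mul, show conjSet (g'⁻¹ * g) B = B from h5]
  -- products inside the block fix all blocks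
  have hK : ∀ x ∈ B, ∀ y ∈ B, ∀ g : G, g⁻¹ * (x * y) * g ∈ blockStab B := by
    intro x hx y hy g
    suffices hs : conjSet (x * y) (conjSet g B) = conjSet g B by
      show conjSet (g⁻¹ * (x * y) * g) B = B
      rw [conjSet_mul, conjSet_mul, hs, ← conjSet_mul, inv_mul_cancel, conjSet_one]
    by_cases hg : conjSet g B = B
    · rw [hg]
      exact (mul_mem (hBstab x hx) (hBstab y hy) : x * y ∈ blockStab B)
    set c := g * x * g⁻¹ with hc
    have hcC : c ∈ conjSet g B := ⟨x, hx, rfl⟩
    have hcD : c ∈ D := hC.conj g x (hBD hx)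
    have hcB : c ∉ B := fun h => hg (hmem hcC h)
    -- the image of the second block under a member of the first
    have himg : ∀ z ∈ B, conjSet z (conjSet g B) =
        if conjSet c B = B then conjSet g B else conjSet c B := by
      intro z hz
      have hzD := hBD hz
      by_cases hcs : conjSet c B = B
      · rw [if_pos hcs]
        have hcom := hfix c hcD hcB hcs z hz
        rw [← conjSet_mul]
        exact hblock' _ _ (z := c) ⟨x, hx, by
          show z * g * x * (z * g)⁻¹ = c
          rw [show z * g * x * (z * g)⁻¹ = z * c * z⁻¹ by rw [hc]; group, ← hcom.eq, mul_inv_cancel_right]⟩ hcC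
      · rw [if_neg hcs, ← conjSet_mul]
        have hn : ¬ Commute z c := fun h => hcs (hmem ⟨z, hz, by
          show c * z * c⁻¹ = z
          rw [← h.eq, mul_inv_cancel_right]⟩ hz)
        exact hblock' _ _ (z := z * c * z⁻¹) ⟨x, hx, by
          show z * g * x * (z * g)⁻¹ = z * c * z⁻¹
          rw [hc]; group⟩ ⟨z, hz, by
          show c * z * c⁻¹ = z * c * z⁻¹
          rw [ts_inv hT hcD, ts_inv hT hzD, ts_braid hT hzD hcD hn]⟩
    have e : conjSet y (conjSet g B) = conjSet x (conjSet g B) := (himg y hy).trans (himg x hx).symm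
    rw [conjSet_mul, e, ← conjSet_mul, ts_mul_self hT (hBD hx), conjSet_one]
  set K := (blockStab B).normalCore with hKdef
  have hxyK : ∀ x ∈ B, ∀ y ∈ B, x * y ∈ K := by
    intro x hx y hy b
    have := hK x hx y hy b⁻¹
    rwa [inv_inv] at this
  have hKn : K.Normal := inferInstance
  rcases quasisimple_normal_dichotomy hL (N := K) (fun z _ n hn => hKn.conj_mem n hn z) with h | h
  · refine hBne (hC.closure_le_blockStab (L := L) (d := x₀) ?_ hBD hx₀
      (h.trans (Subgroup.normalCore_le _)) (hBstab x₀ hx₀))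
    refine sup_zpowers_of_index_le_two hidx fun hx => top_unique (hC.gen ▸ (Subgroup.closure_le _).2 ?_)
    intro e he
    obtain ⟨g, rfl⟩ := hC.trans x₀ (hBD hx₀) e he
    exact hLn.conj_mem x₀ hx g
  · have h1 : ⁅⁅L, K⁆, L⁆ = ⊥ := by
      refine bot_of_comm fun n hn x hx => h n ?_ x hx
      exact ⟨Subgroup.commutator_le_left L K hn, Subgroup.commutator_le_right L K hn⟩
    have h4 := CfsgLib.Components.commutator_eq_bot_of_perfect (quasisimple_perfect hL) h1
    have hcent : x₀ * y₀ ∈ Subgroup.center G := by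
      refine hC.fitting_le_center h2 h3 (CfsgLib.Components.centralizer_fstar_le_fitting ?_)
      rw [hF]
      have hle : L ⊔ Subgroup.center G ≤ Subgroup.centralizer ({x₀ * y₀} : Set G) :=
        sup_le (fun z hz => Subgroup.mem_centralizer_singleton_iff.2 (comm_of_bot h4 hz (hxyK x₀ hx₀ y₀ hy₀)))
          (Subgroup.center_le_centralizer _)
      exact Subgroup.mem_centralizer_iff.2 fun z hz => Subgroup.mem_centralizer_singleton_iff.1 (hle hz)
    exact hne₀ (hC.eq_of_mul_central (hBD hx₀) (hBD hy₀) hcent)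

/-- Reachability in the commuting graph through members. -/
def CReach (D : Set G) : G → G → Prop :=
  Relation.ReflTransGen fun a b => a ∈ D ∧ b ∈ D ∧ Commute a b

omit [Finite G] in
theorem connected_iff_creach (hne : D.Nonempty) :
    (commutingGraph D).Connected ↔ ∀ a ∈ D, ∀ b ∈ D, CReach D a b := by
  constructor
  · intro h a ha b hb
    obtain ⟨w⟩ := h.preconnected ⟨a, ha⟩ ⟨b, hb⟩
    have key : ∀ (u v : D), (commutingGraph D).Walk u v → CReach D u v := by
      intro u v w
      induction w with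
      | nil => exact Relation.ReflTransGen.refl
      | @cons u v w h _ ih =>
        refine Relation.ReflTransGen.head ⟨u.2, v.2, ?_⟩ ih
        rw [commutingGraph, SimpleGraph.fromRel_adj] at h
        exact h.2.elim id Commute.symm
    exact key _ _ w
  · intro h
    have key : ∀ {a b : G}, CReach D a b → ∀ (ha : a ∈ D) (hb : b ∈ D),
        (commutingGraph D).Reachable ⟨a, ha⟩ ⟨b, hb⟩ := by
      intro a b hr
      induction hr with
      | refl => exact fun ha hb => SimpleGraph.Reachable.refl _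
      | @tail c e _ hce ih =>
        intro ha he
        refine (ih ha hce.1).trans ?_
        rcases eq_or_ne c e with rfl | hne
        · exact SimpleGraph.Reachable.refl _
        · refine SimpleGraph.Adj.reachable ?_
          rw [commutingGraph, SimpleGraph.fromRel_adj]
          exact ⟨fun e => hne (congrArg Subtype.val e), Or.inl hce.2.2⟩
    haveI : Nonempty D := hne.to_subtype
    exact ⟨fun a b => key (h a a.2 b b.2) a.2 b.2⟩

/-- A connected commuting graph forces index at most two. -/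
theorem TClass.index_le_two (hC : TClass D) {L : Subgroup G} [hLn : L.Normal] (hL : IsQuasisimple L)
    (hcon : (commutingGraph D).Connected) : L.index ≤ 2 := by
  obtain ⟨d, hd, -⟩ := hC.two
  rw [connected_iff_creach ⟨d, hd⟩] at hcon
  have hall : ∀ e, CReach D d e → d * e ∈ L := by
    intro e he
    induction he with
    | refl => rw [ts_mul_self hC.ts hd]; exact one_mem _
    | @tail c e _ hce ih =>
      have := mul_mem ih (hC.mul_mem_of_commute hL hce.1 hce.2.1 hce.2.2)
      rwa [mul_assoc, ← mul_assoc c, ts_mul_self hC.ts hce.1, one_mul] at this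
  have htop : L ⊔ Subgroup.zpowers d = ⊤ := by
    refine top_unique (hC.gen ▸ (Subgroup.closure_le _).2 fun e he => ?_)
    have e1 : e = d * (d * e) := by rw [← mul_assoc, ts_mul_self hC.ts hd, one_mul]
    rw [SetLike.mem_coe, e1]
    exact mul_mem (Subgroup.mem_sup_right (Subgroup.mem_zpowers d))
      (Subgroup.mem_sup_left (hall e (hcon d hd e he)))
  have hsurj : Function.Surjective
      ((QuotientGroup.mk' L).comp (Subgroup.zpowers d).subtype) := by
    intro q
    induction q using QuotientGroup.induction_on with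
    | H g =>
      obtain ⟨z, hz, y, hy, rfl⟩ := Subgroup.mem_sup_of_normal_left.1 (htop ▸ Subgroup.mem_top g)
      refine ⟨⟨y, hy⟩, ?_⟩
      show (y : G ⧸ L) = ((z * y : G) : G ⧸ L)
      rw [QuotientGroup.mk_mul, (QuotientGroup.eq_one_iff z).2 hz, one_mul]
  have := Nat.card_le_card_of_surjective _ hsurj
  rwa [Nat.card_zpowers, ts_invol hC.ts hd] at this

/-- The class of a primitive 3-transposition group. -/
theorem tclass_of_primitive (hD : IsThreeTranspositionGroup D) (hp : IsPrimitiveUnderConj D) : TClass D :=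
  ⟨hD.1, hD.2.1, hD.2.2, hp.1, hp.2.1⟩

theorem TClass.pCores_central_of_primitive (hC : TClass D) (hp : IsPrimitiveUnderConj D)
    (hw : ∃ a ∈ D, ∃ b ∈ D, a ≠ b ∧ Commute a b) :
    pCore 2 G ≤ Subgroup.center G ∧ pCore 3 G ≤ Subgroup.center G := by
  obtain ⟨d, hd, -⟩ := hC.two
  have horb : ∀ N : Subgroup G, N.Normal → ¬ N ≤ Subgroup.center G → ∀ e ∈ D, d * e ∈ N := by
    intro N hN hnc
    have hB := hp.2.2 {e | ∃ x ∈ N, x * d * x⁻¹ = e} (by rintro _ ⟨x, -, rfl⟩; exact hC.conj x d hd) (by
      intro g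
      rw [or_iff_not_imp_right, Set.not_disjoint_iff]
      rintro ⟨_, ⟨_, ⟨x, hx, rfl⟩, rfl⟩, y, hy, hyx⟩
      have hyx' : y * d * y⁻¹ = g * (x * d * x⁻¹) * g⁻¹ := hyx
      have hgd : ∀ t, g * (t * d * t⁻¹) * g⁻¹ = (g * t * x⁻¹ * g⁻¹ * y) * d * (g * t * x⁻¹ * g⁻¹ * y)⁻¹ := by
        intro t
        calc g * (t * d * t⁻¹) * g⁻¹
            = (g * t * x⁻¹ * g⁻¹) * (g * (x * d * x⁻¹) * g⁻¹) * (g * t * x⁻¹ * g⁻¹)⁻¹ := by group
          _ = (g * t * x⁻¹ * g⁻¹) * (y * d * y⁻¹) * (g * t * x⁻¹ * g⁻¹)⁻¹ := by rw [hyx']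
          _ = _ := by group
      refine Set.Subset.antisymm ?_ ?_
      · rintro _ ⟨_, ⟨t, ht, rfl⟩, rfl⟩
        refine ⟨_, mul_mem ?_ hy, (hgd t).symm⟩
        have := hN.conj_mem _ (mul_mem ht (inv_mem hx)) g
        simpa [mul_assoc] using this
      · rintro _ ⟨t, ht, rfl⟩
        refine ⟨_, ⟨g⁻¹ * t * y⁻¹ * g * x, mul_mem ?_ hx, rfl⟩, ?_⟩
        · have := hN.conj_mem _ (mul_mem ht (inv_mem hy)) g⁻¹
          simpa [mul_assoc] using this
        · show g * (g⁻¹ * t * y⁻¹ * g * x * d * (g⁻¹ * t * y⁻¹ * g * x)⁻¹) * g⁻¹ = t * d * t⁻¹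
          rw [hgd]; group)
    rcases hB with hB | hB
    · refine absurd (hC.centralized_le_center hd fun x hx => ?_) hnc
      have := hB ⟨x, hx, rfl⟩ ⟨1, one_mem _, show (1 : G) * d * 1⁻¹ = d by simp⟩
      calc d * x = x * d * x⁻¹ * x := by rw [this]
        _ = x * d := by group
    · intro e he
      rw [← hB] at he
      obtain ⟨x, hx, rfl⟩ := he
      exact ts_conj_prod_mem (hN := hN) hC.ts hd hx
  have hprod : ∀ (N : Subgroup G), (∀ e ∈ D, d * e ∈ N) → ∀ a ∈ D, ∀ b ∈ D, a * b ∈ N := by
    intro N h a ha b hb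
    have := mul_mem (inv_mem (h a ha)) (h b hb)
    rwa [mul_inv_rev, ts_inv hC.ts hd, ts_inv hC.ts ha, mul_assoc, ← mul_assoc d,
      ts_mul_self hC.ts hd, one_mul] at this
  constructor <;> by_contra hnc
  · exact hC.not_all_commute fun a ha b hb => ts_commute_of_mem_two hC.ts (Base.isPGroup_pCore 2 G) ha hb
      (hprod _ (horb _ inferInstance hnc) a ha b hb)
  · obtain ⟨a, ha, b, hb, hne, hc⟩ := hw
    haveI : Fact (Nat.Prime 3) := ⟨Nat.prime_three⟩
    exact hne ((ts_pow_of_pgroup hC.ts (Base.isPGroup_pCore 3 G) ha hb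
      (hprod _ (horb _ inferInstance hnc) a ha b hb)).2.1 rfl hc)

theorem TClass.connected_of_primitive (hC : TClass D) (hp : IsPrimitiveUnderConj D)
    (hw : ∃ a ∈ D, ∃ b ∈ D, a ≠ b ∧ Commute a b) : (commutingGraph D).Connected := by
  obtain ⟨a, ha, b, hb, hne, hc⟩ := hw
  rw [connected_iff_creach ⟨a, ha⟩]
  have hsymm : ∀ {x y}, CReach D x y → CReach D y x := by
    intro x y h
    induction h with
    | refl => exact Relation.ReflTransGen.refl
    | tail _ hce ih => exact Relation.ReflTransGen.head ⟨hce.2.1, hce.1, hce.2.2.symm⟩ ih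
  have hconj : ∀ g {x y}, CReach D x y → CReach D (g * x * g⁻¹) (g * y * g⁻¹) := fun g _ _ h =>
    h.lift (fun x => g * x * g⁻¹) fun p q hpq =>
      ⟨hC.conj g p hpq.1, hC.conj g q hpq.2.1, (commute_conj_iff g).2 hpq.2.2⟩
  have hB := hp.2.2 {x | x ∈ D ∧ CReach D a x} (fun x hx => hx.1) (by
    intro g
    rw [or_iff_not_imp_right, Set.not_disjoint_iff]
    rintro ⟨_, ⟨x, hx, rfl⟩, hz⟩
    have hga : CReach D a (g * a * g⁻¹) := hz.2.trans (hconj g (hsymm hx.2))
    refine Set.Subset.antisymm ?_ ?_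
    · rintro _ ⟨y, hy, rfl⟩
      exact ⟨hC.conj g y hy.1, hga.trans (hconj g hy.2)⟩
    · intro y hy
      refine ⟨g⁻¹ * y * g, ⟨by simpa using hC.conj g⁻¹ y hy.1, ?_⟩, by group⟩
      have := hconj g⁻¹ ((hsymm hga).trans hy.2)
      rwa [show g⁻¹ * (g * a * g⁻¹) * g⁻¹⁻¹ = a by group, inv_inv] at this)
  have hab : CReach D a b := Relation.ReflTransGen.single ⟨ha, hb, hc⟩
  rcases hB with hB | hB
  · exact absurd (hB ⟨ha, Relation.ReflTransGen.refl⟩ ⟨hb, hab⟩) hne
  · intro x hx y hy
    rw [← hB] at hx hy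
    exact (hsymm hx.2).trans hy.2

/-- The structure of a primitive class of width at least two. -/
theorem TClass.layer_of_primitive (hC : TClass D) (hp : IsPrimitiveUnderConj D)
    (hw : ∃ a ∈ D, ∃ b ∈ D, a ≠ b ∧ Commute a b) : ∃ L : Subgroup G, L.Normal ∧ IsQuasisimple L ∧
      L.index ≤ 2 ∧ generalizedFittingSubgroup G = L ⊔ Subgroup.center G := by
  obtain ⟨h2, h3⟩ := hC.pCores_central_of_primitive hp hw
  obtain ⟨L, hLn, hL, hF⟩ := hC.exists_layer h2 h3
  exact ⟨L, hLn, hL, hC.index_le_two hL (hC.connected_of_primitive hp hw), hF⟩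

/-- The members commuting with one generate a maximal subgroup generated by members. -/
theorem TClass.maximal_commuting (hC : TClass D) (hp : IsPrimitiveUnderConj D)
    (hw : ∃ a ∈ D, ∃ b ∈ D, a ≠ b ∧ Commute a b) {d : G} (hd : d ∈ D) :
    Subgroup.closure {y : G | y ∈ D ∧ Commute d y} ≠ ⊤ ∧ ∀ H : Subgroup G, IsDSubgroup D H →
      Subgroup.closure {y : G | y ∈ D ∧ Commute d y} ≤ H →
      H = Subgroup.closure {y : G | y ∈ D ∧ Commute d y} ∨ H = ⊤ := by
  have hT := hC.ts
  set C := Subgroup.closure {y : G | y ∈ D ∧ Commute d y} with hCdef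
  refine ⟨fun h => ?_, fun H hH hCH => ?_⟩
  · refine hC.not_mem_center hd ?_
    have hle : C ≤ Subgroup.centralizer ({d} : Set G) :=
      (Subgroup.closure_le _).2 fun y hy => Subgroup.mem_centralizer_singleton_iff.2 hy.2.eq.symm
    rw [h] at hle
    exact Subgroup.mem_center_iff.2 fun g => Subgroup.mem_centralizer_singleton_iff.1 (hle (Subgroup.mem_top g))
  set X : Set G := {y | y ∈ D ∧ y ∈ H} with hX
  have hdH : d ∈ H := hCH (Subgroup.subset_closure ⟨hd, Commute.refl d⟩)
  by_cases hall : ∀ y ∈ X, Commute d y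
  · left
    refine le_antisymm ?_ hCH
    rw [← hH]
    exact (Subgroup.closure_le _).2 fun y hy => Subgroup.subset_closure ⟨hy.1, hall y hy⟩
  right
  push Not at hall
  obtain ⟨g₀, hg₀, hng⟩ := hall
  have hXconj : ∀ h ∈ H, ∀ y ∈ X, h * y * h⁻¹ ∈ X := fun h hh y hy =>
    ⟨hC.conj h y hy.1, mul_mem (mul_mem hh hy.2) (inv_mem hh)⟩
  set B : Set G := {x | ∃ h ∈ H, x = h * d * h⁻¹} with hBdef
  have hBX : ∀ x ∈ B, x ∈ X := by
    rintro _ ⟨h, hh, rfl⟩; exact hXconj h hh d ⟨hd, hdH⟩
  have hBconj : ∀ h ∈ H, ∀ x ∈ B, h * x * h⁻¹ ∈ B := by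
    rintro h hh _ ⟨t, ht, rfl⟩
    exact ⟨h * t, mul_mem hh ht, by group⟩
  set A : Set G := {a | a ∈ X ∧ a ∉ B} with hAdef
  have hAB : ∀ a ∈ A, ∀ x ∈ B, Commute a x := by
    intro a ha x hx
    by_contra hn
    refine ha.2 ?_
    have := hBconj (x * a) (mul_mem (hBX x hx).2 ha.1.2) x hx
    rwa [ts_conj_braid hT (hBX x hx).1 ha.1.1 fun h => hn h.symm] at this
  have hdB : d ∈ B := ⟨1, one_mem _, by simp⟩
  have hCX : ∀ y ∈ D, Commute d y → y ∈ X := fun y hy hc => ⟨hy, hCH (Subgroup.subset_closure ⟨hy, hc⟩)⟩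
  have hAc : ∀ c, Commute c d → ∀ a ∈ A, c⁻¹ * a * c ∈ A := by
    intro c hc a ha
    have hcd : c⁻¹ * d * c = d := by rw [mul_assoc, ← hc.eq, inv_mul_cancel_left]
    have haX : c⁻¹ * a * c ∈ X := by
      refine hCX _ (by simpa using hC.conj c⁻¹ a ha.1.1) ?_
      have := (commute_conj_iff c⁻¹).2 (hAB a ha d hdB).symm
      rwa [inv_inv, hcd] at this
    refine ⟨haX, fun haB => ha.2 ?_⟩
    set B' : Set G := {x | c⁻¹ * x * c ∈ B} with hB'
    have hsub : ∀ x ∈ B, c⁻¹ * x * c ∈ X := by
      intro x hx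
      obtain ⟨h, hh, e⟩ := haB
      have h1 : Commute (c⁻¹ * a * c) (c⁻¹ * x * c) := by
        have := (commute_conj_iff c⁻¹).2 (hAB a ha x hx)
        rwa [inv_inv] at this
      rw [e, ← commute_conj_iff h⁻¹, inv_inv, show h⁻¹ * (h * d * h⁻¹) * h = d by group] at h1
      have h2 := hXconj h hh _ (hCX (h⁻¹ * (c⁻¹ * x * c) * h) (by
        simpa [mul_assoc] using hC.conj h⁻¹ _ (hC.conj c⁻¹ x (hBX x hx).1)) h1)
      simpa [mul_assoc] using h2
    have hinv : ∀ h ∈ H, ∀ x, x ∈ B ∧ x ∈ B' → (h * x * h⁻¹ ∈ B ∧ h * x * h⁻¹ ∈ B') ∧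
        (h⁻¹ * x * h ∈ B ∧ h⁻¹ * x * h ∈ B') := by
      intro h hh
      rw [← hH] at hh
      induction hh using Subgroup.closure_induction with
      | mem y hy =>
        intro x hx
        have hgoal : y * x * y⁻¹ ∈ B ∧ y * x * y⁻¹ ∈ B' := by
          refine ⟨hBconj y hy.2 x hx.1, ?_⟩
          by_cases hyB : y ∈ B
          · show c⁻¹ * (y * x * y⁻¹) * c ∈ B
            have := hBconj _ (hsub y hyB).2 _ (hx.2 : c⁻¹ * x * c ∈ B)
            simpa [mul_assoc] using this
          · rw [(hAB y ⟨hy, hyB⟩ x hx.1).eq, mul_inv_cancel_right]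
            exact hx.2
        refine ⟨hgoal, ?_⟩
        rw [ts_inv hT hy.1] at hgoal ⊢
        exact hgoal
      | one => intro x hx; simp [hx.1, hx.2]
      | mul p q _ _ ihp ihq =>
        intro x hx
        refine ⟨?_, ?_⟩
        · have := (ihp _ (ihq x hx).1).1; simpa [mul_assoc] using this
        · have := (ihq _ (ihp x hx).2).2; simpa [mul_assoc] using this
      | inv p _ ihp =>
        intro x hx
        have := ihp x hx
        exact ⟨by simpa using this.2, by simpa using this.1⟩
    have hBB' : B ⊆ B' := by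
      rintro _ ⟨h, hh, rfl⟩
      exact (hinv h hh d ⟨hdB, by show c⁻¹ * d * c ∈ B; rw [hcd]; exact hdB⟩).1.2
    have hcard : B'.ncard = B.ncard := by
      have : (fun x => c⁻¹ * x * c) '' B' = B := by
        ext z
        refine ⟨by rintro ⟨x, hx, rfl⟩; exact hx, fun hz => ⟨c * z * c⁻¹, ?_, by group⟩⟩
        show c⁻¹ * (c * z * c⁻¹) * c ∈ B
        rwa [show c⁻¹ * (c * z * c⁻¹) * c = z by group]
      conv_rhs => rw [← this]
      exact (Set.ncard_image_of_injective _ fun p q h => by simpa using h).symm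
    rw [Set.eq_of_subset_of_ncard_le hBB' hcard.le]
    exact haB
  let S : Subgroup G := H ⊔ Subgroup.centralizer ({d} : Set G)
  have hSA : ∀ s ∈ S, ∀ a ∈ A, s⁻¹ * a * s ∈ A ∧ s * a * s⁻¹ ∈ A := by
    intro s hs
    have hH' : ∀ h ∈ H, ∀ a ∈ A, h * a * h⁻¹ ∈ A := fun h hh a ha =>
      ⟨hXconj h hh a ha.1, fun hb => ha.2 (by
        have := hBconj h⁻¹ (inv_mem hh) _ hb
        simpa [mul_assoc] using this)⟩
    change s ∈ H ⊔ Subgroup.centralizer ({d} : Set G) at hs
    rw [← Subgroup.closure_eq H, ← Subgroup.closure_eq (Subgroup.centralizer ({d} : Set G)),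
      ← Subgroup.closure_union] at hs
    induction hs using Subgroup.closure_induction with
    | mem y hy =>
      intro a ha
      rcases hy with hy | hy
      · exact ⟨by simpa using hH' y⁻¹ (inv_mem hy) a ha, hH' y hy a ha⟩
      · have hyd : Commute y d := Subgroup.mem_centralizer_singleton_iff.1 hy
        exact ⟨hAc y hyd a ha, by simpa using hAc y⁻¹ hyd.inv_left a ha⟩
    | one => intro a ha; simpa using ha
    | mul p q _ _ ihp ihq =>
      intro a ha
      refine ⟨?_, ?_⟩
      · have := (ihq _ (ihp a ha).1).1; simpa [mul_assoc] using this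
      · have := (ihp _ (ihq a ha).2).2; simpa [mul_assoc] using this
    | inv p _ ihp => intro a ha; exact ⟨by simpa using (ihp a ha).2, by simpa using (ihp a ha).1⟩
  have hAempty : ∀ a, a ∉ A := by
    intro a ha
    have hB := hp.2.2 {x | ∃ s ∈ S, s * d * s⁻¹ = x} (by rintro _ ⟨s, -, rfl⟩; exact hC.conj s d hd) (by
      intro g
      rw [or_iff_not_imp_right, Set.not_disjoint_iff]
      rintro ⟨_, ⟨_, ⟨s, hs, rfl⟩, rfl⟩, t, ht, hts⟩
      have hts' : t * d * t⁻¹ = g * (s * d * s⁻¹) * g⁻¹ := hts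
      have hm : t⁻¹ * g * s ∈ S := Subgroup.mem_sup_right (Subgroup.mem_centralizer_singleton_iff.2 (by
        calc t⁻¹ * g * s * d = t⁻¹ * (g * (s * d * s⁻¹) * g⁻¹) * (g * s) := by group
          _ = t⁻¹ * (t * d * t⁻¹) * (g * s) := by rw [hts']
          _ = d * (t⁻¹ * g * s) := by group))
      have hg : g ∈ S := by
        have := mul_mem (mul_mem ht hm) (inv_mem hs)
        simpa [mul_assoc] using this
      refine Set.Subset.antisymm ?_ ?_
      · rintro _ ⟨_, ⟨r, hr, rfl⟩, rfl⟩
        exact ⟨g * r, mul_mem hg hr, by group⟩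
      · rintro _ ⟨r, hr, rfl⟩
        exact ⟨_, ⟨g⁻¹ * r, mul_mem (inv_mem hg) hr, rfl⟩, by group⟩)
    have hg0B : g₀ ∈ B := by
      refine ⟨d * g₀, mul_mem hdH hg₀.2, (ts_conj_braid hT hd hg₀.1 hng).symm⟩
    rcases hB with hB | hB
    · obtain ⟨h, hh, e⟩ := hg0B
      have := hB ⟨h, Subgroup.mem_sup_left hh, e.symm⟩ ⟨1, one_mem _, show (1 : G) * d * 1⁻¹ = d by simp⟩
      exact hng (this ▸ Commute.refl d)
    · obtain ⟨c, hc, hn⟩ := hC.exists_noncommute ha.1.1
      rw [← hB] at hc
      obtain ⟨s, hs, rfl⟩ := hc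
      have h1 := hAB _ (hSA s hs a ha).1 d hdB
      have h2 := (commute_conj_iff s).2 h1
      rw [show s * (s⁻¹ * a * s) * s⁻¹ = a by group] at h2
      exact hn h2.symm
  have hclosed : ∀ x ∈ B, ∀ y ∈ D, Commute x y → y ∈ B := by
    intro x hx y hy hc
    obtain ⟨h, hh, rfl⟩ := hx
    have h1 : Commute d (h⁻¹ * y * h) := by
      have := (commute_conj_iff h⁻¹).2 hc
      rwa [inv_inv, show h⁻¹ * (h * d * h⁻¹) * h = d by group] at this
    have h2 := hXconj h hh _ (hCX _ (by simpa using hC.conj h⁻¹ y hy) h1)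
    rw [show h * (h⁻¹ * y * h) * h⁻¹ = y by group] at h2
    by_contra hyB
    exact hAempty y ⟨h2, hyB⟩
  have hall : ∀ y, CReach D d y → y ∈ B := by
    intro y hy
    induction hy with
    | refl => exact hdB
    | tail _ hce ih => exact hclosed _ ih _ hce.2.1 hce.2.2
  have hcon := (connected_iff_creach ⟨d, hd⟩).1 (hC.connected_of_primitive hp hw)
  exact top_unique (hC.gen ▸ (Subgroup.closure_le _).2 fun y hy => (hBX y (hall y (hcon d hd y hy))).2)

/-- Primitivity and simplicity of the derived group. -/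
theorem TClass.simple_iff_primitive (hC : TClass D) (hZ : Subgroup.center G = ⊥)
    (hw : ∃ a ∈ D, ∃ b ∈ D, a ≠ b ∧ Commute a b) :
    (IsSimpleGroup (commutator G) ↔ IsPrimitiveUnderConj D) ∧ (IsPrimitiveUnderConj D ↔
      (pCore 2 G = ⊥ ∧ pCore 3 G = ⊥ ∧ (commutingGraph D).Connected)) := by
  refine ⟨⟨fun hs => ?_, fun hp => ?_⟩, ⟨fun hp => ?_, fun ⟨h2, h3, hcon⟩ => ?_⟩⟩
  · obtain ⟨d, hd, -⟩ := hC.two
    set L := commutator G with hLdef
    haveI hLn : L.Normal := inferInstance
    have hdl : ∀ e ∈ D, d * e ∈ L := by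
      intro e he
      obtain ⟨g, rfl⟩ := hC.trans d hd e he
      have := Subgroup.commutator_mem_commutator (Subgroup.mem_top d) (Subgroup.mem_top g)
      rw [commutatorElement_def] at this
      have h1 := hLn.conj_mem _ this 1
      rw [hLdef, _root_.commutator_def]
      rw [ts_inv hC.ts hd] at this
      simpa [mul_assoc] using this
    have htop : L ⊔ Subgroup.zpowers d = ⊤ := by
      refine top_unique (hC.gen ▸ (Subgroup.closure_le _).2 fun e he => ?_)
      have e1 : e = d * (d * e) := by rw [← mul_assoc, ts_mul_self hC.ts hd, one_mul]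
      rw [SetLike.mem_coe, e1]
      exact mul_mem (Subgroup.mem_sup_right (Subgroup.mem_zpowers d)) (Subgroup.mem_sup_left (hdl e he))
    have hidx : L.index ≤ 2 := by
      have hsurj : Function.Surjective ((QuotientGroup.mk' L).comp (Subgroup.zpowers d).subtype) := by
        intro q
        induction q using QuotientGroup.induction_on with
        | H g =>
          obtain ⟨z, hz, y, hy, rfl⟩ := Subgroup.mem_sup_of_normal_left.1 (htop ▸ Subgroup.mem_top g)
          refine ⟨⟨y, hy⟩, ?_⟩
          show (y : G ⧸ L) = ((z * y : G) : G ⧸ L)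
          rw [QuotientGroup.mk_mul, (QuotientGroup.eq_one_iff z).2 hz, one_mul]
      have := Nat.card_le_card_of_surjective _ hsurj
      rwa [Nat.card_zpowers, ts_invol hC.ts hd] at this
    have hna : ¬ IsMulCommutative L := by
      intro hc
      obtain ⟨a, ha, b, hb, hne, hcab⟩ := hw
      have hab : a * b ∈ L := by
        have := mul_mem (inv_mem (hdl a ha)) (hdl b hb)
        rwa [mul_inv_rev, ts_inv hC.ts hd, ts_inv hC.ts ha, mul_assoc, ← mul_assoc d,
          ts_mul_self hC.ts hd, one_mul] at this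
      have h2 := (invol_commute_iff (ts_invol hC.ts ha) (ts_invol hC.ts hb)).1 hcab
      have hne1 : a * b ≠ 1 := fun h => hne (by
        rw [mul_eq_one_iff_inv_eq, ts_inv hC.ts ha] at h; exact h)
      -- a simple commutative group is cyclic of order two here
      set Z := Subgroup.zpowers (⟨a * b, hab⟩ : L) with hZdef
      have hZn : Z.Normal := ⟨fun n hn g => by
        rw [hc.is_comm.comm g n, mul_assoc, mul_inv_cancel, mul_one]; exact hn⟩
      have hZtop : Z = ⊤ := (hs.eq_bot_or_eq_top_of_normal Z hZn).resolve_left fun h =>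
        hne1 (congrArg Subtype.val (Subgroup.zpowers_eq_bot.1 h))
      have hcen : a * b ∈ Subgroup.center G := by
        refine Subgroup.mem_center_iff.2 fun g => ?_
        have hm : (⟨g * (a * b) * g⁻¹, hLn.conj_mem _ hab g⟩ : L) ∈ Z := hZtop ▸ Subgroup.mem_top _
        obtain ⟨i, hi⟩ := hm
        have hi' : (a * b) ^ i = g * (a * b) * g⁻¹ := by simpa using congrArg Subtype.val hi
        have hz : (a * b) ^ (2 : ℤ) = 1 := by rw [zpow_two, ← pow_two, h2]
        rcases Int.even_or_odd i with ⟨j, rfl⟩ | ⟨j, rfl⟩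
        · rw [← two_mul, zpow_mul, hz, one_zpow] at hi'
          exact absurd (by simpa using hi'.symm) hne1
        · rw [zpow_add, zpow_mul, hz, one_zpow, one_mul, zpow_one] at hi'
          calc g * (a * b) = g * (a * b) * g⁻¹ * g := by group
            _ = a * b * g := by rw [← hi']
      rw [hZ, Subgroup.mem_bot] at hcen
      exact hne1 hcen
    haveI := hs
    have hLq : IsQuasisimple L := CfsgLib.Components.isQuasisimple_of_isSimpleGroup hna
    have hcore : ∀ p : ℕ, p.Prime → pCore p G ≤ Subgroup.center G := by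
      intro p hp
      haveI : Fact p.Prime := ⟨hp⟩
      haveI : (pCore p G).Normal := inferInstance
      rcases hs.eq_bot_or_eq_top_of_normal ((pCore p G).subgroupOf L) inferInstance with h | h
      · intro x hx
        refine Subgroup.mem_center_iff.2 fun g => ?_
        have hm : g * x * g⁻¹ * x⁻¹ ∈ (pCore p G : Subgroup G) ⊓ L := by
          have hm1 : g * x * g⁻¹ * x⁻¹ ∈ pCore p G :=
            mul_mem ((inferInstance : (pCore p G).Normal).conj_mem x hx g) (inv_mem hx)
          refine ⟨hm1, ?_⟩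
          have := Subgroup.commutator_mem_commutator (Subgroup.mem_top g) (Subgroup.mem_top x)
          rw [commutatorElement_def] at this
          show g * x * g⁻¹ * x⁻¹ ∈ commutator G
          rw [_root_.commutator_def]
          exact this
        rw [Subgroup.subgroupOf_eq_bot] at h
        rw [h.eq_bot, Subgroup.mem_bot, mul_inv_eq_one, mul_inv_eq_iff_eq_mul] at hm
        exact hm
      · rw [Subgroup.subgroupOf_eq_top] at h
        haveI : Group.IsNilpotent (pCore p G) := (Base.isPGroup_pCore p G).isNilpotent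
        exact absurd (Group.isSolvable_of_isSolvable_injective (f := Subgroup.inclusion h)
          (Subgroup.inclusion_injective h)) (CfsgLib.Components.quasisimple_not_isSolvable hLq)
    obtain ⟨L₀, hL₀n, hL₀, hF⟩ := hC.exists_layer (hcore 2 Nat.prime_two) (hcore 3 Nat.prime_three)
    haveI := hL₀n
    have hle : L₀ ≤ L := by
      rw [hLdef, _root_.commutator_def, ← quasisimple_perfect hL₀]
      exact Subgroup.commutator_mono le_top le_top
    have heq : L₀ = L := by
      rcases hs.eq_bot_or_eq_top_of_normal (L₀.subgroupOf L) inferInstance with h | h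
      · refine absurd ?_ (CfsgLib.Components.quasisimple_not_isMulCommutative hL₀)
        rw [Subgroup.subgroupOf_eq_bot, disjoint_iff, inf_eq_left.2 hle] at h
        exact ⟨⟨fun a b => Subtype.ext (by
          have ha : (a : G) = 1 := Subgroup.mem_bot.1 (by rw [← h]; exact a.2)
          have hb : (b : G) = 1 := Subgroup.mem_bot.1 (by rw [← h]; exact b.2)
          simp [ha, hb])⟩⟩
      · exact le_antisymm hle (Subgroup.subgroupOf_eq_top.1 h)
    exact hC.primitive_of_index (hcore 2 Nat.prime_two) (hcore 3 Nat.prime_three) hL₀ hF (heq ▸ hidx)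
  · obtain ⟨L, hLn, hL, hidx, hF⟩ := hC.layer_of_primitive hp hw
    obtain ⟨h2, h3⟩ := hC.pCores_central_of_primitive hp hw
    haveI := hLn
    have hcz : Subgroup.center L = ⊥ := by
      rw [eq_bot_iff]
      intro z hz
      have hzc : (z : G) ∈ Subgroup.center G := by
        refine hC.fitting_le_center h2 h3 (CfsgLib.Components.centralizer_fstar_le_fitting ?_)
        rw [hF]
        have hle : L ⊔ Subgroup.center G ≤ Subgroup.centralizer ({(z : G)} : Set G) :=
          sup_le (fun y hy => Subgroup.mem_centralizer_singleton_iff.2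
            (congrArg Subtype.val (Subgroup.mem_center_iff.1 hz ⟨y, hy⟩)))
            (Subgroup.center_le_centralizer _)
        exact Subgroup.mem_centralizer_iff.2 fun y hy => Subgroup.mem_centralizer_singleton_iff.1 (hle hy)
      rw [hZ, Subgroup.mem_bot] at hzc
      exact Subgroup.mem_bot.2 (Subtype.ext hzc)
    have heq : commutator G = L := by
      refine le_antisymm ?_ ?_
      · refine (Subgroup.Normal.quotient_commutative_iff_commutator_le (N := L)).1 ?_
        have hcard : Nat.card (G ⧸ L) ≤ 2 := hidx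
        refine ⟨⟨fun a b => ?_⟩⟩
        haveI : Fintype (G ⧸ L) := Fintype.ofFinite _
        have h2' : Fintype.card (G ⧸ L) ≤ 2 := by rwa [← Nat.card_eq_fintype_card]
        rcases eq_or_ne a 1 with rfl | ha
        · simp
        rcases eq_or_ne b 1 with rfl | hb
        · simp
        rcases eq_or_ne a b with rfl | hab
        · rfl
        classical
        have : ({1, a, b} : Finset (G ⧸ L)).card = 3 := by
          rw [Finset.card_insert_of_notMem (by simp [ha.symm, hb.symm]), Finset.card_pair hab]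
        have := Finset.card_le_univ ({1, a, b} : Finset (G ⧸ L))
        omega
      · rw [_root_.commutator_def, ← quasisimple_perfect hL]
        exact Subgroup.commutator_mono le_top le_top
    rw [heq]
    haveI := hL.2
    haveI : Nontrivial L := CfsgLib.Components.quasisimple_nontrivial hL
    exact IsSimpleGroup.isSimpleGroup_of_surjective (G := L ⧸ Subgroup.center L)
      ((QuotientGroup.quotientMulEquivOfEq hcz).trans QuotientGroup.quotientBot).toMonoidHom
      (MulEquiv.surjective _)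
  · obtain ⟨h2, h3⟩ := hC.pCores_central_of_primitive hp hw
    rw [hZ, le_bot_iff] at h2 h3
    exact ⟨h2, h3, hC.connected_of_primitive hp hw⟩
  · have h2' : pCore 2 G ≤ Subgroup.center G := h2 ▸ bot_le
    have h3' : pCore 3 G ≤ Subgroup.center G := h3 ▸ bot_le
    obtain ⟨L, hLn, hL, hF⟩ := hC.exists_layer h2' h3'
    exact hC.primitive_of_index h2' h3' hL hF (hC.index_le_two hL hcon)

end CfsgLib.ThreeTransp
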