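import Mathlib
import Cfsg.Prelude.Def_FischerSpaces
import Cfsg.Prelude.Def_Local
import Cfsg.Agent.Lib.ThreeTransp.FischerPrim
import Cfsg.Agent.Lib.Geometry.ReflClass
import Cfsg.Agent.Lib.Geometry.OmegaSimple
import Cfsg.Agent.Lib.Geometry.OmegaMem
import Cfsg.Agent.Lib.Geometry.OmegaMore

/-!
Orthogonal reflection groups over the field with three elements as three-transposition groups.
-/

set_option autoImplicit false

namespace CfsgLib.ThreeTransp.ReflThree

open QuadraticMap CfsgLib.Geometry Cfsg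

theorem z3_square : ∀ x : ZMod 3, x ≠ 0 → ∀ t : ZMod 3, x = t * t → x = 1 := by decide

theorem z3_cases : ∀ x : ZMod 3, x = 0 ∨ x = 1 ∨ x = -1 := by decide

variable {n : ℕ} [Fact (Nat.Prime 3)] {Q : QuadraticForm (ZMod 3) (Fin n → ZMod 3)}

abbrev Vec (n : ℕ) : Type := Fin n → ZMod 3

theorem two_ne : (2 : ZMod 3) ≠ 0 := by decide +revert

theorem split (hQ : (polarBilin Q).Nondegenerate) (hn : 5 ≤ n) : SplitSingular Q :=
  splitSingular_of hQ (Or.inl (by rw [Module.finrank_fintype_fun_eq_card, Fintype.card_fin]; omega))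

theorem rk (hn : 5 ≤ n) : 5 ≤ Module.finrank (ZMod 3) (Vec n) := by
  rw [Module.finrank_fintype_fun_eq_card, Fintype.card_fin]; exact hn

variable {c : ZMod 3}

theorem eq_class {a : ZMod 3} (hc : c ≠ 0) (ha : a ≠ 0) (h : IsSquare (a / c)) : a = c := by
  obtain ⟨t, ht⟩ := h
  exact (div_eq_one_iff_eq hc).1 (z3_square _ (div_ne_zero ha hc) t ht)

theorem isom_image (hc : c ≠ 0) :
    (Cfsg.reflectionSubgroup (⇑Q) c).map (isomEquiv Q).toMonoidHom = ReflClass.classGroup Q c := by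
  rw [Cfsg.reflectionSubgroup, MonoidHom.map_closure, ReflClass.classGroup]
  congr 1
  ext g
  constructor
  · rintro ⟨h, ⟨v, hv, hh⟩, rfl⟩
    refine ⟨v, hv ▸ hc, by rw [hv, div_self hc]; exact IsSquare.one, Subtype.ext ?_⟩
    exact (isomEquiv_eq_refl_iff Q h v (hv ▸ hc)).1 hh
  · rintro ⟨a, ha, hsq, rfl⟩
    refine ⟨(isomEquiv Q).symm (oRefl Q a ha), ⟨a, eq_class hc ha hsq, ?_⟩, by simp⟩
    rw [isomEquiv_eq_refl_iff Q _ a ha]
    simp [oRefl]

theorem index_refl (hQ : (polarBilin Q).Nondegenerate) (hn : 5 ≤ n) (hc : c ≠ 0) :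
    (Cfsg.reflectionSubgroup (⇑Q) c).index = 2 := by
  have h := Subgroup.index_map_equiv (Cfsg.reflectionSubgroup (⇑Q) c) (isomEquiv Q)
  rw [show ((isomEquiv Q : _ →* _)) = (isomEquiv Q).toMonoidHom from rfl, isom_image hc] at h
  rw [← h]
  exact ReflClass.index_classGroup hQ two_ne hc (Or.inr (Or.inl (rk hn)))

variable (Q c)

/-- The reflection group as linear maps. -/
noncomputable def toLin : ↥(Cfsg.reflectionSubgroup (⇑Q) c) →* (Vec n ≃ₗ[ZMod 3] Vec n) :=
  (orth Q).subtype.comp ((isomEquiv Q).toMonoidHom.comp (Cfsg.reflectionSubgroup (⇑Q) c).subtype)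

/-- The class of reflections. -/
def cls : Set ↥(Cfsg.reflectionSubgroup (⇑Q) c) :=
  {g | (g : ↥(Cfsg.isometryGroup (ZMod 3) (⇑Q))) ∈ Cfsg.reflectionsOfNorm (⇑Q) c}

variable {Q c}

theorem toLin_injective : Function.Injective (toLin Q c) :=
  Subtype.val_injective.comp ((isomEquiv Q).injective.comp Subtype.val_injective)

theorem mem_cls (hc : c ≠ 0) {g : ↥(Cfsg.reflectionSubgroup (⇑Q) c)} :
    g ∈ cls Q c ↔ ∃ (v : Vec n) (hv : Q v ≠ 0), Q v = c ∧ toLin Q c g = refl Q v hv := by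
  constructor
  · rintro ⟨v, hv, hg⟩
    exact ⟨v, hv ▸ hc, hv, (isomEquiv_eq_refl_iff Q g.1 v (hv ▸ hc)).1 hg⟩
  · rintro ⟨v, hv0, hv, hg⟩
    exact ⟨v, hv, (isomEquiv_eq_refl_iff Q g.1 v hv0).2 hg⟩

theorem range_toLin (hc : c ≠ 0) : (toLin Q c).range = (ReflClass.classGroup Q c).map (orth Q).subtype := by
  rw [toLin, MonoidHom.range_comp, MonoidHom.range_comp, Subgroup.range_subtype, isom_image hc]

theorem commutator_le_class (hQ : (polarBilin Q).Nondegenerate) (hn : 5 ≤ n) (hc : c ≠ 0) :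
    commutator (orth Q) ≤ ReflClass.classGroup Q c := by
  haveI := ReflClass.classGroup_normal (Q := Q) (c := c)
  have hidx := ReflClass.index_classGroup hQ two_ne hc (Or.inr (Or.inl (rk hn)))
  haveI : IsCyclic (orth Q ⧸ ReflClass.classGroup Q c) :=
    isCyclic_of_prime_card (p := 2) (by rw [← hidx]; rfl)
  exact Subgroup.Normal.quotient_commutative_iff_commutator_le.mp inferInstance

theorem siegel_le_range (hQ : (polarBilin Q).Nondegenerate) (hn : 5 ≤ n) (hc : c ≠ 0) :
    siegelGroup Q ≤ (toLin Q c).range := by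
  intro s hs
  have h1 := commutator_eq_siegel hQ (le_trans (by norm_num) (rk hn)) (split hQ hn) (reflGroup_eq_orth_of_two_ne hQ two_ne)
  have h2 : (⟨s, siegelGroup_le_orth hs⟩ : orth Q) ∈ commutator (orth Q) := by
    rw [h1]; exact hs
  rw [range_toLin hc]
  exact ⟨_, commutator_le_class hQ hn hc h2, rfl⟩

theorem map_commutator_refl (hQ : (polarBilin Q).Nondegenerate) (hn : 5 ≤ n) (hc : c ≠ 0) :
    (commutator ↥(Cfsg.reflectionSubgroup (⇑Q) c)).map (toLin Q c) = siegelGroup Q := by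
  rw [commutator_def, Subgroup.map_commutator, ← MonoidHom.range_eq_map]
  refine le_antisymm ?_ ((siegelGroup_perfect hQ (rk hn)).trans
    (Subgroup.commutator_mono (siegel_le_range hQ hn hc) (siegel_le_range hQ hn hc)))
  have h1 : (toLin Q c).range ≤ orth Q := by rintro _ ⟨g, rfl⟩; exact ((isomEquiv Q) g.1).2
  refine (Subgroup.commutator_mono h1 h1).trans ?_
  have h2 := commutator_eq_siegel hQ (le_trans (by norm_num) (rk hn)) (split hQ hn) (reflGroup_eq_orth_of_two_ne hQ two_ne)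
  rw [← Subgroup.map_subtype_commutator, h2]
  exact (Subgroup.subgroupOf_map_subtype ..).le.trans inf_le_left

theorem siegel_quasisimple (hQ : (polarBilin Q).Nondegenerate) (hn : 5 ≤ n) :
    Cfsg.IsQuasisimple ↥(siegelGroup Q) := by
  haveI : Nontrivial ↥(siegelGroup Q) :=
    (Subgroup.nontrivial_iff_ne_bot _).2 (siegelGroup_ne_bot hQ (rk hn))
  refine CfsgLib.Components.isQuasisimple_of_normal_le_center ⟨?_⟩ fun N hN hne => ?_
  · refine Subgroup.map_injective (siegelGroup Q).subtype_injective ?_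
    rw [Subgroup.map_subtype_commutator, ← MonoidHom.range_eq_map, Subgroup.range_subtype]
    exact le_antisymm (Subgroup.commutator_le_self _) (siegelGroup_perfect hQ (rk hn))
  · rcases siegel_normal_cases hQ (rk hn) (N.map (siegelGroup Q).subtype) (Subgroup.map_subtype_le N)
      (by rintro s hs _ ⟨g, hg, rfl⟩; exact ⟨⟨s, hs⟩ * g * ⟨s, hs⟩⁻¹, hN.conj_mem g hg _, rfl⟩) with h | h
    · intro g hg
      obtain ⟨t, -, ht⟩ := h _ ⟨g, hg, rfl⟩
      rw [Subgroup.mem_center_iff]
      intro x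
      refine Subtype.ext (LinearEquiv.ext fun v => ?_)
      show x.1 (g.1 v) = g.1 (x.1 v)
      have ht' : ∀ v, g.1 v = t • v := ht
      rw [ht', ht', map_smul]
    · refine absurd (eq_top_iff.2 fun x _ => ?_) hne
      obtain ⟨y, hy, hyx⟩ := h x.2
      rwa [← Subtype.ext hyx]

theorem commutator_quasisimple (hQ : (polarBilin Q).Nondegenerate) (hn : 5 ≤ n) (hc : c ≠ 0) :
    Cfsg.IsQuasisimple ↥(commutator ↥(Cfsg.reflectionSubgroup (⇑Q) c)) :=
  CfsgLib.Components.isQuasisimple_of_mulEquiv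
    (((commutator ↥(Cfsg.reflectionSubgroup (⇑Q) c)).equivMapOfInjective (toLin Q c) toLin_injective).trans
      (MulEquiv.subgroupCongr (map_commutator_refl hQ hn hc))).symm (siegel_quasisimple hQ hn)

theorem braid {u v : Vec n} (hu : Q u ≠ 0) (hv : Q v ≠ 0) (huv : Q u = Q v) :
    refl Q u hu * refl Q v hv = refl Q v hv * refl Q u hu ∨
      refl Q u hu * refl Q v hv * refl Q u hu = refl Q v hv * refl Q u hu * refl Q v hv := by
  have hcj : ∀ (a b : Vec n) (ha : Q a ≠ 0) (hb : Q b ≠ 0), ∃ hb' : Q (refl Q a ha b) ≠ 0,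
      refl Q a ha * refl Q b hb * (refl Q a ha)⁻¹ = refl Q (refl Q a ha b) hb' := by
    intro a b ha hb
    refine ⟨by rwa [mem_orth.1 (refl_mem_orth Q a ha)], ?_⟩
    exact refl_conj Q (refl_mem_orth Q a ha) b hb
  have hinv : ∀ (a : Vec n) (ha : Q a ≠ 0), (refl Q a ha)⁻¹ = refl Q a ha := fun a ha =>
    inv_eq_of_mul_eq_one_left (refl_mul_self Q a ha)
  obtain ⟨h1', h1⟩ := hcj u v hu hv
  obtain ⟨h2', h2⟩ := hcj v u hv hu
  rw [hinv] at h1 h2
  rcases z3_cases ((Q u)⁻¹ * polar Q v u) with h | h | h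
  · left
    have h0 : polar Q v u = 0 := (mul_eq_zero.1 h).resolve_left (inv_ne_zero hu)
    simp only [refl_eq_self Q u hu h0] at h1
    calc refl Q u hu * refl Q v hv = refl Q u hu * refl Q v hv * refl Q u hu * refl Q u hu := by
          rw [mul_assoc _ (refl Q u hu) (refl Q u hu), refl_mul_self, mul_one]
      _ = _ := by rw [h1]
  all_goals
    right
    rw [h1, h2]
    have h' : (Q v)⁻¹ * polar Q u v = (Q u)⁻¹ * polar Q v u := by rw [huv, polar_comm]
    have e1 : refl Q u hu v = v - ((Q u)⁻¹ * polar Q v u) • u := by rw [refl_apply]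
    have e2 : refl Q v hv u = u - ((Q v)⁻¹ * polar Q u v) • v := by rw [refl_apply]
    rw [h', h] at e2
    rw [h] at e1
  · have h3 : refl Q v hv u = (-1 : ZMod 3) • refl Q u hu v := by rw [e1, e2]; module
    simp only [h3]
    exact (refl_smul Q _ h1' (show (-1 : ZMod 3) ≠ 0 by simp) _).symm
  · have h3 : refl Q v hv u = refl Q u hu v := by rw [e1, e2]; module
    simp only [h3]

theorem tclass (hQ : (polarBilin Q).Nondegenerate) (hn : 5 ≤ n) (hc : c ≠ 0) :
    Cfsg.IsThreeTranspositionClass (cls Q c) := by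
  have h2 : (2 : ZMod 3) ≠ 0 := two_ne
  have hord : ∀ d ∈ cls Q c, orderOf d = 2 := by
    intro d hd
    obtain ⟨v, hv, -, hd'⟩ := (mem_cls hc).1 hd
    rw [← orderOf_injective (toLin Q c) toLin_injective, hd']
    refine orderOf_eq_prime (by rw [pow_two]; exact refl_mul_self Q v hv) fun h => ?_
    have h3 := LinearEquiv.congr_fun h v
    rw [refl_self] at h3
    have h4 : (-v : Vec n) = v := h3
    exact hv (by
      have : (2 : ZMod 3) • v = 0 := by
        rw [two_smul]; nth_rewrite 1 [← h4]; exact neg_add_cancel v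
      rw [(smul_eq_zero.1 this).resolve_left h2, QuadraticMap.map_zero])
  refine ⟨⟨hord, ?_⟩, ?_, ?_⟩
  · intro d hd e he
    obtain ⟨u, hu, huc, hd'⟩ := (mem_cls hc).1 hd
    obtain ⟨v, hv, hvc, he'⟩ := (mem_cls hc).1 he
    rcases braid hu hv (huc.trans hvc.symm) with h | h
    · left
      apply toLin_injective
      rw [map_pow, map_mul, map_one, hd', he', pow_two]
      nth_rewrite 2 [h]
      rw [mul_assoc, ← mul_assoc (refl Q v hv) (refl Q v hv), refl_mul_self, one_mul, refl_mul_self]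
    · right
      apply toLin_injective
      rw [map_pow, map_mul, map_one, hd', he']
      calc (refl Q u hu * refl Q v hv) ^ 3
          = refl Q u hu * refl Q v hv * refl Q u hu * (refl Q v hv * refl Q u hu * refl Q v hv) := by
            simp only [pow_succ, pow_zero, one_mul, mul_assoc]
        _ = refl Q u hu * refl Q v hv * refl Q u hu * (refl Q u hu * refl Q v hv * refl Q u hu) := by rw [← h]
        _ = refl Q u hu * (refl Q v hv * (refl Q u hu * refl Q u hu) * refl Q v hv) * refl Q u hu := by group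
        _ = 1 := by rw [refl_mul_self, mul_one, refl_mul_self, mul_one, refl_mul_self]
  · obtain ⟨r, hr⟩ := exists_represents hQ (le_trans (by norm_num) (rk hn)) c
    have hr0 : Q r ≠ 0 := hr ▸ hc
    have hmem : refl Q r hr0 ∈ (toLin Q c).range := by
      rw [range_toLin hc]
      exact ⟨oRefl Q r hr0, ReflClass.oRefl_mem hr0 (by rw [hr, div_self hc]; exact IsSquare.one), rfl⟩
    obtain ⟨d, hd⟩ := hmem
    refine ⟨d, (mem_cls hc).2 ⟨r, hr0, hr, hd⟩, Set.ext fun e => ⟨fun he => ?_, fun he => ?_⟩⟩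
    · obtain ⟨v, hv, hvc, he'⟩ := (mem_cls hc).1 he
      obtain ⟨s, hs, hsr⟩ := siegel_trans_norm hQ (le_trans (by norm_num) (rk hn)) hr0 (hvc.trans hr.symm)
      obtain ⟨g, hg⟩ := siegel_le_range hQ hn hc hs
      rw [conjugatesOf, Set.mem_setOf_eq, isConj_iff]
      refine ⟨g, toLin_injective ?_⟩
      rw [map_mul, map_mul, map_inv, hg, hd, he', refl_conj Q (siegelGroup_le_orth hs)]
      simp only [hsr]
    · rw [conjugatesOf, Set.mem_setOf_eq, isConj_iff] at he
      obtain ⟨g, rfl⟩ := he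
      have hgo : toLin Q c g ∈ orth Q := ((isomEquiv Q) g.1).2
      exact (mem_cls hc).2 ⟨toLin Q c g r, by rwa [mem_orth.1 hgo], by rw [mem_orth.1 hgo, hr], by
        rw [map_mul, map_mul, map_inv, hd, refl_conj Q hgo]⟩
  · have : cls Q c = (Subtype.val : ↥(Cfsg.reflectionSubgroup (⇑Q) c) → _) ⁻¹' Cfsg.reflectionsOfNorm (⇑Q) c := rfl
    rw [this]
    exact Subgroup.closure_closure_coe_preimage

theorem index_commutator_le {G : Type*} [Group G] [Finite G] {D : Set G} (h : Cfsg.IsThreeTranspositionClass D) :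
    (commutator G).index ≤ 2 := by
  obtain ⟨⟨ho, -⟩, ⟨d, hd, hD⟩, hgen⟩ := h
  have key : ∀ e ∈ D, (e : G ⧸ commutator G) = d := by
    intro e he
    rw [hD] at he
    obtain ⟨g, rfl⟩ := isConj_iff.1 he
    rw [QuotientGroup.eq]
    have := Subgroup.commutator_mem_commutator (Subgroup.mem_top g) (Subgroup.mem_top d⁻¹)
    rw [← commutator_def] at this
    simpa [commutatorElement_def, mul_assoc] using this
  have hle : (⊤ : Subgroup (G ⧸ commutator G)) ≤ Subgroup.zpowers (d : G ⧸ commutator G) := by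
    rw [← Subgroup.map_top_of_surjective _ (QuotientGroup.mk'_surjective (commutator G)), ← hgen,
      MonoidHom.map_closure, Subgroup.closure_le]
    rintro _ ⟨e, he, rfl⟩
    exact (key e he).symm ▸ Subgroup.mem_zpowers _
  calc (commutator G).index = Nat.card (⊤ : Subgroup (G ⧸ commutator G)) := Subgroup.card_top.symm
    _ ≤ Nat.card (Subgroup.zpowers (d : G ⧸ commutator G)) := Subgroup.card_le_of_le hle
    _ = orderOf (d : G ⧸ commutator G) := Nat.card_zpowers _
    _ ≤ 2 := Nat.le_of_dvd two_pos (orderOf_dvd_of_pow_eq_one (by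
      rw [← QuotientGroup.mk_pow, show d ^ 2 = 1 from ho d hd ▸ pow_orderOf_eq_one d]; rfl))

theorem tclass' (hQ : (polarBilin Q).Nondegenerate) (hn : 5 ≤ n) (hc : c ≠ 0) : TClass (cls Q c) := by
  have hT := tclass hQ hn hc
  refine tclass_of_class hT ?_
  by_contra h
  push Not at h
  obtain ⟨d, hd, -⟩ := hT.2.1
  have hsub : cls Q c = {d} := Set.eq_singleton_iff_unique_mem.2 ⟨hd, fun e he => h e he d hd⟩
  have hgen := hT.2.2
  rw [hsub, ← Subgroup.zpowers_eq_closure] at hgen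
  haveI : IsCyclic ↥(Cfsg.reflectionSubgroup (⇑Q) c) := ⟨⟨d, fun x => (hgen.ge (Subgroup.mem_top x) : x ∈ Subgroup.zpowers d)⟩⟩
  refine CfsgLib.Components.quasisimple_not_isMulCommutative (commutator_quasisimple hQ hn hc) ⟨⟨fun a b => ?_⟩⟩
  exact Subtype.ext (IsMulCommutative.is_comm.comm (a : ↥(Cfsg.reflectionSubgroup (⇑Q) c)) b)

theorem structure_refl (hQ : (polarBilin Q).Nondegenerate) (hn : 5 ≤ n) (hc : c ≠ 0) :
    Cfsg.IsQuasisimple ↥(commutator ↥(Cfsg.reflectionSubgroup (⇑Q) c)) ∧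
      (commutator ↥(Cfsg.reflectionSubgroup (⇑Q) c)).index ≤ 2 ∧
      Cfsg.generalizedFittingSubgroup ↥(Cfsg.reflectionSubgroup (⇑Q) c) =
        Subgroup.center ↥(Cfsg.reflectionSubgroup (⇑Q) c) ⊔ commutator ↥(Cfsg.reflectionSubgroup (⇑Q) c) ∧
      Cfsg.IsPrimitiveUnderConj (cls Q c) := by
  have hC := tclass' hQ hn hc
  have hL := commutator_quasisimple hQ hn hc
  have hidx := index_commutator_le (tclass hQ hn hc)
  haveI : (commutator ↥(Cfsg.reflectionSubgroup (⇑Q) c)).Normal := inferInstance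
  have hK : Cfsg.IsComponent (commutator ↥(Cfsg.reflectionSubgroup (⇑Q) c)) :=
    ⟨Subgroup.Normal.isSubnormal inferInstance, hL⟩
  have hne : Cfsg.layer ↥(Cfsg.reflectionSubgroup (⇑Q) c) ≠ ⊥ :=
    CfsgLib.Components.layer_ne_bot_iff.2 ⟨_, hK⟩
  rcases hC.trichotomy with ⟨-, -, h⟩ | ⟨-, -, h⟩ | ⟨h2, h3, -⟩
  · exact absurd h hne
  · exact absurd h hne
  obtain ⟨L, hLn, hLq, hF⟩ := hC.exists_layer h2 h3
  obtain rfl : L = commutator ↥(Cfsg.reflectionSubgroup (⇑Q) c) :=
    hC.component_unique ⟨Subgroup.Normal.isSubnormal hLn, hLq⟩ hK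
  exact ⟨hL, hidx, hF.trans (sup_comm _ _), hC.primitive_of_index h2 h3 hL hF hidx⟩

end CfsgLib.ThreeTransp.ReflThree
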