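import Mathlib
import Cfsg.Agent.Lib.ThreeTransp.RankOne

/-!
A conjugation invariant family of subgroups any two of which generate a unipotent group generates a
unipotent group.
-/

set_option autoImplicit false

namespace CfsgLib.ThreeTransp

open Cfsg

variable {k : Type*} [Field k] {M : Type*} [AddCommGroup M] [Module k M]

local notation "GLM" => LinearMap.GeneralLinearGroup k M
local notation "EndM" => Module.End k M

/-- `g - 1`. -/
def udif (g : LinearMap.GeneralLinearGroup k M) : Module.End k M := (g : Module.End k M) - 1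

/-- The span of the `g - 1`. -/
def uSpan (T : Set GLM) : Submodule k EndM := Submodule.span k (udif '' T)

/-- The span of all non-empty products of the `g - 1`. -/
def uAlg (T : Set GLM) : Submodule k EndM := ⨆ i : ℕ, uSpan T ^ (i + 1)

theorem udif_mem_uSpan {T : Set GLM} {g : GLM} (hg : g ∈ T) : udif g ∈ uSpan T :=
  Submodule.subset_span ⟨g, hg, rfl⟩

theorem uSpan_le_uAlg (T : Set GLM) : uSpan T ≤ uAlg T :=
  le_iSup_of_le 0 (by rw [zero_add, pow_one])

theorem uAlg_mono {T T' : Set GLM} (h : T ⊆ T') : uAlg T ≤ uAlg T' :=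
  iSup_mono fun _ => pow_le_pow_left' (Submodule.span_mono (Set.image_mono h)) _

theorem uAlg_mul (T : Set GLM) : uAlg T * uAlg T ≤ uAlg T := by
  unfold uAlg
  rw [Submodule.iSup_mul]
  refine iSup_le fun i => ?_
  rw [Submodule.mul_iSup]
  refine iSup_le fun j => le_iSup_of_le (i + j + 1) ?_
  rw [← pow_add]
  exact le_of_eq (congrArg (uSpan T ^ ·) (by omega))

theorem uAlg_le {T : Set GLM} {R : Submodule k EndM} (h : ∀ g ∈ T, udif g ∈ R) (hR : R * R ≤ R) :
    uAlg T ≤ R := by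
  have h1 : uSpan T ≤ R := Submodule.span_le.2 (by rintro _ ⟨g, hg, rfl⟩; exact h g hg)
  refine iSup_le fun i => ?_
  induction i with
  | zero => rw [zero_add, pow_one]; exact h1
  | succ i ih => rw [pow_succ]; exact (mul_le_mul' ih h1).trans hR

theorem uAlg_pow_le (T : Set GLM) : ∀ n : ℕ, uAlg T ^ (n + 1) ≤ ⨆ i, uSpan T ^ (i + (n + 1))
  | 0 => by rw [zero_add, pow_one]; exact le_rfl
  | n + 1 => by
    rw [pow_succ (uAlg T)]
    refine (mul_le_mul' (uAlg_pow_le T n) le_rfl).trans ?_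
    rw [Submodule.iSup_mul]
    refine iSup_le fun i => ?_
    unfold uAlg
    rw [Submodule.mul_iSup]
    refine iSup_le fun j => le_iSup_of_le (i + j) ?_
    rw [← pow_add]
    exact le_of_eq (congrArg (uSpan T ^ ·) (by omega))

/-- The elements `g - 1` of `T` generate a nilpotent algebra. -/
def UNil (T : Set GLM) : Prop := ∃ n : ℕ, uSpan T ^ (n + 1) = ⊥

theorem uAlg_nil {T : Set GLM} {n : ℕ} (h : uSpan T ^ (n + 1) = ⊥) : uAlg T ^ (n + 1) = ⊥ := by
  refine le_bot_iff.1 ((uAlg_pow_le T n).trans (iSup_le fun i => ?_))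
  rw [pow_add, h, Submodule.mul_bot]

theorem UNil.of_le_alg {T T' : Set GLM} (h : UNil T) (h' : ∀ g ∈ T', udif g ∈ uAlg T) :
    UNil T' := by
  obtain ⟨n, hn⟩ := h
  refine ⟨n, le_bot_iff.1 ?_⟩
  rw [← uAlg_nil hn]
  exact pow_le_pow_left'
    (Submodule.span_le.2 (by rintro _ ⟨g, hg, rfl⟩; exact h' g hg)) _

theorem UNil.mono {T T' : Set GLM} (h : UNil T) (h' : T' ⊆ T) : UNil T' :=
  h.of_le_alg fun _ hg => uSpan_le_uAlg T (udif_mem_uSpan (h' hg))

theorem udif_mul (g h : GLM) : udif (g * h) = udif g * udif h + udif g + udif h := by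
  simp only [udif, Units.val_mul]
  noncomm_ring

/-- The group attached to a nilpotent subalgebra. -/
def uGroup (R : Submodule k EndM) (hR : R * R ≤ R) (hn : ∃ n : ℕ, R ^ (n + 1) = ⊥) :
    Subgroup GLM where
  carrier := {g | udif g ∈ R}
  one_mem' := by
    show udif 1 ∈ R
    simp [udif]
  mul_mem' := by
    intro g h hg hh
    show udif (g * h) ∈ R
    rw [udif_mul]
    exact add_mem (add_mem (hR (Submodule.mul_mem_mul hg hh)) hg) hh
  inv_mem' := by
    intro g hg
    show udif g⁻¹ ∈ R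
    obtain ⟨n, hn⟩ := hn
    have hpow : ∀ i : ℕ, (-udif g) ^ (i + 1) ∈ R := by
      intro i
      induction i with
      | zero => rw [zero_add, pow_one]; exact neg_mem hg
      | succ i ih => rw [pow_succ]; exact hR (Submodule.mul_mem_mul ih (neg_mem hg))
    have h0 : (-udif g) ^ (n + 1) = 0 := by
      have h1 := Submodule.pow_mem_pow R (neg_mem hg) (n + 1)
      rwa [hn, Submodule.mem_bot] at h1
    have hinv : ((g⁻¹ : GLM) : EndM) = ∑ i ∈ Finset.range (n + 1), (-udif g) ^ i := by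
      refine Units.inv_eq_of_mul_eq_one_right ?_
      have h1 : (g : EndM) = 1 - (-udif g) := by simp [udif]
      rw [h1, mul_neg_geom_sum, h0, sub_zero]
    rw [udif, hinv, Finset.sum_range_succ', pow_zero, add_sub_cancel_right]
    exact sum_mem fun i _ => hpow i

theorem unipotent_of_uNil {T : Set GLM} (h : UNil T) :
    IsUnipotentOn (Subgroup.closure T) := by
  obtain ⟨n, hn⟩ := h
  have hle : Subgroup.closure T ≤ uGroup (uAlg T) (uAlg_mul T) ⟨n, uAlg_nil hn⟩ :=
    (Subgroup.closure_le _).2 fun g hg => uSpan_le_uAlg T (udif_mem_uSpan hg)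
  refine ⟨n + 1, fun l hl hlen => ?_⟩
  have key : ∀ l : List GLM, (∀ g ∈ l, g ∈ Subgroup.closure T) →
      (l.map fun g => udif g).prod ∈ uAlg T ^ l.length := by
    intro l
    induction l with
    | nil => intro _; simp [Submodule.one_le.1 le_rfl]
    | cons a l ih =>
      intro hl
      rw [List.map_cons, List.prod_cons, List.length_cons, pow_succ']
      exact Submodule.mul_mem_mul (hle (hl a (by simp))) (ih fun g hg => hl g (by simp [hg]))
  have h1 := key l hl
  rw [hlen, uAlg_nil hn, Submodule.mem_bot] at h1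
  simpa [udif, List.map_map, Function.comp_def, ← List.map_eq_flatMap] using h1

theorem uNil_of_unipotent {H : Subgroup GLM} (h : IsUnipotentOn H) {T : Set GLM}
    (hT : T ⊆ (H : Set GLM)) : UNil T := by
  obtain ⟨n, hn⟩ := h
  have key : ∀ m : ℕ, uSpan T ^ m ≤ Submodule.span k
      {x | ∃ l : List GLM, (∀ g ∈ l, g ∈ H) ∧ l.length = m ∧ (l.map fun g => udif g).prod = x} := by
    intro m
    induction m with
    | zero =>
      rw [pow_zero, Submodule.one_le]
      exact Submodule.subset_span ⟨[], by simp, rfl, rfl⟩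
    | succ m ih =>
      rw [pow_succ']
      refine (mul_le_mul' le_rfl ih).trans ?_
      rw [uSpan, Submodule.span_mul_span, Submodule.span_le]
      rintro _ ⟨_, ⟨g, hg, rfl⟩, _, ⟨l, hl, hlen, rfl⟩, rfl⟩
      exact Submodule.subset_span ⟨g :: l, List.forall_mem_cons.2 ⟨hT hg, hl⟩, by simp [hlen], by simp⟩
  refine ⟨n, le_bot_iff.1 ?_⟩
  rw [pow_succ']
  refine (mul_le_mul' le_rfl ((key n).trans (Submodule.span_le.2 ?_))).trans
    (le_of_eq (Submodule.mul_bot _))
  rintro _ ⟨l, hl, hlen, rfl⟩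
  simpa [udif, List.map_map, Function.comp_def, ← List.map_eq_flatMap] using hn l hl hlen

theorem udif_conj (s d : GLM) :
    udif (s * d * s⁻¹) * (s : EndM) = (s : EndM) * udif d := by
  simp only [udif, Units.val_mul, sub_mul, mul_sub, one_mul, mul_one, mul_assoc, Units.inv_mul]

/-- Adjoining a nilpotent set normalizing a nilpotent set. -/
theorem UNil.union_of_normalized {D U : Set GLM} (hD : UNil D) (hU : UNil U)
    (hconj : ∀ s ∈ U, ∀ d ∈ D, udif (s * d * s⁻¹) ∈ uAlg D) : UNil (D ∪ U) := by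
  obtain ⟨n, hn⟩ := hD
  obtain ⟨m, hm⟩ := hU
  set I := uAlg D with hI
  set K := uSpan U with hK
  have hI2 : I * I ≤ I := uAlg_mul D
  -- moving `K` to the right
  have h1 : K * uSpan D ≤ I + I * K := by
    rw [hK, uSpan, uSpan, Submodule.span_mul_span, Submodule.span_le]
    rintro _ ⟨_, ⟨s, hs, rfl⟩, _, ⟨d, hd, rfl⟩, rfl⟩
    have hc := hconj s hs d hd
    have e : udif s * udif d =
        (udif (s * d * s⁻¹) - udif d) + udif (s * d * s⁻¹) * udif s := by
      have h0 := udif_conj s d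
      have e1 : udif s * udif d = (s : EndM) * udif d - udif d := by
        simp [udif, sub_mul]
      rw [e1, ← h0, show udif s = (s : EndM) - 1 from rfl, mul_sub, mul_one]
      abel
    show udif s * udif d ∈ (I + I * K : Submodule k EndM)
    rw [e]
    exact Submodule.add_mem_sup (sub_mem hc (uSpan_le_uAlg D (udif_mem_uSpan hd)))
      (Submodule.mul_mem_mul hc (udif_mem_uSpan hs))
  have h2 : K * I ≤ I + I * K := by
    have h3 : ∀ i : ℕ, K * uSpan D ^ (i + 1) ≤ I + I * K := by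
      intro i
      induction i with
      | zero => rw [zero_add, pow_one]; exact h1
      | succ i ih =>
        rw [pow_succ, ← mul_assoc]
        refine (mul_le_mul' ih le_rfl).trans ?_
        rw [add_mul, mul_assoc]
        refine sup_le (le_sup_of_le_left ((mul_le_mul' le_rfl (uSpan_le_uAlg D)).trans hI2)) ?_
        refine (mul_le_mul' le_rfl h1).trans ?_
        rw [mul_add, ← mul_assoc]
        exact sup_le (le_sup_of_le_left hI2) (le_sup_of_le_right (mul_le_mul' hI2 le_rfl))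
    calc K * I = K * ⨆ i, uSpan D ^ (i + 1) := rfl
      _ = ⨆ i, K * uSpan D ^ (i + 1) := Submodule.mul_iSup _ _
      _ ≤ I + I * K := iSup_le h3
  let Q : ℕ → Submodule k EndM := fun a => I ^ a * ⊤
  have hKQ : ∀ a, K * Q a ≤ Q a := by
    intro a
    induction a with
    | zero => simp only [Q, pow_zero, one_mul]; exact le_top
    | succ a ih =>
      simp only [Q] at ih ⊢
      rw [pow_succ', mul_assoc, ← mul_assoc K I]
      refine (mul_le_mul' h2 le_rfl).trans ?_
      rw [add_mul, mul_assoc I K]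
      exact sup_le le_rfl (mul_le_mul' le_rfl ih)
  have hIQ : ∀ a, I * Q a = Q (a + 1) := fun a => by
    simp only [Q]; rw [pow_succ', mul_assoc]
  have hIQ' : ∀ a, Q (a + 1) ≤ Q a := fun a => by
    simp only [Q]
    rw [pow_succ, mul_assoc]
    exact mul_le_mul' le_rfl le_top
  have step : ∀ a, ∀ j, (I + K) ^ j * Q a ≤ Q (a + 1) + K ^ j * Q a := by
    intro a j
    induction j with
    | zero => rw [pow_zero, pow_zero, one_mul]; exact le_sup_right
    | succ j ih =>
      rw [pow_succ', mul_assoc]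
      refine (mul_le_mul' le_rfl ih).trans ?_
      rw [mul_add, add_mul, add_mul]
      refine sup_le (sup_le (le_sup_of_le_left ?_) (le_sup_of_le_left (hKQ _)))
        (sup_le (le_sup_of_le_left ?_) ?_)
      · rw [hIQ]; exact hIQ' _
      · have hj : ∀ j, K ^ j * Q a ≤ Q a := by
          intro j
          induction j with
          | zero => rw [pow_zero, one_mul]
          | succ j ihj => rw [pow_succ', mul_assoc]; exact (mul_le_mul' le_rfl ihj).trans (hKQ a)
        exact (mul_le_mul' le_rfl (hj j)).trans (le_of_eq (hIQ a))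
      · rw [← mul_assoc, ← pow_succ']; exact le_sup_right
  have iter : ∀ a, (I + K) ^ ((m + 1) * a) * Q 0 ≤ Q a := by
    intro a
    induction a with
    | zero => rw [mul_zero, pow_zero, one_mul]
    | succ a ih =>
      rw [mul_add, mul_one, Nat.add_comm, pow_add, mul_assoc]
      refine (mul_le_mul' le_rfl ih).trans ((step a (m + 1)).trans ?_)
      rw [hm, Submodule.bot_mul]
      exact sup_le le_rfl bot_le
  refine ⟨(m + 1) * (n + 1), le_bot_iff.1 ?_⟩
  have hsub : uSpan (D ∪ U) ≤ I + K := by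
    rw [uSpan, Set.image_union, Submodule.span_union]
    exact sup_le_sup (uSpan_le_uAlg D) le_rfl
  have h0 : (I + K) ^ ((m + 1) * (n + 1)) = ⊥ := le_bot_iff.1 <| by
    calc (I + K) ^ ((m + 1) * (n + 1)) = (I + K) ^ ((m + 1) * (n + 1)) * 1 := (mul_one _).symm
      _ ≤ (I + K) ^ ((m + 1) * (n + 1)) * Q 0 :=
          mul_le_mul' le_rfl (by simp only [Q, pow_zero, one_mul]; exact le_top)
      _ ≤ Q (n + 1) := iter _
      _ = ⊥ := by simp only [Q]; rw [hI, uAlg_nil hn, Submodule.bot_mul]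
  rw [pow_succ]
  refine (mul_le_mul' (pow_le_pow_left' hsub _) le_rfl).trans ?_
  rw [h0, Submodule.bot_mul]

variable [FiniteDimensional k M]

theorem uNil_of_pairs {S : Set GLM}
    (hSS : ∀ s ∈ S, ∀ t ∈ S, UNil ({s, t} : Set GLM))
    (hS : ∀ s ∈ S, ∀ d ∈ S, s * d * s⁻¹ ∈ S) : UNil S := by
  classical
  let sat : Set GLM → Set GLM := fun T => {s | s ∈ S ∧ udif s ∈ uAlg T}
  have hsat_sub : ∀ {T}, T ⊆ S → T ⊆ sat T := fun hT g hg =>
    ⟨hT hg, uSpan_le_uAlg _ (udif_mem_uSpan hg)⟩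
  have hsat_alg : ∀ {T}, T ⊆ S → uAlg (sat T) = uAlg T := fun hT =>
    le_antisymm (uAlg_le (fun g hg => hg.2) (uAlg_mul _)) (uAlg_mono (hsat_sub hT))
  let Good : Set GLM → Prop := fun T => T ⊆ S ∧ UNil T ∧ sat T ⊆ T
  have hgood : ∀ {T}, T ⊆ S → UNil T → Good (sat T) := fun {T} hT hn =>
    ⟨fun g hg => hg.1, hn.of_le_alg fun g hg => hg.2, fun g hg => ⟨hg.1, by
      have := hg.2; rwa [hsat_alg hT] at this⟩⟩
  let rk : Set GLM → ℕ := fun T => Module.finrank k (uAlg T)
  have hstrict : ∀ {T T'}, Good T → T ⊆ T' → T' ⊆ S → ∀ x ∈ T', x ∉ T → rk T < rk T' := by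
    intro T T' hT hsub hT'S x hx hxT
    refine Submodule.finrank_lt_finrank_of_lt (lt_of_le_of_ne (uAlg_mono hsub) fun e => hxT ?_)
    exact hT.2.2 ⟨hT'S hx, e ▸ uSpan_le_uAlg _ (udif_mem_uSpan hx)⟩
  -- maximal good sets
  let IsMax : Set GLM → Prop := fun T => Good T ∧ ∀ T', Good T' → T ⊆ T' → T' ⊆ T
  have hbdd : ∀ T, rk T ≤ Module.finrank k EndM := fun T => Submodule.finrank_le _
  have hext : ∀ {T}, T ⊆ S → UNil T → ∃ T', IsMax T' ∧ T ⊆ T' := by
    intro T hTS hT
    let P : ℕ → Prop := fun r => ∃ T', Good T' ∧ T ⊆ T' ∧ rk T' = r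
    have hP0 : P (rk (sat T)) := ⟨_, hgood hTS hT, hsat_sub hTS, rfl⟩
    obtain ⟨T', hT', hTT', hr⟩ := Nat.findGreatest_spec (P := P) (hbdd (sat T)) hP0
    refine ⟨T', ⟨hT', fun T'' hT'' hsub x hx => ?_⟩, hTT'⟩
    by_contra hxT
    have h1 := hstrict hT' hsub hT''.1 x hx hxT
    rw [hr] at h1
    exact absurd (Nat.le_findGreatest (P := P) (hbdd T'') ⟨T'', hT'', hTT'.trans hsub, rfl⟩)
      (not_le.2 h1)
  obtain ⟨T₀, hT₀, -⟩ := hext (T := ∅) (Set.empty_subset S)
    ⟨0, by simp [uSpan]⟩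
  by_cases hall : S ⊆ T₀
  · exact hT₀.1.2.1.mono hall
  obtain ⟨s₀, hs₀, hs₀T⟩ := Set.not_subset.1 hall
  obtain ⟨T₀', hT₀', hs₀T'⟩ := hext (T := ({s₀} : Set GLM)) (Set.singleton_subset_iff.2 hs₀)
    ((hSS s₀ hs₀ s₀ hs₀).mono (by simp))
  exfalso
  let P : ℕ → Prop := fun r => ∃ T₁ T₂, IsMax T₁ ∧ IsMax T₂ ∧ T₁ ≠ T₂ ∧ rk (T₁ ∩ T₂) = r
  have hP0 : P (rk (T₀ ∩ T₀')) :=
    ⟨T₀, T₀', hT₀, hT₀', fun e => hs₀T (e ▸ hs₀T' rfl), rfl⟩
  obtain ⟨T₁, T₂, hT₁, hT₂, hne, hr⟩ := Nat.findGreatest_spec (P := P) (hbdd _) hP0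
  have hDgood : Good (T₁ ∩ T₂) := ⟨fun g hg => hT₁.1.1 hg.1, hT₁.1.2.1.mono Set.inter_subset_left,
    fun g hg => ⟨hT₁.1.2.2 ⟨hg.1, uAlg_mono Set.inter_subset_left hg.2⟩,
      hT₂.1.2.2 ⟨hg.1, uAlg_mono Set.inter_subset_right hg.2⟩⟩⟩
  -- a normalizing element
  have hnorm : ∀ {D T : Set GLM}, Good D → Good T → D ⊆ T → ¬ T ⊆ D →
      ∃ s ∈ T, s ∉ D ∧ ∀ d ∈ D, s * d * s⁻¹ ∈ D := by
    intro D T hD hT hDT hTD
    obtain ⟨x, hx, hxD⟩ := Set.not_subset.1 hTD
    obtain ⟨n, hn⟩ := hT.2.1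
    set J := uAlg T
    set I := uAlg D
    let Pj : ℕ → Prop := fun j => ∃ y ∈ T, y ∉ D ∧ udif y ∈ I + J ^ (j + 1)
    have hP0 : Pj 0 := ⟨x, hx, hxD, Submodule.mem_sup_right (by
      rw [zero_add, pow_one]; exact uSpan_le_uAlg _ (udif_mem_uSpan hx))⟩
    obtain ⟨s, hs, hsD, hsI⟩ := Nat.findGreatest_spec (P := Pj) (Nat.zero_le n) hP0
    set j := Nat.findGreatest Pj n with hj
    refine ⟨s, hs, hsD, fun d hd => ?_⟩
    have hJ2 : J * J ≤ J := uAlg_mul T
    have hIJ : I ≤ J := uAlg_mono hDT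
    have hTS : s * d * s⁻¹ ∈ T := hT.2.2 ⟨hS s (hT.1 hs) d (hD.1 hd), by
      let H := uGroup J hJ2 ⟨n, uAlg_nil hn⟩
      have hsH : s ∈ H := uSpan_le_uAlg _ (udif_mem_uSpan hs)
      have hdH : d ∈ H := uSpan_le_uAlg _ (udif_mem_uSpan (hDT hd))
      exact mul_mem (mul_mem hsH hdH) (inv_mem hsH)⟩
    by_contra hd'
    have hJj : J ^ (j + 1) * I ≤ J ^ (j + 2) ∧ I * J ^ (j + 1) ≤ J ^ (j + 2) :=
      ⟨(mul_le_mul' le_rfl hIJ).trans (le_of_eq (pow_succ J (j + 1)).symm),
        (mul_le_mul' hIJ le_rfl).trans (le_of_eq (pow_succ' J (j + 1)).symm)⟩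
    set σ := udif s
    set δ := udif d
    have hδI : δ ∈ I := uSpan_le_uAlg _ (udif_mem_uSpan hd)
    have hcomm : σ * δ - δ * σ ∈ I + J ^ (j + 2) := by
      refine sub_mem ?_ ?_
      · have h1 : σ * δ ∈ (I + J ^ (j + 1)) * I := Submodule.mul_mem_mul hsI hδI
        rw [add_mul] at h1
        exact (sup_le_sup (uAlg_mul D) hJj.1) h1
      · have h1 : δ * σ ∈ I * (I + J ^ (j + 1)) := Submodule.mul_mem_mul hδI hsI
        rw [mul_add] at h1
        exact (sup_le_sup (uAlg_mul D) hJj.2) h1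
    -- multiply by `s⁻¹ = 1 + (element of I + J ^ (j+1))`
    have hinvJ : udif s⁻¹ ∈ J :=
      (uGroup J hJ2 ⟨n, uAlg_nil hn⟩).inv_mem (uSpan_le_uAlg _ (udif_mem_uSpan hs))
    have e : udif (s * d * s⁻¹) = δ + (σ * δ - δ * σ) * (1 + udif s⁻¹) := by
      have h0 := udif_conj s d
      have e1 : (s : EndM) = 1 + σ := by simp [σ, udif]
      have e2 : (1 + udif s⁻¹ : EndM) = ((s⁻¹ : GLM) : EndM) := by simp [udif]
      have e4 : (s : EndM) * δ - δ * (s : EndM) = σ * δ - δ * σ := by rw [e1]; noncomm_ring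
      rw [e2, ← e4, sub_mul, ← h0, mul_assoc δ, mul_assoc (udif _), Units.mul_inv, mul_one,
        mul_one, add_sub_cancel]
    refine absurd ?_ hd'
    by_cases hjn : j + 1 ≤ n
    · by_contra hd''
      have hmem : udif (s * d * s⁻¹) ∈ I + J ^ (j + 2) := by
        rw [e, mul_add, mul_one]
        refine add_mem (Submodule.mem_sup_left hδI) (add_mem hcomm ?_)
        -- `(I + J^(j+2)) * udif s⁻¹`
        have hJp : ∀ i, J ^ (i + 1) ≤ J := by
          intro i
          induction i with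
          | zero => rw [zero_add, pow_one]
          | succ i ih => rw [pow_succ]; exact (mul_le_mul' ih le_rfl).trans hJ2
        have hle : I + J ^ (j + 1) ≤ J := sup_le hIJ (hJp j)
        have hI'2 : (I + J ^ (j + 1)) * (I + J ^ (j + 1)) ≤ I + J ^ (j + 1) := by
          rw [add_mul, mul_add, mul_add]
          refine sup_le (sup_le (le_sup_of_le_left (uAlg_mul D)) (le_sup_of_le_right ?_))
            (sup_le (le_sup_of_le_right ?_) (le_sup_of_le_right ?_))
          · refine (mul_le_mul' hIJ le_rfl).trans ?_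
            rw [← pow_succ', pow_succ J (j + 1), pow_succ J j, mul_assoc]
            exact mul_le_mul' le_rfl hJ2
          · refine (mul_le_mul' le_rfl hIJ).trans ?_
            rw [← pow_succ, pow_succ J (j + 1), pow_succ J j, mul_assoc]
            exact mul_le_mul' le_rfl hJ2
          · rw [pow_succ J j, mul_assoc]
            refine mul_le_mul' le_rfl ((mul_le_mul' le_rfl ?_).trans hJ2)
            rw [← pow_succ]; exact hJp j
        have hinv2 : udif s⁻¹ ∈ I + J ^ (j + 1) :=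
          (uGroup _ hI'2 ⟨n, le_bot_iff.1 (by rw [← uAlg_nil hn]; exact pow_le_pow_left' hle _)⟩).inv_mem hsI
        have h3 := Submodule.mul_mem_mul hcomm hinv2
        rw [add_mul, mul_add, mul_add] at h3
        refine (sup_le (sup_le (le_sup_of_le_left (uAlg_mul D)) (le_sup_of_le_right hJj.2))
          (sup_le (le_sup_of_le_right ?_) (le_sup_of_le_right ?_)) :
          (I * I + I * J ^ (j + 1)) + (J ^ (j + 2) * I + J ^ (j + 2) * J ^ (j + 1)) ≤
            I + J ^ (j + 2)) h3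
        · rw [pow_succ J (j + 1), mul_assoc]
          exact mul_le_mul' le_rfl ((mul_le_mul' le_rfl hIJ).trans hJ2)
        · rw [pow_succ J (j + 1), mul_assoc]
          refine mul_le_mul' le_rfl ?_
          have hJp : ∀ i, J * J ^ i ≤ J := by
            intro i
            induction i with
            | zero => rw [pow_zero, mul_one]
            | succ i ih => rw [pow_succ, ← mul_assoc]; exact (mul_le_mul' ih le_rfl).trans hJ2
          exact hJp _
      exact absurd (Nat.le_findGreatest (P := Pj) hjn ⟨_, hTS, hd', hmem⟩)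
        (by rw [← hj]; omega)
    · exfalso
      have hjle : j ≤ n := Nat.findGreatest_le n
      apply hsD
      refine hD.2.2 ⟨hT.1 hs, ?_⟩
      have h0 : J ^ (j + 1) = ⊥ := by
        rw [show j + 1 = n + 1 by omega]; exact uAlg_nil hn
      have h1 : udif s ∈ I + J ^ (j + 1) := hsI
      rwa [h0, Submodule.add_eq_sup, sup_bot_eq] at h1
  have hne1 : ¬ T₁ ⊆ T₁ ∩ T₂ := fun h => hne
    (Set.Subset.antisymm (h.trans Set.inter_subset_right)
      (hT₁.2 T₂ hT₂.1 (h.trans Set.inter_subset_right)))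
  have hne2 : ¬ T₂ ⊆ T₁ ∩ T₂ := fun h => hne
    (Set.Subset.antisymm (hT₂.2 T₁ hT₁.1 (h.trans Set.inter_subset_left))
      (h.trans Set.inter_subset_left))
  obtain ⟨s, hs, hsD, hsn⟩ := hnorm hDgood hT₁.1 Set.inter_subset_left hne1
  obtain ⟨t, ht, htD, htn⟩ := hnorm hDgood hT₂.1 Set.inter_subset_right hne2
  have hnil : UNil ((T₁ ∩ T₂) ∪ {s, t}) := by
    refine hDgood.2.1.union_of_normalized (hSS s (hT₁.1.1 hs) t (hT₂.1.1 ht)) ?_
    rintro g (rfl | rfl) d hd
    · exact uSpan_le_uAlg _ (udif_mem_uSpan (hsn d hd))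
    · exact uSpan_le_uAlg _ (udif_mem_uSpan (htn d hd))
  obtain ⟨T₃, hT₃, hsub⟩ := hext (T := (T₁ ∩ T₂) ∪ {s, t})
    (Set.union_subset hDgood.1 (by rintro g (rfl | rfl); exacts [hT₁.1.1 hs, hT₂.1.1 ht])) hnil
  have key : ∀ {T x}, IsMax T → x ∈ T → x ∈ T₃ → x ∉ T₁ ∩ T₂ → T₁ ∩ T₂ ⊆ T → T = T₃ := by
    intro T x hT hxT hx3 hxD hDT
    by_contra hne'
    have h1 := hstrict hDgood (T' := T ∩ T₃)
      (Set.subset_inter hDT (Set.subset_union_left.trans hsub)) (fun g hg => hT.1.1 hg.1) x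
      ⟨hxT, hx3⟩ hxD
    rw [hr] at h1
    exact absurd (Nat.le_findGreatest (P := P) (hbdd (T ∩ T₃)) ⟨T, T₃, hT, hT₃, hne', rfl⟩)
      (not_le.2 h1)
  exact hne ((key hT₁ hs (hsub (Or.inr (Or.inl rfl))) hsD Set.inter_subset_left).trans
    (key hT₂ ht (hsub (Or.inr (Or.inr rfl))) htD Set.inter_subset_right).symm)

theorem unipotent_family {G : Subgroup GLM} {W : Set (Subgroup GLM)} (hWG : ∀ A ∈ W, A ≤ G)
    (hWW : ∀ A ∈ W, ∀ B ∈ W, IsUnipotentOn (A ⊔ B)) (hWconj : ∀ A ∈ W, ∀ g ∈ G, conjBy A g ∈ W) :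
    IsUnipotentOn (⨆ A ∈ W, A) ∧ ∀ g ∈ G, conjBy (⨆ A ∈ W, A) g = ⨆ A ∈ W, A := by
  refine ⟨?_, fun g hg => ?_⟩
  · have hcl : (⨆ A ∈ W, A) = Subgroup.closure (⋃ A ∈ W, (A : Set GLM)) := by
      simp [Subgroup.closure_iUnion, Subgroup.closure_eq]
    rw [hcl]
    refine unipotent_of_uNil (uNil_of_pairs ?_ ?_)
    · intro s hs t ht
      simp only [Set.mem_iUnion] at hs ht
      obtain ⟨A, hA, hsA⟩ := hs
      obtain ⟨B, hB, htB⟩ := ht
      refine uNil_of_unipotent (hWW A hA B hB) ?_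
      rintro g (rfl | rfl)
      exacts [(le_sup_left : A ≤ A ⊔ B) hsA, (le_sup_right : B ≤ A ⊔ B) htB]
    · intro s hs d hd
      simp only [Set.mem_iUnion] at hs hd ⊢
      obtain ⟨A, hA, hsA⟩ := hs
      obtain ⟨B, hB, hdB⟩ := hd
      exact ⟨conjBy B s, hWconj B hB s (hWG A hA hsA), conj_mem_conjBy hdB s⟩
  · have hle : ∀ g ∈ G, conjBy (⨆ A ∈ W, A) g ≤ ⨆ A ∈ W, A := by
      intro g hg
      rw [show conjBy (⨆ A ∈ W, A) g = (⨆ A ∈ W, A).map (MulAut.conj g).toMonoidHom from rfl,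
        Subgroup.map_iSup]
      refine iSup_le fun A => ?_
      rw [Subgroup.map_iSup]
      exact iSup_le fun hA => le_iSup₂_of_le (conjBy A g) (hWconj A hA g hg) le_rfl
    refine le_antisymm (hle g hg) ?_
    calc (⨆ A ∈ W, A) = conjBy (conjBy (⨆ A ∈ W, A) g⁻¹) g := (conjBy_conjBy_inv _ g).symm
      _ ≤ conjBy (⨆ A ∈ W, A) g := conjBy_le_iff.2 (hle g⁻¹ (inv_mem hg))

end CfsgLib.ThreeTransp
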