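import Mathlib
import Cfsg.Agent.Lib.ThreeTransp.UnipotentFamily

/-!
Square-zero endomorphisms whose scalar family lies in a given group of automorphisms.
-/

set_option autoImplicit false
set_option linter.unusedSectionVars false

namespace CfsgLib.ThreeTransp

open Cfsg

variable {k : Type*} [Field k] {M : Type*} [AddCommGroup M] [Module k M]

local notation "GLM" => LinearMap.GeneralLinearGroup k M
local notation "EndM" => Module.End k M

open scoped Classical in
/-- The unit `1 + x` for a square-zero endomorphism `x`. -/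
noncomputable def qel (x : Module.End k M) : LinearMap.GeneralLinearGroup k M :=
  if h : x * x = 0 then
    ⟨1 + x, 1 - x, by noncomm_ring; simp [h], by noncomm_ring; simp [h]⟩
  else 1

theorem qel_val {x : EndM} (h : x * x = 0) : (qel x : EndM) = 1 + x := by
  rw [qel, dif_pos h]

theorem udif_qel {x : EndM} (h : x * x = 0) : udif (qel x) = x := by
  rw [udif, qel_val h, add_sub_cancel_left]

theorem qel_eq_of_val {x : EndM} (h : x * x = 0) {g : GLM} (hg : (g : EndM) = 1 + x) : qel x = g :=
  Units.ext (by rw [qel_val h, hg])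

theorem qel_zero : qel (0 : EndM) = 1 :=
  qel_eq_of_val (mul_zero 0) (by simp)

theorem smul_sq_zero {x : EndM} (h : x * x = 0) (c : k) : (c • x) * (c • x) = 0 := by
  rw [smul_mul_smul_comm, h, smul_zero]

theorem qel_mul {x y : EndM} (hx : x * x = 0) (hy : y * y = 0) (hxy : x * y = 0) (hyx : y * x = 0) :
    qel x * qel y = qel (x + y) := by
  refine (qel_eq_of_val (by noncomm_ring; simp [hx, hy, hxy, hyx]) ?_).symm
  rw [Units.val_mul, qel_val hx, qel_val hy]
  noncomm_ring
  simp [hxy]

theorem qel_inv {x : EndM} (hx : x * x = 0) : (qel x)⁻¹ = qel (-x) := by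
  refine inv_eq_of_mul_eq_one_right ?_
  rw [qel_mul hx (by rw [neg_mul_neg, hx]) (by rw [mul_neg, hx, neg_zero])
    (by rw [neg_mul, hx, neg_zero]), add_neg_cancel, qel_zero]

/-- Conjugation of an endomorphism by an automorphism. -/
def eConj (g : LinearMap.GeneralLinearGroup k M) (x : Module.End k M) : Module.End k M :=
  (g : Module.End k M) * x * ((g⁻¹ : LinearMap.GeneralLinearGroup k M) : Module.End k M)

theorem eConj_mul (g : GLM) (x y : EndM) : eConj g x * eConj g y = eConj g (x * y) := by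
  simp [eConj, mul_assoc]

theorem eConj_zero (g : GLM) : eConj g (0 : EndM) = 0 := by simp [eConj]

theorem eConj_add (g : GLM) (x y : EndM) : eConj g (x + y) = eConj g x + eConj g y := by
  simp [eConj, mul_add, add_mul]

theorem eConj_smul (g : GLM) (c : k) (x : EndM) : eConj g (c • x) = c • eConj g x := by
  simp [eConj]

theorem eConj_sq {g : GLM} {x : EndM} (h : x * x = 0) : eConj g x * eConj g x = 0 := by
  rw [eConj_mul, h, eConj_zero]

theorem qel_conj {g : GLM} {x : EndM} (h : x * x = 0) : g * qel x * g⁻¹ = qel (eConj g x) := by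
  refine (qel_eq_of_val (eConj_sq h) ?_).symm
  rw [Units.val_mul, Units.val_mul, qel_val h, eConj, mul_add, add_mul, mul_one, Units.mul_inv]

/-- The rank. -/
noncomputable def erk (x : Module.End k M) : ℕ := Module.finrank k (LinearMap.range x)

theorem erk_eConj [FiniteDimensional k M] (g : GLM) (x : EndM) : erk (eConj g x) = erk x := by
  have hsurj : LinearMap.range ((g⁻¹ : GLM) : EndM) = ⊤ := by
    rw [LinearMap.range_eq_top]
    intro m
    exact ⟨(g : EndM) m, by rw [← Module.End.mul_apply, Units.inv_mul, Module.End.one_apply]⟩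
  have hinj : Function.Injective (g : EndM) := fun a b h => by
    have := congrArg ((g⁻¹ : GLM) : EndM) h
    rwa [← Module.End.mul_apply, ← Module.End.mul_apply, Units.inv_mul] at this
  rw [erk, erk, eConj, Module.End.mul_eq_comp, Module.End.mul_eq_comp,
    LinearMap.range_comp_of_range_eq_top _ hsurj, LinearMap.range_comp]
  exact ((Submodule.equivMapOfInjective _ hinj _).finrank_eq).symm

/-- The scalar family of `x` lies in `G`. -/
def QFam (G : Subgroup (LinearMap.GeneralLinearGroup k M)) (x : Module.End k M) : Prop :=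
  x * x = 0 ∧ ∀ c : k, qel (c • x) ∈ G

/-- `x` is a non-zero member of minimal rank. -/
def QMin (G : Subgroup (LinearMap.GeneralLinearGroup k M)) (x : Module.End k M) : Prop :=
  QFam G x ∧ x ≠ 0 ∧ ∀ y, QFam G y → y ≠ 0 → erk x ≤ erk y

variable {G : Subgroup (LinearMap.GeneralLinearGroup k M)}

theorem QFam.mem {x : EndM} (h : QFam G x) : qel x ∈ G := by simpa using h.2 1

theorem QFam.smul {x : EndM} (h : QFam G x) (c : k) : QFam G (c • x) :=
  ⟨smul_sq_zero h.1 c, fun d => by rw [smul_smul]; exact h.2 _⟩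

theorem QFam.conj {x : EndM} (h : QFam G x) {g : GLM} (hg : g ∈ G) : QFam G (eConj g x) :=
  ⟨eConj_sq h.1, fun c => by
    rw [← eConj_smul, ← qel_conj (smul_sq_zero h.1 c)]
    exact mul_mem (mul_mem hg (h.2 c)) (inv_mem hg)⟩

theorem scalarFamily_eq {σ : GLM} (h : udif σ * udif σ = 0) :
    scalarFamily σ = Set.range fun c : k => qel (c • udif σ) := by
  ext τ
  constructor
  · rintro ⟨c, hc⟩
    exact ⟨c, qel_eq_of_val (smul_sq_zero h c) hc⟩
  · rintro ⟨c, rfl⟩
    exact ⟨c, qel_val (smul_sq_zero h c)⟩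

theorem qel_udif {σ : GLM} (h : udif σ * udif σ = 0) : qel (udif σ) = σ :=
  qel_eq_of_val h (by rw [udif, add_sub_cancel])

theorem commutatorRank_eq (σ : GLM) : commutatorRank σ = erk (udif σ) := rfl

theorem mem_quadraticElements {σ : GLM} :
    σ ∈ quadraticElements G ↔ QFam G (udif σ) ∧ udif σ ≠ 0 := by
  constructor
  · rintro ⟨-, ⟨h1, h2⟩, h3⟩
    refine ⟨⟨h1, fun c => h3 ?_⟩, h2⟩
    rw [scalarFamily_eq h1]
    exact ⟨c, rfl⟩
  · rintro ⟨⟨h1, h3⟩, h2⟩
    refine ⟨?_, ⟨h1, h2⟩, ?_⟩
    · have := h3 1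
      rwa [one_smul, qel_udif h1] at this
    · rw [scalarFamily_eq h1]
      rintro _ ⟨c, rfl⟩
      exact h3 c

theorem mem_minimalQuadraticElements {σ : GLM} :
    σ ∈ minimalQuadraticElements G ↔ QMin G (udif σ) := by
  constructor
  · rintro ⟨h1, h2⟩
    obtain ⟨a1, a2⟩ := mem_quadraticElements.1 h1
    refine ⟨a1, a2, fun y hy hy0 => ?_⟩
    have := h2 (qel y) (mem_quadraticElements.2 (by rw [udif_qel hy.1]; exact ⟨hy, hy0⟩))
    rwa [commutatorRank_eq, commutatorRank_eq, udif_qel hy.1] at this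
  · rintro ⟨h1, h2, h3⟩
    refine ⟨mem_quadraticElements.2 ⟨h1, h2⟩, fun τ hτ => ?_⟩
    obtain ⟨a1, a2⟩ := mem_quadraticElements.1 hτ
    exact h3 _ a1 a2

variable [FiniteDimensional k M]

theorem QMin.conj {x : EndM} (h : QMin G x) {g : GLM} (hg : g ∈ G) : QMin G (eConj g x) := by
  refine ⟨h.1.conj hg, fun e => h.2.1 ?_, fun y hy hy0 => by rw [erk_eConj]; exact h.2.2 y hy hy0⟩
  have := congrArg (eConj g⁻¹) e
  simpa [eConj, mul_assoc] using this

theorem QMin.eq_zero_of_lt {x y : EndM} (h : QMin G x) (hy : QFam G y) (hlt : erk y < erk x) :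
    y = 0 := by
  by_contra h0
  exact absurd (h.2.2 y hy h0) (not_le.2 hlt)

theorem QMin.of_le {x y : EndM} (h : QMin G x) (hy : QFam G y) (hy0 : y ≠ 0)
    (hle : erk y ≤ erk x) : QMin G y :=
  ⟨hy, hy0, fun z hz hz0 => hle.trans (h.2.2 z hz hz0)⟩

theorem QMin.smul {x : EndM} (h : QMin G x) {c : k} (hc : c ≠ 0) : QMin G (c • x) := by
  refine h.of_le (h.1.smul c) (smul_ne_zero hc h.2.1) (le_of_eq ?_)
  rw [erk, erk, LinearMap.range_smul x c hc]

/-- If the range of a minimal member shrinks to a member of the family it does not shrink. -/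
theorem QMin.range_eq {x y : EndM} (h : QMin G x) (hy : QFam G y) (hy0 : y ≠ 0)
    (hle : LinearMap.range y ≤ LinearMap.range x) : LinearMap.range y = LinearMap.range x :=
  Submodule.eq_of_le_of_finrank_le hle (h.2.2 y hy hy0)

end CfsgLib.ThreeTransp
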