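import Mathlib
import Cfsg.Agent.Lib.ThreeTransp.QuadBasic

/-!
The classes of minimal quadratic families with given image and kernel.
-/

set_option autoImplicit false
set_option linter.unusedSectionVars false

namespace CfsgLib.ThreeTransp

open Cfsg

variable {k : Type*} [Field k] {M : Type*} [AddCommGroup M] [Module k M] [FiniteDimensional k M]
variable {G : Subgroup (LinearMap.GeneralLinearGroup k M)}

local notation "GLM" => LinearMap.GeneralLinearGroup k M
local notation "EndM" => Module.End k M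

theorem mul_eq_zero_of_range_le {x y : EndM} (h : LinearMap.range y ≤ LinearMap.ker x) : x * y = 0 :=
  LinearMap.ext fun m => LinearMap.mem_ker.1 (h ⟨m, rfl⟩)

theorem range_le_ker_of_sq {x : EndM} (h : x * x = 0) : LinearMap.range x ≤ LinearMap.ker x := by
  rintro _ ⟨m, rfl⟩
  exact LinearMap.congr_fun h m

theorem range_add_le' {x y : EndM} {N : Submodule k M} (hx : LinearMap.range x ≤ N)
    (hy : LinearMap.range y ≤ N) : LinearMap.range (x + y) ≤ N := by
  rintro _ ⟨m, rfl⟩
  exact add_mem (hx ⟨m, rfl⟩) (hy ⟨m, rfl⟩)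

theorem le_ker_add {x y : EndM} {N : Submodule k M} (hx : N ≤ LinearMap.ker x)
    (hy : N ≤ LinearMap.ker y) : N ≤ LinearMap.ker (x + y) := fun m hm => by
  rw [LinearMap.mem_ker, LinearMap.add_apply, LinearMap.mem_ker.1 (hx hm),
    LinearMap.mem_ker.1 (hy hm), add_zero]

/-- The family members with image in that of `a` killing the kernel of `a`, when `a a = 0`. -/
noncomputable def eSpace (G : Subgroup (LinearMap.GeneralLinearGroup k M)) (a : Module.End k M)
    (ha : a * a = 0) : Submodule k (Module.End k M) where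
  carrier := {x | QFam G x ∧ LinearMap.range x ≤ LinearMap.range a ∧
    LinearMap.ker a ≤ LinearMap.ker x}
  zero_mem' := ⟨⟨mul_zero 0, fun c => by rw [smul_zero, qel_zero]; exact one_mem G⟩, by simp, by simp⟩
  smul_mem' := by
    rintro c x ⟨h1, h2, h3⟩
    refine ⟨h1.smul c, ?_, fun m hm => ?_⟩
    · rintro _ ⟨m, rfl⟩
      exact Submodule.smul_mem _ c (h2 ⟨m, rfl⟩)
    · rw [LinearMap.mem_ker, LinearMap.smul_apply, LinearMap.mem_ker.1 (h3 hm), smul_zero]
  add_mem' := by
    rintro x y ⟨h1, h2, h3⟩ ⟨g1, g2, g3⟩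
    have hxy : x * y = 0 := mul_eq_zero_of_range_le ((g2.trans (range_le_ker_of_sq ha)).trans h3)
    have hyx : y * x = 0 := mul_eq_zero_of_range_le ((h2.trans (range_le_ker_of_sq ha)).trans g3)
    refine ⟨⟨?_, fun c => ?_⟩, range_add_le' h2 g2, le_ker_add h3 g3⟩
    · rw [add_mul, mul_add, mul_add, h1.1, g1.1, hxy, hyx]; simp
    · rw [smul_add, ← qel_mul (smul_sq_zero h1.1 c) (smul_sq_zero g1.1 c)
        (by rw [smul_mul_smul_comm, hxy, smul_zero]) (by rw [smul_mul_smul_comm, hyx, smul_zero])]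
      exact mul_mem (h1.2 c) (g1.2 c)

variable {a b x y : Module.End k M}

theorem mem_eSpace {ha : a * a = 0} :
    x ∈ eSpace G a ha ↔ QFam G x ∧ LinearMap.range x ≤ LinearMap.range a ∧
      LinearMap.ker a ≤ LinearMap.ker x := Iff.rfl

theorem QMin.sq (h : QMin G a) : a * a = 0 := h.1.1

theorem self_mem_eSpace (h : QMin G a) : a ∈ eSpace G a h.sq := ⟨h.1, le_rfl, le_rfl⟩

theorem eSpace_prod (h : QMin G a) (hx : x ∈ eSpace G a h.sq) (hy : y ∈ eSpace G a h.sq) :
    x * y = 0 :=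
  mul_eq_zero_of_range_le ((hy.2.1.trans (range_le_ker_of_sq h.sq)).trans hx.2.2)

theorem eSpace_data (h : QMin G a) (hx : x ∈ eSpace G a h.sq) (hx0 : x ≠ 0) :
    QMin G x ∧ LinearMap.range x = LinearMap.range a ∧ LinearMap.ker x = LinearMap.ker a := by
  have hr : LinearMap.range x = LinearMap.range a := h.range_eq hx.1 hx0 hx.2.1
  refine ⟨h.of_le hx.1 hx0 (le_of_eq ?_), hr, (Submodule.eq_of_le_of_finrank_le hx.2.2 ?_).symm⟩
  · rw [erk, erk, hr]
  · have h1 := LinearMap.finrank_range_add_finrank_ker x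
    have h2 := LinearMap.finrank_range_add_finrank_ker a
    rw [hr] at h1
    omega

theorem eSpace_congr {ha : a * a = 0} {hb : b * b = 0} (hr : LinearMap.range a = LinearMap.range b)
    (hk : LinearMap.ker a = LinearMap.ker b) : eSpace G a ha = eSpace G b hb := by
  ext x
  rw [mem_eSpace, mem_eSpace, hr, hk]

theorem range_eConj (g : GLM) (x : EndM) :
    LinearMap.range (eConj g x) = (LinearMap.range x).map (g : EndM) := by
  apply le_antisymm
  · rintro _ ⟨m, rfl⟩
    exact ⟨_, ⟨_, rfl⟩, rfl⟩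
  · rintro _ ⟨_, ⟨m, rfl⟩, rfl⟩
    refine ⟨(g : EndM) m, ?_⟩
    show (g : EndM) (x ((((g⁻¹ : GLM) : EndM) * (g : EndM)) m)) = _
    rw [Units.inv_mul]; rfl

theorem mem_ker_eConj (g : GLM) (x : EndM) (m : M) :
    m ∈ LinearMap.ker (eConj g x) ↔ ((g⁻¹ : GLM) : EndM) m ∈ LinearMap.ker x := by
  constructor
  · intro h
    have h1 := congrArg ((g⁻¹ : GLM) : EndM) (LinearMap.mem_ker.1 h)
    rw [map_zero] at h1
    rw [LinearMap.mem_ker]
    have h2 : ((g⁻¹ : GLM) : EndM) (eConj g x m) = x (((g⁻¹ : GLM) : EndM) m) := by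
      show (((g⁻¹ : GLM) : EndM) * ((g : EndM) * x * ((g⁻¹ : GLM) : EndM))) m = _
      rw [← mul_assoc, ← mul_assoc, Units.inv_mul, one_mul]; rfl
    rwa [h2] at h1
  · intro h
    rw [LinearMap.mem_ker]
    show (g : EndM) (x _) = 0
    rw [LinearMap.mem_ker.1 h, map_zero]

theorem ker_eConj_mono (g : GLM) {x y : EndM} (h : LinearMap.ker x ≤ LinearMap.ker y) :
    LinearMap.ker (eConj g x) ≤ LinearMap.ker (eConj g y) := fun m hm => by
  rw [mem_ker_eConj] at hm ⊢; exact h hm

theorem eConj_one (x : EndM) : eConj 1 x = x := by simp [eConj]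

theorem eConj_comp (g h : GLM) (x : EndM) : eConj g (eConj h x) = eConj (g * h) x := by
  simp [eConj, mul_assoc]

theorem eConj_neg (g : GLM) (x : EndM) : eConj g (-x) = -eConj g x := by simp [eConj]

theorem eConj_eq_zero {g : GLM} {x : EndM} (h : eConj g x = 0) : x = 0 := by
  have := congrArg (eConj g⁻¹) h
  rwa [eConj_comp, inv_mul_cancel, eConj_one, eConj_zero] at this

theorem eConj_mem_eSpace {g : GLM} (hg : g ∈ G) {ha : a * a = 0} (hx : x ∈ eSpace G a ha) :
    eConj g x ∈ eSpace G (eConj g a) (eConj_sq ha) :=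
  ⟨hx.1.conj hg, by rw [range_eConj, range_eConj]; exact Submodule.map_mono hx.2.1,
    ker_eConj_mono g hx.2.2⟩

/-- The root subgroup of a class. -/
noncomputable def eGrp (G : Subgroup (LinearMap.GeneralLinearGroup k M)) (a : Module.End k M)
    (h : QMin G a) : Subgroup (LinearMap.GeneralLinearGroup k M) where
  carrier := qel '' (eSpace G a h.sq : Set (Module.End k M))
  one_mem' := ⟨0, zero_mem _, qel_zero⟩
  mul_mem' := by
    rintro _ _ ⟨x, hx, rfl⟩ ⟨y, hy, rfl⟩
    exact ⟨x + y, add_mem hx hy, (qel_mul hx.1.1 hy.1.1 (eSpace_prod h hx hy) (eSpace_prod h hy hx)).symm⟩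
  inv_mem' := by
    rintro _ ⟨x, hx, rfl⟩
    exact ⟨-x, neg_mem hx, (qel_inv hx.1.1).symm⟩

theorem mem_eGrp {h : QMin G a} {g : GLM} :
    g ∈ eGrp G a h ↔ ∃ x ∈ eSpace G a h.sq, qel x = g := Iff.rfl

theorem qel_mem_eGrp (h : QMin G a) (hx : x ∈ eSpace G a h.sq) : qel x ∈ eGrp G a h := ⟨x, hx, rfl⟩

theorem udif_mem_eSpace (h : QMin G a) {g : GLM} (hg : g ∈ eGrp G a h) :
    udif g ∈ eSpace G a h.sq ∧ qel (udif g) = g := by
  obtain ⟨x, hx, rfl⟩ := hg
  rw [udif_qel hx.1.1]
  exact ⟨hx, rfl⟩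

theorem eGrp_comm (h : QMin G a) {g g' : GLM} (hg : g ∈ eGrp G a h) (hg' : g' ∈ eGrp G a h) :
    g * g' = g' * g := by
  obtain ⟨x, hx, rfl⟩ := hg
  obtain ⟨y, hy, rfl⟩ := hg'
  rw [qel_mul hx.1.1 hy.1.1 (eSpace_prod h hx hy) (eSpace_prod h hy hx),
    qel_mul hy.1.1 hx.1.1 (eSpace_prod h hy hx) (eSpace_prod h hx hy), add_comm]

theorem eGrp_isMulCommutative (h : QMin G a) : IsMulCommutative (eGrp G a h) :=
  ⟨⟨fun g g' => Subtype.ext (eGrp_comm h g.2 g'.2)⟩⟩

theorem eGrp_nilpotent (h : QMin G a) : Group.IsNilpotent (eGrp G a h) :=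
  ⟨1, (Subgroup.upperCentralSeries_one _).trans
    (eq_top_iff.2 fun g _ => Subgroup.mem_center_iff.2 fun g' => Subtype.ext (eGrp_comm h g'.2 g.2))⟩

theorem eGrp_le (h : QMin G a) : eGrp G a h ≤ G := by
  rintro _ ⟨x, hx, rfl⟩
  exact hx.1.mem

theorem qel_self_mem_eGrp (h : QMin G a) : qel a ∈ eGrp G a h := qel_mem_eGrp h (self_mem_eSpace h)

theorem qel_ne_one (hx : x * x = 0) (hx0 : x ≠ 0) : qel x ≠ 1 := fun e => hx0 (by
  have := congrArg udif e
  rw [udif_qel hx] at this
  simpa [udif] using this)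

theorem eGrp_ne_bot (h : QMin G a) : eGrp G a h ≠ ⊥ := fun e =>
  qel_ne_one h.sq h.2.1 (Subgroup.mem_bot.1 (e ▸ qel_self_mem_eGrp h))

theorem eGrp_congr {ha : QMin G a} {hb : QMin G b} (hr : LinearMap.range a = LinearMap.range b)
    (hk : LinearMap.ker a = LinearMap.ker b) : eGrp G a ha = eGrp G b hb := by
  ext g
  rw [mem_eGrp, mem_eGrp, eSpace_congr hr hk]

theorem eGrp_of_mem (h : QMin G a) (hx : x ∈ eSpace G a h.sq) (hx0 : x ≠ 0) :
    eGrp G x (eSpace_data h hx hx0).1 = eGrp G a h :=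
  eGrp_congr (eSpace_data h hx hx0).2.1 (eSpace_data h hx hx0).2.2

theorem eGrp_inj {ha : QMin G a} {hb : QMin G b} (h : eGrp G a ha = eGrp G b hb) :
    LinearMap.range a = LinearMap.range b ∧ LinearMap.ker a = LinearMap.ker b := by
  have hm := udif_mem_eSpace hb (h ▸ qel_self_mem_eGrp ha)
  rw [udif_qel ha.sq] at hm
  exact (eSpace_data hb hm.1 ha.2.1).2

theorem conjBy_eGrp (h : QMin G a) {g : GLM} (hg : g ∈ G) :
    conjBy (eGrp G a h) g = eGrp G (eConj g a) (h.conj hg) := by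
  ext y
  constructor
  · rintro ⟨_, ⟨x, hx, rfl⟩, rfl⟩
    exact ⟨eConj g x, eConj_mem_eSpace hg hx, (qel_conj hx.1.1).symm⟩
  · rintro ⟨x, hx, rfl⟩
    have hx' := eConj_mem_eSpace (inv_mem hg) hx
    refine ⟨qel (eConj g⁻¹ x), ⟨_, ⟨hx'.1, ?_, ?_⟩, rfl⟩, ?_⟩
    · simpa [eConj_comp, eConj_one] using hx'.2.1
    · simpa [eConj_comp, eConj_one] using hx'.2.2
    · show g * qel (eConj g⁻¹ x) * g⁻¹ = qel x
      rw [qel_conj (eConj_sq hx.1.1), eConj_comp, mul_inv_cancel, eConj_one]

theorem sameActionSubgroup_eq {σ : GLM} (h : QMin G (udif σ)) :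
    sameActionSubgroup G σ = eGrp G (udif σ) h := by
  apply le_antisymm
  · refine (Subgroup.closure_le _).2 ?_
    rintro τ ⟨hτ, h1, h2⟩
    have hτ' := mem_minimalQuadraticElements.1 hτ
    exact ⟨udif τ, ⟨hτ'.1, h2.le, h1.ge⟩, qel_udif hτ'.sq⟩
  · rintro _ ⟨x, hx, rfl⟩
    by_cases hx0 : x = 0
    · rw [hx0, qel_zero]; exact one_mem _
    obtain ⟨h1, h2, h3⟩ := eSpace_data h hx hx0
    refine Subgroup.subset_closure ⟨mem_minimalQuadraticElements.2 (by rwa [udif_qel hx.1.1]), ?_, ?_⟩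
    · show LinearMap.ker (udif (qel x)) = _
      rw [udif_qel hx.1.1]; exact h3
    · show LinearMap.range (udif (qel x)) = _
      rw [udif_qel hx.1.1]; exact h2

theorem mem_quadraticRootSubgroups {A : Subgroup GLM} :
    A ∈ quadraticRootSubgroups G ↔ ∃ (a : EndM) (h : QMin G a), A = eGrp G a h := by
  constructor
  · rintro ⟨σ, hσ, rfl⟩
    exact ⟨udif σ, mem_minimalQuadraticElements.1 hσ, sameActionSubgroup_eq _⟩
  · rintro ⟨a, h, rfl⟩
    have h' : QMin G (udif (qel a)) := by rwa [udif_qel h.sq]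
    refine ⟨qel a, mem_minimalQuadraticElements.2 h', ?_⟩
    rw [sameActionSubgroup_eq h']
    exact eGrp_congr (by rw [udif_qel h.sq]) (by rw [udif_qel h.sq])

/-- The automorphisms trivial on `C` and moving vectors into `N`, where `N` is invariant. -/
def actGroup (C N : Submodule k M) : Subgroup (LinearMap.GeneralLinearGroup k M) where
  carrier := {g | C ≤ LinearMap.ker (udif g) ∧ LinearMap.range (udif g) ≤ N}
  one_mem' := by constructor <;> simp [udif]
  mul_mem' := by
    rintro g h ⟨g1, g2⟩ ⟨h1, h2⟩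
    constructor
    · intro m hm
      rw [LinearMap.mem_ker, udif_mul]
      simp [LinearMap.mem_ker.1 (g1 hm), LinearMap.mem_ker.1 (h1 hm)]
    · rw [udif_mul]
      exact range_add_le' (range_add_le' ((LinearMap.range_comp_le_range _ _).trans g2) g2) h2
  inv_mem' := by
    rintro g ⟨g1, g2⟩
    have e : udif g⁻¹ = -(udif g * ((g⁻¹ : GLM) : EndM)) := by
      simp [udif, sub_mul]
    constructor
    · intro m hm
      have hgm : (g : EndM) m = m := by
        have := LinearMap.mem_ker.1 (g1 hm)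
        rwa [udif, LinearMap.sub_apply, Module.End.one_apply, sub_eq_zero] at this
      rw [LinearMap.mem_ker, udif, LinearMap.sub_apply, Module.End.one_apply, sub_eq_zero]
      conv_lhs => rw [← hgm]
      rw [← Module.End.mul_apply, Units.inv_mul, Module.End.one_apply]
    · rw [e, LinearMap.range_neg]
      exact (LinearMap.range_comp_le_range _ _).trans g2

theorem eGrp_le_actGroup (h : QMin G a) : eGrp G a h ≤ actGroup (LinearMap.ker a) (LinearMap.range a) := by
  rintro _ ⟨x, hx, rfl⟩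
  refine ⟨?_, ?_⟩ <;> rw [udif_qel hx.1.1]
  · exact hx.2.2
  · exact hx.2.1

theorem actGroup_mono {C C' N N' : Submodule k M} (hC : C' ≤ C) (hN : N ≤ N') :
    actGroup C N ≤ actGroup C' N' := fun _ hg => ⟨hC.trans hg.1, hg.2.trans hN⟩

theorem fixed_sup (ha : QMin G a) (hb : QMin G b) :
    fixedSubmodule (eGrp G a ha ⊔ eGrp G b hb) = LinearMap.ker a ⊓ LinearMap.ker b := by
  apply le_antisymm
  · refine le_inf ?_ ?_
    · refine (iInf₂_le (qel a) (le_sup_left (α := Subgroup GLM) (qel_self_mem_eGrp ha))).trans ?_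
      show LinearMap.ker (udif (qel a)) ≤ _
      rw [udif_qel ha.sq]
    · refine (iInf₂_le (qel b) (le_sup_right (α := Subgroup GLM) (qel_self_mem_eGrp hb))).trans ?_
      show LinearMap.ker (udif (qel b)) ≤ _
      rw [udif_qel hb.sq]
  · refine le_iInf₂ fun g hg => ?_
    exact (sup_le ((eGrp_le_actGroup ha).trans (actGroup_mono inf_le_left le_sup_left))
      ((eGrp_le_actGroup hb).trans (actGroup_mono inf_le_right (le_sup_right (a := LinearMap.range a))))
        hg).1

theorem commutator_sup (ha : QMin G a) (hb : QMin G b) :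
    commutatorSubmodule (eGrp G a ha ⊔ eGrp G b hb) = LinearMap.range a ⊔ LinearMap.range b := by
  apply le_antisymm
  · refine iSup₂_le fun g hg => ?_
    exact (sup_le ((eGrp_le_actGroup ha).trans (actGroup_mono inf_le_left le_sup_left))
      ((eGrp_le_actGroup hb).trans
        (actGroup_mono (inf_le_right (a := LinearMap.ker a)) le_sup_right)) hg).2
  · refine sup_le ?_ ?_
    · refine le_trans ?_ (le_iSup₂ (qel a) (le_sup_left (α := Subgroup GLM) (qel_self_mem_eGrp ha)))
      show _ ≤ LinearMap.range (udif (qel a))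
      rw [udif_qel ha.sq]
    · refine le_trans ?_ (le_iSup₂ (qel b) (le_sup_right (α := Subgroup GLM) (qel_self_mem_eGrp hb)))
      show _ ≤ LinearMap.range (udif (qel b))
      rw [udif_qel hb.sq]

theorem fixed_eGrp (ha : QMin G a) : fixedSubmodule (eGrp G a ha) = LinearMap.ker a := by
  have := fixed_sup ha ha
  rwa [sup_idem, inf_idem] at this

theorem commutator_eGrp (ha : QMin G a) : commutatorSubmodule (eGrp G a ha) = LinearMap.range a := by
  have := commutator_sup ha ha
  rwa [sup_idem, sup_idem] at this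

end CfsgLib.ThreeTransp
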