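import Mathlib
import Cfsg.Agent.Lib.ThreeTransp.QuadBasic

/-!
Two square-zero endomorphisms `a`, `b`: the invertible part of `z = a b + b a` carries a copy of
the two by two matrices over `k[z]`.
-/

set_option autoImplicit false
set_option linter.unusedSectionVars false

namespace CfsgLib.ThreeTransp

open Cfsg Polynomial

variable {k : Type*} [Field k] {M : Type*} [AddCommGroup M] [Module k M]

local notation "GLM" => LinearMap.GeneralLinearGroup k M
local notation "EndM" => Module.End k M

/-- A splitting of the minimal polynomial of `a b + b a` into a power of `X` and a rest. -/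
structure PairData (a b : Module.End k M) where
  /-- the invertible part -/
  P : k[X]
  /-- the exponent of `X` -/
  e : ℕ
  /-- Bezout coefficient -/
  u : k[X]
  /-- Bezout coefficient -/
  v : k[X]
  sqa : a * a = 0
  sqb : b * b = 0
  monic : P.Monic
  hmin : minpoly k (a * b + b * a) = X ^ e * P
  hP0 : P.eval 0 ≠ 0
  bez : u * X ^ e + v * P = 1

theorem exists_pairData [FiniteDimensional k M] {a b : EndM} (ha : a * a = 0) (hb : b * b = 0) :
    Nonempty (PairData a b) := by
  have hi : IsIntegral k (a * b + b * a) := Algebra.IsIntegral.isIntegral _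
  obtain ⟨q, hq, hnd⟩ :=
    Polynomial.exists_eq_pow_rootMultiplicity_mul_and_not_dvd _ (minpoly.ne_zero hi) 0
  rw [map_zero, sub_zero] at hq hnd
  obtain ⟨u, v, huv⟩ : IsCoprime (X ^ (minpoly k (a * b + b * a)).rootMultiplicity 0) q :=
    (prime_X.coprime_iff_not_dvd.2 hnd).pow_left
  refine ⟨⟨q, _, u, v, ha, hb, ?_, hq, ?_, huv⟩⟩
  · exact Monic.of_mul_monic_left (monic_X_pow _) (hq ▸ minpoly.monic hi)
  · rwa [← coeff_zero_eq_eval_zero, Ne, ← X_dvd_iff]

namespace PairData

variable {a b : Module.End k M} (D : PairData a b)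

/-- `a b + b a`. -/
def z (_D : PairData a b) : Module.End k M := a * b + b * a

theorem z_eq : D.z = a * b + b * a := rfl

theorem comm_za : Commute D.z a := by
  show (a * b + b * a) * a = a * (a * b + b * a)
  rw [add_mul, mul_add, mul_assoc b, D.sqa, ← mul_assoc a a, D.sqa, mul_zero, zero_mul, add_zero,
    zero_add, mul_assoc]

theorem comm_zb : Commute D.z b := by
  show (a * b + b * a) * b = b * (a * b + b * a)
  rw [add_mul, mul_add, mul_assoc a, D.sqb, ← mul_assoc b b, D.sqb, mul_zero, zero_mul, add_zero,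
    zero_add, mul_assoc]

theorem comm_aeval_a (q : k[X]) : Commute (aeval D.z q) a :=
  (Algebra.commute_of_mem_adjoin_singleton_of_commute (aeval_mem_adjoin_singleton k D.z)
    D.comm_za.symm).symm

theorem comm_aeval_b (q : k[X]) : Commute (aeval D.z q) b :=
  (Algebra.commute_of_mem_adjoin_singleton_of_commute (aeval_mem_adjoin_singleton k D.z)
    D.comm_zb.symm).symm

/-- The idempotent of the invertible part. -/
noncomputable def pi : Module.End k M := aeval D.z (D.u * X ^ D.e)

theorem aeval_dvd_zero {q : k[X]} (h : X ^ D.e * D.P ∣ q) : aeval D.z q = 0 := by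
  obtain ⟨r, rfl⟩ := h
  rw [← D.hmin, map_mul, z_eq, minpoly.aeval, zero_mul]

theorem pi_sq : D.pi * D.pi = D.pi := by
  have h : aeval D.z (D.u * X ^ D.e * (D.v * D.P)) = 0 :=
    D.aeval_dvd_zero ⟨D.u * D.v, by ring⟩
  have h2 : D.u * X ^ D.e * (D.u * X ^ D.e) =
      D.u * X ^ D.e - D.u * X ^ D.e * (D.v * D.P) := by
    linear_combination (D.u * X ^ D.e) * D.bez
  rw [pi, ← map_mul, h2, map_sub, h, sub_zero]

theorem P_pi : aeval D.z D.P * D.pi = 0 := by
  rw [pi, ← map_mul]; exact D.aeval_dvd_zero ⟨D.u, by ring⟩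

theorem comm_pi_a : Commute D.pi a := D.comm_aeval_a _

theorem comm_pi_b : Commute D.pi b := D.comm_aeval_b _

theorem comm_pi_z : Commute D.pi D.z :=
  (Algebra.commute_of_mem_adjoin_self (aeval_mem_adjoin_singleton k D.z)).symm

theorem nil_compl : (D.z * (1 - D.pi)) ^ (D.e + 1) = 0 := by
  have h1 : Commute D.z (1 - D.pi) := (Commute.one_right _).sub_right D.comm_pi_z.symm
  have h3 : aeval D.z (X ^ D.e * (D.v * D.P)) = 0 := D.aeval_dvd_zero ⟨D.v, by ring⟩
  have h4 : (1 - D.pi) = aeval D.z (D.v * D.P) := by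
    rw [pi, ← map_one (aeval D.z (R := k)), ← map_sub]
    congr 1
    linear_combination -D.bez
  have h2 : D.z ^ D.e * (1 - D.pi) = 0 := by
    rw [h4, ← aeval_X (R := k) D.z, aeval_X, ← aeval_X_pow (R := k) D.z, ← map_mul, h3]
  rw [h1.mul_pow, pow_succ' D.z, mul_assoc, pow_succ' (1 - D.pi), ← mul_assoc (D.z ^ D.e), h2,
    zero_mul, mul_zero]

/-- The coefficient ring. -/
noncomputable abbrev R : Type _ := AdjoinRoot D.P

/-- Polynomials in `z` on the invertible part. -/
noncomputable def phiPoly : k[X] →ₗ[k] Module.End k M :=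
  (LinearMap.mulRight k D.pi).comp (aeval D.z).toLinearMap

theorem phiPoly_apply (q : k[X]) : D.phiPoly q = aeval D.z q * D.pi := rfl

theorem phiPoly_ker : (Ideal.span {D.P}).restrictScalars k ≤ LinearMap.ker D.phiPoly := by
  intro q hq
  obtain ⟨r, rfl⟩ := Ideal.mem_span_singleton'.1 hq
  rw [LinearMap.mem_ker, phiPoly_apply, map_mul, mul_assoc, P_pi, mul_zero]

/-- The representation of the coefficient ring. -/
noncomputable def phi (r : D.R) : Module.End k M :=
  Quotient.liftOn' r D.phiPoly fun q q' h => by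
    rw [← sub_eq_zero, ← map_sub, ← LinearMap.mem_ker]
    exact D.phiPoly_ker ((Submodule.quotientRel_def _).1 h)

theorem phi_mk (q : k[X]) : D.phi (AdjoinRoot.mk D.P q) = aeval D.z q * D.pi := rfl

theorem phi_zero : D.phi 0 = 0 := by rw [← map_zero (AdjoinRoot.mk D.P), phi_mk, map_zero, zero_mul]

theorem phi_one : D.phi 1 = D.pi := by rw [← map_one (AdjoinRoot.mk D.P), phi_mk, map_one, one_mul]

theorem phi_add (r s : D.R) : D.phi (r + s) = D.phi r + D.phi s := by
  induction r using AdjoinRoot.induction_on with | _ q => ?_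
  induction s using AdjoinRoot.induction_on with | _ q' => ?_
  rw [← map_add, phi_mk, phi_mk, phi_mk, map_add, add_mul]

theorem phi_mul (r s : D.R) : D.phi (r * s) = D.phi r * D.phi s := by
  induction r using AdjoinRoot.induction_on with | _ q => ?_
  induction s using AdjoinRoot.induction_on with | _ q' => ?_
  rw [← map_mul, phi_mk, phi_mk, phi_mk, map_mul, mul_assoc, mul_assoc]
  congr 1
  rw [← mul_assoc D.pi, show D.pi * aeval D.z q' = aeval D.z q' * D.pi from ?_, mul_assoc, pi_sq]
  rw [pi, ← map_mul, ← map_mul, mul_comm]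

theorem phi_neg (r : D.R) : D.phi (-r) = -D.phi r := by
  rw [eq_neg_iff_add_eq_zero, ← phi_add, neg_add_cancel, phi_zero]

theorem phi_sub (r s : D.R) : D.phi (r - s) = D.phi r - D.phi s := by
  rw [sub_eq_add_neg, phi_add, phi_neg, sub_eq_add_neg]

theorem phi_algebraMap (c : k) : D.phi (algebraMap k D.R c) = c • D.pi := by
  rw [AdjoinRoot.algebraMap_eq, ← AdjoinRoot.mk_C, phi_mk, aeval_C, Algebra.smul_def]

theorem phi_smul (c : k) (r : D.R) : D.phi (c • r) = c • D.phi r := by
  rw [Algebra.smul_def, phi_mul, phi_algebraMap, smul_mul_assoc, ← phi_one, ← phi_mul, one_mul]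

theorem phi_root : D.phi (AdjoinRoot.root D.P) = D.z * D.pi := by
  rw [← AdjoinRoot.mk_X, phi_mk, aeval_X]

theorem phi_injective {r : D.R} (h : D.phi r = 0) : r = 0 := by
  induction r using AdjoinRoot.induction_on with | _ q => ?_
  rw [AdjoinRoot.mk_eq_zero]
  rw [phi_mk, pi, ← map_mul] at h
  have h1 : X ^ D.e * D.P ∣ q * (D.u * X ^ D.e) := D.hmin ▸ minpoly.dvd k _ h
  have h2 : D.P ∣ q * (D.u * X ^ D.e) := (dvd_mul_left _ _).trans h1
  have h3 : IsCoprime D.P (D.u * X ^ D.e) := ⟨D.v, 1, by linear_combination D.bez⟩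
  exact h3.dvd_of_dvd_mul_right h2

theorem comm_phi_a (r : D.R) : Commute (D.phi r) a := by
  induction r using AdjoinRoot.induction_on with | _ q => ?_
  rw [phi_mk]; exact (D.comm_aeval_a q).mul_left D.comm_pi_a

theorem comm_phi_b (r : D.R) : Commute (D.phi r) b := by
  induction r using AdjoinRoot.induction_on with | _ q => ?_
  rw [phi_mk]; exact (D.comm_aeval_b q).mul_left D.comm_pi_b

theorem pi_phi (r : D.R) : D.pi * D.phi r = D.phi r := by rw [← phi_one, ← phi_mul, one_mul]

theorem phi_pi (r : D.R) : D.phi r * D.pi = D.phi r := by rw [← phi_one, ← phi_mul, mul_one]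

theorem exists_root_inv : ∃ t : D.R, AdjoinRoot.root D.P * t = 1 := by
  obtain ⟨u, v, huv⟩ : IsCoprime (X : k[X]) D.P :=
    prime_X.coprime_iff_not_dvd.2 (by rw [X_dvd_iff, coeff_zero_eq_eval_zero]; exact D.hP0)
  refine ⟨AdjoinRoot.mk D.P u, ?_⟩
  have h2 := congrArg (AdjoinRoot.mk D.P) huv
  rwa [map_add, map_mul, map_mul, AdjoinRoot.mk_self, mul_zero, add_zero, AdjoinRoot.mk_X,
    map_one, mul_comm] at h2

/-- The inverse of the root. -/
noncomputable def rinv : D.R := D.exists_root_inv.choose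

theorem root_rinv : AdjoinRoot.root D.P * D.rinv = 1 := D.exists_root_inv.choose_spec

/-- The four matrix units (without coefficient). -/
noncomputable def munit : Fin 2 → Fin 2 → Module.End k M :=
  ![![a * b * D.phi D.rinv, a * D.pi], ![b * D.pi, b * a * D.phi D.rinv]]

theorem aba : a * b * a = a * D.z := by
  rw [z_eq, mul_add, ← mul_assoc, ← mul_assoc, D.sqa, zero_mul, zero_add]

theorem bab : b * a * b = b * D.z := by
  rw [z_eq, mul_add, ← mul_assoc, ← mul_assoc, D.sqb, zero_mul, add_zero]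

/-- The representation of the two by two matrices. -/
noncomputable def Phi (m : Matrix (Fin 2) (Fin 2) D.R) : Module.End k M :=
  a * b * D.phi (D.rinv * m 0 0) + a * D.phi (m 0 1) + b * D.phi (D.rinv * m 1 0) +
    b * a * D.phi (D.rinv * m 1 1)

theorem Phi_add (m n : Matrix (Fin 2) (Fin 2) D.R) : D.Phi (m + n) = D.Phi m + D.Phi n := by
  simp only [Phi, Matrix.add_apply, mul_add, phi_add]
  abel

theorem Phi_zero : D.Phi 0 = 0 := by simp [Phi, phi_zero]

theorem Phi_one : D.Phi 1 = D.pi := by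
  simp only [Phi, Matrix.one_apply_eq, Matrix.one_apply_ne (by decide : (0 : Fin 2) ≠ 1),
    Matrix.one_apply_ne (by decide : (1 : Fin 2) ≠ 0), mul_one, mul_zero, phi_zero, add_zero]
  rw [← add_mul, ← z_eq, ← pi_phi D D.rinv, ← mul_assoc, ← phi_root, ← phi_mul, root_rinv, phi_one]

theorem z_phi (r : D.R) : D.z * D.phi r = D.phi (AdjoinRoot.root D.P * r) := by
  rw [phi_mul, phi_root, mul_assoc, pi_phi]

theorem Phi_mul (m n : Matrix (Fin 2) (Fin 2) D.R) : D.Phi (m * n) = D.Phi m * D.Phi n := by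
  set x := AdjoinRoot.root D.P with hx
  set t := D.rinv with ht
  have hxt : x * t = 1 := D.root_rinv
  -- move the coefficients to the right
  have mv : ∀ (w w' : EndM) (r s : D.R), Commute (D.phi r) w' →
      (w * D.phi r) * (w' * D.phi s) = (w * w') * D.phi (r * s) := by
    intro w w' r s hc
    rw [phi_mul, mul_assoc w, ← mul_assoc (D.phi r), hc.eq, mul_assoc w', mul_assoc w]
  have ca : ∀ r, Commute (D.phi r) a := D.comm_phi_a
  have cb : ∀ r, Commute (D.phi r) b := D.comm_phi_b
  have cab : ∀ r, Commute (D.phi r) (a * b) := fun r => (ca r).mul_right (cb r)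
  have cba : ∀ r, Commute (D.phi r) (b * a) := fun r => (cb r).mul_right (ca r)
  have p1 : a * b * (a * b) = a * b * D.z := by
    rw [← mul_assoc, D.aba, mul_assoc, D.comm_zb.eq, ← mul_assoc]
  have p2 : a * b * a = a * D.z := D.aba
  have p3 : a * b * b = 0 := by rw [mul_assoc, D.sqb, mul_zero]
  have p4 : a * b * (b * a) = 0 := by rw [← mul_assoc, p3, zero_mul]
  have p5 : a * (a * b) = 0 := by rw [← mul_assoc, D.sqa, zero_mul]
  have p6 : a * a = 0 := D.sqa
  have p7 : a * (b * a) = a * D.z := by rw [← mul_assoc, D.aba]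
  have p8 : b * (a * b) = b * D.z := by rw [← mul_assoc, D.bab]
  have p9 : b * b = 0 := D.sqb
  have p10 : b * (b * a) = 0 := by rw [← mul_assoc, D.sqb, zero_mul]
  have p11 : b * a * (a * b) = 0 := by rw [mul_assoc, p5, mul_zero]
  have p12 : b * a * a = 0 := by rw [mul_assoc, D.sqa, mul_zero]
  have p13 : b * a * b = b * D.z := D.bab
  have p14 : b * a * (b * a) = b * a * D.z := by
    rw [← mul_assoc, D.bab, mul_assoc, D.comm_za.eq, ← mul_assoc]
  simp only [Phi, Matrix.mul_apply, Fin.sum_univ_two]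
  simp only [add_mul (R := EndM), mul_add (R := EndM), mv _ _ _ _ (cab _), mv _ _ _ _ (ca _),
    mv _ _ _ _ (cb _), mv _ _ _ _ (cba _)]
  simp only [p1, p2, p3, p4, p5, p6, p7, p8, p9, p10, p11, p12, p13, p14, zero_mul, add_zero,
    zero_add, mul_assoc (_ : EndM) D.z, z_phi]
  have e2 : ∀ p : D.R, x * (t * p) = p := fun p => by rw [← mul_assoc, hxt, one_mul]
  have e3 : ∀ p q : D.R, x * (p * (t * q)) = p * q := fun p q => by
    linear_combination (p * q) * hxt
  have e4 : ∀ p q : D.R, p * (t * q) = t * (p * q) := fun p q => by ring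
  simp only [phi_add, mul_add (R := D.R), mul_add (R := EndM)]
  simp only [mul_assoc, ← hx, ← ht, e2, e3]
  simp only [e4]
  abel

theorem Phi_injective {m : Matrix (Fin 2) (Fin 2) D.R} (h : D.Phi m = 0) : m = 0 := by
  set x := AdjoinRoot.root D.P with hx
  have key : ∀ i j, D.phi (m i j) = 0 := by
    intro i j
    have h1 : D.Phi (∑ l : Fin 2, Matrix.single l i (1 : D.R) * m * Matrix.single j l 1) = 0 := by
      rw [Fin.sum_univ_two, Phi_add, Phi_mul, Phi_mul, Phi_mul, Phi_mul, h]
      simp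
    have h2 : (∑ l : Fin 2, Matrix.single l i (1 : D.R) * m * Matrix.single j l 1) =
        (m i j) • (1 : Matrix (Fin 2) (Fin 2) D.R) := by
      ext p q
      fin_cases i <;> fin_cases j <;> fin_cases p <;> fin_cases q <;>
        simp [Matrix.mul_apply, Fin.sum_univ_two, Matrix.single]
    rw [h2] at h1
    have h3 : D.Phi (m i j • (1 : Matrix (Fin 2) (Fin 2) D.R)) = D.phi (m i j) := by
      simp only [Phi, Matrix.smul_apply, Matrix.one_apply_eq,
        Matrix.one_apply_ne (by decide : (0 : Fin 2) ≠ 1),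
        Matrix.one_apply_ne (by decide : (1 : Fin 2) ≠ 0), smul_eq_mul, mul_one, mul_zero, phi_zero,
        add_zero]
      rw [← add_mul, ← z_eq, z_phi, ← mul_assoc, root_rinv, one_mul]
    rwa [h3] at h1
  ext i j
  exact D.phi_injective (key i j)

theorem Phi_pi (m : Matrix (Fin 2) (Fin 2) D.R) : D.Phi m * D.pi = D.Phi m := by
  rw [← Phi_one, ← Phi_mul, mul_one]

theorem pi_Phi (m : Matrix (Fin 2) (Fin 2) D.R) : D.pi * D.Phi m = D.Phi m := by
  rw [← Phi_one, ← Phi_mul, one_mul]

theorem Phi_e12 (r : D.R) : D.Phi !![0, r; 0, 0] = a * D.phi r := by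
  simp [Phi, phi_zero]

theorem Phi_e21 (r : D.R) : D.Phi !![0, 0; AdjoinRoot.root D.P * r, 0] = b * D.phi r := by
  simp [Phi, phi_zero]
  rw [← mul_assoc, mul_comm D.rinv, root_rinv, one_mul]

end PairData

end CfsgLib.ThreeTransp
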