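import Mathlib
import Cfsg.Agent.Lib.ThreeTransp.QuadPairAlg

/-!
The group generated by the scalar families of two square-zero endomorphisms, seen in the two parts
of the module.
-/

set_option autoImplicit false
set_option linter.unusedSectionVars false

namespace CfsgLib.ThreeTransp

open Cfsg Polynomial

variable {k : Type*} [Field k] {M : Type*} [AddCommGroup M] [Module k M]

local notation "GLM" => LinearMap.GeneralLinearGroup k M
local notation "EndM" => Module.End k M

/-- The group generated by two scalar families. -/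
noncomputable def pH (a b : Module.End k M) : Subgroup (LinearMap.GeneralLinearGroup k M) :=
  Subgroup.closure (Set.range (fun c : k => qel (c • a)) ∪ Set.range fun c : k => qel (c • b))

theorem pH_swap (a b : EndM) : pH a b = pH b a := by rw [pH, pH, Set.union_comm]

theorem qel_mem_pH_left (a b : EndM) (c : k) : qel (c • a) ∈ pH a b :=
  Subgroup.subset_closure (Or.inl ⟨c, rfl⟩)

theorem qel_mem_pH_right (a b : EndM) (c : k) : qel (c • b) ∈ pH a b :=
  Subgroup.subset_closure (Or.inr ⟨c, rfl⟩)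

theorem pH_le {G : Subgroup GLM} {a b : EndM} (ha : QFam G a) (hb : QFam G b) : pH a b ≤ G := by
  refine (Subgroup.closure_le _).2 ?_
  rintro _ (⟨c, rfl⟩ | ⟨c, rfl⟩)
  · exact ha.2 c
  · exact hb.2 c

/-- An induction principle for `pH`. -/
theorem pH_induction {a b : EndM} (ha : a * a = 0) (hb : b * b = 0) {p : GLM → Prop}
    (h1 : p 1) (hl : ∀ (c : k) (h : GLM), h ∈ pH a b → p h → p (qel (c • a) * h))
    (hr : ∀ (c : k) (h : GLM), h ∈ pH a b → p h → p (qel (c • b) * h)) {h : GLM} (hh : h ∈ pH a b) : p h := by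
  refine Subgroup.closure_induction_left h1 ?_ ?_ hh
  · rintro _ (⟨c, rfl⟩ | ⟨c, rfl⟩) y hm hy
    · exact hl c y hm hy
    · exact hr c y hm hy
  · rintro _ (⟨c, rfl⟩ | ⟨c, rfl⟩) y hm hy
    · rw [qel_inv (smul_sq_zero ha c), ← neg_smul]; exact hl _ y hm hy
    · rw [qel_inv (smul_sq_zero hb c), ← neg_smul]; exact hr _ y hm hy

theorem uNil_pair_of_nilpotent {a b : EndM} (ha : a * a = 0) (hb : b * b = 0)
    (hz : IsNilpotent (a * b + b * a)) : UNil ({qel a, qel b} : Set GLM) := by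
  obtain ⟨N, hN⟩ := hz
  set z := a * b + b * a with hzd
  set S : Submodule k EndM := uSpan ({qel a, qel b} : Set GLM) with hS
  set W : Submodule k EndM := Submodule.span k {a * b, b * a} with hW
  have h2 : S * S ≤ W := by
    rw [hS, uSpan, Submodule.span_mul_span, Submodule.span_le]
    rintro _ ⟨_, ⟨g, hg, rfl⟩, _, ⟨h, hh, rfl⟩, rfl⟩
    rcases hg with rfl | rfl <;> rcases hh with rfl | rfl
    · show udif (qel a) * udif (qel a) ∈ W
      rw [udif_qel ha, ha]; exact zero_mem W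
    · show udif (qel a) * udif (qel b) ∈ W
      rw [udif_qel ha, udif_qel hb]; exact Submodule.subset_span (Or.inl rfl)
    · show udif (qel b) * udif (qel a) ∈ W
      rw [udif_qel ha, udif_qel hb]; exact Submodule.subset_span (Or.inr rfl)
    · show udif (qel b) * udif (qel b) ∈ W
      rw [udif_qel hb, hb]; exact zero_mem W
  have hWW : W * W ≤ W.map (LinearMap.mulLeft k z) := by
    rw [hW, Submodule.span_mul_span, Submodule.span_le]
    rintro _ ⟨x, hx, y, hy, rfl⟩
    rcases hx with rfl | rfl <;> rcases hy with rfl | rfl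
    · refine ⟨a * b, Submodule.subset_span (Or.inl rfl), ?_⟩
      show z * (a * b) = a * b * (a * b)
      rw [hzd, add_mul, mul_assoc b a, ← mul_assoc a a, ha, zero_mul, mul_zero, add_zero]
    · show a * b * (b * a) ∈ Submodule.map _ _
      rw [mul_assoc, ← mul_assoc b b, hb, zero_mul, mul_zero]; exact zero_mem _
    · show b * a * (a * b) ∈ Submodule.map _ _
      rw [mul_assoc, ← mul_assoc a a, ha, zero_mul, mul_zero]; exact zero_mem _
    · refine ⟨b * a, Submodule.subset_span (Or.inr rfl), ?_⟩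
      show z * (b * a) = b * a * (b * a)
      rw [hzd, add_mul, mul_assoc a b, ← mul_assoc b b, hb, zero_mul, mul_zero, zero_add]
  have hpow : ∀ j : ℕ, (S * S) ^ (j + 1) ≤ W.map (LinearMap.mulLeft k (z ^ j)) := by
    intro j
    induction j with
    | zero =>
      rw [zero_add, pow_one, pow_zero]
      intro x hx
      exact ⟨x, h2 hx, by simp⟩
    | succ j ih =>
      rw [pow_succ]
      refine (mul_le_mul' ih h2).trans (Submodule.mul_le.2 ?_)
      rintro _ ⟨x, hx, rfl⟩ y hy
      obtain ⟨w, hw, hwe⟩ := hWW (Submodule.mul_mem_mul hx hy)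
      refine ⟨w, hw, ?_⟩
      simp only [LinearMap.mulLeft_apply] at hwe ⊢
      rw [mul_assoc, ← hwe, pow_succ, mul_assoc]
  refine ⟨2 * N + 1, le_bot_iff.1 ?_⟩
  rw [show 2 * N + 1 + 1 = 2 * (N + 1) by ring, pow_mul, pow_two]
  refine (hpow N).trans ?_
  rintro _ ⟨x, -, rfl⟩
  simp [hN]

theorem z_mem_uAlg {a b : EndM} (ha : a * a = 0) (hb : b * b = 0) :
    a * b + b * a ∈ uAlg ({qel a, qel b} : Set GLM) := by
  have h1 : a ∈ uAlg ({qel a, qel b} : Set GLM) := by
    have := uSpan_le_uAlg _ (udif_mem_uSpan (T := ({qel a, qel b} : Set GLM)) (Or.inl rfl))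
    rwa [udif_qel ha] at this
  have h2 : b ∈ uAlg ({qel a, qel b} : Set GLM) := by
    have := uSpan_le_uAlg _ (udif_mem_uSpan (T := ({qel a, qel b} : Set GLM)) (Or.inr rfl))
    rwa [udif_qel hb] at this
  exact add_mem (uAlg_mul _ (Submodule.mul_mem_mul h1 h2))
    (uAlg_mul _ (Submodule.mul_mem_mul h2 h1))

theorem nilpotent_of_mem_uAlg {T : Set GLM} (hT : UNil T) {x : EndM} (hx : x ∈ uAlg T) :
    IsNilpotent x := by
  obtain ⟨n, hn⟩ := hT
  refine ⟨n + 1, ?_⟩
  have h := Submodule.pow_mem_pow _ hx (n + 1)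
  rwa [uAlg_nil hn, Submodule.mem_bot] at h

theorem isUnipotentOn_pH_iff {a b : EndM} (ha : a * a = 0) (hb : b * b = 0) :
    IsUnipotentOn (pH a b) ↔ IsNilpotent (a * b + b * a) := by
  constructor
  · intro h
    refine nilpotent_of_mem_uAlg ?_ (z_mem_uAlg ha hb)
    refine uNil_of_unipotent h ?_
    rintro g (rfl | rfl)
    · simpa using qel_mem_pH_left a b 1
    · simpa using qel_mem_pH_right a b 1
  · intro h
    refine unipotent_of_uNil ((uNil_pair_of_nilpotent ha hb h).of_le_alg ?_)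
    rintro _ (⟨c, rfl⟩ | ⟨c, rfl⟩)
    · rw [udif_qel (smul_sq_zero ha c)]
      have := uSpan_le_uAlg _ (udif_mem_uSpan (T := ({qel a, qel b} : Set GLM)) (Or.inl rfl))
      rw [udif_qel ha] at this
      exact Submodule.smul_mem _ c this
    · rw [udif_qel (smul_sq_zero hb c)]
      have := uSpan_le_uAlg _ (udif_mem_uSpan (T := ({qel a, qel b} : Set GLM)) (Or.inr rfl))
      rw [udif_qel hb] at this
      exact Submodule.smul_mem _ c this

/-- The upper transvection over a commutative ring. -/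
def rU {R : Type*} [CommRing R] (r : R) : Matrix.SpecialLinearGroup (Fin 2) R :=
  ⟨!![1, r; 0, 1], by simp [Matrix.det_fin_two]⟩

/-- The lower transvection over a commutative ring. -/
def rL {R : Type*} [CommRing R] (r : R) : Matrix.SpecialLinearGroup (Fin 2) R :=
  ⟨!![1, 0; r, 1], by simp [Matrix.det_fin_two]⟩

theorem rU_val {R : Type*} [CommRing R] (r : R) :
    ((rU r : Matrix.SpecialLinearGroup (Fin 2) R) : Matrix (Fin 2) (Fin 2) R) = !![1, r; 0, 1] :=
  rfl

theorem rL_val {R : Type*} [CommRing R] (r : R) :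
    ((rL r : Matrix.SpecialLinearGroup (Fin 2) R) : Matrix (Fin 2) (Fin 2) R) = !![1, 0; r, 1] :=
  rfl

theorem rU_add {R : Type*} [CommRing R] (r s : R) : rU r * rU s = rU (r + s) := by
  apply Subtype.ext
  rw [Matrix.SpecialLinearGroup.coe_mul, rU_val, rU_val, rU_val]
  ext i j
  fin_cases i <;> fin_cases j <;> simp [Matrix.mul_apply, Fin.sum_univ_two, add_comm]

theorem rL_add {R : Type*} [CommRing R] (r s : R) : rL r * rL s = rL (r + s) := by
  apply Subtype.ext
  rw [Matrix.SpecialLinearGroup.coe_mul, rL_val, rL_val, rL_val]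
  ext i j
  fin_cases i <;> fin_cases j <;> simp [Matrix.mul_apply, Fin.sum_univ_two, add_comm]

theorem rU_zero {R : Type*} [CommRing R] : rU (0 : R) = 1 := by
  apply Subtype.ext
  rw [rU_val, Matrix.SpecialLinearGroup.coe_one, Matrix.one_fin_two]

theorem rL_zero {R : Type*} [CommRing R] : rL (0 : R) = 1 := by
  apply Subtype.ext
  rw [rL_val, Matrix.SpecialLinearGroup.coe_one, Matrix.one_fin_two]

theorem rU_inv {R : Type*} [CommRing R] (r : R) : (rU r)⁻¹ = rU (-r) :=
  inv_eq_of_mul_eq_one_right (by rw [rU_add, add_neg_cancel, rU_zero])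

theorem rL_inv {R : Type*} [CommRing R] (r : R) : (rL r)⁻¹ = rL (-r) :=
  inv_eq_of_mul_eq_one_right (by rw [rL_add, add_neg_cancel, rL_zero])

namespace PairData

variable {a b : Module.End k M} (D : PairData a b)

/-- The group in `SL₂(R)`. -/
noncomputable def Hbar : Subgroup (Matrix.SpecialLinearGroup (Fin 2) D.R) :=
  Subgroup.closure (Set.range (fun c : k => rU (algebraMap k D.R c)) ∪
    Set.range fun c : k => rL (algebraMap k D.R c * AdjoinRoot.root D.P))

theorem rU_mem (c : k) : rU (algebraMap k D.R c) ∈ D.Hbar :=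
  Subgroup.subset_closure (Or.inl ⟨c, rfl⟩)

theorem rL_mem (c : k) : rL (algebraMap k D.R c * AdjoinRoot.root D.P) ∈ D.Hbar :=
  Subgroup.subset_closure (Or.inr ⟨c, rfl⟩)

theorem Phi_rU (c : k) : D.Phi (rU (algebraMap k D.R c)) = (1 + c • a) * D.pi := by
  have : ((rU (algebraMap k D.R c) : Matrix.SpecialLinearGroup (Fin 2) D.R) :
      Matrix (Fin 2) (Fin 2) D.R) = 1 + !![0, algebraMap k D.R c; 0, 0] := by
    rw [rU_val, Matrix.one_fin_two]
    ext i j; fin_cases i <;> fin_cases j <;> simp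
  rw [this, Phi_add, Phi_one, Phi_e12, phi_algebraMap, add_mul, one_mul, mul_smul_comm,
    smul_mul_assoc]

theorem Phi_rL (c : k) :
    D.Phi (rL (algebraMap k D.R c * AdjoinRoot.root D.P)) = (1 + c • b) * D.pi := by
  have : ((rL (algebraMap k D.R c * AdjoinRoot.root D.P) : Matrix.SpecialLinearGroup (Fin 2) D.R) :
      Matrix (Fin 2) (Fin 2) D.R) =
        1 + !![0, 0; AdjoinRoot.root D.P * algebraMap k D.R c, 0] := by
    rw [rL_val, Matrix.one_fin_two]
    ext i j; fin_cases i <;> fin_cases j <;> simp [mul_comm]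
  rw [this, Phi_add, Phi_one, Phi_e21, phi_algebraMap, add_mul, one_mul, mul_smul_comm,
    smul_mul_assoc]

theorem pi_comm_pH {h : GLM} (hh : h ∈ pH a b) : Commute D.pi (h : EndM) := by
  refine pH_induction D.sqa D.sqb (p := fun h => Commute D.pi (h : EndM)) ?_ ?_ ?_ hh
  · exact Commute.one_right _
  · intro c h hm ih
    rw [Units.val_mul, qel_val (smul_sq_zero D.sqa c)]
    exact ((Commute.one_right _).add_right (D.comm_pi_a.smul_right c)).mul_right ih
  · intro c h hm ih
    rw [Units.val_mul, qel_val (smul_sq_zero D.sqb c)]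
    exact ((Commute.one_right _).add_right (D.comm_pi_b.smul_right c)).mul_right ih

theorem exists_bar {h : GLM} (hh : h ∈ pH a b) :
    ∃ g ∈ D.Hbar, (h : EndM) * D.pi = D.Phi g := by
  refine pH_induction D.sqa D.sqb
    (p := fun h => ∃ g ∈ D.Hbar, (h : EndM) * D.pi = D.Phi g) ?_ ?_ ?_ hh
  · exact ⟨1, one_mem _, by rw [Units.val_one, one_mul, Matrix.SpecialLinearGroup.coe_one, Phi_one]⟩
  · rintro c h - ⟨g, hg, he⟩
    refine ⟨_, mul_mem (D.rU_mem c) hg, ?_⟩
    rw [Matrix.SpecialLinearGroup.coe_mul, Phi_mul, Phi_rU, Units.val_mul,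
      qel_val (smul_sq_zero D.sqa c), mul_assoc, mul_assoc, pi_Phi, he]
  · rintro c h - ⟨g, hg, he⟩
    refine ⟨_, mul_mem (D.rL_mem c) hg, ?_⟩
    rw [Matrix.SpecialLinearGroup.coe_mul, Phi_mul, Phi_rL, Units.val_mul,
      qel_val (smul_sq_zero D.sqb c), mul_assoc, mul_assoc, pi_Phi, he]

theorem exists_lift {g : Matrix.SpecialLinearGroup (Fin 2) D.R} (hg : g ∈ D.Hbar) :
    ∃ h ∈ pH a b, (h : EndM) * D.pi = D.Phi g := by
  have hgen : ∀ (c : k), ∀ y : Matrix.SpecialLinearGroup (Fin 2) D.R,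
      (∃ h ∈ pH a b, (h : EndM) * D.pi = D.Phi y) →
      (∃ h ∈ pH a b, (h : EndM) * D.pi = D.Phi (rU (algebraMap k D.R c) * y : Matrix.SpecialLinearGroup (Fin 2) D.R)) ∧
      (∃ h ∈ pH a b, (h : EndM) * D.pi =
        D.Phi (rL (algebraMap k D.R c * AdjoinRoot.root D.P) * y : Matrix.SpecialLinearGroup (Fin 2) D.R)) := by
    rintro c y ⟨h, hh, he⟩
    refine ⟨⟨_, mul_mem (qel_mem_pH_left a b c) hh, ?_⟩, ⟨_, mul_mem (qel_mem_pH_right a b c) hh, ?_⟩⟩
    · rw [Matrix.SpecialLinearGroup.coe_mul, Phi_mul, Phi_rU, Units.val_mul,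
        qel_val (smul_sq_zero D.sqa c), mul_assoc, mul_assoc, pi_Phi, he]
    · rw [Matrix.SpecialLinearGroup.coe_mul, Phi_mul, Phi_rL, Units.val_mul,
        qel_val (smul_sq_zero D.sqb c), mul_assoc, mul_assoc, pi_Phi, he]
  refine Subgroup.closure_induction_left
    ⟨1, one_mem _, by rw [Units.val_one, one_mul, Matrix.SpecialLinearGroup.coe_one, Phi_one]⟩
    ?_ ?_ hg
  · rintro _ (⟨c, rfl⟩ | ⟨c, rfl⟩) y _ hy
    · exact (hgen c y hy).1
    · exact (hgen c y hy).2
  · rintro _ (⟨c, rfl⟩ | ⟨c, rfl⟩) y _ hy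
    · rw [rU_inv, ← map_neg]; exact (hgen (-c) y hy).1
    · rw [rL_inv, ← neg_mul, ← map_neg]; exact (hgen (-c) y hy).2

theorem sq_compl_a : (a * (1 - D.pi)) * (a * (1 - D.pi)) = 0 := by
  have h : Commute (1 - D.pi) a := (Commute.one_left _).sub_left D.comm_pi_a
  rw [mul_assoc, ← mul_assoc (1 - D.pi), h.eq, mul_assoc a (1 - D.pi), ← mul_assoc a a, D.sqa,
    zero_mul]

theorem sq_compl_b : (b * (1 - D.pi)) * (b * (1 - D.pi)) = 0 := by
  have h : Commute (1 - D.pi) b := (Commute.one_left _).sub_left D.comm_pi_b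
  rw [mul_assoc, ← mul_assoc (1 - D.pi), h.eq, mul_assoc b (1 - D.pi), ← mul_assoc b b, D.sqb,
    zero_mul]

theorem compl_idem : (1 - D.pi) * (1 - D.pi) = 1 - D.pi := by
  rw [mul_sub, mul_one, sub_mul, one_mul, D.pi_sq, sub_self, sub_zero]

/-- The nilpotent part. -/
noncomputable def T0 : Set (LinearMap.GeneralLinearGroup k M) :=
  {qel (a * (1 - D.pi)), qel (b * (1 - D.pi))}

theorem uNil_T0 : UNil D.T0 := by
  refine uNil_pair_of_nilpotent D.sq_compl_a D.sq_compl_b ⟨D.e + 1, ?_⟩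
  have ha : Commute (1 - D.pi) a := (Commute.one_left _).sub_left D.comm_pi_a
  have hb : Commute (1 - D.pi) b := (Commute.one_left _).sub_left D.comm_pi_b
  have h1 : (a * (1 - D.pi)) * (b * (1 - D.pi)) = a * b * (1 - D.pi) := by
    rw [mul_assoc, ← mul_assoc (1 - D.pi), hb.eq, mul_assoc b, D.compl_idem, mul_assoc]
  have h2 : (b * (1 - D.pi)) * (a * (1 - D.pi)) = b * a * (1 - D.pi) := by
    rw [mul_assoc, ← mul_assoc (1 - D.pi), ha.eq, mul_assoc a, D.compl_idem, mul_assoc]
  rw [h1, h2, ← add_mul, ← z_eq D, D.nil_compl]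

theorem a0_mem : a * (1 - D.pi) ∈ uAlg D.T0 := by
  have := uSpan_le_uAlg _ (udif_mem_uSpan (T := D.T0) (Or.inl rfl))
  rwa [udif_qel D.sq_compl_a] at this

theorem b0_mem : b * (1 - D.pi) ∈ uAlg D.T0 := by
  have := uSpan_le_uAlg _ (udif_mem_uSpan (T := D.T0) (Or.inr rfl))
  rwa [udif_qel D.sq_compl_b] at this

theorem pH_compl {h : GLM} (hh : h ∈ pH a b) :
    (h : EndM) * (1 - D.pi) - (1 - D.pi) ∈ uAlg D.T0 := by
  refine pH_induction D.sqa D.sqb
    (p := fun h => (h : EndM) * (1 - D.pi) - (1 - D.pi) ∈ uAlg D.T0) ?_ ?_ ?_ hh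
  · simp
  · intro c h hm ih
    have e : ((qel (c • a) * h : GLM) : EndM) * (1 - D.pi) - (1 - D.pi) =
        ((h : EndM) * (1 - D.pi) - (1 - D.pi)) +
          (c • (a * (1 - D.pi)) * ((h : EndM) * (1 - D.pi) - (1 - D.pi)) + c • (a * (1 - D.pi))) := by
      have hq : (1 - D.pi) * ((h : EndM) * (1 - D.pi)) = (h : EndM) * (1 - D.pi) := by
        rw [← mul_assoc, ((Commute.one_left _).sub_left (D.pi_comm_pH hm)).eq, mul_assoc,
          D.compl_idem]
      rw [Units.val_mul, qel_val (smul_sq_zero D.sqa c), mul_sub (c • (a * (1 - D.pi))),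
        smul_mul_assoc, smul_mul_assoc, mul_assoc a (1 - D.pi), hq, mul_assoc a (1 - D.pi),
        D.compl_idem, add_mul (1 : EndM), one_mul, add_mul, smul_mul_assoc, smul_mul_assoc,
        mul_assoc a]
      abel
    rw [e]
    exact add_mem ih (add_mem (uAlg_mul _ (Submodule.mul_mem_mul (Submodule.smul_mem _ c D.a0_mem) ih))
      (Submodule.smul_mem _ c D.a0_mem))
  · intro c h hm ih
    have e : ((qel (c • b) * h : GLM) : EndM) * (1 - D.pi) - (1 - D.pi) =
        ((h : EndM) * (1 - D.pi) - (1 - D.pi)) +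
          (c • (b * (1 - D.pi)) * ((h : EndM) * (1 - D.pi) - (1 - D.pi)) + c • (b * (1 - D.pi))) := by
      have hq : (1 - D.pi) * ((h : EndM) * (1 - D.pi)) = (h : EndM) * (1 - D.pi) := by
        rw [← mul_assoc, ((Commute.one_left _).sub_left (D.pi_comm_pH hm)).eq, mul_assoc,
          D.compl_idem]
      rw [Units.val_mul, qel_val (smul_sq_zero D.sqb c), mul_sub (c • (b * (1 - D.pi))),
        smul_mul_assoc, smul_mul_assoc, mul_assoc b (1 - D.pi), hq, mul_assoc b (1 - D.pi),
        D.compl_idem, add_mul (1 : EndM), one_mul, add_mul, smul_mul_assoc, smul_mul_assoc,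
        mul_assoc b]
      abel
    rw [e]
    exact add_mem ih (add_mem (uAlg_mul _ (Submodule.mul_mem_mul (Submodule.smul_mem _ c D.b0_mem) ih))
      (Submodule.smul_mem _ c D.b0_mem))

theorem rho_mul (g h : Matrix.SpecialLinearGroup (Fin 2) D.R) :
    ((1 - D.pi) + D.Phi g) * ((1 - D.pi) + D.Phi h) = (1 - D.pi) + D.Phi (g * h : Matrix.SpecialLinearGroup (Fin 2) D.R) := by
  rw [Matrix.SpecialLinearGroup.coe_mul, Phi_mul, add_mul, mul_add, mul_add, D.compl_idem,
    sub_mul, one_mul, pi_Phi, sub_self, mul_sub, mul_one, Phi_pi, sub_self]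
  abel

/-- The action of `SL₂(R)` on the module. -/
noncomputable def rho : Matrix.SpecialLinearGroup (Fin 2) D.R →* GLM :=
  MonoidHom.mk' (fun g => ⟨(1 - D.pi) + D.Phi g, (1 - D.pi) + D.Phi (g⁻¹ : Matrix.SpecialLinearGroup (Fin 2) D.R),
    by rw [rho_mul, mul_inv_cancel, Matrix.SpecialLinearGroup.coe_one, Phi_one, sub_add_cancel],
    by rw [rho_mul, inv_mul_cancel, Matrix.SpecialLinearGroup.coe_one, Phi_one, sub_add_cancel]⟩)
    fun g h => Units.ext (D.rho_mul g h).symm

theorem rho_val (g : Matrix.SpecialLinearGroup (Fin 2) D.R) :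
    (D.rho g : EndM) = (1 - D.pi) + D.Phi g := rfl

theorem rho_injective : Function.Injective D.rho := by
  intro g h hgh
  have h1 := congrArg (fun x : GLM => (x : EndM)) hgh
  simp only [rho_val, add_right_inj] at h1
  have h2 : D.Phi ((g : Matrix (Fin 2) (Fin 2) D.R) - h) = 0 := by
    have e := D.Phi_add ((g : Matrix (Fin 2) (Fin 2) D.R) - h) h
    rw [sub_add_cancel, h1, right_eq_add] at e
    exact e
  exact Subtype.ext (sub_eq_zero.1 (D.Phi_injective h2))

theorem rho_rU (hA : a * (1 - D.pi) = 0) (c : k) :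
    D.rho (rU (algebraMap k D.R c)) = qel (c • a) := by
  refine (qel_eq_of_val (smul_sq_zero D.sqa c) ?_).symm
  rw [rho_val, Phi_rU, add_mul, one_mul, smul_mul_assoc]
  rw [mul_sub, mul_one, sub_eq_zero] at hA
  rw [← hA]
  abel

theorem rho_rL (hB : b * (1 - D.pi) = 0) (c : k) :
    D.rho (rL (algebraMap k D.R c * AdjoinRoot.root D.P)) = qel (c • b) := by
  refine (qel_eq_of_val (smul_sq_zero D.sqb c) ?_).symm
  rw [rho_val, Phi_rL, add_mul, one_mul, smul_mul_assoc]
  rw [mul_sub, mul_one, sub_eq_zero] at hB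
  rw [← hB]
  abel

theorem rho_map_Hbar (hA : a * (1 - D.pi) = 0) (hB : b * (1 - D.pi) = 0) :
    D.Hbar.map D.rho = pH a b := by
  rw [Hbar, MonoidHom.map_closure, pH, Set.image_union, ← Set.range_comp, ← Set.range_comp]
  congr 3
  · funext c; exact D.rho_rU hA c
  · funext c; exact D.rho_rL hB c

end PairData

end CfsgLib.ThreeTransp
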