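import Mathlib
import Cfsg.Agent.Lib.ThreeTransp.DicksonPairs
import Cfsg.Agent.Lib.ThreeTransp.QuadPairGroup

/-!
Subgroups of `SL₂` over a commutative algebra generated by transvections over `k` and `k x`, which
map onto `SL₂` of a residue field.
-/

set_option autoImplicit false
set_option linter.unusedSectionVars false

namespace CfsgLib.ThreeTransp

open Cfsg Polynomial

variable {k R K : Type*} [Field k] [CommRing R] [Algebra k R] [Field K] [Algebra k K]

/-- The group generated by `rU k` and `rL (k x)`. -/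
def barGroup (k : Type*) {R : Type*} [Field k] [CommRing R] [Algebra k R] (x : R) :
    Subgroup (Matrix.SpecialLinearGroup (Fin 2) R) :=
  Subgroup.closure (Set.range (fun c : k => rU (algebraMap k R c)) ∪
    Set.range fun c : k => rL (algebraMap k R c * x))

theorem barGroup_U (x : R) (c : k) : rU (algebraMap k R c) ∈ barGroup k x :=
  Subgroup.subset_closure (Or.inl ⟨c, rfl⟩)

theorem barGroup_L (x : R) (c : k) : rL (algebraMap k R c * x) ∈ barGroup k x :=
  Subgroup.subset_closure (Or.inr ⟨c, rfl⟩)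

theorem rU_eq_sl2U (r : K) : rU r = sl2U K r := rfl

theorem rL_eq_sl2L (r : K) : rL r = sl2L K r := rfl

theorem barGroup_eq_pairGroup (x : K) : barGroup k x = pairGroup k x := rfl

/-- The map induced on `SL₂`. -/
abbrev slMap (χ : R →ₐ[k] K) :
    Matrix.SpecialLinearGroup (Fin 2) R →* Matrix.SpecialLinearGroup (Fin 2) K :=
  Matrix.SpecialLinearGroup.map χ.toRingHom

theorem slMap_apply (χ : R →ₐ[k] K) (g : Matrix.SpecialLinearGroup (Fin 2) R) (i j : Fin 2) :
    (slMap χ g : Matrix (Fin 2) (Fin 2) K) i j = χ ((g : Matrix (Fin 2) (Fin 2) R) i j) := rfl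

theorem slMap_rU (χ : R →ₐ[k] K) (r : R) : slMap χ (rU r) = sl2U K (χ r) := by
  apply Subtype.ext
  ext i j
  fin_cases i <;> fin_cases j <;> simp [slMap_apply, rU_val, sl2U_val]

theorem slMap_rL (χ : R →ₐ[k] K) (r : R) : slMap χ (rL r) = sl2L K (χ r) := by
  apply Subtype.ext
  ext i j
  fin_cases i <;> fin_cases j <;> simp [slMap_apply, rL_val, sl2L_val]

theorem slMap_barGroup (χ : R →ₐ[k] K) (x : R) :
    (barGroup k x).map (slMap χ) = pairGroup k (χ x) := by
  rw [barGroup, MonoidHom.map_closure, pairGroup, Set.image_union, ← Set.range_comp,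
    ← Set.range_comp]
  congr 3
  · funext c; simp [slMap_rU]
  · funext c; simp [slMap_rL]

section rigid

variable (χ : R →ₐ[k] K) {x : R} (h2 : (2 : k) ≠ 0) (hx : IsUnit x)
  (hsurj : (barGroup k x).map (slMap χ) = ⊤)
  (hL : ∀ g ∈ barGroup k x, χ ((g : Matrix (Fin 2) (Fin 2) R) 1 0) ^ 2 = 1 →
    (g : Matrix (Fin 2) (Fin 2) R) 1 0 ^ 2 = 1)

include hsurj in
theorem exists_lift_sl2 (g0 : Matrix.SpecialLinearGroup (Fin 2) K) :
    ∃ g ∈ barGroup k x, slMap χ g = g0 := by
  have : g0 ∈ (barGroup k x).map (slMap χ) := by rw [hsurj]; trivial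
  exact this

include h2 in
theorem two_mul_eq_zero {r : R} (h : 2 * r = 0) : r = 0 := by
  have e : (2 : R) = algebraMap k R 2 := (map_ofNat _ 2).symm
  have := congrArg (fun t => algebraMap k R 2⁻¹ * t) h
  simp only [e, ← mul_assoc, ← map_mul, inv_mul_cancel₀ h2, map_one, one_mul, mul_zero] at this
  exact this

include h2 hsurj hL in
/-- Elements over the identity are central signs. -/
theorem bar_kernel {m : Matrix.SpecialLinearGroup (Fin 2) R} (hm : m ∈ barGroup k x)
    (h1 : slMap χ m = 1) :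
    (m : Matrix (Fin 2) (Fin 2) R) 1 0 = 0 ∧ (m : Matrix (Fin 2) (Fin 2) R) 0 1 = 0 ∧
      (m : Matrix (Fin 2) (Fin 2) R) 0 0 = (m : Matrix (Fin 2) (Fin 2) R) 1 1 ∧
      (m : Matrix (Fin 2) (Fin 2) R) 0 0 ^ 2 = 1 := by
  obtain ⟨h, hh, hhe⟩ := exists_lift_sl2 χ hsurj (sl2L K 1)
  have hC : (h : Matrix (Fin 2) (Fin 2) R) 1 0 ^ 2 = 1 := by
    refine hL h hh ?_
    rw [← slMap_apply, hhe, sl2L_val]; simp
  have first : ∀ m ∈ barGroup k x, slMap χ m = 1 →
      (m : Matrix (Fin 2) (Fin 2) R) 1 0 = 0 ∧ (m : Matrix (Fin 2) (Fin 2) R) 1 1 ^ 2 = 1 := by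
    intro m hm h1
    have key : ∀ t : k, ((m : Matrix (Fin 2) (Fin 2) R) 1 0 * (h : Matrix (Fin 2) (Fin 2) R) 0 0 +
        (m : Matrix (Fin 2) (Fin 2) R) 1 1 * (h : Matrix (Fin 2) (Fin 2) R) 1 0 +
        algebraMap k R t * ((m : Matrix (Fin 2) (Fin 2) R) 1 0 * (h : Matrix (Fin 2) (Fin 2) R) 1 0)) ^ 2 = 1 := by
      intro t
      have hg := mul_mem (mul_mem hm (barGroup_U x t)) hh
      have e := hL _ hg (by
        rw [← slMap_apply, map_mul, map_mul, h1, one_mul, slMap_rU, hhe,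
          Matrix.SpecialLinearGroup.coe_mul, sl2U_val, sl2L_val]
        simp [Matrix.mul_apply, Fin.sum_univ_two])
      refine Eq.trans ?_ e
      simp [Matrix.SpecialLinearGroup.coe_mul, rU_val, Matrix.mul_apply, Fin.sum_univ_two]
      ring
    set P := (m : Matrix (Fin 2) (Fin 2) R) 1 0 * (h : Matrix (Fin 2) (Fin 2) R) 0 0 +
        (m : Matrix (Fin 2) (Fin 2) R) 1 1 * (h : Matrix (Fin 2) (Fin 2) R) 1 0 with hP
    set Q := (m : Matrix (Fin 2) (Fin 2) R) 1 0 * (h : Matrix (Fin 2) (Fin 2) R) 1 0 with hQ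
    have k0 : P ^ 2 = 1 := by simpa using key 0
    have k1 := key 1
    have k2 := key (-1)
    simp only [map_one, one_mul, map_neg, neg_mul] at k1 k2
    have hPQ : P * Q = 0 :=
      two_mul_eq_zero h2 (two_mul_eq_zero h2 (by linear_combination k1 - k2))
    have hQ0 : Q = 0 := by linear_combination P * hPQ - Q * k0
    have hm0 : (m : Matrix (Fin 2) (Fin 2) R) 1 0 = 0 := by
      linear_combination (h : Matrix (Fin 2) (Fin 2) R) 1 0 * (hQ.symm.trans hQ0) -
        (m : Matrix (Fin 2) (Fin 2) R) 1 0 * hC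
    refine ⟨hm0, ?_⟩
    rw [hP, hm0] at k0
    linear_combination k0 - (m : Matrix (Fin 2) (Fin 2) R) 1 1 ^ 2 * hC
  obtain ⟨a1, a2⟩ := first m hm h1
  have hdet : (m : Matrix (Fin 2) (Fin 2) R) 0 0 * (m : Matrix (Fin 2) (Fin 2) R) 1 1 -
      (m : Matrix (Fin 2) (Fin 2) R) 0 1 * (m : Matrix (Fin 2) (Fin 2) R) 1 0 = 1 := by
    have := m.2; rwa [Matrix.det_fin_two] at this
  have hAD : (m : Matrix (Fin 2) (Fin 2) R) 0 0 = (m : Matrix (Fin 2) (Fin 2) R) 1 1 := by
    rw [a1] at hdet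
    linear_combination (m : Matrix (Fin 2) (Fin 2) R) 1 1 * hdet -
      (m : Matrix (Fin 2) (Fin 2) R) 0 0 * a2
  refine ⟨a1, ?_, hAD, by rw [hAD, a2]⟩
  have h' := (first (h * m * h⁻¹) (mul_mem (mul_mem hh hm) (inv_mem hh))
    (by rw [map_mul, map_mul, h1, mul_one, map_inv, mul_inv_cancel])).1
  simp [Matrix.SpecialLinearGroup.coe_mul, Matrix.SpecialLinearGroup.coe_inv,
    Matrix.adjugate_fin_two, Matrix.mul_apply, Fin.sum_univ_two, a1, hAD] at h'
  linear_combination (-1 : R) * h' - (m : Matrix (Fin 2) (Fin 2) R) 0 1 * hC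

include h2 hsurj hL in
/-- If the images are conjugate, then so are the squares. -/
theorem bar_conj_sq {g u u' : Matrix.SpecialLinearGroup (Fin 2) R} (hg : g ∈ barGroup k x)
    (hu : u ∈ barGroup k x) (hu' : u' ∈ barGroup k x)
    (h : slMap χ g * slMap χ u * (slMap χ g)⁻¹ = slMap χ u') :
    g * (u * u) * g⁻¹ = u' * u' := by
  set m := g * u * g⁻¹ * u'⁻¹ with hm
  have hm1 : slMap χ m = 1 := by rw [hm, map_mul, map_mul, map_mul, map_inv, map_inv, h,
    mul_inv_cancel]
  obtain ⟨a1, a2, a3, a4⟩ := bar_kernel χ h2 hsurj hL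
    (mul_mem (mul_mem (mul_mem hg hu) (inv_mem hg)) (inv_mem hu')) hm1
  rw [← hm] at a1 a2 a3 a4
  have hmc : ∀ w, m * w = w * m := by
    intro w
    apply Subtype.ext
    ext i j
    fin_cases i <;> fin_cases j <;>
      simp [Matrix.SpecialLinearGroup.coe_mul, Matrix.mul_apply, Fin.sum_univ_two, a1, a2, ← a3] <;>
      ring
  have hm2 : m * m = 1 := by
    apply Subtype.ext
    ext i j
    fin_cases i <;> fin_cases j <;>
      simp [Matrix.SpecialLinearGroup.coe_mul, Matrix.mul_apply, Fin.sum_univ_two, a1, a2, ← a3] <;>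
      linear_combination a4
  have e : g * u * g⁻¹ = m * u' := by rw [hm, inv_mul_cancel_right]
  calc g * (u * u) * g⁻¹ = (g * u * g⁻¹) * (g * u * g⁻¹) := by group
    _ = (m * u') * (m * u') := by rw [e]
    _ = (m * m) * (u' * u') := Commute.mul_mul_mul_comm (hmc u').symm m u'
    _ = u' * u' := by rw [hm2, one_mul]

include h2 hsurj hL in
theorem bar_commute_U1 {g : Matrix.SpecialLinearGroup (Fin 2) R} (hg : g ∈ barGroup k x) {r : K}
    (hge : slMap χ g = sl2U K r) :
    (g : Matrix (Fin 2) (Fin 2) R) 1 0 = 0 ∧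
      (g : Matrix (Fin 2) (Fin 2) R) 0 0 = (g : Matrix (Fin 2) (Fin 2) R) 1 1 := by
  have hu : rU (algebraMap k R 2⁻¹) ∈ barGroup k x := barGroup_U x _
  have h := bar_conj_sq χ h2 hsurj hL hg hu hu (by
    rw [hge, slMap_rU, sl2U_mul, sl2U_inv, sl2U_mul, add_neg_cancel_comm])
  rw [rU_add, ← map_add, show (2⁻¹ : k) + 2⁻¹ = 1 by field_simp; norm_num, map_one,
    mul_inv_eq_iff_eq_mul] at h
  have e := congrArg (fun t : Matrix.SpecialLinearGroup (Fin 2) R => (t : Matrix (Fin 2) (Fin 2) R)) h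
  simp only [Matrix.SpecialLinearGroup.coe_mul, rU_val] at e
  have e00 := congrFun (congrFun e 0) 0
  have e01 := congrFun (congrFun e 0) 1
  simp [Matrix.mul_apply, Fin.sum_univ_two] at e00 e01
  exact ⟨e00, by linear_combination e01⟩

include h2 hsurj hL in
theorem bar_lift_unique {u u' : R} (hu : rU u ∈ barGroup k x) (hu' : rU u' ∈ barGroup k x)
    (h : χ u = χ u') : u = u' := by
  have hm := bar_kernel χ h2 hsurj hL (mul_mem hu (inv_mem hu')) (by
    rw [map_mul, map_inv, slMap_rU, slMap_rU, h, mul_inv_cancel])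
  have := hm.2.1
  rw [rU_inv, rU_add, rU_val] at this
  simpa [add_neg_eq_zero] using this

include h2 hsurj hL in
theorem bar_lift_exists (r : K) : ∃ u : R, rU u ∈ barGroup k x ∧ χ u = r := by
  have h2K : (2 : K) ≠ 0 := fun h => h2 ((algebraMap k K).injective (by rw [map_ofNat, h, map_zero]))
  obtain ⟨g, hg, hge⟩ := exists_lift_sl2 χ hsurj (sl2U K (r / 2))
  obtain ⟨c1, c2⟩ := bar_commute_U1 χ h2 hsurj hL hg hge
  have hdet : (g : Matrix (Fin 2) (Fin 2) R) 0 0 * (g : Matrix (Fin 2) (Fin 2) R) 1 1 -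
      (g : Matrix (Fin 2) (Fin 2) R) 0 1 * (g : Matrix (Fin 2) (Fin 2) R) 1 0 = 1 := by
    have := g.2; rwa [Matrix.det_fin_two] at this
  rw [c1, ← c2] at hdet
  refine ⟨2 * (g : Matrix (Fin 2) (Fin 2) R) 0 0 * (g : Matrix (Fin 2) (Fin 2) R) 0 1, ?_, ?_⟩
  · convert mul_mem hg hg using 1
    apply Subtype.ext
    ext i j
    fin_cases i <;> fin_cases j <;>
      simp [rU_val, Matrix.SpecialLinearGroup.coe_mul, Matrix.mul_apply, Fin.sum_univ_two, c1, ← c2] <;>
      first | linear_combination hdet | linear_combination -hdet | ring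
  · have e0 := slMap_apply χ g 0 0
    have e1 := slMap_apply χ g 0 1
    rw [hge, sl2U_val] at e0 e1
    simp at e0 e1
    rw [map_mul, map_mul, map_ofNat, ← e0, ← e1]
    field_simp

include h2 hx hsurj hL in
/-- The residue map splits over the base, sending `χ x` to `x`. -/
theorem bar_split : ∃ f : K →ₐ[k] R, f (χ x) = x := by
  have h2K : (2 : K) ≠ 0 := fun h => h2 ((algebraMap k K).injective (by rw [map_ofNat, h, map_zero]))
  haveI : NeZero (2 : K) := ⟨h2K⟩
  choose f hfm hfχ using bar_lift_exists χ h2 hsurj hL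
  have huniq : ∀ (u : R) (r : K), rU u ∈ barGroup k x → χ u = r → f r = u := fun u r hu he =>
    bar_lift_unique χ h2 hsurj hL (hfm r) hu (by rw [hfχ, he])
  have hadd : ∀ r s, f (r + s) = f r + f s := fun r s =>
    huniq _ _ (by rw [← rU_add]; exact mul_mem (hfm r) (hfm s)) (by rw [map_add, hfχ, hfχ])
  have halg : ∀ c : k, f (algebraMap k K c) = algebraMap k R c := fun c =>
    huniq _ _ (barGroup_U x c) (χ.commutes c)
  have hf0 : f 0 = 0 := by simpa using halg 0
  have hf1 : f 1 = 1 := by simpa using halg 1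
  have hsq : ∀ l r : K, f (l * l * r) = f (l * l) * f r := by
    intro l
    rcases eq_or_ne l 0 with rfl | hl
    · intro r; simp [hf0]
    obtain ⟨d0, hd0'⟩ : ∃ d0 : Matrix.SpecialLinearGroup (Fin 2) K,
        (d0 : Matrix (Fin 2) (Fin 2) K) = !![l, 0; 0, l⁻¹] :=
      ⟨⟨!![l, 0; 0, l⁻¹], by simp [Matrix.det_fin_two, hl]⟩, rfl⟩
    obtain ⟨d, hd, hde⟩ := exists_lift_sl2 χ hsurj d0
    have hconj : ∀ r, d * rU (f r) = rU (f (l * l * r)) * d := by
      intro r
      have h := bar_conj_sq χ h2 hsurj hL hd (hfm (r / 2)) (hfm (l * l * r / 2)) (by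
        rw [mul_inv_eq_iff_eq_mul, hde, slMap_rU, slMap_rU, hfχ, hfχ]
        apply Subtype.ext
        ext i j
        fin_cases i <;> fin_cases j <;>
          simp [hd0', sl2U_val, Matrix.SpecialLinearGroup.coe_mul, Matrix.mul_apply, Fin.sum_univ_two]
        field_simp)
      rw [rU_add, rU_add, ← hadd, ← hadd, mul_inv_eq_iff_eq_mul, add_halves, add_halves] at h
      exact h
    have hent : ∀ r, (d : Matrix (Fin 2) (Fin 2) R) 1 0 * f r = 0 ∧
        (d : Matrix (Fin 2) (Fin 2) R) 0 0 * f r =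
          f (l * l * r) * (d : Matrix (Fin 2) (Fin 2) R) 1 1 := by
      intro r
      have e := congrArg (fun t : Matrix.SpecialLinearGroup (Fin 2) R => (t : Matrix (Fin 2) (Fin 2) R)) (hconj r)
      simp only [Matrix.SpecialLinearGroup.coe_mul, rU_val] at e
      have e1 := congrFun (congrFun e 1) 1
      have e2 := congrFun (congrFun e 0) 1
      simp [Matrix.mul_apply, Fin.sum_univ_two] at e1 e2
      exact ⟨e1, by linear_combination e2⟩
    have hd0 : (d : Matrix (Fin 2) (Fin 2) R) 1 0 = 0 := by simpa [hf1] using (hent 1).1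
    have hdet : (d : Matrix (Fin 2) (Fin 2) R) 0 0 * (d : Matrix (Fin 2) (Fin 2) R) 1 1 = 1 := by
      have := d.2
      rw [Matrix.det_fin_two, hd0, mul_zero, sub_zero] at this
      exact this
    have hval : ∀ r, f (l * l * r) =
        (d : Matrix (Fin 2) (Fin 2) R) 0 0 ^ 2 * f r := fun r => by
      linear_combination (-(d : Matrix (Fin 2) (Fin 2) R) 0 0) * (hent r).2 -
        f (l * l * r) * hdet
    intro r
    rw [hval r, ← mul_one (l * l), hval 1, hf1, mul_one]
  have hmul : ∀ r s, f (r * s) = f r * f s := by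
    intro r s
    have e1 := hsq ((r + 1) / 2) s
    have e2 := hsq ((r - 1) / 2) s
    have hd : ∀ y : K, (r + 1) / 2 * ((r + 1) / 2) * y = r * y + (r - 1) / 2 * ((r - 1) / 2) * y := by
      intro y; field_simp; ring
    have e3 := hd s
    have e4 := hd 1
    rw [mul_one, mul_one, mul_one] at e4
    rw [e3, hadd, e4, hadd, e2, add_mul] at e1
    exact add_right_cancel e1
  let F : K →ₐ[k] R :=
    { toFun := f, map_one' := hf1, map_mul' := hmul, map_zero' := hf0, map_add' := hadd,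
      commutes' := halg }
  refine ⟨F, ?_⟩
  -- `χ x` goes to `x`
  obtain ⟨w0, hw0⟩ : ∃ w0 : Matrix.SpecialLinearGroup (Fin 2) K,
      (w0 : Matrix (Fin 2) (Fin 2) K) = !![0, 1; -1, 0] :=
    ⟨⟨!![0, 1; -1, 0], by simp [Matrix.det_fin_two]⟩, rfl⟩
  obtain ⟨h, hh, hhe⟩ := exists_lift_sl2 χ hsurj w0
  have hUh : rU (algebraMap k R 2⁻¹) ∈ barGroup k x := barGroup_U x _
  have hLh : rL (algebraMap k R 2⁻¹ * x) ∈ barGroup k x := barGroup_L x _
  have hone : (2⁻¹ : k) + 2⁻¹ = 1 := by field_simp; norm_num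
  set m := h * (rU (algebraMap k R 2⁻¹) * rU (algebraMap k R 2⁻¹)) * h⁻¹ with hm
  have hmmem : m ∈ barGroup k x := mul_mem (mul_mem hh (mul_mem hUh hUh)) (inv_mem hh)
  have hcommL := bar_conj_sq χ h2 hsurj hL hmmem hLh hLh (by
    rw [hm, map_mul, map_mul, map_inv, map_mul, slMap_rU, slMap_rL, hhe, sl2U_mul]
    apply Subtype.ext
    simp only [Matrix.SpecialLinearGroup.coe_mul, Matrix.SpecialLinearGroup.coe_inv,
      Matrix.adjugate_fin_two, sl2U_val, sl2L_val, hw0]
    ext i j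
    fin_cases i <;> fin_cases j <;>
      simp [Matrix.mul_apply, Fin.sum_univ_two] <;> ring)
  rw [rL_add, ← add_mul, ← map_add, hone, map_one, one_mul, mul_inv_eq_iff_eq_mul, hm, rU_add,
    ← map_add, hone, map_one] at hcommL
  have hC : (h : Matrix (Fin 2) (Fin 2) R) 1 0 ^ 2 = 1 := by
    refine hL h hh ?_
    rw [← slMap_apply, hhe, hw0]; simp
  have hdet : (h : Matrix (Fin 2) (Fin 2) R) 0 0 * (h : Matrix (Fin 2) (Fin 2) R) 1 1 -
      (h : Matrix (Fin 2) (Fin 2) R) 0 1 * (h : Matrix (Fin 2) (Fin 2) R) 1 0 = 1 := by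
    have := h.2; rwa [Matrix.det_fin_two] at this
  have e := congrArg (fun t : Matrix.SpecialLinearGroup (Fin 2) R => (t : Matrix (Fin 2) (Fin 2) R)) hcommL
  simp only [Matrix.SpecialLinearGroup.coe_mul, Matrix.SpecialLinearGroup.coe_inv,
    Matrix.adjugate_fin_two, rU_val, rL_val] at e
  have e00 := congrFun (congrFun e 0) 0
  have e10 := congrFun (congrFun e 1) 0
  simp [Matrix.mul_apply, Fin.sum_univ_two] at e00 e10
  obtain ⟨xi, hxi⟩ := isUnit_iff_exists_inv.1 hx
  have hA : (h : Matrix (Fin 2) (Fin 2) R) 0 0 = 0 := by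
    have hA2 : (h : Matrix (Fin 2) (Fin 2) R) 0 0 * (h : Matrix (Fin 2) (Fin 2) R) 0 0 = 0 := by
      linear_combination xi * e00 - (h : Matrix (Fin 2) (Fin 2) R) 0 0 *
        (h : Matrix (Fin 2) (Fin 2) R) 0 0 * hxi
    have hAC : (h : Matrix (Fin 2) (Fin 2) R) 0 0 * (h : Matrix (Fin 2) (Fin 2) R) 1 0 = 0 := by
      refine two_mul_eq_zero h2 ?_
      linear_combination xi * e10 - 2 * (h : Matrix (Fin 2) (Fin 2) R) 0 0 *
        (h : Matrix (Fin 2) (Fin 2) R) 1 0 * hxi
    linear_combination (h : Matrix (Fin 2) (Fin 2) R) 1 0 * hAC -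
      (h : Matrix (Fin 2) (Fin 2) R) 0 0 * hC
  rw [hA] at hdet
  have hB2 : (h : Matrix (Fin 2) (Fin 2) R) 0 1 * (h : Matrix (Fin 2) (Fin 2) R) 0 1 = 1 := by
    linear_combination (-((h : Matrix (Fin 2) (Fin 2) R) 0 1 * (h : Matrix (Fin 2) (Fin 2) R) 1 0) + 1) * hdet -
      (h : Matrix (Fin 2) (Fin 2) R) 0 1 ^ 2 * hC
  -- the conjugate of `L x` is an upper transvection
  set n := h * (rL (algebraMap k R 2⁻¹ * x) * rL (algebraMap k R 2⁻¹ * x)) * h⁻¹ with hn
  have hnmem : n ∈ barGroup k x := mul_mem (mul_mem hh (mul_mem hLh hLh)) (inv_mem hh)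
  have hne : slMap χ n = sl2U K (-χ x) := by
    rw [hn, map_mul, map_mul, map_inv, map_mul, slMap_rL, hhe, sl2L_mul, ← map_add, ← add_mul,
      ← map_add, hone, map_one, one_mul]
    apply Subtype.ext
    simp only [Matrix.SpecialLinearGroup.coe_mul, Matrix.SpecialLinearGroup.coe_inv,
      Matrix.adjugate_fin_two, sl2U_val, sl2L_val, hw0]
    ext i j
    fin_cases i <;> fin_cases j <;> simp [Matrix.mul_apply, Fin.sum_univ_two]
  obtain ⟨n1, n2⟩ := bar_commute_U1 χ h2 hsurj hL hnmem hne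
  have hn' : n = rU (-x) := by
    rw [hn, rL_add, ← add_mul, ← map_add, hone, map_one, one_mul] at n1 n2 ⊢
    simp [Matrix.SpecialLinearGroup.coe_mul, Matrix.SpecialLinearGroup.coe_inv,
      Matrix.adjugate_fin_two, rL_val, Matrix.mul_apply, Fin.sum_univ_two, hA] at n1 n2
    apply Subtype.ext
    simp only [Matrix.SpecialLinearGroup.coe_mul, Matrix.SpecialLinearGroup.coe_inv,
      Matrix.adjugate_fin_two, rU_val, rL_val]
    have hBD : (h : Matrix (Fin 2) (Fin 2) R) 0 1 * x * (h : Matrix (Fin 2) (Fin 2) R) 1 1 = 0 :=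
      two_mul_eq_zero h2 (by linear_combination n2)
    ext i j
    fin_cases i <;> fin_cases j <;>
      simp [Matrix.mul_apply, Fin.sum_univ_two, hA]
    · linear_combination hBD + hdet
    · linear_combination x * hB2
    · linear_combination n1
    · linear_combination -hBD + hdet
  have hfin : f (-χ x) = -x := huniq (-x) _ (hn' ▸ hnmem) (map_neg _ _)
  have := map_neg F (χ x)
  show f (χ x) = x
  exact neg_injective (this.symm.trans hfin)

end rigid

end CfsgLib.ThreeTransp
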