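import Mathlib
import Cfsg.Agent.Lib.ThreeTransp.QuadBarGroup

/-!
Two minimal quadratic families: the invertible part of `a b + b a` has irreducible minimal
polynomial and both act trivially on the nilpotent part.
-/

set_option autoImplicit false
set_option linter.unusedSectionVars false

namespace CfsgLib.ThreeTransp

open Cfsg Polynomial

variable {k : Type*} [Field k] {M : Type*} [AddCommGroup M] [Module k M] [FiniteDimensional k M]
variable {G : Subgroup (LinearMap.GeneralLinearGroup k M)}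

local notation "GLM" => LinearMap.GeneralLinearGroup k M
local notation "EndM" => Module.End k M

theorem eq_of_irreducible_root {R : Type*} [CommRing R] [Algebra k R] {Q : k[X]} (hQ : Irreducible Q)
    {r : k} (hr : Q.eval r = 0) {t : R} (ht : aeval t Q = 0) : t = algebraMap k R r := by
  have h : Associated (X - C r) Q := (irreducible_X_sub_C r).associated_of_dvd hQ (dvd_iff_isRoot.2 hr)
  obtain ⟨w, hw⟩ := h.symm.dvd
  have := congrArg (aeval t) hw
  rw [map_mul, ht, zero_mul, map_sub, aeval_X, aeval_C, sub_eq_zero] at this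
  exact this

/-- An element of `k` which is neither zero nor a sign. -/
theorem exists_sq_ne_one (h2 : (2 : k) ≠ 0) (h3 : Nat.card k ≠ 3) :
    ∃ l : k, l ≠ 0 ∧ l * l ≠ 1 := by
  by_contra hcon
  push Not at hcon
  have hsub : (Set.univ : Set k) = {0, 1, -1} := by
    refine (Set.eq_univ_of_forall fun l => ?_).symm
    rcases eq_or_ne l 0 with h | h
    · exact Or.inl h
    · rcases mul_self_eq_one_iff.1 (hcon l h) with h' | h'
      · exact Or.inr (Or.inl h')
      · exact Or.inr (Or.inr h')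
  refine h3 ?_
  have h11 : (1 : k) ≠ -1 := fun h => h2 (by linear_combination h)
  rw [← Set.ncard_univ, hsub, Set.ncard_eq_three]
  exact ⟨0, 1, -1, zero_ne_one, (neg_ne_zero.2 one_ne_zero).symm, h11, rfl⟩

namespace PairData

variable {a b : Module.End k M} (D : PairData a b)

theorem finrank_R : Module.finrank k D.R = D.P.natDegree := by
  rw [(AdjoinRoot.powerBasis D.monic.ne_zero).finrank, AdjoinRoot.powerBasis_dim]

theorem finite_R : FiniteDimensional k D.R := (AdjoinRoot.powerBasis D.monic.ne_zero).finite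

theorem Hbar_eq : D.Hbar = barGroup k (AdjoinRoot.root D.P) := rfl

theorem isUnit_root : IsUnit (AdjoinRoot.root D.P) := IsUnit.of_mul_eq_one _ D.root_rinv

theorem natDegree_pos_iff : 0 < D.P.natDegree ↔ ¬ IsNilpotent (a * b + b * a) := by
  constructor
  · rintro h ⟨N, hN⟩
    have h1 : (X : k[X]) ^ D.e * D.P ∣ X ^ N := D.hmin ▸ minpoly.dvd k _ (by rw [map_pow, aeval_X, hN])
    have h2 : IsCoprime D.P (X ^ N) :=
      ((prime_X.coprime_iff_not_dvd.2 (by rw [X_dvd_iff, coeff_zero_eq_eval_zero]; exact D.hP0)).pow_left).symm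
    exact h.ne' (natDegree_eq_zero_of_isUnit (h2.isUnit_of_dvd' dvd_rfl ((dvd_mul_left _ _).trans h1)))
  · intro h
    by_contra h0
    have hP : D.P = 1 := D.monic.natDegree_eq_zero.1 (by omega)
    refine h ⟨D.e, ?_⟩
    have := minpoly.aeval k (a * b + b * a)
    rwa [D.hmin, hP, mul_one, map_pow, aeval_X] at this

/-- The swapped pair. -/
def swap : PairData b a :=
  { P := D.P, e := D.e, u := D.u, v := D.v, sqa := D.sqb, sqb := D.sqa, monic := D.monic,
    hmin := by rw [add_comm]; exact D.hmin, hP0 := D.hP0, bez := D.bez }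

theorem swap_z : D.swap.z = D.z := add_comm _ _

theorem swap_pi : D.swap.pi = D.pi := by
  show aeval D.swap.z (D.u * X ^ D.e) = aeval D.z (D.u * X ^ D.e)
  rw [swap_z]

theorem bar_inv {h : GLM} {g : Matrix.SpecialLinearGroup (Fin 2) D.R}
    (he : (h : EndM) * D.pi = D.Phi g) :
    ((h⁻¹ : GLM) : EndM) * D.pi = D.Phi (g⁻¹ : Matrix.SpecialLinearGroup (Fin 2) D.R) := by
  have e : D.pi = D.Phi g * D.Phi (g⁻¹ : Matrix.SpecialLinearGroup (Fin 2) D.R) := by
    rw [← Phi_mul, ← Matrix.SpecialLinearGroup.coe_mul, mul_inv_cancel,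
      Matrix.SpecialLinearGroup.coe_one, Phi_one]
  calc ((h⁻¹ : GLM) : EndM) * D.pi
      = ((h⁻¹ : GLM) : EndM) * ((h : EndM) * (D.pi * D.Phi (g⁻¹ : Matrix.SpecialLinearGroup (Fin 2) D.R))) := by
        conv_lhs => rw [e, ← he]
        rw [mul_assoc]
    _ = _ := by rw [← mul_assoc, Units.inv_mul, one_mul, pi_Phi]

theorem bar_mul {h h' : GLM} {g g' : Matrix.SpecialLinearGroup (Fin 2) D.R}
    (he : (h : EndM) * D.pi = D.Phi g) (he' : (h' : EndM) * D.pi = D.Phi g') :
    ((h * h' : GLM) : EndM) * D.pi = D.Phi (g * g' : Matrix.SpecialLinearGroup (Fin 2) D.R) := by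
  rw [Units.val_mul, mul_assoc, he', Matrix.SpecialLinearGroup.coe_mul, Phi_mul, ← he,
    mul_assoc, pi_Phi]

theorem conj_pair (hGa : QMin G a) (hGb : QFam G b) {g : Matrix.SpecialLinearGroup (Fin 2) D.R}
    (hg : g ∈ D.Hbar) :
    ∃ b', QMin G b' ∧ Commute D.pi (a * b' + b' * a) ∧
      (a * b' + b' * a) * D.pi = D.phi (-((g : Matrix (Fin 2) (Fin 2) D.R) 1 0 ^ 2)) ∧
      IsNilpotent ((a * b' + b' * a) * (1 - D.pi)) := by
  obtain ⟨h, hh, he⟩ := D.exists_lift hg
  have hi := D.bar_inv he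
  have hc := D.pi_comm_pH hh
  have hc' := D.pi_comm_pH (inv_mem hh)
  refine ⟨eConj h a, hGa.conj (pH_le hGa.1 hGb hh), ?_, ?_, ?_⟩
  · have := (hc.mul_right D.comm_pi_a).mul_right hc'
    exact (D.comm_pi_a.mul_right this).add_right (this.mul_right D.comm_pi_a)
  · have ha : a * D.pi = D.Phi !![0, 1; 0, 0] := by rw [Phi_e12, phi_one]
    have hb' : eConj h a * D.pi = D.Phi ((g : Matrix (Fin 2) (Fin 2) D.R) * !![0, 1; 0, 0] *
        ((g⁻¹ : Matrix.SpecialLinearGroup (Fin 2) D.R) : Matrix (Fin 2) (Fin 2) D.R)) := by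
      rw [Phi_mul, Phi_mul, ← he, ← hi, ← ha, eConj]
      simp only [mul_assoc]
      rw [← mul_assoc D.pi a, D.comm_pi_a.eq, mul_assoc a, ← mul_assoc D.pi D.pi, D.pi_sq,
        ← mul_assoc D.pi ((h⁻¹ : GLM) : EndM), hc'.eq, mul_assoc ((h⁻¹ : GLM) : EndM), D.pi_sq]
    have hmat : !![0, 1; 0, 0] * ((g : Matrix (Fin 2) (Fin 2) D.R) * !![0, 1; 0, 0] *
          ((g⁻¹ : Matrix.SpecialLinearGroup (Fin 2) D.R) : Matrix (Fin 2) (Fin 2) D.R)) +
        (g : Matrix (Fin 2) (Fin 2) D.R) * !![0, 1; 0, 0] *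
          ((g⁻¹ : Matrix.SpecialLinearGroup (Fin 2) D.R) : Matrix (Fin 2) (Fin 2) D.R) * !![0, 1; 0, 0] =
        (-((g : Matrix (Fin 2) (Fin 2) D.R) 1 0 ^ 2)) • (1 : Matrix (Fin 2) (Fin 2) D.R) := by
      rw [Matrix.SpecialLinearGroup.coe_inv, Matrix.adjugate_fin_two]
      ext i j
      fin_cases i <;> fin_cases j <;>
        simp [Matrix.mul_apply, Matrix.vecMul, dotProduct, Fin.sum_univ_two] <;> ring
    have h3 : ∀ r : D.R, D.Phi (r • (1 : Matrix (Fin 2) (Fin 2) D.R)) = D.phi r := by
      intro r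
      simp only [Phi, Matrix.smul_apply, Matrix.one_apply_eq,
        Matrix.one_apply_ne (by decide : (0 : Fin 2) ≠ 1),
        Matrix.one_apply_ne (by decide : (1 : Fin 2) ≠ 0), smul_eq_mul, mul_one, mul_zero, phi_zero,
        add_zero]
      rw [← add_mul, ← z_eq, z_phi, ← mul_assoc, root_rinv, one_mul]
    rw [← h3, ← hmat, Phi_add, Phi_mul D !![0, 1; 0, 0], Phi_mul D _ !![0, 1; 0, 0], ← hb', ← ha, add_mul, mul_assoc, mul_assoc,
      mul_assoc, mul_assoc, pi_sq_left hc hc', ← mul_assoc D.pi a, D.comm_pi_a.eq,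
      mul_assoc a D.pi, D.pi_sq]
  · refine nilpotent_of_mem_uAlg D.uNil_T0 ?_
    set A := uAlg D.T0
    have hmul : ∀ {x y}, x ∈ A → y ∈ A → x * y ∈ A := fun hx hy =>
      uAlg_mul _ (Submodule.mul_mem_mul hx hy)
    have hw : ∀ x ∈ ({(h : EndM), ((h⁻¹ : GLM) : EndM), a} : Set EndM),
        Commute (1 - D.pi) x := by
      rintro x (rfl | rfl | rfl)
      · exact (Commute.one_left _).sub_left hc
      · exact (Commute.one_left _).sub_left hc'
      · exact (Commute.one_left _).sub_left D.comm_pi_a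
    have w2 := D.compl_idem
    set w := 1 - D.pi with hwd
    set u := (h : EndM) * w - w with hu
    set u' := ((h⁻¹ : GLM) : EndM) * w - w with hu'
    have e : eConj h a * w = (w + u) * (a * w) * (w + u') := by
      rw [hu, hu', add_sub_cancel, add_sub_cancel, eConj]
      have c1 := (hw a (by simp)).eq
      have c2 := (hw _ (Or.inr (Or.inl rfl))).eq
      simp only [mul_assoc]
      rw [← mul_assoc w a, c1, mul_assoc a w, ← mul_assoc w w, w2, ← mul_assoc w, c2, mul_assoc _ w, w2]
    have hA0 := D.a0_mem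
    rw [← hwd] at hA0
    have hwa : w * (a * w) = a * w := by
      rw [← mul_assoc, (hw a (by simp)).eq, mul_assoc, w2]
    have hb'A : eConj h a * w ∈ A := by
      have e2 : eConj h a * w =
          a * w + a * w * u' + u * (a * w) + u * (a * w) * u' := by
        rw [e, add_mul w, hwa, mul_add, add_mul, mul_assoc a w w, w2]
        have : u * (a * w) * w = u * (a * w) := by rw [mul_assoc, mul_assoc a, w2]
        rw [add_mul, this]
        abel
      rw [e2]
      have huA : u ∈ A := D.pH_compl hh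
      have hu'A : u' ∈ A := D.pH_compl (inv_mem hh)
      exact add_mem (add_mem (add_mem hA0 (hmul hA0 hu'A)) (hmul huA hA0))
        (hmul (hmul huA hA0) hu'A)
    have e3 : (a * eConj h a + eConj h a * a) * w =
        (a * w) * (eConj h a * w) + (eConj h a * w) * (a * w) := by
      have hwb : Commute w (eConj h a) :=
        (((hw _ (Or.inl rfl)).mul_right (hw a (by simp))).mul_right (hw _ (Or.inr (Or.inl rfl))))
      rw [add_mul, mul_assoc a w, ← mul_assoc w, hwb.eq, mul_assoc (eConj h a) w, w2,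
        mul_assoc (eConj h a) w, hwa, mul_assoc, mul_assoc]
    rw [e3]
    exact add_mem (hmul hA0 hb'A) (hmul hb'A hA0)
where
  pi_sq_left {h : GLM} (hc : Commute D.pi (h : EndM))
      (hc' : Commute D.pi ((h⁻¹ : GLM) : EndM)) :
      D.pi * (eConj h a * D.pi) = eConj h a * D.pi := by
    rw [← mul_assoc, (show Commute D.pi (eConj h a) from (hc.mul_right D.comm_pi_a).mul_right hc').eq]
    show eConj h a * D.pi * D.pi = _
    rw [mul_assoc, D.pi_sq]

/-- The induction hypothesis. -/
def SmallerOK (G : Subgroup (LinearMap.GeneralLinearGroup k M)) (n : ℕ) : Prop :=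
  ∀ (a' b' : Module.End k M) (D' : PairData a' b'), QMin G a' → QMin G b' →
    0 < D'.P.natDegree → D'.P.natDegree < n → Irreducible D'.P ∧ a' * (1 - D'.pi) = 0

theorem proper_step (IH : SmallerOK G D.P.natDegree) (hGa : QMin G a) (hGb : QFam G b)
    {g : Matrix.SpecialLinearGroup (Fin 2) D.R} (hg : g ∈ D.Hbar)
    (hnn : ¬ IsNilpotent ((g : Matrix (Fin 2) (Fin 2) D.R) 1 0))
    (hp : ¬ IsUnit ((g : Matrix (Fin 2) (Fin 2) D.R) 1 0) ∨
      Algebra.adjoin k {(g : Matrix (Fin 2) (Fin 2) D.R) 1 0 ^ 2} ≠ ⊤) :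
    a * (1 - D.pi) = 0 ∧ IsUnit ((g : Matrix (Fin 2) (Fin 2) D.R) 1 0) ∧
      ∃ Q : k[X], Irreducible Q ∧ aeval ((g : Matrix (Fin 2) (Fin 2) D.R) 1 0 ^ 2) Q = 0 := by
  haveI := D.finite_R
  obtain ⟨b', hb', hcz, hzpi, N, hN⟩ := D.conj_pair hGa hGb hg
  obtain ⟨D'⟩ := exists_pairData hGa.1.1 hb'.1.1
  set C := (g : Matrix (Fin 2) (Fin 2) D.R) 1 0 with hC
  set z' := a * b' + b' * a with hz'
  have hz'D : D'.z = z' := rfl
  have hpow : ∀ q : k[X], aeval z' q * D.pi = D.phi (aeval (-(C ^ 2)) q) := by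
    intro q
    induction q using Polynomial.induction_on with
    | C r => rw [aeval_C, aeval_C, phi_algebraMap, Algebra.smul_def]
    | add p q hp hq => rw [map_add, map_add, phi_add, add_mul, hp, hq]
    | monomial n r ih =>
      rw [show Polynomial.C r * X ^ (n + 1) = (Polynomial.C r * X ^ n) * X by ring,
        map_mul (aeval z') (Polynomial.C r * X ^ n) X,
        map_mul (aeval (-(C ^ 2))) (Polynomial.C r * X ^ n) X, phi_mul, aeval_X, aeval_X, ← ih, ← hzpi, mul_assoc _ D.pi, ← mul_assoc D.pi z', hcz.eq,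
        mul_assoc z', D.pi_sq, mul_assoc]
  set t := -(C ^ 2) with ht
  have hint : IsIntegral k t := Algebra.IsIntegral.isIntegral _
  have hcw : Commute z' (1 - D.pi) := (Commute.one_right _).sub_right hcz.symm
  have hsplit : aeval z' (X ^ (N + 1) * minpoly k t) = 0 := by
    have h1 : aeval z' (X ^ (N + 1) * minpoly k t) * D.pi = 0 := by
      rw [hpow, map_mul, minpoly.aeval, mul_zero, phi_zero]
    have hw : (1 - D.pi) ^ (N + 1) = 1 - D.pi := IsIdempotentElem.pow_succ_eq N D.compl_idem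
    have h2 : z' ^ (N + 1) * (1 - D.pi) = 0 := by
      rw [← hw, ← hcw.mul_pow, pow_succ, hN, zero_mul]
    have h3 : aeval z' (X ^ (N + 1) * minpoly k t) * (1 - D.pi) = 0 := by
      rw [mul_comm (X ^ (N + 1)) (minpoly k t), map_mul, map_pow, aeval_X, mul_assoc, h2, mul_zero]
    rw [mul_sub, mul_one, h1, sub_zero] at h3
    exact h3
  have hdvd : D'.P ∣ minpoly k t := by
    have h1 : X ^ D'.e * D'.P ∣ X ^ (N + 1) * minpoly k t := D'.hmin ▸ minpoly.dvd k _ hsplit
    have hco : IsCoprime D'.P (X ^ (N + 1)) :=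
      ((prime_X.coprime_iff_not_dvd.2 (by
        rw [X_dvd_iff, coeff_zero_eq_eval_zero]; exact D'.hP0)).pow_left).symm
    exact hco.dvd_of_dvd_mul_left ((dvd_mul_left _ _).trans h1)
  have hlt : D'.P.natDegree < D.P.natDegree := by
    have hle : (minpoly k t).natDegree ≤ D.P.natDegree := by
      rw [← D.finrank_R]; exact minpoly.natDegree_le t
    rcases hp with hp | hp
    · have hX : X ∣ minpoly k t := by
        rw [X_dvd_iff]
        by_contra h0
        refine hp ?_
        have hev := minpoly.aeval k t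
        obtain ⟨q, hq⟩ : X ∣ minpoly k t - Polynomial.C ((minpoly k t).coeff 0) := by
          rw [X_dvd_iff]; simp
        rw [sub_eq_iff_eq_add] at hq
        rw [hq, map_add, map_mul, aeval_X, aeval_C, add_eq_zero_iff_eq_neg] at hev
        have hu : IsUnit (t * aeval t q) := by
          rw [hev]; exact ((isUnit_iff_ne_zero.2 h0).map _).neg
        have := isUnit_of_mul_isUnit_left hu
        rw [ht, IsUnit.neg_iff, isUnit_pow_iff (by norm_num)] at this
        exact this
      obtain ⟨q, hq⟩ := hX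
      have hq0 : q ≠ 0 := fun h => minpoly.ne_zero hint (by rw [hq, h, mul_zero])
      have hdq : D'.P ∣ q := by
        have hco : IsCoprime D'.P X := (prime_X.coprime_iff_not_dvd.2 (by
          rw [X_dvd_iff, coeff_zero_eq_eval_zero]; exact D'.hP0)).symm
        exact hco.dvd_of_dvd_mul_left (hq ▸ hdvd)
      have h1 := natDegree_le_of_dvd hdq hq0
      rw [hq, natDegree_mul X_ne_zero hq0, natDegree_X] at hle
      omega
    · refine lt_of_le_of_lt (natDegree_le_of_dvd hdvd (minpoly.ne_zero hint)) ?_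
      rw [← D.finrank_R, ← Algebra.adjoin.powerBasis_dim hint, ← (Algebra.adjoin.powerBasis hint).finrank]
      have hne : Algebra.adjoin k ({t} : Set D.R) ≠ ⊤ := by
        intro htop
        refine hp (top_le_iff.1 (htop ▸ Algebra.adjoin_le ?_))
        rw [Set.singleton_subset_iff]
        exact neg_mem (Algebra.self_mem_adjoin_singleton k _)
      exact Submodule.finrank_lt (fun h => hne (Algebra.toSubmodule_eq_top.1 h))
  have hpos : 0 < D'.P.natDegree := by
    rw [D'.natDegree_pos_iff]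
    rintro ⟨m, hm⟩
    refine hnn ⟨2 * m, ?_⟩
    have h1 := hpow (X ^ m)
    rw [map_pow, aeval_X, hm, zero_mul, map_pow, aeval_X] at h1
    have h2 := D.phi_injective h1.symm
    rw [ht, neg_pow, ← pow_mul] at h2
    exact (IsUnit.mul_right_eq_zero (isUnit_one.neg.pow m)).1 h2
  obtain ⟨hirr, ha'⟩ := IH a b' D' hGa hb' hpos hlt
  -- the idempotent of the new pair
  have hπ' : D'.pi = z' * D'.phi D'.rinv := by
    rw [← hz'D, z_phi, root_rinv, phi_one]
  have hcπ : ∀ q : k[X], Commute D.pi (aeval z' q) := fun q =>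
    (Algebra.commute_of_mem_adjoin_singleton_of_commute (aeval_mem_adjoin_singleton k z') hcz)
  have hcπ' : Commute D.pi D'.pi := hcπ _
  obtain ⟨r, hr⟩ : ∃ r : k[X], D'.phi D'.rinv = aeval z' r * D'.pi := by
    induction D'.rinv using AdjoinRoot.induction_on with
    | _ q => exact ⟨q, D'.phi_mk q⟩
  have hπ0 : D'.pi * (1 - D.pi) = 0 := by
    have hid : IsIdempotentElem (D'.pi * (1 - D.pi)) := by
      have c : Commute (1 - D.pi) D'.pi := (Commute.one_left _).sub_left hcπ'
      show _ * _ = _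
      rw [mul_assoc, ← mul_assoc (1 - D.pi), c.eq, mul_assoc D'.pi (1 - D.pi), D.compl_idem,
        ← mul_assoc, D'.pi_sq]
    have c2 : Commute (z' * (1 - D.pi)) (aeval z' r * D'.pi) := by
      refine Commute.mul_left ?_ ?_
      · exact ((Algebra.commute_of_mem_adjoin_self (aeval_mem_adjoin_singleton k z')).symm.mul_left
          D'.comm_pi_z).symm
      · exact ((Commute.one_left _).sub_left ((hcπ r).mul_right hcπ'))
    have he : D'.pi * (1 - D.pi) = (z' * (1 - D.pi)) * (aeval z' r * D'.pi) := by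
      conv_lhs => rw [hπ', hr]
      rw [mul_assoc z', mul_assoc z']
      congr 1
      exact ((Commute.one_left _).sub_left ((hcπ r).mul_right hcπ')).eq.symm
    rw [← IsIdempotentElem.pow_succ_eq N hid, he, c2.mul_pow, pow_succ (z' * (1 - D.pi)), hN]
    simp
  have haA : a * D'.pi = a := by
    rw [mul_sub, mul_one, sub_eq_zero] at ha'; exact ha'.symm
  have hA : a * (1 - D.pi) = 0 := by
    calc a * (1 - D.pi) = a * D'.pi * (1 - D.pi) := by rw [haA]
      _ = 0 := by rw [mul_assoc, hπ0, mul_zero]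
  rw [mul_sub, mul_one, sub_eq_zero] at hπ0
  -- the new idempotent is the old one
  have hη : aeval t (D'.u * X ^ D'.e) = 1 := by
    have e1 : D.phi (aeval t (D'.u * X ^ D'.e)) = D'.pi := by rw [← hpow]; exact hπ0.symm
    have e2 : D.Phi !![0, aeval t (D'.u * X ^ D'.e); 0, 0] = D.Phi !![0, 1; 0, 0] := by
      rw [Phi_e12, Phi_e12, e1, haA, phi_one]
      rw [mul_sub, mul_one, sub_eq_zero] at hA
      exact hA
    have e3 : D.Phi (!![0, aeval t (D'.u * X ^ D'.e); 0, 0] - !![0, 1; 0, 0]) = 0 := by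
      have := D.Phi_add (!![0, aeval t (D'.u * X ^ D'.e); 0, 0] - !![0, 1; 0, 0]) !![0, 1; 0, 0]
      rw [sub_add_cancel, e2, right_eq_add] at this
      exact this
    have e4 := congrFun (congrFun (sub_eq_zero.1 (D.Phi_injective e3)) 0) 1
    simpa using e4
  have hπeq : D'.pi = D.pi := by
    calc D'.pi = D'.pi * D.pi := hπ0
      _ = D.phi (aeval t (D'.u * X ^ D'.e)) := hpow _
      _ = D.pi := by rw [hη, phi_one]
  refine ⟨hA, ?_, D'.P.comp (-X), ?_, ?_⟩
  · have h1 : D.phi (t * aeval t r) = D.phi 1 := by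
      have : z' * (aeval z' r * D'.pi) = D'.pi := by rw [← hr, ← hπ']
      rw [hπeq] at this
      rw [phi_one, show t * aeval t r = aeval t (X * r) by rw [map_mul, aeval_X], ← hpow, map_mul, aeval_X,
        mul_assoc, this]
    have h2 := sub_eq_zero.1 (D.phi_injective (by rw [phi_sub, h1, sub_self]) : t * aeval t r - 1 = 0)
    have := isUnit_of_mul_isUnit_left (h2.symm ▸ isUnit_one : IsUnit (t * aeval t r))
    rw [ht, IsUnit.neg_iff, isUnit_pow_iff (by norm_num)] at this
    exact this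
  · exact (MulEquiv.irreducible_iff (algEquivAevalNegX (R := k))).2 hirr
  · rw [aeval_comp, map_neg, aeval_X]
    refine D.phi_injective ?_
    rw [← hpow, ← hπeq, ← hz'D, P_pi]

theorem commutator_step (h2 : (2 : k) ≠ 0) (h3 : Nat.card k ≠ 3) (hirr : Irreducible D.P)
    (hGa : QMin G a) (hGb : QFam G b) : a * (1 - D.pi) = 0 := by
  haveI : Fact (Irreducible D.P) := ⟨hirr⟩
  haveI := D.finite_R
  have h2K : (2 : D.R) ≠ 0 := fun h => h2 ((algebraMap k D.R).injective (by rw [map_ofNat, h, map_zero]))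
  have htop : D.Hbar = ⊤ := pairGroup_eq_top h2K h3 D.isUnit_root.ne_zero AdjoinRoot.adjoinRoot_eq_top
  obtain ⟨l, hl0, hl1⟩ := exists_sq_ne_one h2 h3
  have hl' : algebraMap k D.R l * algebraMap k D.R l⁻¹ = 1 := by
    rw [← map_mul, mul_inv_cancel₀ hl0, map_one]
  obtain ⟨d, hdv⟩ : ∃ d : Matrix.SpecialLinearGroup (Fin 2) D.R,
      (d : Matrix (Fin 2) (Fin 2) D.R) = !![algebraMap k D.R l, 0; 0, algebraMap k D.R l⁻¹] :=
    ⟨⟨!![algebraMap k D.R l, 0; 0, algebraMap k D.R l⁻¹], by
      rw [Matrix.det_fin_two]; simpa using hl'⟩, rfl⟩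
  obtain ⟨h, hh, he⟩ := D.exists_lift (show d ∈ D.Hbar by rw [htop]; trivial)
  set A := uAlg D.T0
  have hwcomm : ∀ x ∈ pH a b, Commute (1 - D.pi) ((x : GLM) : EndM) := fun x hx =>
    (Commute.one_left _).sub_left (D.pi_comm_pH hx)
  have step : ∀ j : ℕ, ∀ r : k, ∃ x ∈ pH a b,
      (x : EndM) * D.pi = D.Phi (rU (algebraMap k D.R (r * (l * l - 1) ^ j))) ∧
      (x : EndM) * (1 - D.pi) - (1 - D.pi) ∈ A ^ (j + 1) := by
    intro j
    induction j with
    | zero =>
      intro r
      refine ⟨_, qel_mem_pH_left a b r, ?_, ?_⟩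
      · rw [pow_zero, mul_one, Phi_rU, qel_val (smul_sq_zero D.sqa r)]
      · rw [zero_add, pow_one, qel_val (smul_sq_zero D.sqa r), add_mul, one_mul,
          add_sub_cancel_left, smul_mul_assoc]
        exact Submodule.smul_mem _ r D.a0_mem
    | succ j ih =>
      intro r
      obtain ⟨x, hx, hxπ, hxw⟩ := ih r
      refine ⟨h * x * h⁻¹ * x⁻¹, mul_mem (mul_mem (mul_mem hh hx) (inv_mem hh)) (inv_mem hx), ?_, ?_⟩
      · rw [D.bar_mul (D.bar_mul (D.bar_mul he hxπ) (D.bar_inv he)) (D.bar_inv hxπ)]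
        congr 1
        rw [Matrix.SpecialLinearGroup.coe_mul, Matrix.SpecialLinearGroup.coe_mul,
          Matrix.SpecialLinearGroup.coe_mul, Matrix.SpecialLinearGroup.coe_inv, rU_inv, hdv,
          rU_val, rU_val, rU_val, Matrix.adjugate_fin_two]
        rw [pow_succ, map_mul, map_mul, map_mul, map_sub, map_mul, map_one]
        generalize (algebraMap k D.R) l = L, (algebraMap k D.R) l⁻¹ = L',
          (algebraMap k D.R) r = r', algebraMap k D.R ((l * l - 1) ^ j) = q at hl' ⊢
        ext i j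
        fin_cases i <;> fin_cases j <;>
          simp [Matrix.mul_apply, Fin.sum_univ_two]
        · linear_combination hl'
        · linear_combination (-r' * q) * hl'
        · linear_combination hl'
      · have w2 := D.compl_idem
        have w := fun {y : GLM} (hy : y ∈ pH a b) => (hwcomm y hy).eq
        set e := 1 - D.pi with hed
        set u := (h : EndM) * e - e with hu
        set v := (x : EndM) * e - e with hv
        have key : ((h * x * h⁻¹ * x⁻¹ : GLM) : EndM) * e - e =
            (u * v - v * u) * (((h⁻¹ : GLM) : EndM) * e * (((x⁻¹ : GLM) : EndM) * e)) := by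
          have m2 : ∀ {p q : GLM}, q ∈ pH a b →
              ((p : EndM) * e) * ((q : EndM) * e) = ((p * q : GLM) : EndM) * e := by
            intro p q hq
            rw [mul_assoc, ← mul_assoc e, w hq, mul_assoc _ e e, w2, ← mul_assoc, Units.val_mul]
          have e1 : u * v - v * u = ((h * x : GLM) : EndM) * e - ((x * h : GLM) : EndM) * e := by
            rw [← m2 hx, ← m2 hh, hu, hv]
            simp only [sub_mul, mul_sub]
            have r1 : (h : EndM) * e * e = (h : EndM) * e := by rw [mul_assoc, w2]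
            have r2 : (x : EndM) * e * e = (x : EndM) * e := by rw [mul_assoc, w2]
            have r3 : e * ((h : EndM) * e) = (h : EndM) * e := by rw [← mul_assoc, w hh, r1]
            have r4 : e * ((x : EndM) * e) = (x : EndM) * e := by rw [← mul_assoc, w hx, r2]
            rw [r1, r2, r3, r4, w2]
            abel
          rw [e1, m2 (inv_mem hx), sub_mul, m2 (mul_mem (inv_mem hh) (inv_mem hx)),
            m2 (mul_mem (inv_mem hh) (inv_mem hx)),
            show x * h * (h⁻¹ * x⁻¹) = 1 by group, Units.val_one, one_mul,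
            show h * x * (h⁻¹ * x⁻¹) = h * x * h⁻¹ * x⁻¹ by group]
        rw [key]
        have hA2 : u * v - v * u ∈ A ^ (j + 2) := by
          refine sub_mem ?_ ?_
          · rw [pow_succ' A (j + 1)]; exact Submodule.mul_mem_mul (D.pH_compl hh) hxw
          · rw [pow_succ A (j + 1)]; exact Submodule.mul_mem_mul hxw (D.pH_compl hh)
        have hle : A ^ (j + 2) * A ≤ A ^ (j + 2) := by
          rw [pow_succ A (j + 1), mul_assoc]
          exact mul_le_mul' le_rfl (uAlg_mul _)
        have hright : ∀ {y : GLM}, y ∈ pH a b → ∀ {m : EndM}, m ∈ A ^ (j + 2) → m * e = m →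
            m * ((y : EndM) * e) ∈ A ^ (j + 2) ∧ m * ((y : EndM) * e) * e = m * ((y : EndM) * e) := by
          intro y hy m hm hme
          refine ⟨?_, by rw [mul_assoc, mul_assoc (y : EndM), w2]⟩
          have : m * ((y : EndM) * e) = m * ((y : EndM) * e - e) + m := by
            rw [mul_sub m, hme, sub_add_cancel]
          rw [this]
          exact add_mem (hle (Submodule.mul_mem_mul hm (D.pH_compl hy))) hm
        have hme : (u * v - v * u) * e = u * v - v * u := by
          have r : ∀ y : EndM, (y * e - e) * e = y * e - e := fun y => by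
            rw [sub_mul, mul_assoc, w2]
          rw [sub_mul, mul_assoc, hv, r, mul_assoc, hu, r]
        obtain ⟨q1, q2⟩ := hright (inv_mem hh) hA2 hme
        rw [← mul_assoc]
        exact (hright (inv_mem hx) q1 q2).1
  obtain ⟨N, hN⟩ := D.uNil_T0
  have hnilA : A ^ (N + 1) = ⊥ := uAlg_nil hN
  set c := (l * l - 1) ^ N with hcd
  have hc : c ≠ 0 := pow_ne_zero _ (sub_ne_zero.2 hl1)
  have hfam : QFam G (a * D.pi) := by
    have hsq : (a * D.pi) * (a * D.pi) = 0 := by
      rw [mul_assoc, ← mul_assoc D.pi, D.comm_pi_a.eq, mul_assoc a D.pi, ← mul_assoc a a, D.sqa,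
        zero_mul]
    refine ⟨hsq, fun r => ?_⟩
    obtain ⟨x, hx, hxπ, hxw⟩ := step N (r / c)
    rw [hnilA, Submodule.mem_bot, sub_eq_zero] at hxw
    rw [← hcd, div_mul_cancel₀ _ hc, Phi_rU] at hxπ
    have : qel (r • (a * D.pi)) = x := by
      refine qel_eq_of_val (smul_sq_zero hsq r) ?_
      rw [mul_sub, mul_one, hxπ, sub_eq_iff_eq_add] at hxw
      rw [hxw, add_mul, one_mul, smul_mul_assoc]
      abel
    rw [this]
    exact pH_le hGa.1 hGb hx
  have hne : a * D.pi ≠ 0 := by
    intro h0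
    have h1 : D.Phi !![0, 1; 0, 0] = 0 := by rw [Phi_e12, phi_one, h0]
    simpa using congrFun (congrFun (D.Phi_injective h1) 0) 1
  have hrange : LinearMap.range (a * D.pi) = LinearMap.range a :=
    hGa.range_eq hfam hne (LinearMap.range_comp_le_range _ _)
  rw [mul_sub, mul_one, sub_eq_zero, ← D.comm_pi_a.eq]
  refine LinearMap.ext fun m => ?_
  obtain ⟨m', hm'⟩ : a m ∈ LinearMap.range (a * D.pi) := by rw [hrange]; exact ⟨m, rfl⟩
  show a m = D.pi (a m)
  rw [← hm', ← D.comm_pi_a.eq, ← Module.End.mul_apply, ← mul_assoc, D.pi_sq]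

end PairData

end CfsgLib.ThreeTransp
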