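import Mathlib
import Cfsg.Agent.Lib.ThreeTransp.QuadPairThm

/-!
The structure theorem for two minimal quadratic families.
-/

set_option autoImplicit false
set_option linter.unusedSectionVars false

namespace CfsgLib.ThreeTransp

open Cfsg Polynomial

variable {k : Type*} [Field k] {M : Type*} [AddCommGroup M] [Module k M] [FiniteDimensional k M]
variable {G : Subgroup (LinearMap.GeneralLinearGroup k M)}

local notation "GLM" => LinearMap.GeneralLinearGroup k M
local notation "EndM" => Module.End k M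

/-- The square of `U(-1/A) L(A(1+ν)) U(-1/A)`. -/
theorem nu_square {R : Type*} [CommRing R] (A A' ν : R) (hcc : A * A' = 1) (hν : ν ^ 2 = 0) :
    (((rU (-A') * rL (A * (1 + ν)) * rU (-A')) * (rU (-A') * rL (A * (1 + ν)) * rU (-A')) :
      Matrix.SpecialLinearGroup (Fin 2) R) : Matrix (Fin 2) (Fin 2) R) =
      !![-1, 2 * A' * ν; -2 * A * ν, -1] := by
  simp only [Matrix.SpecialLinearGroup.coe_mul, rU_val, rL_val]
  ext i j
  fin_cases i <;> fin_cases j <;> simp [Matrix.mul_apply, Fin.sum_univ_two] <;> grind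

/-- Commutators with a perturbation of the centre. -/
theorem nu_comm {R : Type*} [CommRing R] (A A' S ν : R) (hν : ν ^ 2 = 0)
    (q : Matrix.SpecialLinearGroup (Fin 2) R)
    (hq : (q : Matrix (Fin 2) (Fin 2) R) = !![-1, 2 * A' * ν; -2 * A * ν, -1]) :
    (q * rU S * q⁻¹ * rU (-S)) * (q * rU (-S) * q⁻¹ * rU S) = rU (4 * A * (S * S) * ν) := by
  have h0 : ν * ν = 0 := by rw [← sq, hν]
  have key : ∀ T : R, ((q * rU T * q⁻¹ * rU (-T) : Matrix.SpecialLinearGroup (Fin 2) R) :
      Matrix (Fin 2) (Fin 2) R) = !![1 - 2 * A * T * ν, 2 * A * T * T * ν; 0, 1 + 2 * A * T * ν] := by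
    intro T
    simp only [Matrix.SpecialLinearGroup.coe_mul, Matrix.SpecialLinearGroup.coe_inv, rU_val, hq,
      Matrix.adjugate_fin_two]
    ext i j
    fin_cases i <;> fin_cases j <;> simp [Matrix.mul_apply, Fin.sum_univ_two] <;> grind
  have k2 := key (-S)
  rw [neg_neg] at k2
  apply Subtype.ext
  rw [Matrix.SpecialLinearGroup.coe_mul, key S, k2, rU_val]
  ext i j
  fin_cases i <;> fin_cases j <;> simp [Matrix.mul_apply, Fin.sum_univ_two] <;> grind

namespace PairData

variable {a b : Module.End k M} (D : PairData a b)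

theorem root_ne_zero_of_dvd {p : k[X]} (hdvd : p ∣ D.P) : p.eval 0 ≠ 0 := by
  obtain ⟨q, hq⟩ := hdvd
  intro h
  exact D.hP0 (by rw [hq, eval_mul, h, zero_mul])

/-- A residue map. -/
theorem exists_residue {p : k[X]} (hdvd : p ∣ D.P) :
    ∃ χ : D.R →ₐ[k] AdjoinRoot p, χ (AdjoinRoot.root D.P) = AdjoinRoot.root p := by
  have h : D.P.eval₂ ((Algebra.ofId k (AdjoinRoot p) : k →ₐ[k] AdjoinRoot p) : k →+* AdjoinRoot p)
      (AdjoinRoot.root p) = 0 := by
    obtain ⟨q, hq⟩ := hdvd
    show aeval (AdjoinRoot.root p) D.P = 0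
    rw [AdjoinRoot.aeval_eq, hq, map_mul, AdjoinRoot.mk_self, zero_mul]
  exact ⟨AdjoinRoot.liftAlgHom D.P (Algebra.ofId k _) _ h, AdjoinRoot.liftAlgHom_root _ _ _ _⟩

theorem adjoin_ne_top {K : Type*} [CommRing K] [Algebra k K] (χ : D.R →ₐ[k] K) (c : k)
    {t : D.R} (ht : χ t = algebraMap k K c) (hs : ∀ y : K, ∃ r, χ r = y)
    (hne : ∃ y : K, ∀ r : k, algebraMap k K r ≠ y) :
    Algebra.adjoin k ({t} : Set D.R) ≠ ⊤ := by
  intro htop
  obtain ⟨y, hy⟩ := hne
  obtain ⟨r, rfl⟩ := hs y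
  have hr : r ∈ Algebra.adjoin k ({t} : Set D.R) := by rw [htop]; trivial
  obtain ⟨q, rfl⟩ := Algebra.adjoin_singleton_eq_range_aeval k t ▸ hr
  refine hy (q.eval c) ?_
  show _ = χ (aeval t q)
  rw [← aeval_algHom_apply, ht, aeval_algebraMap_apply, coe_aeval_eq_eval]

/-- The product `L(x) U(t) L(x)`. -/
noncomputable def testElt (t : k) : Matrix.SpecialLinearGroup (Fin 2) D.R :=
  rL (algebraMap k D.R 1 * AdjoinRoot.root D.P) * rU (algebraMap k D.R t) *
    rL (algebraMap k D.R 1 * AdjoinRoot.root D.P)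

theorem testElt_mem (t : k) : D.testElt t ∈ D.Hbar :=
  mul_mem (mul_mem (D.rL_mem 1) (D.rU_mem t)) (D.rL_mem 1)

theorem testElt_val (t : k) :
    (D.testElt t : Matrix (Fin 2) (Fin 2) D.R) 1 0 =
      2 * AdjoinRoot.root D.P + algebraMap k D.R t * AdjoinRoot.root D.P ^ 2 := by
  rw [testElt, Matrix.SpecialLinearGroup.coe_mul, Matrix.SpecialLinearGroup.coe_mul, rL_val, rU_val,
    map_one, one_mul]
  generalize algebraMap k D.R t = T
  simp [Matrix.mul_apply, Fin.sum_univ_two]
  ring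

/-- A residue field larger than the base. -/
theorem case_big (h2 : (2 : k) ≠ 0) (h3 : Nat.card k ≠ 3) (IH : SmallerOK G D.P.natDegree)
    (hGa : QMin G a) (hGb : QFam G b) {p : k[X]} (hp : Irreducible p) (hdvd : p ∣ D.P)
    (hdeg : 2 ≤ p.natDegree) : Irreducible D.P ∧ a * (1 - D.pi) = 0 := by
  haveI : Fact (Irreducible p) := ⟨hp⟩
  obtain ⟨χ, hχ⟩ := D.exists_residue hdvd
  have hα : AdjoinRoot.root p ≠ 0 := by
    intro h
    have : aeval (AdjoinRoot.root p) (X : k[X]) = 0 := by rw [aeval_X, h]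
    rw [AdjoinRoot.aeval_eq, AdjoinRoot.mk_eq_zero] at this
    obtain ⟨u, hu⟩ := (hp.associated_of_dvd irreducible_X this)
    have := congrArg natDegree hu
    rw [natDegree_mul hp.ne_zero u.ne_zero, natDegree_X,
      natDegree_eq_zero_of_isUnit u.isUnit] at this
    omega
  haveI : FiniteDimensional k (AdjoinRoot p) := (AdjoinRoot.powerBasis hp.ne_zero).finite
  have h2K : (2 : AdjoinRoot p) ≠ 0 := fun h =>
    h2 ((algebraMap k (AdjoinRoot p)).injective (by rw [map_ofNat, h, map_zero]))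
  have hne : ∃ y : AdjoinRoot p, ∀ r : k, algebraMap k (AdjoinRoot p) r ≠ y := by
    refine ⟨AdjoinRoot.root p, fun r hr => ?_⟩
    have h := eq_of_irreducible_root (R := k) (irreducible_X_sub_C r) (r := r) (t := r) (by simp) (by simp)
    have hd : p ∣ X - C r := by
      rw [← AdjoinRoot.mk_eq_zero, map_sub, AdjoinRoot.mk_X, AdjoinRoot.mk_C, sub_eq_zero]
      exact hr.symm
    have := natDegree_le_of_dvd hd (X_sub_C_ne_zero r)
    rw [natDegree_X_sub_C] at this
    omega
  have hs : ∀ y : AdjoinRoot p, ∃ r, χ r = y := by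
    intro y
    induction y using AdjoinRoot.induction_on with
    | _ q => exact ⟨aeval (AdjoinRoot.root D.P) q, by rw [← aeval_algHom_apply, hχ, AdjoinRoot.aeval_eq]⟩
  have hsurj : (barGroup k (AdjoinRoot.root D.P)).map (slMap χ) = ⊤ := by
    rw [slMap_barGroup, hχ]
    exact pairGroup_eq_top h2K h3 hα AdjoinRoot.adjoinRoot_eq_top
  have key : ∀ g ∈ barGroup k (AdjoinRoot.root D.P),
      χ ((g : Matrix (Fin 2) (Fin 2) D.R) 1 0) ^ 2 = 1 →
      a * (1 - D.pi) = 0 ∧ (g : Matrix (Fin 2) (Fin 2) D.R) 1 0 ^ 2 = 1 := by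
    intro g hg hC
    have hnn : ¬ IsNilpotent ((g : Matrix (Fin 2) (Fin 2) D.R) 1 0) := fun h => by
      have := (h.map χ).eq_zero
      rw [this] at hC
      simp at hC
    obtain ⟨hA, -, Q, hQ, hQ0⟩ := D.proper_step IH hGa hGb hg hnn (Or.inr
      (D.adjoin_ne_top χ 1 (by rw [map_pow, hC, map_one]) hs hne))
    refine ⟨hA, ?_⟩
    have hQ1 : Q.eval 1 = 0 := by
      have := congrArg χ hQ0
      rw [← aeval_algHom_apply, map_pow, hC, map_zero,
        ← map_one (algebraMap k (AdjoinRoot p)), aeval_algebraMap_apply, coe_aeval_eq_eval] at this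
      exact (algebraMap k (AdjoinRoot p)).injective (by rw [this, map_zero])
    rw [eq_of_irreducible_root hQ hQ1 hQ0, map_one]
  obtain ⟨g, hg, hge⟩ := exists_lift_sl2 χ hsurj (sl2L (AdjoinRoot p) 1)
  have hgC : χ ((g : Matrix (Fin 2) (Fin 2) D.R) 1 0) ^ 2 = 1 := by
    rw [← slMap_apply, hge, sl2L_val]; simp
  refine ⟨?_, (key g hg hgC).1⟩
  obtain ⟨f, hf⟩ := bar_split χ h2 D.isUnit_root hsurj fun g hg h => (key g hg h).2
  rw [hχ] at hf
  have hroot : aeval (AdjoinRoot.root D.P) p = 0 := by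
    rw [← hf, aeval_algHom_apply, AdjoinRoot.aeval_eq, AdjoinRoot.mk_self, map_zero]
  rw [AdjoinRoot.aeval_eq, AdjoinRoot.mk_eq_zero] at hroot
  exact (associated_of_dvd_dvd hdvd hroot).irreducible hp

/-- Two different roots in the base. -/
theorem case_two_roots (h2 : (2 : k) ≠ 0) (IH : SmallerOK G D.P.natDegree) (hGa : QMin G a)
    (hGb : QFam G b) {c c' : k} (hc : X - C c ∣ D.P) (hc' : X - C c' ∣ D.P) (hne : c ≠ c') :
    False := by
  have hc0 : c ≠ 0 := fun h => D.root_ne_zero_of_dvd hc (by simp [h])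
  have hc0' : c' ≠ 0 := fun h => D.root_ne_zero_of_dvd hc' (by simp [h])
  have hev : ∀ {r : k}, X - C r ∣ D.P → ∃ χ : D.R →ₐ[k] k, χ (AdjoinRoot.root D.P) = r := by
    intro r hr
    have h : D.P.eval₂ ((Algebra.ofId k k : k →ₐ[k] k) : k →+* k) r = 0 := by
      show aeval r D.P = 0
      rw [coe_aeval_eq_eval]; exact dvd_iff_isRoot.1 hr
    exact ⟨AdjoinRoot.liftAlgHom D.P (Algebra.ofId k k) r h, AdjoinRoot.liftAlgHom_root _ _ _ _⟩
  obtain ⟨χ, hχ⟩ := hev hc
  obtain ⟨χ', hχ'⟩ := hev hc'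
  set t : k := -2 / c'
  have hC' : χ' ((D.testElt t : Matrix (Fin 2) (Fin 2) D.R) 1 0) = 0 := by
    rw [testElt_val, map_add, map_mul, map_mul, map_pow, hχ', map_ofNat, AlgHom.commutes,
      Algebra.algebraMap_self, RingHom.id_apply]
    simp only [t]; field_simp; ring
  have hnn : ¬ IsNilpotent ((D.testElt t : Matrix (Fin 2) (Fin 2) D.R) 1 0) := fun h => by
    have h0 := (h.map χ).eq_zero
    rw [testElt_val, map_add, map_mul, map_mul, map_pow, hχ, map_ofNat, AlgHom.commutes,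
      Algebra.algebraMap_self, RingHom.id_apply] at h0
    simp only [t] at h0
    field_simp at h0
    have h4 : (2 : k) * (c' - c) = 0 := by
      first
        | linear_combination h0
        | (refine (mul_left_cancel₀ hc0 ?_); linear_combination h0)
    rcases mul_eq_zero.1 h4 with h | h
    · exact h2 h
    · exact hne (sub_eq_zero.1 h).symm
  have hnu : ¬ IsUnit ((D.testElt t : Matrix (Fin 2) (Fin 2) D.R) 1 0) := fun h => by
    have := h.map χ'
    rw [hC'] at this
    exact not_isUnit_zero this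
  exact hnu (D.proper_step IH hGa hGb (D.testElt_mem t) hnn (Or.inl hnu)).2.1

theorem exists_sub_sq (h2 : (2 : k) ≠ 0) (r : k) : ∃ s t : k, r = s * s - t * t :=
  ⟨(r + 1) / 2, (r - 1) / 2, by field_simp; ring⟩

/-- One root, with multiplicity. -/
theorem case_one_root (h2 : (2 : k) ≠ 0) (IH : SmallerOK G D.P.natDegree) (hGa : QMin G a)
    (hGb : QMin G b) {c : k} (hc : X - C c ∣ D.P) {m : ℕ} (hm : D.P ∣ (X - C c) ^ m)
    (hred : ¬ Irreducible D.P) : False := by
  have hc0 : c ≠ 0 := fun h => D.root_ne_zero_of_dvd hc (by simp [h])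
  set x := AdjoinRoot.root D.P with hx
  set ν := algebraMap k D.R c⁻¹ * x - 1 with hν
  clear_value ν
  have hcc : algebraMap k D.R c * algebraMap k D.R c⁻¹ = 1 := by
    rw [← map_mul, mul_inv_cancel₀ hc0, map_one]
  have hxν : x = algebraMap k D.R c * (1 + ν) := by
    rw [hν]; linear_combination (-x) * hcc
  have hνnil : IsNilpotent ν := by
    refine ⟨m, ?_⟩
    have h : ν = algebraMap k D.R c⁻¹ * (x - algebraMap k D.R c) := by
      rw [hν]; linear_combination -((-1 : D.R)) * hcc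
    rw [h, mul_pow]
    have h0 : AdjoinRoot.mk D.P ((X - C c) ^ m) = 0 := AdjoinRoot.mk_eq_zero.2 hm
    rw [map_pow, map_sub, AdjoinRoot.mk_X, AdjoinRoot.mk_C] at h0
    rw [hx, AdjoinRoot.algebraMap_eq, h0, mul_zero]
  have hν0 : ν ≠ 0 := by
    intro h
    have h1 : x = algebraMap k D.R c := by rw [hxν, h, add_zero, mul_one]
    have h3 : AdjoinRoot.mk D.P (X - C c) = 0 := by
      rw [map_sub, AdjoinRoot.mk_X, AdjoinRoot.mk_C, sub_eq_zero]; exact h1
    exact hred ((associated_of_dvd_dvd hc (AdjoinRoot.mk_eq_zero.1 h3)).irreducible (irreducible_X_sub_C c))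
  obtain ⟨χ, hχ⟩ : ∃ χ : D.R →ₐ[k] k, χ x = c := by
    have h : D.P.eval₂ ((Algebra.ofId k k : k →ₐ[k] k) : k →+* k) c = 0 := by
      show aeval c D.P = 0
      rw [coe_aeval_eq_eval]; exact dvd_iff_isRoot.1 hc
    exact ⟨AdjoinRoot.liftAlgHom D.P (Algebra.ofId k k) c h, AdjoinRoot.liftAlgHom_root _ _ _ _⟩
  have hχν : χ ν = 0 := (hνnil.map χ).eq_zero
  set C0 := (D.testElt (-c⁻¹) : Matrix (Fin 2) (Fin 2) D.R) 1 0 with hC0
  have hC0v : C0 = algebraMap k D.R c * (1 - ν ^ 2) := by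
    rw [hC0, testElt_val, map_neg, ← hx, hxν]
    linear_combination (-(algebraMap k D.R c * (1 + ν) ^ 2)) * hcc
  have hnn : ¬ IsNilpotent C0 := fun h => by
    have h0 := (h.map χ).eq_zero
    rw [hC0v] at h0
    simp [hχν, hc0, -AdjoinRoot.algebraMap_eq] at h0
  have hadj : Algebra.adjoin k ({C0 ^ 2} : Set D.R) ≠ ⊤ := by
    intro htop
    have hle : Algebra.adjoin k ({C0 ^ 2} : Set D.R) ≤ Algebra.adjoin k ({ν ^ 2} : Set D.R) := by
      refine Algebra.adjoin_le (Set.singleton_subset_iff.2 ?_)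
      rw [hC0v]
      exact pow_mem (mul_mem (Subalgebra.algebraMap_mem _ c)
        (sub_mem (one_mem _) (Algebra.self_mem_adjoin_singleton k _))) 2
    have hmem : ν ∈ Algebra.adjoin k ({ν ^ 2} : Set D.R) := hle (by rw [htop]; trivial)
    obtain ⟨q, hq⟩ := Algebra.adjoin_singleton_eq_range_aeval k (ν ^ 2) ▸ hmem
    obtain ⟨r, hr⟩ : X ∣ q - C (q.coeff 0) := by rw [X_dvd_iff]; simp
    rw [sub_eq_iff_eq_add] at hr
    replace hq : aeval (ν ^ 2) q = ν := hq
    rw [hr, map_add, map_mul, aeval_X, aeval_C] at hq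
    have hq0 : q.coeff 0 = 0 := by
      have := congrArg χ hq
      simpa [hχν, -AdjoinRoot.algebraMap_eq] using this
    rw [hq0, map_zero, add_zero] at hq
    have hnil : IsNilpotent (ν * aeval (ν ^ 2) r) := (Commute.all _ _).isNilpotent_mul_right hνnil
    have : ν * (1 - ν * aeval (ν ^ 2) r) = 0 := by linear_combination -hq
    exact hν0 ((IsUnit.mul_left_eq_zero hnil.isUnit_one_sub).1 this)
  obtain ⟨hA, -, Q, hQ, hQ0⟩ := D.proper_step IH hGa hGb.1 (D.testElt_mem _) hnn (Or.inr hadj)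
  have hB : b * (1 - D.pi) = 0 := by
    have h := (D.swap.proper_step (G := G) IH hGb hGa.1 (g := D.testElt (-c⁻¹))
      (D.testElt_mem _) hnn (Or.inr hadj)).1
    rwa [swap_pi] at h
  have hν2 : ν ^ 2 = 0 := by
    have hQc : Q.eval (c ^ 2) = 0 := by
      have := congrArg χ hQ0
      rw [← aeval_algHom_apply, map_pow, ← hC0, hC0v, map_mul, map_sub, map_one, map_pow χ ν,
        hχν, AlgHom.commutes, map_zero, zero_pow two_ne_zero, sub_zero, mul_one,
        Algebra.algebraMap_self, RingHom.id_apply, coe_aeval_eq_eval] at this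
      exact this
    have h1 := eq_of_irreducible_root hQ hQc hQ0
    rw [← hC0, hC0v, map_pow] at h1
    have h4 : ν ^ 2 * (ν ^ 2 - 2) = 0 := by
      linear_combination (algebraMap k D.R c⁻¹) ^ 2 * h1 -
        (algebraMap k D.R c * algebraMap k D.R c⁻¹ + 1) * ((1 - ν ^ 2) ^ 2 - 1) * hcc
    have h5 : IsUnit (ν ^ 2 - 2) := by
      have hu : IsUnit ((2 : k) • (1 : D.R)) := by
        rw [Algebra.smul_def, mul_one]; exact (isUnit_iff_ne_zero.2 h2).map _
      have h22 : ((2 : k) • (1 : D.R)) = 2 := by rw [Algebra.smul_def, mul_one, map_ofNat]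
      rw [h22] at hu
      rw [sub_eq_add_neg, add_comm]
      exact IsNilpotent.isUnit_add_left_of_commute (hνnil.pow_of_pos two_ne_zero) hu.neg (Commute.all _ _)
    exact (IsUnit.mul_left_eq_zero h5).1 h4
  -- the transvections `1 + r ν`
  have hT : ∀ r : k, rU (algebraMap k D.R r * ν) ∈ D.Hbar := by
    set g := rU (algebraMap k D.R (-c⁻¹)) * rL (algebraMap k D.R 1 * x) *
      rU (algebraMap k D.R (-c⁻¹)) with hg
    have hgm : g ∈ D.Hbar := mul_mem (mul_mem (D.rU_mem _) (D.rL_mem 1)) (D.rU_mem _)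
    set q := g * g with hq
    have hqv : (q : Matrix (Fin 2) (Fin 2) D.R) =
        !![-1, 2 * algebraMap k D.R c⁻¹ * ν; -2 * algebraMap k D.R c * ν, -1] := by
      rw [hq, hg, map_neg, map_one, one_mul, hxν]
      exact nu_square _ _ _ hcc hν2
    have hstep : ∀ s : k, rU (algebraMap k D.R (4 * c * (s * s)) * ν) ∈ D.Hbar := by
      intro s
      have hqm : q ∈ D.Hbar := mul_mem hgm hgm
      have h := mul_mem (mul_mem (mul_mem (mul_mem hqm (D.rU_mem s)) (inv_mem hqm)) (D.rU_mem (-s)))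
        (mul_mem (mul_mem (mul_mem hqm (D.rU_mem (-s))) (inv_mem hqm)) (D.rU_mem s))
      rw [map_neg, nu_comm _ _ _ _ hν2 q hqv] at h
      rw [map_mul, map_mul, map_mul, map_ofNat]
      exact h
    let W : AddSubgroup D.R :=
      { carrier := {y | rU y ∈ D.Hbar}
        zero_mem' := by show rU 0 ∈ D.Hbar; rw [rU_zero]; exact one_mem _
        add_mem' := fun {p q} hp hq => by
          show rU (p + q) ∈ D.Hbar
          rw [← rU_add]; exact mul_mem hp hq
        neg_mem' := fun {p} hp => by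
          show rU (-p) ∈ D.Hbar
          rw [← rU_inv]; exact inv_mem hp }
    intro r
    obtain ⟨s, t, hst⟩ := exists_sub_sq h2 (r / (4 * c))
    have h4 : (4 : k) ≠ 0 := by
      rw [show (4 : k) = 2 * 2 by norm_num]; exact mul_ne_zero h2 h2
    have hr : r = 4 * c * (s * s) - 4 * c * (t * t) := by
      rw [← mul_sub, ← hst, mul_div_cancel₀ _ (mul_ne_zero h4 hc0)]
    rw [hr, map_sub, sub_mul]
    exact W.sub_mem (hstep s) (hstep t)
  -- the contradiction
  set y := a * D.phi ν with hy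
  have hysq : y * y = 0 := by
    rw [hy, mul_assoc, ← mul_assoc (D.phi ν), (D.comm_phi_a ν).eq, mul_assoc a (D.phi ν),
      ← mul_assoc a a, D.sqa, zero_mul]
  have hfam : QFam G y := by
    refine ⟨hysq, fun r => ?_⟩
    have hmem : D.rho (rU (algebraMap k D.R r * ν)) ∈ pH a b := by
      rw [← D.rho_map_Hbar hA hB]; exact ⟨_, hT r, rfl⟩
    have e : qel (r • y) = D.rho (rU (algebraMap k D.R r * ν)) := by
      refine qel_eq_of_val (smul_sq_zero hysq r) ?_
      have hm2 : ((rU (algebraMap k D.R r * ν) : Matrix.SpecialLinearGroup (Fin 2) D.R) :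
          Matrix (Fin 2) (Fin 2) D.R) = 1 + !![0, algebraMap k D.R r * ν; 0, 0] := by
        rw [rU_val, Matrix.one_fin_two]
        ext i j; fin_cases i <;> fin_cases j <;> simp
      rw [rho_val, hm2, Phi_add, Phi_one, Phi_e12, ← Algebra.smul_def, phi_smul, mul_smul_comm, hy]
      abel
    rw [e]
    exact pH_le hGa.1 hGb.1 hmem
  have hy0 : y ≠ 0 := by
    intro h
    have h1 : D.Phi !![0, ν; 0, 0] = 0 := by rw [Phi_e12]; exact h
    exact hν0 (by simpa using congrFun (congrFun (D.Phi_injective h1) 0) 1)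
  have hrange : LinearMap.range y = LinearMap.range a :=
    hGa.range_eq hfam hy0 (LinearMap.range_comp_le_range _ _)
  refine hGa.2.1 (LinearMap.ext fun v => ?_)
  have hstep' : ∀ u : M, ∃ u', a u = D.phi ν (a u') := by
    intro u
    obtain ⟨u', hu'⟩ : a u ∈ LinearMap.range y := by rw [hrange]; exact ⟨u, rfl⟩
    refine ⟨u', ?_⟩
    rw [← hu', hy, ← (D.comm_phi_a ν).eq]; rfl
  obtain ⟨u, hu⟩ := hstep' v
  obtain ⟨u', hu'⟩ := hstep' u
  rw [hu, hu', ← Module.End.mul_apply, ← phi_mul, ← sq, hν2, phi_zero]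
  rfl

theorem pair_main (h2 : (2 : k) ≠ 0) (h3 : Nat.card k ≠ 3) :
    ∀ (n : ℕ) (a b : Module.End k M) (D : PairData a b), QMin G a → QMin G b →
      0 < D.P.natDegree → D.P.natDegree = n → Irreducible D.P ∧ a * (1 - D.pi) = 0 := by
  intro n
  induction n using Nat.strong_induction_on with
  | _ n ih =>
    intro a b D hGa hGb hpos hn
    have IH : SmallerOK G D.P.natDegree := fun a' b' D' ha' hb' hp' hlt =>
      ih _ (hn ▸ hlt) a' b' D' ha' hb' hp' rfl
    by_cases hirr : Irreducible D.P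
    · exact ⟨hirr, D.commutator_step h2 h3 hirr hGa hGb.1⟩
    by_cases hbig : ∃ p : k[X], Irreducible p ∧ p ∣ D.P ∧ 2 ≤ p.natDegree
    · obtain ⟨p, hp, hd, hdeg⟩ := hbig
      exact D.case_big h2 h3 IH hGa hGb.1 hp hd hdeg
    exfalso
    push Not at hbig
    classical
    have hlin : ∀ p : k[X], Irreducible p → p ∣ D.P → p.Monic → ∃ r, p = X - C r := by
      intro p hp hd hmon
      have h1 : p.natDegree = 1 := by
        have := hbig p hp hd; have := hp.natDegree_pos; omega
      exact ⟨-p.coeff 0, by rw [map_neg, sub_neg_eq_add]; exact hmon.eq_X_add_C h1⟩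
    have hnu : ¬ IsUnit D.P := fun h => hpos.ne' (natDegree_eq_zero_of_isUnit h)
    obtain ⟨p, hpm, hp, hd⟩ := exists_monic_irreducible_factor D.P hnu
    obtain ⟨c, rfl⟩ := hlin p hp hd hpm
    by_cases htwo : ∃ c', c' ≠ c ∧ X - C c' ∣ D.P
    · obtain ⟨c', hne, hd'⟩ := htwo
      exact D.case_two_roots h2 IH hGa hGb.1 hd hd' hne.symm
    push Not at htwo
    have hall : ∀ q ∈ UniqueFactorizationMonoid.normalizedFactors D.P, q = X - C c := by
      intro q hq
      have hqi := UniqueFactorizationMonoid.irreducible_of_normalized_factor q hq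
      have hqd := UniqueFactorizationMonoid.dvd_of_mem_normalizedFactors hq
      have hqm : q.Monic := by
        have := UniqueFactorizationMonoid.normalize_normalized_factor q hq
        rw [← this]; exact monic_normalize hqi.ne_zero
      obtain ⟨r, rfl⟩ := hlin q hqi hqd hqm
      by_contra hne
      exact htwo r (fun h => hne (by rw [h])) hqd
    have hprod := (UniqueFactorizationMonoid.prod_normalizedFactors D.monic.ne_zero).symm
    rw [Multiset.eq_replicate_card.2 hall, Multiset.prod_replicate] at hprod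
    exact D.case_one_root h2 IH hGa hGb hd hprod.dvd hirr

end PairData

/-- The structure of two minimal families generating a non-unipotent group. -/
theorem pair_structure (h2 : (2 : k) ≠ 0) (h3 : Nat.card k ≠ 3) {a b : EndM} (hGa : QMin G a)
    (hGb : QMin G b) (D : PairData a b) (hz : ¬ IsNilpotent (a * b + b * a)) :
    Irreducible D.P ∧ a * (1 - D.pi) = 0 ∧ b * (1 - D.pi) = 0 ∧ D.Hbar = ⊤ ∧
      D.Hbar.map D.rho = pH a b := by
  have hpos := D.natDegree_pos_iff.2 hz
  obtain ⟨hirr, hA⟩ := PairData.pair_main h2 h3 _ a b D hGa hGb hpos rfl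
  obtain ⟨-, hB⟩ := PairData.pair_main h2 h3 _ b a D.swap hGb hGa hpos rfl
  rw [PairData.swap_pi] at hB
  refine ⟨hirr, hA, hB, ?_, D.rho_map_Hbar hA hB⟩
  haveI : Fact (Irreducible D.P) := ⟨hirr⟩
  haveI := D.finite_R
  have h2K : (2 : D.R) ≠ 0 := fun h => h2 ((algebraMap k D.R).injective (by rw [map_ofNat, h, map_zero]))
  exact pairGroup_eq_top h2K h3 D.isUnit_root.ne_zero AdjoinRoot.adjoinRoot_eq_top

end CfsgLib.ThreeTransp
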