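import Mathlib
import Cfsg.Agent.Lib.ThreeTransp.QuadClass
import Cfsg.Agent.Lib.ThreeTransp.QuadPairMain

/-!
Two classes of minimal quadratic families: either they generate a unipotent group or they form a
special rank one pair.
-/

set_option autoImplicit false
set_option linter.unusedSectionVars false

namespace CfsgLib.ThreeTransp

open Cfsg

variable {k : Type*} [Field k] {M : Type*} [AddCommGroup M] [Module k M] [FiniteDimensional k M]
variable {G : Subgroup (LinearMap.GeneralLinearGroup k M)}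

local notation "GLM" => LinearMap.GeneralLinearGroup k M
local notation "EndM" => Module.End k M

/-- The image of each meets the kernel of the other trivially. -/
def Linked (a b : Module.End k M) : Prop :=
  LinearMap.range a ⊓ LinearMap.ker b = ⊥ ∧ LinearMap.range b ⊓ LinearMap.ker a = ⊥

theorem Linked.symm {a b : EndM} (h : Linked a b) : Linked b a := ⟨h.2, h.1⟩

theorem linked_congr {a b a' b' : EndM} (h1 : LinearMap.range a = LinearMap.range a')
    (h2 : LinearMap.ker a = LinearMap.ker a') (h3 : LinearMap.range b = LinearMap.range b')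
    (h4 : LinearMap.ker b = LinearMap.ker b') : Linked a b ↔ Linked a' b' := by
  rw [Linked, Linked, h1, h2, h3, h4]

theorem linked_of_not_nilpotent (h2 : (2 : k) ≠ 0) (h3 : Nat.card k ≠ 3) {a b : EndM}
    (ha : QMin G a) (hb : QMin G b) (hz : ¬ IsNilpotent (a * b + b * a)) : Linked a b := by
  obtain ⟨D⟩ := exists_pairData ha.sq hb.sq
  obtain ⟨-, hA, hB, -, -⟩ := pair_structure h2 h3 ha hb D hz
  have key : ∀ {a b : EndM} (D : PairData a b), a * (1 - D.pi) = 0 →
      LinearMap.range a ⊓ LinearMap.ker b = ⊥ := by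
    intro a b D hA
    rw [eq_bot_iff]
    rintro v ⟨⟨m, hm⟩, hv⟩
    rw [mul_sub, mul_one, sub_eq_zero] at hA
    have h1 : D.z v = 0 := by
      show a (b v) + b (a v) = 0
      have : a v = 0 := by rw [← hm, ← Module.End.mul_apply, D.sqa]; rfl
      rw [LinearMap.mem_ker.1 hv, this, map_zero, map_zero, add_zero]
    have h4 : D.pi v = 0 := by
      have e : D.pi = D.phi D.rinv * D.z := by
        rw [← D.phi_pi D.rinv, mul_assoc, D.comm_pi_z.eq, ← D.phi_root, ← D.phi_mul, mul_comm,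
          D.root_rinv, D.phi_one]
      rw [e, Module.End.mul_apply, h1, map_zero]
    have h5 : D.pi v = v := by
      rw [← hm, ← Module.End.mul_apply, D.comm_pi_a.eq, ← hA]
    exact (Submodule.mem_bot k).2 (h5.symm.trans h4)
  exact ⟨key D hA, key D.swap (by rwa [PairData.swap_pi])⟩

theorem not_nilpotent_of_linked {a b : EndM} (ha : QMin G a) (hl : Linked a b) :
    ¬ IsNilpotent (a * b + b * a) := by
  rintro ⟨n, hn⟩
  -- on the image of `a` the endomorphism is injective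
  have hinj : ∀ v ∈ LinearMap.range a, (a * b + b * a) v = 0 → v = 0 := by
    intro v hv h
    have hav : a v = 0 := range_le_ker_of_sq ha.sq hv
    rw [LinearMap.add_apply, Module.End.mul_apply, Module.End.mul_apply, hav, map_zero, add_zero] at h
    have hbv : b v = 0 := by
      have : b v ∈ LinearMap.range b ⊓ LinearMap.ker a := ⟨⟨v, rfl⟩, h⟩
      rwa [hl.2, Submodule.mem_bot] at this
    have : v ∈ LinearMap.range a ⊓ LinearMap.ker b := ⟨hv, hbv⟩
    rwa [hl.1, Submodule.mem_bot] at this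
  have hpres : ∀ v ∈ LinearMap.range a, (a * b + b * a) v ∈ LinearMap.range a := by
    intro v hv
    rw [LinearMap.add_apply, Module.End.mul_apply, Module.End.mul_apply, range_le_ker_of_sq ha.sq hv,
      map_zero, add_zero]
    exact ⟨_, rfl⟩
  have key : ∀ j : ℕ, ∀ v ∈ LinearMap.range a, ((a * b + b * a) ^ j) v = 0 → v = 0 := by
    intro j
    induction j with
    | zero => intro v _ h; simpa using h
    | succ j ih =>
      intro v hv h
      rw [pow_succ, Module.End.mul_apply] at h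
      exact hinj v hv (ih _ (hpres v hv) h)
  refine ha.2.1 (LinearMap.ext fun m => key n (a m) ⟨m, rfl⟩ ?_)
  rw [hn]; rfl

section unlinked

variable {a b : Module.End k M}

theorem fix_vector {ha : QMin G a} {hb : QMin G b} {v : M} (hv : v ∈ LinearMap.ker a ⊓ LinearMap.ker b)
    {g : GLM} (hg : g ∈ eGrp G a ha ⊔ eGrp G b hb) : (g : EndM) v = v := by
  have h := (sup_le ((eGrp_le_actGroup ha).trans (actGroup_mono inf_le_left le_sup_left))
    ((eGrp_le_actGroup hb).trans (actGroup_mono (inf_le_right (a := LinearMap.ker a))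
      (le_sup_right (a := LinearMap.range a)))) hg).1 hv
  rwa [LinearMap.mem_ker, udif, LinearMap.sub_apply, Module.End.one_apply, sub_eq_zero] at h

theorem sup_ne_top_of_inf_ne_bot {x y : EndM} (hd : erk x = erk y)
    (h : LinearMap.range x ⊓ LinearMap.ker y ≠ ⊥) :
    LinearMap.range x ⊔ LinearMap.ker y ≠ ⊤ := by
  intro htop
  apply h
  have h1 := Submodule.finrank_sup_add_finrank_inf_eq (LinearMap.range x) (LinearMap.ker y)
  have h2 := LinearMap.finrank_range_add_finrank_ker y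
  rw [htop, finrank_top] at h1
  rw [erk, erk] at hd
  rw [← Submodule.finrank_eq_zero]
  omega

theorem erk_eq_of_qmin (ha : QMin G a) (hb : QMin G b) : erk a = erk b :=
  le_antisymm (ha.2.2 b hb.1 hb.2.1) (hb.2.2 a ha.1 ha.2.1)

/-- If they are not linked, all conjugates are pairwise not linked. -/
theorem unlinked_conjugates (ha : QMin G a) (hb : QMin G b)
    (hK : LinearMap.range a ⊓ LinearMap.ker b ≠ ⊥) {g g' : GLM}
    (hg : g ∈ eGrp G a ha ⊔ eGrp G b hb) (hg' : g' ∈ eGrp G a ha ⊔ eGrp G b hb)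
    {x y : EndM} (hx : x ∈ eSpace G a ha.sq ∨ x ∈ eSpace G b hb.sq)
    (hy : y ∈ eSpace G a ha.sq ∨ y ∈ eSpace G b hb.sq) (hx0 : x ≠ 0) (hy0 : y ≠ 0) :
    ¬ Linked (eConj g x) (eConj g' y) := by
  obtain ⟨v, hv, hv0⟩ := Submodule.exists_mem_ne_zero_of_ne_bot hK
  have hvf : v ∈ LinearMap.ker a ⊓ LinearMap.ker b := ⟨range_le_ker_of_sq ha.sq hv.1, hv.2⟩
  have hker : ∀ (g : GLM), g ∈ eGrp G a ha ⊔ eGrp G b hb → ∀ x, (x ∈ eSpace G a ha.sq ∨ x ∈ eSpace G b hb.sq) →
      v ∈ LinearMap.ker (eConj g x) := by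
    intro g hg x hx
    rw [mem_ker_eConj, fix_vector hvf (inv_mem hg)]
    rcases hx with h | h
    · exact h.2.2 hvf.1
    · exact h.2.2 hvf.2
  have hran : ∀ (g : GLM), g ∈ eGrp G a ha ⊔ eGrp G b hb → ∀ x, x ∈ eSpace G a ha.sq → x ≠ 0 →
      v ∈ LinearMap.range (eConj g x) := by
    intro g hg x hx hx0
    rw [range_eConj]
    exact ⟨v, by rw [(eSpace_data ha hx hx0).2.1]; exact hv.1, fix_vector hvf hg⟩
  rcases hx with hx | hx
  · intro hl
    have : v ∈ LinearMap.range (eConj g x) ⊓ LinearMap.ker (eConj g' y) :=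
      ⟨hran g hg x hx hx0, hker g' hg' y hy⟩
    rw [hl.1, Submodule.mem_bot] at this
    exact hv0 this
  rcases hy with hy | hy
  · intro hl
    have : v ∈ LinearMap.range (eConj g' y) ⊓ LinearMap.ker (eConj g x) :=
      ⟨hran g' hg' y hy hy0, hker g hg x (Or.inr hx)⟩
    rw [hl.2, Submodule.mem_bot] at this
    exact hv0 this
  -- both in the class of `b`
  intro hl
  set S := LinearMap.range a ⊔ LinearMap.ker b with hS
  have hne : S ≠ ⊤ := sup_ne_top_of_inf_ne_bot (erk_eq_of_qmin ha hb) hK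
  set N := LinearMap.range a ⊔ LinearMap.range b
  have hN : N ≤ S := sup_le_sup_left (range_le_ker_of_sq hb.sq) _
  have hmove : ∀ g ∈ eGrp G a ha ⊔ eGrp G b hb, ∀ m ∈ S, (g : EndM) m ∈ S := by
    intro g hg m hm
    have h := (sup_le ((eGrp_le_actGroup ha).trans (actGroup_mono (bot_le) le_sup_left))
      ((eGrp_le_actGroup hb).trans (actGroup_mono (bot_le) (le_sup_right (a := LinearMap.range a)))) hg).2
    have : (g : EndM) m = m + udif g m := by
      rw [udif, LinearMap.sub_apply, Module.End.one_apply, add_sub_cancel]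
    rw [this]
    exact add_mem hm (hN (h ⟨m, rfl⟩))
  have k1 : LinearMap.ker (eConj g' y) ≤ S := by
    intro m hm
    rw [mem_ker_eConj, (eSpace_data hb hy hy0).2.2] at hm
    have h := hmove g' hg' _ (Submodule.mem_sup_right hm)
    rwa [← Module.End.mul_apply, Units.mul_inv, Module.End.one_apply] at h
  have k2 : LinearMap.range (eConj g x) ≤ S := by
    rw [range_eConj, (eSpace_data hb hx hx0).2.1]
    rintro _ ⟨m, hm, rfl⟩
    exact hmove g hg _ (Submodule.mem_sup_right (range_le_ker_of_sq hb.sq hm))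
  have hgG : ∀ {g : GLM}, g ∈ eGrp G a ha ⊔ eGrp G b hb → g ∈ G :=
    fun hg => sup_le (eGrp_le ha) (eGrp_le hb) hg
  have hd : erk (eConj g x) = erk (eConj g' y) := erk_eq_of_qmin
    ((eSpace_data hb hx hx0).1.conj (hgG hg)) ((eSpace_data hb hy hy0).1.conj (hgG hg'))
  refine hne (top_le_iff.1 (le_trans ?_ (sup_le k2 k1)))
  have h1 := Submodule.finrank_sup_add_finrank_inf_eq (LinearMap.range (eConj g x))
    (LinearMap.ker (eConj g' y))
  have h2 := LinearMap.finrank_range_add_finrank_ker (eConj g' y)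
  rw [hl.1, finrank_bot] at h1
  rw [erk, erk] at hd
  exact (Submodule.eq_top_of_finrank_eq (by omega)).ge

theorem unipotent_of_not_linked (h2 : (2 : k) ≠ 0) (h3 : Nat.card k ≠ 3) (ha : QMin G a)
    (hb : QMin G b) (hl : ¬ Linked a b) : IsUnipotentOn (eGrp G a ha ⊔ eGrp G b hb) := by
  wlog hK : LinearMap.range a ⊓ LinearMap.ker b ≠ ⊥ generalizing a b
  · rw [sup_comm]
    refine this hb ha (fun h => hl h.symm) fun h => hl ⟨not_not.1 hK, h⟩
  set X := eGrp G a ha ⊔ eGrp G b hb with hX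
  have hXG : X ≤ G := sup_le (eGrp_le ha) (eGrp_le hb)
  set S : Set GLM := {s | ∃ g ∈ X, ∃ x, (x ∈ eSpace G a ha.sq ∨ x ∈ eSpace G b hb.sq) ∧
    s = qel (eConj g x)} with hS
  have hsq : ∀ {g : GLM} {x : EndM}, (x ∈ eSpace G a ha.sq ∨ x ∈ eSpace G b hb.sq) →
      x * x = 0 ∧ qel x ∈ X ∧ eConj g x * eConj g x = 0 := by
    rintro g x (h | h)
    · exact ⟨h.1.1, le_sup_left (α := Subgroup GLM) (qel_mem_eGrp ha h), eConj_sq h.1.1⟩
    · exact ⟨h.1.1, le_sup_right (α := Subgroup GLM) (qel_mem_eGrp hb h), eConj_sq h.1.1⟩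
  have hSX : S ⊆ X := by
    rintro _ ⟨g, hg, x, hx, rfl⟩
    rw [← qel_conj (hsq (g := g) hx).1]
    exact mul_mem (mul_mem hg (hsq (g := g) hx).2.1) (inv_mem hg)
  have hnil : UNil S := by
    refine uNil_of_pairs ?_ ?_
    · rintro _ ⟨g, hg, x, hx, rfl⟩ _ ⟨g', hg', y, hy, rfl⟩
      refine uNil_pair_of_nilpotent (hsq hx).2.2 (hsq hy).2.2 ?_
      rcases eq_or_ne x 0 with hx0 | hx0
      · simp [hx0, eConj_zero]
      rcases eq_or_ne y 0 with hy0 | hy0
      · simp [hy0, eConj_zero]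
      by_contra hz
      have qx : QMin G (eConj g x) := by
        rcases hx with h | h
        · exact (eSpace_data ha h hx0).1.conj (hXG hg)
        · exact (eSpace_data hb h hx0).1.conj (hXG hg)
      have qy : QMin G (eConj g' y) := by
        rcases hy with h | h
        · exact (eSpace_data ha h hy0).1.conj (hXG hg')
        · exact (eSpace_data hb h hy0).1.conj (hXG hg')
      exact unlinked_conjugates ha hb hK hg hg' hx hy hx0 hy0 (linked_of_not_nilpotent h2 h3 qx qy hz)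
    · intro s hs d hd
      obtain ⟨g, hg, x, hx, rfl⟩ := hd
      exact ⟨s * g, mul_mem (hSX hs) hg, x, hx, by rw [qel_conj (hsq hx).2.2, eConj_comp]⟩
  have hgen : X = Subgroup.closure S := by
    refine le_antisymm (sup_le ?_ ?_) ((Subgroup.closure_le _).2 hSX)
    · rintro _ ⟨x, hx, rfl⟩
      exact Subgroup.subset_closure ⟨1, one_mem _, x, Or.inl hx, by rw [eConj_one]⟩
    · rintro _ ⟨x, hx, rfl⟩
      exact Subgroup.subset_closure ⟨1, one_mem _, x, Or.inr hx, by rw [eConj_one]⟩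
  rw [hgen]
  exact unipotent_of_uNil hnil

theorem linked_of_not_unipotent (h2 : (2 : k) ≠ 0) (h3 : Nat.card k ≠ 3) (ha : QMin G a)
    (hb : QMin G b) : Linked a b ↔ ¬ IsUnipotentOn (eGrp G a ha ⊔ eGrp G b hb) := by
  constructor
  · intro hl hu
    refine not_nilpotent_of_linked ha hl (nilpotent_of_mem_uAlg ?_ (z_mem_uAlg ha.sq hb.sq))
    refine uNil_of_unipotent hu ?_
    rintro g (rfl | rfl)
    · exact le_sup_left (α := Subgroup GLM) (qel_self_mem_eGrp ha)
    · exact le_sup_right (α := Subgroup GLM) (qel_self_mem_eGrp hb)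
  · intro h
    by_contra hl
    exact h (unipotent_of_not_linked h2 h3 ha hb hl)

end unlinked

section linked

variable {a b : Module.End k M}

theorem rU_special {R : Type*} [CommRing R] :
    (rL (1 : R))⁻¹ * rU 1 * rL 1 = (rU 1)⁻¹ * (rL 1)⁻¹ * rU 1 := by
  apply Subtype.ext
  rw [rU_inv, rL_inv]
  simp only [Matrix.SpecialLinearGroup.coe_mul, rU_val, rL_val]
  ext i j
  fin_cases i <;> fin_cases j <;> simp [Matrix.mul_apply, Fin.sum_univ_two]

/-- The root elements coming from the pair. -/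
theorem phi_mem_eSpace (ha : QMin G a) (hb : QMin G b) (D : PairData a b)
    (htop : D.Hbar = ⊤) (hmap : D.Hbar.map D.rho = pH a b) (r : D.R) :
    a * D.phi r ∈ eSpace G a ha.sq ∧ b * D.phi r ∈ eSpace G b hb.sq ∧
      D.rho (rU r) = qel (a * D.phi r) ∧
      D.rho (rL (AdjoinRoot.root D.P * r)) = qel (b * D.phi r) := by
  have hmem : ∀ g, D.rho g ∈ G := fun g => pH_le ha.1 hb.1 (hmap ▸ ⟨g, by rw [htop]; trivial, rfl⟩)
  have hsa : ∀ r : D.R, (a * D.phi r) * (a * D.phi r) = 0 := fun r => by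
    rw [mul_assoc, ← mul_assoc (D.phi r), (D.comm_phi_a r).eq, mul_assoc a (D.phi r),
      ← mul_assoc a a, ha.sq, zero_mul]
  have hsb : ∀ r : D.R, (b * D.phi r) * (b * D.phi r) = 0 := fun r => by
    rw [mul_assoc, ← mul_assoc (D.phi r), (D.comm_phi_b r).eq, mul_assoc b (D.phi r),
      ← mul_assoc b b, hb.sq, zero_mul]
  have ea : ∀ r : D.R, D.rho (rU r) = qel (a * D.phi r) := by
    intro r
    refine (qel_eq_of_val (hsa r) ?_).symm
    have : ((rU r : Matrix.SpecialLinearGroup (Fin 2) D.R) : Matrix (Fin 2) (Fin 2) D.R) =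
        1 + !![0, r; 0, 0] := by
      rw [rU_val, Matrix.one_fin_two]; ext i j; fin_cases i <;> fin_cases j <;> simp
    rw [D.rho_val, this, D.Phi_add, D.Phi_one, D.Phi_e12]
    abel
  have eb : ∀ r : D.R, D.rho (rL (AdjoinRoot.root D.P * r)) = qel (b * D.phi r) := by
    intro r
    refine (qel_eq_of_val (hsb r) ?_).symm
    have : ((rL (AdjoinRoot.root D.P * r) : Matrix.SpecialLinearGroup (Fin 2) D.R) :
        Matrix (Fin 2) (Fin 2) D.R) = 1 + !![0, 0; AdjoinRoot.root D.P * r, 0] := by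
      rw [rL_val, Matrix.one_fin_two]; ext i j; fin_cases i <;> fin_cases j <;> simp
    rw [D.rho_val, this, D.Phi_add, D.Phi_one, D.Phi_e21]
    abel
  refine ⟨⟨⟨hsa r, fun c => ?_⟩, ?_, ?_⟩, ⟨⟨hsb r, fun c => ?_⟩, ?_, ?_⟩, ea r, eb r⟩
  · rw [← mul_smul_comm, ← D.phi_smul, ← ea]; exact hmem _
  · exact LinearMap.range_comp_le_range _ _
  · intro m hm
    rw [← (D.comm_phi_a r).eq, LinearMap.mem_ker, Module.End.mul_apply, LinearMap.mem_ker.1 hm, map_zero]
  · rw [← mul_smul_comm, ← D.phi_smul, ← eb]; exact hmem _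
  · exact LinearMap.range_comp_le_range _ _
  · intro m hm
    rw [← (D.comm_phi_b r).eq, LinearMap.mem_ker, Module.End.mul_apply, LinearMap.mem_ker.1 hm, map_zero]

theorem linked_exists_partner (h2 : (2 : k) ≠ 0) (h3 : Nat.card k ≠ 3) (ha : QMin G a)
    (hb : QMin G b) (hl : Linked a b) {α : GLM} (hα : α ∈ eGrp G a ha) (hα1 : α ≠ 1) :
    ∃ β ∈ eGrp G b hb, β ≠ 1 ∧ β⁻¹ * α * β = α⁻¹ * β⁻¹ * α := by
  obtain ⟨x, hx, rfl⟩ := hα
  have hx0 : x ≠ 0 := fun h => hα1 (by rw [h, qel_zero])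
  obtain ⟨hxm, hxr, hxk⟩ := eSpace_data ha hx hx0
  have hl' : Linked x b := (linked_congr hxr hxk rfl rfl).2 hl
  obtain ⟨D⟩ := exists_pairData hxm.sq hb.sq
  obtain ⟨-, hA, -, htop, hmap⟩ := pair_structure h2 h3 hxm hb D (not_nilpotent_of_linked hxm hl')
  obtain ⟨-, hmb, -, hβ⟩ := phi_mem_eSpace hxm hb D htop hmap D.rinv
  obtain ⟨-, -, hU, -⟩ := phi_mem_eSpace hxm hb D htop hmap 1
  rw [D.root_rinv] at hβ
  have hx1 : x * D.phi 1 = x := by
    rw [D.phi_one]; rw [mul_sub, mul_one, sub_eq_zero] at hA; exact hA.symm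
  rw [hx1] at hU
  refine ⟨D.rho (rL 1), hβ ▸ qel_mem_eGrp hb hmb, fun h => ?_, ?_⟩
  · have hinj := D.rho_injective (h.trans (map_one D.rho).symm)
    haveI : Nontrivial D.R := nontrivial_of_ne _ _ (fun e : (D.rinv) = 0 => by
      have hp : D.pi = 0 := by rw [← D.phi_one, ← D.root_rinv, e, mul_zero, D.phi_zero]
      rw [D.phi_one, hp, mul_zero] at hx1
      exact hx0 hx1.symm)
    have := congrFun (congrFun (congrArg Subtype.val hinj) 1) 0
    simp [rL_val] at this
  · rw [← hU]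
    simp only [← map_inv, ← map_mul, rU_special]

theorem linked_conj_eq (ha : QMin G a) (hb : QMin G b) {α β : GLM} (hα : α ∈ eGrp G a ha)
    (hβ : β ∈ eGrp G b hb) (hα1 : α ≠ 1) (hβ1 : β ≠ 1)
    (he : β⁻¹ * α * β = α⁻¹ * β⁻¹ * α) :
    conjBy (eGrp G a ha) β⁻¹ = conjBy (eGrp G b hb) α⁻¹ := by
  obtain ⟨x, hx, rfl⟩ := hα
  obtain ⟨y, hy, rfl⟩ := hβ
  have hx0 : x ≠ 0 := fun h => hα1 (by rw [h, qel_zero])
  have hy0 : y ≠ 0 := fun h => hβ1 (by rw [h, qel_zero])
  have hg1 : (qel y)⁻¹ ∈ G := inv_mem hy.1.mem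
  have hg2 : (qel x)⁻¹ ∈ G := inv_mem hx.1.mem
  rw [← eGrp_of_mem ha hx hx0, ← eGrp_of_mem hb hy hy0, conjBy_eGrp _ hg1, conjBy_eGrp _ hg2]
  have e : eConj (qel y)⁻¹ x = -eConj (qel x)⁻¹ y := by
    have h1 : (qel y)⁻¹ * qel x * (qel y)⁻¹⁻¹ = qel (eConj (qel y)⁻¹ x) := qel_conj hx.1.1
    have h2 : (qel x)⁻¹ * qel (-y) * (qel x)⁻¹⁻¹ = qel (eConj (qel x)⁻¹ (-y)) :=
      qel_conj (by rw [neg_mul_neg, hy.1.1])
    rw [inv_inv, he] at h1
    rw [inv_inv, ← qel_inv hy.1.1, h1] at h2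
    have h3 := congrArg udif h2
    rwa [udif_qel (eConj_sq hx.1.1), udif_qel (eConj_sq (by rw [neg_mul_neg, hy.1.1])), eConj_neg] at h3
  refine eGrp_congr ?_ ?_
  · rw [e, LinearMap.range_neg]
  · rw [e]
    ext m; simp

theorem linked_inf (ha : QMin G a) (hb : QMin G b) (hl : Linked a b) :
    IsCompl (LinearMap.ker a ⊓ LinearMap.ker b) (LinearMap.range a ⊔ LinearMap.range b) := by
  have hd : Disjoint (LinearMap.ker a ⊓ LinearMap.ker b) (LinearMap.range a ⊔ LinearMap.range b) := by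
    rw [disjoint_iff, eq_bot_iff]
    rintro v ⟨⟨hva, hvb⟩, hv⟩
    obtain ⟨p, hp, q, hq, rfl⟩ := Submodule.mem_sup.1 hv
    have hq0 : q = 0 := by
      have : q ∈ LinearMap.range b ⊓ LinearMap.ker a := ⟨hq, by
        have := LinearMap.mem_ker.1 (range_le_ker_of_sq ha.sq hp)
        have h1 := LinearMap.mem_ker.1 hva
        rw [map_add, this, zero_add] at h1
        exact h1⟩
      rwa [hl.2, Submodule.mem_bot] at this
    have hp0 : p = 0 := by
      have : p ∈ LinearMap.range a ⊓ LinearMap.ker b := ⟨hp, by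
        have h1 := LinearMap.mem_ker.1 hvb
        rw [hq0, add_zero] at h1
        exact h1⟩
      rwa [hl.1, Submodule.mem_bot] at this
    rw [hp0, hq0, add_zero]; exact zero_mem _
  refine ⟨hd, codisjoint_iff.2 (Submodule.eq_top_of_finrank_eq ?_)⟩
  have h1 := Submodule.finrank_sup_add_finrank_inf_eq (LinearMap.ker a ⊓ LinearMap.ker b)
    (LinearMap.range a ⊔ LinearMap.range b)
  have h2 := Submodule.finrank_sup_add_finrank_inf_eq (LinearMap.ker a) (LinearMap.ker b)
  have h3 := Submodule.finrank_sup_add_finrank_inf_eq (LinearMap.range a) (LinearMap.range b)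
  have h4 := LinearMap.finrank_range_add_finrank_ker a
  have h5 := LinearMap.finrank_range_add_finrank_ker b
  have h6 := Submodule.finrank_le (LinearMap.ker a ⊔ LinearMap.ker b)
  have h7 : LinearMap.range a ⊓ LinearMap.range b = ⊥ :=
    eq_bot_iff.2 (hl.1 ▸ inf_le_inf_left _ (range_le_ker_of_sq hb.sq))
  have h8 := Submodule.finrank_le ((LinearMap.ker a ⊓ LinearMap.ker b) ⊔ (LinearMap.range a ⊔ LinearMap.range b))
  rw [h7, finrank_bot] at h3
  rw [hd.eq_bot, finrank_bot] at h1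
  omega

theorem linked_normalizer_trivial (hb : QMin G b) (ha : QMin G a)
    (hl : Linked a b) {u : GLM} (hu : u ∈ eGrp G b hb) (hn : conjBy (eGrp G a ha) u = eGrp G a ha) :
    u = 1 := by
  obtain ⟨y, hy, rfl⟩ := hu
  rw [conjBy_eGrp ha hy.1.mem] at hn
  have hr := (eGrp_inj hn).1
  rw [range_eConj] at hr
  by_contra hne
  have hy0 : y ≠ 0 := fun h => hne (by rw [h, qel_zero])
  obtain ⟨-, hyr, hyk⟩ := eSpace_data hb hy hy0
  refine ha.2.1 (LinearMap.ext fun m => ?_)
  have h1 : a m + y (a m) ∈ LinearMap.range a := by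
    rw [← hr]
    exact ⟨a m, ⟨m, rfl⟩, by rw [qel_val hy.1.1]; rfl⟩
  have h2 : y (a m) ∈ LinearMap.range b ⊓ LinearMap.ker a := by
    refine ⟨hyr ▸ ⟨a m, rfl⟩, range_le_ker_of_sq ha.sq ?_⟩
    simpa using sub_mem h1 (LinearMap.mem_range_self a m)
  rw [hl.2, Submodule.mem_bot] at h2
  have h3 : a m ∈ LinearMap.range a ⊓ LinearMap.ker b := ⟨⟨m, rfl⟩, hyk ▸ LinearMap.mem_ker.2 h2⟩
  rwa [hl.1, Submodule.mem_bot] at h3

theorem linked_special (h2 : (2 : k) ≠ 0) (h3 : Nat.card k ≠ 3) (ha : QMin G a) (hb : QMin G b)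
    (hl : Linked a b) : IsSpecialRankOnePair (eGrp G a ha) (eGrp G b hb) := by
  have hcond : ∀ {a b : EndM} (ha : QMin G a) (hb : QMin G b), Linked a b →
      RankOneCondition (eGrp G a ha) (eGrp G b hb) := by
    intro a b ha hb hl α hα hα1
    obtain ⟨β, hβ, hβ1, he⟩ := linked_exists_partner h2 h3 ha hb hl hα hα1
    exact ⟨β, hβ, hβ1, linked_conj_eq ha hb hα hβ hα1 hβ1 he⟩
  refine ⟨⟨fun e => ?_, eGrp_nilpotent ha, eGrp_nilpotent hb, hcond ha hb hl, hcond hb ha hl.symm⟩, ?_⟩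
  · have hm : LinearMap.range a ≤ LinearMap.ker b :=
      (eGrp_inj e).2 ▸ range_le_ker_of_sq ha.sq
    rw [Linked, inf_eq_left.2 hm, LinearMap.range_eq_bot] at hl
    exact ha.2.1 hl.1
  · intro α hα hα1 β hβ hβ1 he
    obtain ⟨β', hβ', hβ'1, he'⟩ := linked_exists_partner h2 h3 ha hb hl hα hα1
    have h4 := linked_conj_eq ha hb hα hβ' hα1 hβ'1 he'
    rw [← he] at h4
    have h5 : conjBy (eGrp G a ha) (β * β'⁻¹) = eGrp G a ha := by
      rw [conjBy_mul, h4, conjBy_conjBy_inv]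
    have h6 := linked_normalizer_trivial hb ha hl (mul_mem hβ (inv_mem hβ')) h5
    rw [mul_inv_eq_one] at h6
    rwa [h6]

theorem linked_involution (h2 : (2 : k) ≠ 0) (h3 : Nat.card k ≠ 3) (ha : QMin G a) (hb : QMin G b)
    (hl : Linked a b) :
    ∃! i : GLM, i ∈ eGrp G a ha ⊔ eGrp G b hb ∧ i ≠ 1 ∧ i * i = 1 ∧
      (∀ x ∈ eGrp G a ha ⊔ eGrp G b hb, i * x = x * i) ∧
      (∀ m ∈ commutatorSubmodule (eGrp G a ha ⊔ eGrp G b hb), (i : M →ₗ[k] M) m = -m) ∧
      (∀ m ∈ fixedSubmodule (eGrp G a ha ⊔ eGrp G b hb), (i : M →ₗ[k] M) m = m) := by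
  obtain ⟨D⟩ := exists_pairData ha.sq hb.sq
  obtain ⟨hirr, hA, hB, htop, hmap⟩ := pair_structure h2 h3 ha hb D (not_nilpotent_of_linked ha hl)
  rw [mul_sub, mul_one, sub_eq_zero] at hA hB
  set X := eGrp G a ha ⊔ eGrp G b hb with hX
  rw [commutator_sup, fixed_sup]
  set C := LinearMap.ker a ⊓ LinearMap.ker b
  set W := LinearMap.range a ⊔ LinearMap.range b
  have hc := linked_inf ha hb hl
  have hpiW : ∀ m ∈ W, D.pi m = m := by
    intro m hm
    obtain ⟨_, ⟨p, rfl⟩, _, ⟨q, rfl⟩, rfl⟩ := Submodule.mem_sup.1 hm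
    rw [map_add, ← Module.End.mul_apply, ← Module.End.mul_apply D.pi b, D.comm_pi_a.eq,
      D.comm_pi_b.eq, ← hA, ← hB]
  have hpiC : ∀ m ∈ C, D.pi m = 0 := by
    intro m hm
    have hz : D.z m = 0 := by
      show a (b m) + b (a m) = 0
      rw [LinearMap.mem_ker.1 hm.1, LinearMap.mem_ker.1 hm.2, map_zero, map_zero, add_zero]
    have e : D.pi = D.phi D.rinv * D.z := by
      rw [← D.phi_pi D.rinv, mul_assoc, D.comm_pi_z.eq, ← D.phi_root, ← D.phi_mul, mul_comm,
        D.root_rinv, D.phi_one]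
    rw [e, Module.End.mul_apply, hz, map_zero]
  have hext : ∀ {f g : EndM}, (∀ m ∈ C, f m = g m) → (∀ m ∈ W, f m = g m) → f = g := by
    intro f g h1 h2
    ext m
    obtain ⟨p, hp, q, hq, rfl⟩ := Submodule.mem_sup.1
      (show m ∈ C ⊔ W by rw [hc.sup_eq_top]; trivial)
    rw [map_add, map_add, h1 p hp, h2 q hq]
  set m1 : Matrix.SpecialLinearGroup (Fin 2) D.R :=
    ⟨-1, by simp [Matrix.det_neg]⟩ with hm1
  have hval : (D.rho m1 : EndM) = 1 - 2 • D.pi := by
    rw [D.rho_val]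
    have : D.Phi ((m1 : Matrix.SpecialLinearGroup (Fin 2) D.R) : Matrix (Fin 2) (Fin 2) D.R) = -D.pi := by
      have h := D.Phi_add (-1) 1
      rw [neg_add_cancel, D.Phi_zero, D.Phi_one] at h
      exact eq_neg_of_add_eq_zero_left h.symm
    rw [this, two_nsmul]; abel
  have hiX : D.rho m1 ∈ X := by
    have : D.rho m1 ∈ pH a b := hmap ▸ ⟨m1, by rw [htop]; trivial, rfl⟩
    refine (Subgroup.closure_le X).2 ?_ this
    rintro _ (⟨c, rfl⟩ | ⟨c, rfl⟩)
    · exact le_sup_left (α := Subgroup GLM) (qel_mem_eGrp ha (Submodule.smul_mem _ c (self_mem_eSpace ha)))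
    · exact le_sup_right (α := Subgroup GLM) (qel_mem_eGrp hb (Submodule.smul_mem _ c (self_mem_eSpace hb)))
  have hW : ∀ m ∈ W, (D.rho m1 : EndM) m = -m := by
    intro m hm
    rw [hval, LinearMap.sub_apply, Module.End.one_apply, LinearMap.smul_apply, hpiW m hm, two_nsmul]
    abel
  have hCv : ∀ m ∈ C, (D.rho m1 : EndM) m = m := by
    intro m hm
    rw [hval, LinearMap.sub_apply, Module.End.one_apply, LinearMap.smul_apply, hpiC m hm, smul_zero,
      sub_zero]
  refine ⟨D.rho m1, ⟨hiX, ?_, ?_, ?_, hW, hCv⟩, ?_⟩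
  · intro h
    have h' := hW (a.comp (LinearMap.id : M →ₗ[k] M) 0) (by simp)
    refine ha.2.1 (LinearMap.ext fun m => ?_)
    have h1 := hW (a m) (Submodule.mem_sup_left ⟨m, rfl⟩)
    rw [h, Units.val_one, Module.End.one_apply, eq_neg_iff_add_eq_zero, ← two_smul k] at h1
    exact (smul_eq_zero.1 h1).resolve_left h2
  · refine Units.ext (hext (fun m hm => ?_) (fun m hm => ?_))
    · rw [Units.val_mul, Module.End.mul_apply, hCv m hm, hCv m hm, Units.val_one, Module.End.one_apply]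
    · rw [Units.val_mul, Module.End.mul_apply, hW m hm, map_neg, hW m hm, neg_neg, Units.val_one,
        Module.End.one_apply]
  · intro x hx
    have hxC : ∀ m ∈ C, (x : EndM) m = m := fun m hm => fix_vector hm hx
    have hxW : ∀ m ∈ W, (x : EndM) m ∈ W := by
      intro m hm
      have h := (sup_le ((eGrp_le_actGroup ha).trans (actGroup_mono (bot_le) le_sup_left))
        ((eGrp_le_actGroup hb).trans (actGroup_mono (bot_le) (le_sup_right (a := LinearMap.range a)))) hx).2
      have : (x : EndM) m = m + udif x m := by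
        rw [udif, LinearMap.sub_apply, Module.End.one_apply, add_sub_cancel]
      rw [this]
      exact add_mem hm (h ⟨m, rfl⟩)
    refine Units.ext (hext (fun m hm => ?_) (fun m hm => ?_))
    · rw [Units.val_mul, Units.val_mul, Module.End.mul_apply, Module.End.mul_apply, hxC m hm,
        hCv m hm, hxC m hm]
    · rw [Units.val_mul, Units.val_mul, Module.End.mul_apply, Module.End.mul_apply, hW m hm,
        hW _ (hxW m hm), map_neg]
  · rintro j ⟨-, -, -, -, j1, j2⟩
    exact Units.ext (hext (fun m hm => (j2 m hm).trans (hCv m hm).symm)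
      (fun m hm => (j1 m hm).trans (hW m hm).symm))

end linked

end CfsgLib.ThreeTransp
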