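import Mathlib
import Cfsg.Agent.Lib.ThreeTransp.QuadPairGroup

/-!
Two minimal quadratic families generating a unipotent group: all products of three of them vanish.
-/

set_option autoImplicit false
set_option linter.unusedSectionVars false

namespace CfsgLib.ThreeTransp

open Cfsg

variable {k : Type*} [Field k] {M : Type*} [AddCommGroup M] [Module k M]

local notation "GLM" => LinearMap.GeneralLinearGroup k M
local notation "EndM" => Module.End k M

/-- The span of two endomorphisms. -/
noncomputable def wSpan (a b : Module.End k M) : Submodule k (Module.End k M) :=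
  Submodule.span k {a, b}

/-- The filtration by word length. -/
noncomputable def wF (a b : Module.End k M) (j : ℕ) : Submodule k (Module.End k M) :=
  ⨆ i : ℕ, wSpan a b ^ (j + i)

theorem wSpan_swap (a b : EndM) : wSpan a b = wSpan b a := by rw [wSpan, wSpan, Set.pair_comm]

theorem wF_swap (a b : EndM) (j : ℕ) : wF a b j = wF b a j := by rw [wF, wF, wSpan_swap]

theorem wF_le {a b : EndM} {j l : ℕ} (h : j ≤ l) : wF a b l ≤ wF a b j := by
  obtain ⟨t, rfl⟩ := Nat.le.dest h
  exact iSup_le fun i => le_iSup_of_le (t + i) (by rw [add_assoc])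

theorem pow_le_wF (a b : EndM) (j : ℕ) : wSpan a b ^ j ≤ wF a b j :=
  le_iSup_of_le 0 (by rw [add_zero])

theorem wF_mul (a b : EndM) (i j : ℕ) : wF a b i * wF a b j ≤ wF a b (i + j) := by
  rw [wF, wF, Submodule.iSup_mul]
  refine iSup_le fun p => ?_
  rw [Submodule.mul_iSup]
  refine iSup_le fun q => le_iSup_of_le (p + q) (le_of_eq ?_)
  rw [← pow_add]
  congr 1
  omega

theorem wF_mul_mem {a b x y : EndM} {i j l : ℕ} (hx : x ∈ wF a b i) (hy : y ∈ wF a b j)
    (hl : l ≤ i + j) : x * y ∈ wF a b l :=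
  wF_le hl (wF_mul a b i j (Submodule.mul_mem_mul hx hy))

theorem left_mem_wF (a b : EndM) : a ∈ wF a b 1 := pow_le_wF a b 1 (by
  rw [pow_one]; exact Submodule.subset_span (Or.inl rfl))

theorem right_mem_wF (a b : EndM) : b ∈ wF a b 1 := by rw [wF_swap]; exact left_mem_wF b a

theorem wF_eq_bot {a b : EndM} {j : ℕ} (h : wSpan a b ^ j = ⊥) : wF a b j = ⊥ :=
  le_bot_iff.1 (iSup_le fun i => by rw [pow_add, h, Submodule.bot_mul])

theorem wF_eq {a b : EndM} {j : ℕ} (h : wSpan a b ^ (j + 1) = ⊥) : wF a b j = wSpan a b ^ j := by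
  refine le_antisymm (iSup_le fun i => ?_) (pow_le_wF a b j)
  rcases i with _ | i
  · rw [add_zero]
  · rw [show j + (i + 1) = (j + 1) + i by ring, pow_add, h, Submodule.bot_mul]; exact bot_le

theorem pH_udif_mem {a b : EndM} (ha : a * a = 0) (hb : b * b = 0) {g : GLM} (hg : g ∈ pH a b) :
    udif g ∈ wF a b 1 := by
  refine pH_induction ha hb (p := fun g => udif g ∈ wF a b 1) ?_ ?_ ?_ hg
  · simp [udif]
  · intro c h _ ih
    rw [udif_mul, udif_qel (smul_sq_zero ha c)]
    exact add_mem (add_mem (wF_mul_mem (Submodule.smul_mem _ c (left_mem_wF a b)) ih (by omega))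
      (Submodule.smul_mem _ c (left_mem_wF a b))) ih
  · intro c h _ ih
    rw [udif_mul, udif_qel (smul_sq_zero hb c)]
    exact add_mem (add_mem (wF_mul_mem (Submodule.smul_mem _ c (right_mem_wF a b)) ih (by omega))
      (Submodule.smul_mem _ c (right_mem_wF a b))) ih

/-- The commutator step. -/
theorem commutator_weight {a b : EndM} (ha : a * a = 0) (hb : b * b = 0) {g : GLM} (hg : g ∈ pH a b)
    {x P : EndM} (hx : x * x = 0) (hxF : x ∈ wF a b 1) {j : ℕ} (hP : P ∈ wF a b j)
    (hgP : udif g - P ∈ wF a b (j + 1)) :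
    eConj g x - x - (P * x - x * P) ∈ wF a b (j + 2) ∧
      udif (g * qel x * g⁻¹ * (qel x)⁻¹) - (P * x - x * P) ∈ wF a b (j + 2) := by
  set U := udif g with hU
  have hG' : udif g⁻¹ ∈ wF a b 1 := pH_udif_mem ha hb (inv_mem hg)
  have hUj : U ∈ wF a b j := by
    have := add_mem hP (wF_le (by omega : j ≤ j + 1) hgP)
    rwa [add_sub_cancel] at this
  have e1 : eConj g x - x = (U * x - x * U) + (U * x - x * U) * udif g⁻¹ := by
    have e : eConj g x - x = ((g : EndM) * x - x * (g : EndM)) * ((g⁻¹ : GLM) : EndM) := by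
      rw [sub_mul, mul_assoc x, Units.mul_inv, mul_one, eConj]
    rw [e, hU, udif, udif]
    noncomm_ring
  have hc : U * x - x * U - (P * x - x * P) ∈ wF a b (j + 2) := by
    have e : U * x - x * U - (P * x - x * P) = (U - P) * x - x * (U - P) := by noncomm_ring
    rw [e]
    exact sub_mem (wF_mul_mem hgP hxF (by omega)) (wF_mul_mem hxF hgP (by omega))
  have hc2 : U * x - x * U ∈ wF a b (j + 1) :=
    sub_mem (wF_mul_mem hUj hxF le_rfl) (wF_mul_mem hxF hUj (by omega))
  have h1 : eConj g x - x - (P * x - x * P) ∈ wF a b (j + 2) := by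
    rw [e1, add_sub_right_comm]
    exact add_mem hc (wF_mul_mem hc2 hG' le_rfl)
  refine ⟨h1, ?_⟩
  have hc3 : eConj g x - x ∈ wF a b (j + 1) := by
    have h := add_mem (wF_le (by omega : j + 1 ≤ j + 2) h1)
      (sub_mem (wF_mul_mem hP hxF le_rfl) (wF_mul_mem hxF hP (by omega)) : P * x - x * P ∈ wF a b (j + 1))
    rwa [sub_add_cancel] at h
  have e2 : udif (g * qel x * g⁻¹ * (qel x)⁻¹) = (eConj g x - x) - (eConj g x - x) * x := by
    rw [qel_conj hx, qel_inv hx, udif, Units.val_mul, qel_val (eConj_sq hx),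
      qel_val (by rw [neg_mul_neg, hx]), sub_mul (eConj g x), hx, sub_zero]
    noncomm_ring
  rw [e2, sub_right_comm]
  exact sub_mem h1 (wF_mul_mem hc3 hxF le_rfl)

theorem pow_odd_le {a b : EndM} (ha : a * a = 0) (hb : b * b = 0) :
    ∀ m : ℕ, wSpan a b ^ (2 * m + 1) ≤ Submodule.span k {a * (a * b + b * a) ^ m, b * (a * b + b * a) ^ m} ∧
      wSpan a b ^ (2 * m + 2) ≤
        Submodule.span k {a * b * (a * b + b * a) ^ m, b * a * (a * b + b * a) ^ m} := by
  set z := a * b + b * a with hz
  have za : z * a = a * z := by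
    rw [hz, add_mul, mul_add, mul_assoc b a a, ha, ← mul_assoc a a b, ha]; simp [mul_assoc]
  have zb : z * b = b * z := by
    rw [hz, add_mul, mul_add, mul_assoc a b b, hb, ← mul_assoc b b a, hb]; simp [mul_assoc]
  have cz : ∀ (m : ℕ), z ^ m * a = a * z ^ m ∧ z ^ m * b = b * z ^ m := fun m =>
    ⟨(Commute.pow_left za m).eq, (Commute.pow_left zb m).eq⟩
  have step1 : ∀ m, wSpan a b ^ (2 * m + 1) ≤ Submodule.span k {a * z ^ m, b * z ^ m} →
      wSpan a b ^ (2 * m + 2) ≤ Submodule.span k {a * b * z ^ m, b * a * z ^ m} := by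
    intro m h
    rw [pow_succ']
    refine (mul_le_mul' le_rfl h).trans ?_
    rw [wSpan, Submodule.span_mul_span, Submodule.span_le]
    rintro _ ⟨p, hp, q, hq, rfl⟩
    rcases hp with rfl | rfl <;> rcases hq with rfl | rfl
    · show p * (p * z ^ m) ∈ Submodule.span k _
      rw [← mul_assoc, ha, zero_mul]; exact zero_mem _
    · exact Submodule.subset_span (Or.inl (mul_assoc _ _ _).symm)
    · exact Submodule.subset_span (Or.inr (mul_assoc _ _ _).symm)
    · show p * (p * z ^ m) ∈ Submodule.span k _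
      rw [← mul_assoc, hb, zero_mul]; exact zero_mem _
  intro m
  induction m with
  | zero =>
    have h0 : wSpan a b ^ (2 * 0 + 1) ≤ Submodule.span k {a * z ^ 0, b * z ^ 0} := by
      rw [pow_zero, mul_one, mul_one, mul_zero, zero_add, pow_one, wSpan]
    exact ⟨h0, step1 0 h0⟩
  | succ m ih =>
    have h1 : wSpan a b ^ (2 * (m + 1) + 1) ≤ Submodule.span k {a * z ^ (m + 1), b * z ^ (m + 1)} := by
      rw [show 2 * (m + 1) + 1 = (2 * m + 2) + 1 by ring, pow_succ']
      refine (mul_le_mul' le_rfl ih.2).trans ?_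
      rw [wSpan, Submodule.span_mul_span, Submodule.span_le]
      rintro _ ⟨p, hp, q, hq, rfl⟩
      rcases hp with rfl | rfl <;> rcases hq with rfl | rfl
      · show p * (p * b * z ^ m) ∈ Submodule.span k _
        rw [← mul_assoc, ← mul_assoc, ha]; simp
      · refine Submodule.subset_span (Or.inl ?_)
        show p * (b * p * z ^ m) = p * z ^ (m + 1)
        rw [pow_succ', ← mul_assoc p z, hz, mul_add, ← mul_assoc p p, ha, zero_mul, zero_add]
        simp [mul_assoc]
      · refine Submodule.subset_span (Or.inr ?_)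
        show p * (a * p * z ^ m) = p * z ^ (m + 1)
        rw [pow_succ', ← mul_assoc p z, hz, mul_add, ← mul_assoc p p, hb, zero_mul, add_zero]
        simp [mul_assoc]
      · show p * (p * a * z ^ m) ∈ Submodule.span k _
        rw [← mul_assoc, ← mul_assoc, hb]; simp
    exact ⟨h1, step1 _ h1⟩

/-- The elements of weight `2 m + 1` and `2 m + 2`. -/
theorem exists_weight {a b : EndM} (ha : a * a = 0) (hb : b * b = 0) (m : ℕ) :
    (∃ g ∈ pH a b, udif g - (2 : k) ^ m • (a * (a * b + b * a) ^ m) ∈ wF a b (2 * m + 2)) ∧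
    (∃ g ∈ pH a b, udif g - (2 : k) ^ m • ((a * b - b * a) * (a * b + b * a) ^ m) ∈ wF a b (2 * m + 3)) ∧
    a * (a * b + b * a) ^ m ∈ wF a b (2 * m + 1) ∧
    (a * b - b * a) * (a * b + b * a) ^ m ∈ wF a b (2 * m + 2) := by
  set z := a * b + b * a with hz
  have za : z * a = a * z := by
    rw [hz, add_mul, mul_add, mul_assoc b a a, ha, ← mul_assoc a a b, ha]; simp [mul_assoc]
  have zb : z * b = b * z := by
    rw [hz, add_mul, mul_add, mul_assoc a b b, hb, ← mul_assoc b b a, hb]; simp [mul_assoc]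
  have cz : ∀ (m : ℕ), z ^ m * a = a * z ^ m ∧ z ^ m * b = b * z ^ m := fun m =>
    ⟨(Commute.pow_left za m).eq, (Commute.pow_left zb m).eq⟩
  have hzF : z ∈ wF a b 2 :=
    add_mem (wF_mul_mem (left_mem_wF a b) (right_mem_wF a b) (by omega))
      (wF_mul_mem (right_mem_wF a b) (left_mem_wF a b) (by omega))
  have hpow : ∀ m : ℕ, a * z ^ m ∈ wF a b (2 * m + 1) ∧
      (a * b - b * a) * z ^ m ∈ wF a b (2 * m + 2) := by
    intro m
    induction m with
    | zero =>
      exact ⟨by simpa using left_mem_wF a b, by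
        simpa using sub_mem (wF_mul_mem (l := 2) (left_mem_wF a b) (right_mem_wF a b) (by omega))
          (wF_mul_mem (l := 2) (right_mem_wF a b) (left_mem_wF a b) (by omega))⟩
    | succ m ih =>
      rw [pow_succ, ← mul_assoc, ← mul_assoc]
      exact ⟨wF_mul_mem ih.1 hzF (by omega), wF_mul_mem ih.2 hzF (by omega)⟩
  have stepb : ∀ m : ℕ, (∃ g ∈ pH a b, udif g - (2 : k) ^ m • (a * z ^ m) ∈ wF a b (2 * m + 2)) →
      ∃ g ∈ pH a b, udif g - (2 : k) ^ m • ((a * b - b * a) * z ^ m) ∈ wF a b (2 * m + 3) := by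
    rintro m ⟨g, hg, hgP⟩
    have hqb : qel b ∈ pH a b := by simpa using qel_mem_pH_right a b 1
    refine ⟨_, mul_mem (mul_mem (mul_mem hg hqb) (inv_mem hg)) (inv_mem hqb), ?_⟩
    have h := (commutator_weight ha hb hg hb (right_mem_wF a b)
      (Submodule.smul_mem _ ((2 : k) ^ m) (hpow m).1) hgP).2
    rwa [smul_mul_assoc, mul_smul_comm, ← smul_sub, mul_assoc a, (cz m).2, ← mul_assoc a,
      ← mul_assoc b, ← sub_mul] at h
  have main : ∀ m : ℕ, ∃ g ∈ pH a b, udif g - (2 : k) ^ m • (a * z ^ m) ∈ wF a b (2 * m + 2) := by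
    intro m
    induction m with
    | zero =>
      refine ⟨qel a, by simpa using qel_mem_pH_left a b 1, ?_⟩
      rw [udif_qel ha]; simp
    | succ m ih =>
      obtain ⟨g, hg, hgP⟩ := stepb m ih
      have hqa : qel a ∈ pH a b := by simpa using qel_mem_pH_left a b 1
      refine ⟨_, mul_mem (mul_mem (mul_mem hg hqa) (inv_mem hg)) (inv_mem hqa), ?_⟩
      have h := (commutator_weight ha hb hg ha (left_mem_wF a b) (j := 2 * m + 2)
        (Submodule.smul_mem _ ((2 : k) ^ m) (hpow m).2) hgP).2
      have e : (2 : k) ^ m • ((a * b - b * a) * z ^ m) * a - a * ((2 : k) ^ m • ((a * b - b * a) * z ^ m)) =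
          (2 : k) ^ (m + 1) • (a * z ^ (m + 1)) := by
        have e1 : (a * b - b * a) * a - a * (a * b - b * a) = (2 : k) • (a * z) := by
          rw [hz, mul_add, two_smul, sub_mul, mul_sub, mul_assoc b a a, ha, ← mul_assoc a a b, ha]
          simp [mul_assoc]
        rw [smul_mul_assoc, mul_smul_comm, ← smul_sub, mul_assoc, (cz m).1, ← mul_assoc, ← mul_assoc a,
          ← sub_mul, e1, smul_mul_assoc, smul_smul, mul_assoc a z, ← pow_succ', ← pow_succ]
      rw [e] at h
      exact h
  exact ⟨main m, stepb m (main m), hpow m⟩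

variable [FiniteDimensional k M] {G : Subgroup (LinearMap.GeneralLinearGroup k M)}

/-- A root family from a commutator. -/
theorem qfam_commutator {a b : EndM} (ha : QFam G a) (hb : QFam G b) {g : GLM} (hg : g ∈ pH a b)
    {x : EndM} (hx : QFam G x) (h0 : (eConj g x - x) * x = 0)
    (h1 : (eConj g x - x) * (eConj g x - x) = 0) : QFam G (eConj g x - x) := by
  refine ⟨h1, fun c => ?_⟩
  have hgG := pH_le ha hb hg
  have e : qel (c • (eConj g x - x)) = g * qel (c • x) * g⁻¹ * (qel (c • x))⁻¹ := by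
    refine qel_eq_of_val (smul_sq_zero h1 c) ?_
    rw [qel_conj (smul_sq_zero hx.1 c), qel_inv (smul_sq_zero hx.1 c), Units.val_mul,
      qel_val (eConj_sq (smul_sq_zero hx.1 c)), qel_val (by rw [neg_mul_neg, smul_sq_zero hx.1 c]),
      eConj_smul, add_mul, one_mul, mul_add, mul_one, mul_neg, smul_mul_smul_comm]
    rw [sub_mul, hx.1, sub_zero] at h0
    rw [h0, smul_zero, neg_zero, add_zero, smul_sub]
    abel
  rw [e]
  exact mul_mem (mul_mem (mul_mem hgG (hx.2 c)) (inv_mem hgG)) (inv_mem (hx.2 c))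

theorem map_pow_eq_bot {f : EndM} (hf : IsNilpotent f) {p : Submodule k M} (h : p.map f = p) :
    p = ⊥ := by
  obtain ⟨n, hn⟩ := hf
  have : ∀ j : ℕ, p.map (f ^ j) = p := by
    intro j
    induction j with
    | zero => simp [Module.End.one_eq_id]
    | succ j ih =>
      rw [pow_succ, Module.End.mul_eq_comp, Submodule.map_comp, h, ih]
  rw [← this n, hn]
  simp

theorem range_mul_map (f g : EndM) : LinearMap.range (f * g) = (LinearMap.range g).map f := by
  rw [Module.End.mul_eq_comp, LinearMap.range_comp]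

/-- All products of three vanish. -/
theorem triple_zero (h2 : (2 : k) ≠ 0) {a b : EndM} (hGa : QMin G a) (hGb : QMin G b)
    (hz : IsNilpotent (a * b + b * a)) : wSpan a b ^ 3 = ⊥ := by
  classical
  have ha : a * a = 0 := hGa.1.1
  have hb : b * b = 0 := hGb.1.1
  by_contra h3
  -- the top
  have hex : ∃ L, wSpan a b ^ (L + 1) = ⊥ := by
    obtain ⟨N, hN⟩ := hz
    refine ⟨2 * N, le_bot_iff.1 (((pow_odd_le ha hb N).1).trans ?_)⟩
    simp [hN]
  obtain ⟨L, hL, hLmin⟩ : ∃ L, wSpan a b ^ (L + 1) = ⊥ ∧ wSpan a b ^ L ≠ ⊥ := by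
    have hf := Nat.find_spec hex
    refine ⟨Nat.find hex, hf, fun h => ?_⟩
    rcases hn : Nat.find hex with _ | t
    · rw [hn, zero_add, pow_one] at hf
      exact h3 (by rw [show 3 = 2 + 1 from rfl, pow_succ, hf, Submodule.mul_bot])
    · rw [hn] at h
      exact Nat.find_min hex (by rw [hn]; omega) h
  have hL3 : 3 ≤ L := by
    by_contra hlt
    refine h3 (le_bot_iff.1 ?_)
    rw [show 3 = (L + 1) + (2 - L) by omega, pow_add, hL, Submodule.bot_mul]
  set z := a * b + b * a with hzd
  have za : z * a = a * z := by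
    rw [hzd, add_mul, mul_add, mul_assoc b a a, ha, ← mul_assoc a a b, ha]; simp [mul_assoc]
  have zb : z * b = b * z := by
    rw [hzd, add_mul, mul_add, mul_assoc a b b, hb, ← mul_assoc b b a, hb]; simp [mul_assoc]
  rcases Nat.even_or_odd' L with ⟨n, hn | hn⟩
  · -- even top
    obtain ⟨m, rfl⟩ : ∃ m, n = m + 1 := ⟨n - 1, by omega⟩
    have hLm : L = 2 * m + 2 := by omega
    subst hLm
    have hm : 1 ≤ m := by omega
    have hbot : wF a b (2 * m + 3) = ⊥ := wF_eq_bot hL
    set y₁ := a * b * z ^ m with hy₁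
    set y₂ := b * a * z ^ m with hy₂
    -- the commutator element
    obtain ⟨⟨g, hg, hgP⟩, -, haF, hcF⟩ := exists_weight ha hb m
    have hd := (commutator_weight ha hb hg hb (right_mem_wF a b)
      (Submodule.smul_mem _ ((2 : k) ^ m) haF) hgP).1
    rw [hbot, Submodule.mem_bot, sub_eq_zero] at hd
    have hval : eConj g b - b = (2 : k) ^ m • (y₁ - y₂) := by
      rw [hd, smul_mul_assoc, mul_smul_comm, ← smul_sub, mul_assoc a, (Commute.pow_left zb m).eq,
        ← mul_assoc a, ← mul_assoc b]
    have hdF : eConj g b - b ∈ wF a b (2 * m + 2) := by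
      rw [hval, hy₁, hy₂, ← sub_mul]; exact Submodule.smul_mem _ _ hcF
    have hfam : QFam G (eConj g b - b) := by
      refine qfam_commutator hGa.1 hGb.1 hg hGb.1 ?_ ?_
      · have := wF_mul_mem (l := 2 * m + 3) hdF (right_mem_wF a b) le_rfl
        rwa [hbot, Submodule.mem_bot] at this
      · have := wF_mul_mem (l := 2 * m + 3) hdF hdF (by omega)
        rwa [hbot, Submodule.mem_bot] at this
    have hzero : eConj g b - b = 0 := by
      refine hGa.eq_zero_of_lt hfam ?_
      have hsub : LinearMap.range (eConj g b - b) ≤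
          LinearMap.range y₁ ⊔ LinearMap.range y₂ := by
        rintro _ ⟨v, rfl⟩
        rw [hval, LinearMap.smul_apply, LinearMap.sub_apply]
        exact Submodule.smul_mem _ _ (sub_mem (Submodule.mem_sup_left ⟨v, rfl⟩)
          (Submodule.mem_sup_right ⟨v, rfl⟩))
      refine lt_of_le_of_lt ((Submodule.finrank_mono hsub).trans
        (Submodule.finrank_add_le_finrank_add_finrank _ _)) ?_
      have e1 : y₁ = (z ^ m * a) * b := by
        rw [hy₁, mul_assoc, ← (Commute.pow_left zb m).eq, ← mul_assoc, (Commute.pow_left za m).eq]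
      have e2 : y₂ = (z ^ m * b) * a := by
        rw [hy₂, mul_assoc, ← (Commute.pow_left za m).eq, ← mul_assoc, (Commute.pow_left zb m).eq]
      set R₂ := (LinearMap.range a).map b with hR₂
      have hu1 : Module.finrank k (LinearMap.range y₁) + Module.finrank k R₂ ≤ erk b := by
        rw [e1, range_mul_map (z ^ m * a) b]
        have hle : R₂ ≤ LinearMap.range b := LinearMap.map_le_range
        have hker : R₂ ≤ LinearMap.ker (z ^ m * a) := by
          rintro _ ⟨v, ⟨u, rfl⟩, rfl⟩
          rw [LinearMap.mem_ker]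
          have h0 : z ^ m * a * b * a = 0 := by
            rw [mul_assoc, mul_assoc, show a * (b * a) = a * z from by
              rw [hzd, mul_add, ← mul_assoc a a, ha, zero_mul, zero_add], ← za, ← mul_assoc, ← pow_succ,
              (Commute.pow_left za (m + 1)).eq]
            have := (exists_weight ha hb (m + 1)).2.2.1
            rw [show 2 * (m + 1) + 1 = 2 * m + 3 by ring, hbot, Submodule.mem_bot] at this
            exact this
          exact LinearMap.congr_fun h0 u
        set f := (z ^ m * a).domRestrict (LinearMap.range b) with hf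
        have hr : LinearMap.range f = (LinearMap.range b).map (z ^ m * a) :=
          LinearMap.range_domRestrict _ _
        have hk : R₂.comap (LinearMap.range b).subtype ≤ LinearMap.ker f := fun v hv => hker hv
        have h1 := LinearMap.finrank_range_add_finrank_ker f
        have h2 := Submodule.finrank_mono hk
        rw [(Submodule.comapSubtypeEquivOfLe hle).finrank_eq] at h2
        rw [hr] at h1
        show _ ≤ Module.finrank k (LinearMap.range b)
        omega
      have hu2 : LinearMap.range y₂ = R₂.map (z ^ m) := by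
        rw [e2, mul_assoc, range_mul_map, range_mul_map, hR₂]
      rcases eq_or_ne R₂ ⊥ with h0 | h0
      · have hba : b * a = 0 := by
          rw [← LinearMap.range_eq_bot, range_mul_map]; exact h0
        have hy1 : y₁ = 0 := by
          obtain ⟨t, rfl⟩ : ∃ t, m = t + 1 := ⟨m - 1, by omega⟩
          rw [hy₁, pow_succ', ← mul_assoc, hzd, hba, add_zero, show a * b * (a * b) = a * (b * a) * b by
            simp [mul_assoc], hba]
          simp
        rw [hy1, hu2, h0]
        rw [Submodule.map_bot, LinearMap.range_zero, finrank_bot, add_zero]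
        exact Nat.pos_of_ne_zero fun h => hGa.2.1 (LinearMap.range_eq_bot.1 (Submodule.finrank_eq_zero.1 h))
      · have hinv : R₂.map (z ^ m) ≤ R₂ := by
          rintro _ ⟨_, ⟨_, ⟨u, rfl⟩, rfl⟩, rfl⟩
          refine ⟨a ((z ^ m) u), ⟨_, rfl⟩, ?_⟩
          show (b * a * z ^ m) u = (z ^ m * (b * a)) u
          rw [((Commute.pow_left zb m).mul_right (Commute.pow_left za m)).eq]
        have hlt : Module.finrank k (R₂.map (z ^ m)) < Module.finrank k R₂ := by
          refine Submodule.finrank_lt_finrank_of_lt (lt_of_le_of_ne hinv fun h => h0 ?_)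
          exact map_pow_eq_bot (hz.pow_of_pos (by omega)) h
        rw [hu2]
        have : erk b ≤ erk a := hGb.2.2 a hGa.1 hGa.2.1
        omega
    rw [hzero, eq_comm, smul_eq_zero, sub_eq_zero] at hval
    have hyy : y₁ = y₂ := hval.resolve_left (pow_ne_zero _ h2)
    have htop : wF a b (2 * m + 2) ≤ Submodule.span k {y₁} := by
      rw [wF_eq hL]
      refine ((pow_odd_le ha hb m).2).trans ?_
      rw [← hy₁, ← hy₂, ← hyy, Set.pair_eq_singleton]
    have hy0 : y₁ ≠ 0 := by
      intro h
      refine hLmin (le_bot_iff.1 ((pow_le_wF a b _).trans (htop.trans ?_)))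
      rw [h, Submodule.span_zero_singleton]
    -- the element one step below
    obtain ⟨t, rfl⟩ : ∃ t, m = t + 1 := ⟨m - 1, by omega⟩
    obtain ⟨-, ⟨g', hg', hgP'⟩, -, hcF'⟩ := exists_weight ha hb t
    have hd' := (commutator_weight ha hb hg' ha (left_mem_wF a b) (j := 2 * t + 2)
      (Submodule.smul_mem _ ((2 : k) ^ t) hcF') hgP').1
    set δ := eConj g' a - a with hδ
    have e : (2 : k) ^ t • ((a * b - b * a) * z ^ t) * a - a * ((2 : k) ^ t • ((a * b - b * a) * z ^ t)) =
        (2 : k) ^ (t + 1) • (a * z ^ (t + 1)) := by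
      have e1 : (a * b - b * a) * a - a * (a * b - b * a) = (2 : k) • (a * z) := by
        rw [hzd, mul_add, two_smul, sub_mul, mul_sub, mul_assoc b a a, ha, ← mul_assoc a a b, ha]
        simp [mul_assoc]
      rw [smul_mul_assoc, mul_smul_comm, ← smul_sub, mul_assoc, (Commute.pow_left za t).eq, ← mul_assoc,
        ← mul_assoc a, ← sub_mul, e1, smul_mul_assoc, smul_smul, mul_assoc a z, ← pow_succ', ← pow_succ]
    rw [e] at hd'
    obtain ⟨f, hf⟩ := Submodule.mem_span_singleton.1 (htop hd')
    have hδv : δ = (2 : k) ^ (t + 1) • (a * z ^ (t + 1)) + f • y₁ := by rw [hf]; abel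
    have hyR : f • y₁ ∈ wF a b (2 * (t + 1) + 2) := by rw [hf]; exact hd'
    have hδF : δ ∈ wF a b (2 * (t + 1) + 1) := by
      rw [hδv]
      exact add_mem (Submodule.smul_mem _ _ (exists_weight ha hb (t + 1)).2.2.1) (wF_le (by omega) hyR)
    have hδfam : QFam G δ := by
      refine qfam_commutator hGa.1 hGb.1 hg' hGa.1 ?_ ?_
      · rw [← hδ, hδv, add_mul, smul_mul_assoc, mul_assoc a, (Commute.pow_left za (t + 1)).eq,
          ← mul_assoc, ha, zero_mul, smul_zero, zero_add]
        have := wF_mul_mem (l := 2 * (t + 1) + 3) hyR (left_mem_wF a b) le_rfl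
        rwa [hbot, Submodule.mem_bot] at this
      · rw [← hδ]
        have := wF_mul_mem (l := 2 * (t + 1) + 3) hδF hδF (by omega)
        rwa [hbot, Submodule.mem_bot] at this
    have hδ0 : δ ≠ 0 := by
      intro h
      have h1 := congrArg (fun x => x * b) hδv
      simp only [h, zero_mul, add_mul] at h1
      have h2' : f • y₁ * b = 0 := by
        have := wF_mul_mem (l := 2 * (t + 1) + 3) hyR (right_mem_wF a b) le_rfl
        rwa [hbot, Submodule.mem_bot] at this
      rw [h2', add_zero, smul_mul_assoc, mul_assoc a, (Commute.pow_left zb (t + 1)).eq, ← mul_assoc,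
        ← hy₁, eq_comm, smul_eq_zero] at h1
      exact hy0 (h1.resolve_left (pow_ne_zero _ h2))
    have hr : LinearMap.range δ ≤ (LinearMap.range a).map (z ^ (t + 1)) := by
      rintro _ ⟨v, rfl⟩
      rw [hδv, LinearMap.add_apply, LinearMap.smul_apply, LinearMap.smul_apply]
      refine add_mem (Submodule.smul_mem _ _ ?_) (Submodule.smul_mem _ _ ?_)
      · exact ⟨a v, ⟨v, rfl⟩, LinearMap.congr_fun ((Commute.pow_left za (t + 1)).eq) v⟩
      · refine ⟨a (b v), ⟨b v, rfl⟩, ?_⟩
        show (z ^ (t + 1) * (a * b)) v = y₁ v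
        rw [((Commute.pow_left za (t + 1)).mul_right (Commute.pow_left zb (t + 1))).eq]
    refine hGa.2.1 (LinearMap.range_eq_bot.1 (map_pow_eq_bot (hz.pow_of_pos (n := t + 1) (by omega)) ?_))
    refine Submodule.eq_of_le_of_finrank_le ?_ ((hGa.2.2 δ hδfam hδ0).trans (Submodule.finrank_mono hr))
    rintro _ ⟨_, ⟨v, rfl⟩, rfl⟩
    exact ⟨(z ^ (t + 1)) v, LinearMap.congr_fun ((Commute.pow_left za (t + 1)).eq).symm v⟩
  · -- odd top
    subst hn
    have hm : 1 ≤ n := by omega
    have hbot : wF a b (2 * n + 2) = ⊥ := wF_eq_bot hL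
    have key : ∀ {a b : EndM}, QMin G a → QMin G b → IsNilpotent (a * b + b * a) →
        wF a b (2 * n + 2) = ⊥ → a * (a * b + b * a) ^ n = 0 := by
      intro a b hGa hGb hz hbot
      have ha : a * a = 0 := hGa.1.1
      have hb : b * b = 0 := hGb.1.1
      set z := a * b + b * a with hzd
      have za : z * a = a * z := by
        rw [hzd, add_mul, mul_add, mul_assoc b a a, ha, ← mul_assoc a a b, ha]; simp [mul_assoc]
      by_contra hne
      obtain ⟨t, rfl⟩ : ∃ t, n = t + 1 := ⟨n - 1, by omega⟩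
      obtain ⟨-, ⟨g', hg', hgP'⟩, -, hcF'⟩ := exists_weight ha hb t
      have hd' := (commutator_weight ha hb hg' ha (left_mem_wF a b) (j := 2 * t + 2)
        (Submodule.smul_mem _ ((2 : k) ^ t) hcF') hgP').1
      rw [show 2 * t + 2 + 2 = 2 * (t + 1) + 2 by ring, hbot, Submodule.mem_bot, sub_eq_zero] at hd'
      have hδv : eConj g' a - a = (2 : k) ^ (t + 1) • (a * z ^ (t + 1)) := by
        rw [hd']
        have e1 : (a * b - b * a) * a - a * (a * b - b * a) = (2 : k) • (a * z) := by
          rw [hzd, mul_add, two_smul, sub_mul, mul_sub, mul_assoc b a a, ha, ← mul_assoc a a b, ha]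
          simp [mul_assoc]
        rw [smul_mul_assoc, mul_smul_comm, ← smul_sub, mul_assoc, (Commute.pow_left za t).eq,
          ← mul_assoc, ← mul_assoc a, ← sub_mul, e1, smul_mul_assoc, smul_smul, mul_assoc a z,
          ← pow_succ', ← pow_succ]
      have haa : a * z ^ (t + 1) * a = 0 := by
        rw [mul_assoc, (Commute.pow_left za (t + 1)).eq, ← mul_assoc, ha, zero_mul]
      have hfam : QFam G (eConj g' a - a) := by
        refine qfam_commutator hGa.1 hGb.1 hg' hGa.1 ?_ ?_
        · rw [hδv, smul_mul_assoc, haa, smul_zero]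
        · rw [hδv, smul_mul_smul_comm, ← mul_assoc (a * z ^ (t + 1)), haa, zero_mul, smul_zero]
      have h0 : eConj g' a - a ≠ 0 := by
        rw [hδv]; exact smul_ne_zero (pow_ne_zero _ h2) hne
      have hr : LinearMap.range (eConj g' a - a) ≤ (LinearMap.range a).map (z ^ (t + 1)) := by
        rintro _ ⟨v, rfl⟩
        rw [hδv, LinearMap.smul_apply]
        exact Submodule.smul_mem _ _
          ⟨a v, ⟨v, rfl⟩, LinearMap.congr_fun ((Commute.pow_left za (t + 1)).eq) v⟩
      refine hGa.2.1 (LinearMap.range_eq_bot.1 (map_pow_eq_bot (hz.pow_of_pos (n := t + 1) (by omega)) ?_))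
      refine Submodule.eq_of_le_of_finrank_le ?_ ((hGa.2.2 _ hfam h0).trans (Submodule.finrank_mono hr))
      rintro _ ⟨_, ⟨v, rfl⟩, rfl⟩
      exact ⟨(z ^ (t + 1)) v, LinearMap.congr_fun ((Commute.pow_left za (t + 1)).eq).symm v⟩
    refine hLmin (le_bot_iff.1 (((pow_odd_le ha hb n).1).trans ?_))
    have k1 := key hGa hGb hz hbot
    have k2 := key hGb hGa (by rwa [add_comm]) (by rw [wF_swap]; exact hbot)
    rw [add_comm (b * a)] at k2
    rw [k1, k2]
    simp

/-- The two vanishing words. -/
theorem triple_zero_words (h2 : (2 : k) ≠ 0) {a b : EndM} (hGa : QMin G a) (hGb : QMin G b)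
    (hz : IsNilpotent (a * b + b * a)) : a * b * a = 0 ∧ b * a * b = 0 := by
  have h := triple_zero h2 hGa hGb hz
  have hA : a ∈ wSpan a b := Submodule.subset_span (Or.inl rfl)
  have hB : b ∈ wSpan a b := Submodule.subset_span (Or.inr rfl)
  rw [show 3 = 1 + 1 + 1 from rfl, pow_succ, pow_succ, pow_one] at h
  exact ⟨by simpa [h] using Submodule.mul_mem_mul (Submodule.mul_mem_mul hA hB) hA,
    by simpa [h] using Submodule.mul_mem_mul (Submodule.mul_mem_mul hB hA) hB⟩

end CfsgLib.ThreeTransp
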