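import Mathlib
import Cfsg.Agent.Lib.ThreeTransp.QuadLinked
import Cfsg.Agent.Lib.ThreeTransp.QuadUnip

/-!
Two classes generating a unipotent group: they commute or their commutators form a third class.
-/

set_option autoImplicit false
set_option linter.unusedSectionVars false

namespace CfsgLib.ThreeTransp

open Cfsg

variable {k : Type*} [Field k] {M : Type*} [AddCommGroup M] [Module k M] [FiniteDimensional k M]
variable {G : Subgroup (LinearMap.GeneralLinearGroup k M)}

local notation "GLM" => LinearMap.GeneralLinearGroup k M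
local notation "EndM" => Module.End k M

/-- `a b - b a`. -/
def eps (a b : Module.End k M) : Module.End k M := a * b - b * a

variable {a b x x' y y' : Module.End k M}

theorem eps_swap (a b : EndM) : eps b a = -eps a b := by simp [eps]

theorem not_linked_of_commute (h2 : (2 : k) ≠ 0) (ha : QMin G a) (hb : b * b = 0)
    (hc : a * b = b * a) : ¬ Linked a b := fun hl => by
  refine not_nilpotent_of_linked ha hl ⟨2, ?_⟩
  rw [pow_two, ← hc, ← two_smul k (a * b), smul_mul_smul_comm, mul_assoc, ← mul_assoc b a b, ← hc,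
    mul_assoc a b b, hb, mul_zero, mul_zero, smul_zero]

theorem pair_triple (h2 : (2 : k) ≠ 0) (h3 : Nat.card k ≠ 3) (ha : QMin G a) (hb : QMin G b)
    (hl : ¬ Linked a b) : a * b * a = 0 ∧ b * a * b = 0 := by
  refine triple_zero_words h2 ha hb ?_
  by_contra hz
  exact hl (linked_of_not_nilpotent h2 h3 ha hb hz)

theorem cross_zero (h2 : (2 : k) ≠ 0) (h3 : Nat.card k ≠ 3) (ha : QMin G a) (hb : QMin G b)
    (hl : ¬ Linked a b) (hx : x ∈ eSpace G a ha.sq) (hx' : x' ∈ eSpace G a ha.sq)
    (hy : y ∈ eSpace G b hb.sq) : x * y * x' = 0 := by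
  rcases eq_or_ne x 0 with rfl | hx0
  · simp
  rcases eq_or_ne y 0 with rfl | hy0
  · simp
  obtain ⟨hxm, hxr, hxk⟩ := eSpace_data ha hx hx0
  obtain ⟨hym, hyr, hyk⟩ := eSpace_data hb hy hy0
  have h := (pair_triple h2 h3 hxm hym fun h => hl ((linked_congr hxr hxk hyr hyk).1 h)).1
  refine mul_eq_zero_of_range_le (fun v hv => ?_)
  obtain ⟨m, rfl⟩ : v ∈ LinearMap.range x := by rw [hxr]; exact hx'.2.1 hv
  exact LinearMap.congr_fun h m

theorem eps_eq_eConj (ha : a * a = 0) (haba : a * b * a = 0) : eConj (qel a) b - b = eps a b := by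
  rw [eConj, qel_inv ha, qel_val ha, qel_val (by rw [neg_mul_neg, ha]), eps, add_mul, one_mul,
    mul_add, mul_one, mul_neg, add_mul b, haba]
  abel

theorem eps_sq (ha : a * a = 0) (hb : b * b = 0) (haba : a * b * a = 0) (hbab : b * a * b = 0) :
    eps a b * eps a b = 0 := by
  have t1 : a * b * (a * b) = 0 := by rw [← mul_assoc, haba, zero_mul]
  have t2 : a * b * (b * a) = 0 := by rw [← mul_assoc, mul_assoc a b b, hb, mul_zero, zero_mul]
  have t3 : b * a * (a * b) = 0 := by rw [← mul_assoc, mul_assoc b a a, ha, mul_zero, zero_mul]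
  have t4 : b * a * (b * a) = 0 := by rw [← mul_assoc, hbab, zero_mul]
  rw [eps, mul_sub, sub_mul, sub_mul, t1, t2, t3, t4]
  simp

theorem eps_qfam (ha : QFam G a) (hb : QFam G b) (haba : a * b * a = 0) (hbab : b * a * b = 0) :
    QFam G (eps a b) := by
  rw [← eps_eq_eConj ha.1 haba]
  refine qfam_commutator ha hb (by simpa using qel_mem_pH_left a b 1) hb ?_ ?_
  · rw [eps_eq_eConj ha.1 haba, eps, sub_mul, mul_assoc a b b, hb.1, mul_zero, zero_sub, hbab,
      neg_zero]
  · rw [eps_eq_eConj ha.1 haba]; exact eps_sq ha.1 hb.1 haba hbab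

theorem eps_commutator (ha : a * a = 0) (hb : b * b = 0) (haba : a * b * a = 0) (hbab : b * a * b = 0) :
    qel a * qel b * (qel a)⁻¹ * (qel b)⁻¹ = qel (eps a b) := by
  have hsq : eps a b * eps a b = 0 := eps_sq ha hb haba hbab
  refine (qel_eq_of_val hsq ?_).symm
  rw [qel_conj hb, qel_inv hb, Units.val_mul, qel_val (eConj_sq hb), qel_val (by rw [neg_mul_neg, hb]),
    show eConj (qel a) b = b + eps a b by rw [← eps_eq_eConj ha haba, add_sub_cancel]]
  have h0 : (b + eps a b) * b = 0 := by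
    rw [add_mul, hb, eps, sub_mul, mul_assoc a b b, hb, hbab]; simp
  rw [add_mul, one_mul, mul_add, mul_one, mul_neg, h0]
  abel

/-- The non-commuting case. -/
theorem eps_data (h2 : (2 : k) ≠ 0) (h3 : Nat.card k ≠ 3) (ha : QMin G a) (hb : QMin G b)
    (hl : ¬ Linked a b) (hne : a * b ≠ b * a) :
    QMin G (eps a b) ∧ LinearMap.range a ⊓ LinearMap.range b = ⊥ ∧
      LinearMap.range (eps a b) =
        (LinearMap.range a ⊓ LinearMap.ker b) ⊔ (LinearMap.range b ⊓ LinearMap.ker a) ∧
      LinearMap.ker (eps a b) =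
        (LinearMap.ker b ⊔ LinearMap.range a) ⊓ (LinearMap.ker a ⊔ LinearMap.range b) := by
  obtain ⟨haba, hbab⟩ := pair_triple h2 h3 ha hb hl
  have hfam := eps_qfam ha.1 hb.1 haba hbab
  have he0 : eps a b ≠ 0 := sub_ne_zero.2 hne
  have half : ∀ {a b : EndM}, a * a = 0 → b * a * b = 0 →
      LinearMap.range (a * b) ≤ LinearMap.range a ⊓ LinearMap.ker b ∧
        Module.finrank k ↥(LinearMap.range a ⊓ LinearMap.ker b) + Module.finrank k (LinearMap.range (b * a)) =
          erk a := by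
    intro a b ha hbab
    constructor
    · rintro _ ⟨m, rfl⟩
      exact ⟨⟨b m, rfl⟩, LinearMap.congr_fun hbab m⟩
    · set f := b.domRestrict (LinearMap.range a)
      have h1 := LinearMap.finrank_range_add_finrank_ker f
      have hr : LinearMap.range f = LinearMap.range (b * a) := by
        rw [LinearMap.range_domRestrict, range_mul_map]
      have hk : LinearMap.ker f = (LinearMap.range a ⊓ LinearMap.ker b).comap (LinearMap.range a).subtype := by
        ext v
        simp [f, Submodule.mem_inf]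
      rw [hr, hk, (Submodule.comapSubtypeEquivOfLe inf_le_left).finrank_eq] at h1
      show _ = Module.finrank k (LinearMap.range a)
      omega
  obtain ⟨a1, a2⟩ := half ha.sq hbab
  obtain ⟨b1, b2⟩ := half hb.sq haba
  have hd : erk a = erk b := erk_eq_of_qmin ha hb
  have hsub : LinearMap.range (eps a b) ≤ LinearMap.range (a * b) ⊔ LinearMap.range (b * a) := by
    rintro _ ⟨m, rfl⟩
    exact sub_mem (Submodule.mem_sup_left ⟨m, rfl⟩) (Submodule.mem_sup_right ⟨m, rfl⟩)
  have hge : erk a ≤ erk (eps a b) := ha.2.2 _ hfam he0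
  have s1 := Submodule.finrank_mono hsub
  have s2 := Submodule.finrank_sup_add_finrank_inf_eq (LinearMap.range (a * b)) (LinearMap.range (b * a))
  have s3 := Submodule.finrank_mono a1
  have s4 := Submodule.finrank_mono b1
  simp only [erk] at hge a2 b2 hd
  have e1 : LinearMap.range (a * b) = LinearMap.range a ⊓ LinearMap.ker b :=
    Submodule.eq_of_le_of_finrank_le a1 (by omega)
  have e2 : LinearMap.range (b * a) = LinearMap.range b ⊓ LinearMap.ker a :=
    Submodule.eq_of_le_of_finrank_le b1 (by omega)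
  have e3 : LinearMap.range (eps a b) = LinearMap.range (a * b) ⊔ LinearMap.range (b * a) :=
    Submodule.eq_of_le_of_finrank_le hsub (by omega)
  have e4 : LinearMap.range (a * b) ⊓ LinearMap.range (b * a) = ⊥ :=
    Submodule.finrank_eq_zero.1 (by omega)
  refine ⟨ha.of_le hfam he0 ?_, ?_, by rw [e3, e1, e2], ?_⟩
  · show Module.finrank k _ ≤ Module.finrank k _
    omega
  · rw [eq_bot_iff, ← e4, e1, e2]
    rintro v ⟨va, vb⟩
    exact ⟨⟨va, range_le_ker_of_sq hb.sq vb⟩, ⟨vb, range_le_ker_of_sq ha.sq va⟩⟩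
  · have hker : LinearMap.ker (eps a b) = LinearMap.ker (a * b) ⊓ LinearMap.ker (b * a) := by
      ext m
      rw [Submodule.mem_inf, LinearMap.mem_ker, LinearMap.mem_ker, LinearMap.mem_ker, eps,
        LinearMap.sub_apply, sub_eq_zero]
      constructor
      · intro h
        have : (a * b) m ∈ LinearMap.range (a * b) ⊓ LinearMap.range (b * a) :=
          ⟨⟨m, rfl⟩, h ▸ ⟨m, rfl⟩⟩
        rw [e4, Submodule.mem_bot] at this
        exact ⟨this, h.symm.trans this⟩
      · rintro ⟨h1, h2⟩; rw [h1, h2]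
    have hk : ∀ {a b : EndM}, a * a = 0 → a * b * a = 0 →
        Module.finrank k ↥(LinearMap.range a ⊓ LinearMap.ker b) = Module.finrank k (LinearMap.range (a * b)) →
        Module.finrank k (LinearMap.range a) = Module.finrank k (LinearMap.range b) →
        LinearMap.ker (a * b) = LinearMap.ker b ⊔ LinearMap.range a := by
      intro a b ha haba hu hd
      refine (Submodule.eq_of_le_of_finrank_le (sup_le ?_ ?_) ?_).symm
      · intro m hm
        rw [LinearMap.mem_ker, Module.End.mul_apply, LinearMap.mem_ker.1 hm, map_zero]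
      · rintro _ ⟨m, rfl⟩
        exact LinearMap.congr_fun haba m
      · have h1 := Submodule.finrank_sup_add_finrank_inf_eq (LinearMap.ker b) (LinearMap.range a)
        have h2 := LinearMap.finrank_range_add_finrank_ker (a * b)
        have h4 := LinearMap.finrank_range_add_finrank_ker b
        rw [inf_comm] at h1
        omega
    rw [hker, hk ha.sq haba (by rw [e1]) hd, hk hb.sq hbab (by rw [e2]) hd.symm]

theorem commute_all_of_commute (h2 : (2 : k) ≠ 0) (h3 : Nat.card k ≠ 3) (ha : QMin G a) (hb : QMin G b)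
    (hl : ¬ Linked a b) (hc : a * b = b * a) (hx : x ∈ eSpace G a ha.sq) (hy : y ∈ eSpace G b hb.sq) :
    x * y = y * x := by
  by_contra hne
  have hx0 : x ≠ 0 := fun h => hne (by simp [h])
  have hy0 : y ≠ 0 := fun h => hne (by simp [h])
  obtain ⟨hxm, hxr, hxk⟩ := eSpace_data ha hx hx0
  obtain ⟨hym, hyr, hyk⟩ := eSpace_data hb hy hy0
  have hdis := (eps_data h2 h3 hxm hym (fun h => hl ((linked_congr hxr hxk hyr hyk).1 h)) hne).2.1
  have hab : a * b = 0 := by
    rw [← LinearMap.range_eq_bot, eq_bot_iff, ← hdis, hxr, hyr]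
    refine le_inf (LinearMap.range_comp_le_range _ _) ?_
    rw [hc]; exact LinearMap.range_comp_le_range _ _
  have hba : b * a = 0 := hc ▸ hab
  have k1 : LinearMap.range b ≤ LinearMap.ker a := by
    rintro _ ⟨m, rfl⟩; exact LinearMap.congr_fun hab m
  have k2 : LinearMap.range a ≤ LinearMap.ker b := by
    rintro _ ⟨m, rfl⟩; exact LinearMap.congr_fun hba m
  refine hne ?_
  rw [mul_eq_zero_of_range_le (hyr ▸ hxk ▸ k1), mul_eq_zero_of_range_le (hxr ▸ hyk ▸ k2)]

/-- All commutators lie in one class. -/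
theorem eps_mem (h2 : (2 : k) ≠ 0) (h3 : Nat.card k ≠ 3) (ha : QMin G a) (hb : QMin G b)
    (hl : ¬ Linked a b) (hne : a * b ≠ b * a) (hx : x ∈ eSpace G a ha.sq) (hy : y ∈ eSpace G b hb.sq) :
    eps x y ∈ eSpace G (eps a b) (eps_data h2 h3 ha hb hl hne).1.sq ∧
      (x ≠ 0 → y ≠ 0 → eps x y ≠ 0) := by
  rcases eq_or_ne x 0 with rfl | hx0
  · refine ⟨?_, fun h => absurd rfl h⟩
    rw [show eps (0 : EndM) y = 0 by simp [eps]]; exact zero_mem _
  rcases eq_or_ne y 0 with rfl | hy0
  · refine ⟨?_, fun _ h => absurd rfl h⟩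
    rw [show eps x (0 : EndM) = 0 by simp [eps]]; exact zero_mem _
  obtain ⟨hxm, hxr, hxk⟩ := eSpace_data ha hx hx0
  obtain ⟨hym, hyr, hyk⟩ := eSpace_data hb hy hy0
  have hl' : ¬ Linked x y := fun h => hl ((linked_congr hxr hxk hyr hyk).1 h)
  have hne' : x * y ≠ y * x := fun h => hne (commute_all_of_commute h2 h3 hxm hym hl' h
    (show a ∈ eSpace G x hxm.sq from ⟨ha.1, hxr.ge, hxk.le⟩)
    (show b ∈ eSpace G y hym.sq from ⟨hb.1, hyr.ge, hyk.le⟩))
  obtain ⟨hq, -, hr, hk⟩ := eps_data h2 h3 hxm hym hl' hne'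
  obtain ⟨-, -, hr', hk'⟩ := eps_data h2 h3 ha hb hl hne
  refine ⟨⟨hq.1, ?_, ?_⟩, fun _ _ => hq.2.1⟩
  · rw [hr, hr', hxr, hxk, hyr, hyk]
  · rw [hk, hk', hxr, hxk, hyr, hyk]

theorem eps_not_mem (h2 : (2 : k) ≠ 0) (h3 : Nat.card k ≠ 3) (ha : QMin G a) (hb : QMin G b)
    (hl : ¬ Linked a b) (hne : a * b ≠ b * a) : eps a b ∉ eSpace G b hb.sq := by
  intro hm
  obtain ⟨hq, hdis, hr, hk⟩ := eps_data h2 h3 ha hb hl hne
  obtain ⟨-, r1, r2⟩ := eSpace_data hb hm hq.2.1
  have hK1 : LinearMap.range a ⊓ LinearMap.ker b = ⊥ := by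
    rw [eq_bot_iff, ← hdis]
    exact le_inf inf_le_left (r1 ▸ hr ▸ le_sup_left)
  obtain ⟨haba, hbab⟩ := pair_triple h2 h3 ha hb hl
  have hab : a * b = 0 := by
    rw [← LinearMap.range_eq_bot, eq_bot_iff, ← hK1]
    rintro _ ⟨m, rfl⟩
    exact ⟨⟨b m, rfl⟩, LinearMap.congr_fun hbab m⟩
  have hle : LinearMap.ker a ≤ LinearMap.ker b := by
    intro m hm
    rw [← r2, LinearMap.mem_ker, eps, hab, zero_sub, LinearMap.neg_apply, Module.End.mul_apply,
      LinearMap.mem_ker.1 hm, map_zero, neg_zero]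
  have h1 := LinearMap.finrank_range_add_finrank_ker a
  have h4 := LinearMap.finrank_range_add_finrank_ker b
  have hd : erk a = erk b := erk_eq_of_qmin ha hb
  simp only [erk] at hd
  have hkk : LinearMap.ker a = LinearMap.ker b := Submodule.eq_of_le_of_finrank_le hle (by omega)
  refine hne ?_
  rw [hab, mul_eq_zero_of_range_le (hkk ▸ range_le_ker_of_sq ha.sq)]

end CfsgLib.ThreeTransp
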