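import Mathlib
import Cfsg.Agent.Lib.ThreeTransp.QuadCommute

/-!
Quadratic pairs: every class has an opposite one, and the commutators of two non-commuting classes
fill a class.
-/

set_option autoImplicit false
set_option linter.unusedSectionVars false

namespace CfsgLib.ThreeTransp

open Cfsg

variable {k : Type*} [Field k] {M : Type*} [AddCommGroup M] [Module k M] [FiniteDimensional k M]
variable {G : Subgroup (LinearMap.GeneralLinearGroup k M)}

local notation "GLM" => LinearMap.GeneralLinearGroup k M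
local notation "EndM" => Module.End k M

/-- A conjugation invariant unipotent set of an irreducible group is trivial. -/
theorem fixed_of_uNil (hirr : IsIrreducibleFor G) {S : Set GLM} (hS : UNil S)
    (hconj : ∀ g ∈ G, ∀ s ∈ S, g * s * g⁻¹ ∈ S) : ∀ s ∈ S, udif s = 0 := by
  classical
  set W : Submodule k M := ⨅ s ∈ S, LinearMap.ker (udif s) with hW
  have hmem : ∀ v, v ∈ W ↔ ∀ s ∈ S, udif s v = 0 := fun v => by simp [hW, Submodule.mem_iInf]
  obtain ⟨m, hm⟩ := hirr.1
  have hWne : W ≠ ⊥ := by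
    have hex : ∃ j, ∀ x ∈ uSpan S ^ j, x m = 0 := by
      obtain ⟨n, hn⟩ := hS
      exact ⟨n + 1, fun x hx => by rw [hn, Submodule.mem_bot] at hx; rw [hx]; rfl⟩
    have hf := Nat.find_spec hex
    rcases hn : Nat.find hex with _ | j
    · rw [hn, pow_zero] at hf
      exact absurd (hf 1 (Submodule.one_le.1 le_rfl)) (by simpa using hm)
    · rw [hn] at hf
      obtain ⟨x, hx, hxm⟩ : ∃ x ∈ uSpan S ^ j, x m ≠ 0 := by
        by_contra hcon
        push Not at hcon
        exact Nat.find_min hex (by rw [hn]; omega) hcon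
      intro h
      refine hxm ((Submodule.mem_bot k).1 (h ▸ (hmem _).2 fun s hs => ?_))
      have := hf (udif s * x) (by rw [pow_succ']; exact Submodule.mul_mem_mul (udif_mem_uSpan hs) hx)
      exact this
  have hinv : ∀ g ∈ G, ∀ w ∈ W, (g : M →ₗ[k] M) w ∈ W := by
    intro g hg w hw
    refine (hmem _).2 fun s hs => ?_
    have hs' := hconj g⁻¹ (inv_mem hg) s hs
    rw [inv_inv] at hs'
    have h0 := (hmem w).1 hw _ hs'
    have e : udif s * (g : EndM) = (g : EndM) * udif (g⁻¹ * s * g) := by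
      have := udif_conj g (g⁻¹ * s * g)
      rwa [show g * (g⁻¹ * s * g) * g⁻¹ = s by group] at this
    show (udif s * (g : EndM)) w = 0
    rw [e, Module.End.mul_apply, h0, map_zero]
  rcases hirr.2 W hinv with h | h
  · exact absurd h hWne
  · exact fun s hs => LinearMap.ext fun v => (hmem v).1 (h ▸ Submodule.mem_top) s hs

variable {a b u x y : Module.End k M}

theorem exists_linked (h2 : (2 : k) ≠ 0) (h3 : Nat.card k ≠ 3) (hirr : IsIrreducibleFor G)
    (ha : QMin G a) : ∃ g ∈ G, Linked (eConj g a) a := by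
  by_contra hcon
  push Not at hcon
  set S : Set GLM := {s | ∃ g ∈ G, s = qel (eConj g a)} with hS
  have hconj : ∀ g ∈ G, ∀ s ∈ S, g * s * g⁻¹ ∈ S := by
    rintro g hg _ ⟨h, hh, rfl⟩
    exact ⟨g * h, mul_mem hg hh, by rw [qel_conj (eConj_sq ha.sq), eConj_comp]⟩
  have hnil : UNil S := by
    refine uNil_of_pairs ?_ fun s hs => hconj s ?_
    · rintro _ ⟨g, hg, rfl⟩ _ ⟨h, hh, rfl⟩
      refine uNil_pair_of_nilpotent (eConj_sq ha.sq) (eConj_sq ha.sq) ?_
      by_contra hz
      obtain ⟨l1, l2⟩ := linked_of_not_nilpotent h2 h3 (ha.conj hg) (ha.conj hh) hz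
      refine hcon (h⁻¹ * g) (mul_mem (inv_mem hh) hg) ?_
      have key : ∀ {p q : EndM}, LinearMap.range p ⊓ LinearMap.ker q = ⊥ →
          LinearMap.range (eConj h⁻¹ p) ⊓ LinearMap.ker (eConj h⁻¹ q) = ⊥ := by
        intro p q hpq
        rw [eq_bot_iff, range_eConj]
        rintro _ ⟨⟨w, hw, rfl⟩, hv⟩
        rw [SetLike.mem_coe, mem_ker_eConj, ← Module.End.mul_apply, inv_inv, Units.mul_inv,
          Module.End.one_apply] at hv
        have : w ∈ LinearMap.range p ⊓ LinearMap.ker q := ⟨hw, hv⟩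
        rw [hpq, Submodule.mem_bot] at this
        rw [this, map_zero]; exact zero_mem _
      have k1 := key l1
      have k2 := key l2
      rw [eConj_comp, eConj_comp, inv_mul_cancel, eConj_one] at k1 k2
      exact ⟨k1, k2⟩
    · obtain ⟨g, hg, rfl⟩ := hs
      exact (ha.1.conj hg).mem
  have := fixed_of_uNil hirr hnil hconj (qel a) ⟨1, one_mem G, by rw [eConj_one]⟩
  rw [udif_qel ha.sq] at this
  exact ha.2.1 this

theorem linked_eConj {g : GLM} (hl : Linked a b) : Linked (eConj g a) (eConj g b) := by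
  have key : ∀ {p q : EndM}, LinearMap.range p ⊓ LinearMap.ker q = ⊥ →
      LinearMap.range (eConj g p) ⊓ LinearMap.ker (eConj g q) = ⊥ := by
    intro p q hpq
    rw [eq_bot_iff, range_eConj]
    rintro _ ⟨⟨w, hw, rfl⟩, hv⟩
    rw [SetLike.mem_coe, mem_ker_eConj, ← Module.End.mul_apply, Units.inv_mul,
      Module.End.one_apply] at hv
    have : w ∈ LinearMap.range p ⊓ LinearMap.ker q := ⟨hw, hv⟩
    rw [hpq, Submodule.mem_bot] at this
    rw [this, map_zero]; exact zero_mem _
  exact ⟨key hl.1, key hl.2⟩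

theorem exists_common_linked (h2 : (2 : k) ≠ 0) (h3 : Nat.card k ≠ 3) (hirr : IsIrreducibleFor G)
    (ha : QMin G a) (hb : QMin G b) (hl : ¬ Linked a b) (hne : a * b ≠ b * a) :
    ∃ u, QMin G u ∧ Linked u a ∧ Linked u (eps a b) := by
  have hq := (eps_data h2 h3 ha hb hl hne).1
  obtain ⟨t1, t2⟩ := pair_triple h2 h3 ha hb hl
  obtain ⟨g₀, hg₀, hlu⟩ := exists_linked h2 h3 hirr hq
  set u := eConj g₀ (eps a b) with hu
  have hum : QMin G u := hq.conj hg₀
  have hc : ∀ s : k, eConj (qel (s • b)) a = a - s • eps a b := by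
    intro s
    rw [eConj, qel_inv (smul_sq_zero hb.sq s), qel_val (smul_sq_zero hb.sq s),
      qel_val (by rw [neg_mul_neg]; exact smul_sq_zero hb.sq s), eps, add_mul, one_mul, mul_add,
      mul_one, mul_neg, smul_mul_assoc, add_mul, smul_mul_smul_comm, t2, smul_zero, add_zero,
      mul_smul_comm, smul_sub]
    abel
  obtain ⟨s, hs⟩ : ∃ s : k, Linked u (a - s • eps a b) := by
    by_contra hcon
    push Not at hcon
    have h0 : ∀ s : k, (a - s • eps a b) * u * (a - s • eps a b) = 0 := fun s => by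
      rw [← hc]
      exact (pair_triple h2 h3 (ha.conj (hb.1.2 s)) hum fun h => hcon s (by rw [← hc]; exact h.symm)).1
    have k0 := h0 0
    have k1 := h0 1
    have k2 := h0 (-1)
    rw [zero_smul, sub_zero] at k0
    rw [one_smul] at k1
    rw [neg_smul, one_smul, sub_neg_eq_add] at k2
    have e : (2 : k) • (eps a b * u * eps a b) = (a - eps a b) * u * (a - eps a b) +
        (a + eps a b) * u * (a + eps a b) - (2 : k) • (a * u * a) := by
      rw [two_smul, two_smul]; noncomm_ring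
    rw [k0, k1, k2, smul_zero, add_zero, sub_zero, smul_eq_zero] at e
    have e0 := e.resolve_left h2
    refine hq.2.1 (LinearMap.ext fun v => ?_)
    have h1 : u (eps a b v) ∈ LinearMap.range u ⊓ LinearMap.ker (eps a b) :=
      ⟨⟨_, rfl⟩, LinearMap.congr_fun e0 v⟩
    rw [hlu.1, Submodule.mem_bot] at h1
    have h4 : eps a b v ∈ LinearMap.range (eps a b) ⊓ LinearMap.ker u := ⟨⟨v, rfl⟩, h1⟩
    rw [hlu.2, Submodule.mem_bot] at h4
    exact h4
  have hg : qel (s • b) ∈ G := hb.1.2 s
  refine ⟨eConj (qel (s • b))⁻¹ u, hum.conj (inv_mem hg), ?_, ?_⟩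
  · have h := linked_eConj (g := (qel (s • b))⁻¹) hs
    rwa [← hc, eConj_comp (qel (s • b))⁻¹ (qel (s • b)), inv_mul_cancel, eConj_one] at h
  · have h := linked_eConj (g := (qel (s • b))⁻¹) hlu
    have e : eConj (qel (s • b))⁻¹ (eps a b) = eps a b := by
      have n1 : b * eps a b = 0 := by rw [eps, mul_sub, ← mul_assoc, ← mul_assoc, t2, hb.sq]; simp
      have n2 : eps a b * b = 0 := by rw [eps, sub_mul, mul_assoc a b b, hb.sq, t2]; simp
      rw [eConj, inv_inv, qel_inv (smul_sq_zero hb.sq s), qel_val (smul_sq_zero hb.sq s),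
        qel_val (by rw [neg_mul_neg]; exact smul_sq_zero hb.sq s), add_mul, one_mul, neg_mul,
        smul_mul_assoc, n1, smul_zero, neg_zero, add_zero, mul_add, mul_one, mul_smul_comm, n2,
        smul_zero, add_zero]
    rwa [e] at h

theorem finrank_eSpace_conj (ha : QMin G a) {g : GLM} (hg : g ∈ G) :
    Module.finrank k (eSpace G (eConj g a) (eConj_sq ha.sq)) = Module.finrank k (eSpace G a ha.sq) := by
  have key : ∀ {a : EndM} {g : GLM} (_ : g ∈ G) (h : a * a = 0),
      Module.finrank k (eSpace G a h) ≤ Module.finrank k (eSpace G (eConj g a) (eConj_sq h)) := by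
    intro a g hg h
    let f : eSpace G a h →ₗ[k] eSpace G (eConj g a) (eConj_sq h) :=
      { toFun := fun x => ⟨eConj g x, eConj_mem_eSpace hg x.2⟩
        map_add' := fun x y => Subtype.ext (eConj_add g x.1 y.1)
        map_smul' := fun c x => Subtype.ext (eConj_smul g c x.1) }
    refine LinearMap.finrank_le_finrank_of_injective (f := f) ?_
    rw [← LinearMap.ker_eq_bot, eq_bot_iff]
    intro x hx
    exact (Submodule.mem_bot k).2 (Subtype.ext (eConj_eq_zero (congrArg Subtype.val (LinearMap.mem_ker.1 hx))))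
  refine le_antisymm ?_ (key hg ha.sq)
  have h := key (a := eConj g a) (inv_mem hg) (eConj_sq ha.sq)
  rwa [eSpace_congr (G := G) (a := eConj g⁻¹ (eConj g a)) (b := a) (hb := ha.sq)] at h
  · rw [eConj_comp, inv_mul_cancel, eConj_one]
  · rw [eConj_comp, inv_mul_cancel, eConj_one]

theorem linked_dim (h2 : (2 : k) ≠ 0) (h3 : Nat.card k ≠ 3) (ha : QMin G a) (hb : QMin G b)
    (hl : Linked a b) :
    Module.finrank k (eSpace G a ha.sq) = Module.finrank k (eSpace G b hb.sq) := by
  obtain ⟨β, hβ, hβ1, he⟩ := linked_exists_partner h2 h3 ha hb hl (qel_self_mem_eGrp ha)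
    (qel_ne_one ha.sq ha.2.1)
  have h := linked_conj_eq ha hb (qel_self_mem_eGrp ha) hβ (qel_ne_one ha.sq ha.2.1) hβ1 he
  have h' : conjBy (eGrp G a ha) (qel a * β⁻¹) = eGrp G b hb := by
    rw [conjBy_mul, h, conjBy_conjBy_inv]
  have hg : qel a * β⁻¹ ∈ G := mul_mem ha.1.mem (inv_mem (eGrp_le hb hβ))
  rw [conjBy_eGrp ha hg] at h'
  obtain ⟨r1, r2⟩ := eGrp_inj h'
  rw [← eSpace_congr (G := G) (ha := eConj_sq ha.sq) (hb := hb.sq) r1 r2, finrank_eSpace_conj ha hg]

theorem eps_dims (h2 : (2 : k) ≠ 0) (h3 : Nat.card k ≠ 3) (hirr : IsIrreducibleFor G)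
    (ha : QMin G a) (hb : QMin G b) (hl : ¬ Linked a b) (hne : a * b ≠ b * a) :
    Module.finrank k (eSpace G a ha.sq) =
        Module.finrank k (eSpace G (eps a b) (eps_data h2 h3 ha hb hl hne).1.sq) ∧
      Module.finrank k (eSpace G b hb.sq) =
        Module.finrank k (eSpace G (eps a b) (eps_data h2 h3 ha hb hl hne).1.sq) := by
  have hl' : ¬ Linked b a := fun h => hl h.symm
  have key : ∀ {a b : EndM} (ha : QMin G a) (hb : QMin G b) (hl : ¬ Linked a b) (hne : a * b ≠ b * a),
      Module.finrank k (eSpace G a ha.sq) =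
        Module.finrank k (eSpace G (eps a b) (eps_data h2 h3 ha hb hl hne).1.sq) := by
    intro a b ha hb hl hne
    obtain ⟨u, hu, l1, l2⟩ := exists_common_linked h2 h3 hirr ha hb hl hne
    rw [← linked_dim h2 h3 hu ha l1, linked_dim h2 h3 hu (eps_data h2 h3 ha hb hl hne).1 l2]
  refine ⟨key ha hb hl hne, (key hb ha hl' hne.symm).trans ?_⟩
  rw [eSpace_congr (G := G) (a := eps b a) (b := eps a b)]
  · rw [eps_swap, LinearMap.range_neg]
  · rw [eps_swap]; ext m; simp

theorem eps_surj (h2 : (2 : k) ≠ 0) (h3 : Nat.card k ≠ 3) (hirr : IsIrreducibleFor G)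
    (ha : QMin G a) (hb : QMin G b) (hl : ¬ Linked a b) (hne : a * b ≠ b * a)
    {x z : EndM} (hx : x ∈ eSpace G a ha.sq) (hx0 : x ≠ 0)
    (hz : z ∈ eSpace G (eps a b) (eps_data h2 h3 ha hb hl hne).1.sq) :
    ∃ y ∈ eSpace G b hb.sq, eps x y = z := by
  let f : eSpace G b hb.sq →ₗ[k] eSpace G (eps a b) (eps_data h2 h3 ha hb hl hne).1.sq :=
    { toFun := fun y => ⟨eps x y, (eps_mem h2 h3 ha hb hl hne hx y.2).1⟩
      map_add' := fun p q => Subtype.ext (by
        show eps x (p.1 + q.1) = eps x p.1 + eps x q.1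
        simp [eps, mul_add, add_mul]; abel)
      map_smul' := fun c p => Subtype.ext (by
        show eps x (c • p.1) = c • eps x p.1
        simp [eps, smul_sub]) }
  have hinj : Function.Injective f := by
    rw [← LinearMap.ker_eq_bot, eq_bot_iff]
    intro y hy
    refine (Submodule.mem_bot k).2 (Subtype.ext ?_)
    by_contra hy0
    exact (eps_mem h2 h3 ha hb hl hne hx y.2).2 hx0 hy0 (congrArg Subtype.val (LinearMap.mem_ker.1 hy))
  obtain ⟨y, hy⟩ := (LinearMap.injective_iff_surjective_of_finrank_eq_finrank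
    (eps_dims h2 h3 hirr ha hb hl hne).2).1 hinj ⟨z, hz⟩
  exact ⟨y.1, y.2, congrArg Subtype.val hy⟩

end CfsgLib.ThreeTransp
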