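import Mathlib
import Cfsg.Agent.Lib.ThreeTransp.QuadNonIsolated

/-!
Two non-commuting classes generating a unipotent group: the group has class two and its derived
group is the class of the commutators.
-/

set_option autoImplicit false
set_option linter.unusedSectionVars false

namespace CfsgLib.ThreeTransp

open Cfsg

variable {k : Type*} [Field k] {M : Type*} [AddCommGroup M] [Module k M] [FiniteDimensional k M]
variable {G : Subgroup (LinearMap.GeneralLinearGroup k M)}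

local notation "GLM" => LinearMap.GeneralLinearGroup k M
local notation "EndM" => Module.End k M

variable {a b x y : Module.End k M}

theorem class_two_commutators (h2 : (2 : k) ≠ 0) (h3 : Nat.card k ≠ 3) (hirr : IsIrreducibleFor G)
    (ha : QMin G a) (hb : QMin G b) (hl : ¬ Linked a b) (hne : a * b ≠ b * a) :
    ⁅eGrp G a ha, eGrp G b hb⁆ = eGrp G (eps a b) (eps_data h2 h3 ha hb hl hne).1 ∧
      ∀ e ∈ eGrp G a ha, e ≠ 1 →
        Subgroup.closure ((fun f : GLM => e * f * e⁻¹ * f⁻¹) '' (eGrp G b hb : Set GLM)) =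
          eGrp G (eps a b) (eps_data h2 h3 ha hb hl hne).1 := by
  have hl' : ¬ Linked b a := fun h => hl h.symm
  have hcomm : ∀ {x y : EndM}, x ∈ eSpace G a ha.sq → y ∈ eSpace G b hb.sq →
      qel x * qel y * (qel x)⁻¹ * (qel y)⁻¹ = qel (eps x y) := fun {x y} hx hy =>
    eps_commutator hx.1.1 hy.1.1 (cross_zero h2 h3 ha hb hl hx hx hy) (cross_zero h2 h3 hb ha hl' hy hy hx)
  set hq := (eps_data h2 h3 ha hb hl hne).1
  have hsub : ∀ e ∈ eGrp G a ha, ∀ f ∈ eGrp G b hb, e * f * e⁻¹ * f⁻¹ ∈ eGrp G (eps a b) hq := by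
    rintro _ ⟨x, hx, rfl⟩ _ ⟨y, hy, rfl⟩
    rw [hcomm hx hy]
    exact qel_mem_eGrp hq (eps_mem h2 h3 ha hb hl hne hx hy).1
  have hfull : ∀ e ∈ eGrp G a ha, e ≠ 1 →
      Subgroup.closure ((fun f : GLM => e * f * e⁻¹ * f⁻¹) '' (eGrp G b hb : Set GLM)) =
        eGrp G (eps a b) hq := by
    rintro e he he1
    apply le_antisymm
    · rw [Subgroup.closure_le]
      rintro _ ⟨f, hf, rfl⟩
      exact hsub e he f hf
    · obtain ⟨x, hx, rfl⟩ := he
      rintro _ ⟨z, hz, rfl⟩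
      have hx0 : x ≠ 0 := fun h => he1 (by rw [h, qel_zero])
      obtain ⟨y, hy, rfl⟩ := eps_surj h2 h3 hirr ha hb hl hne hx hx0 hz
      exact Subgroup.subset_closure ⟨qel y, qel_mem_eGrp hb hy, hcomm hx hy⟩
  refine ⟨le_antisymm (Subgroup.commutator_le.2 hsub) ?_, hfull⟩
  rw [← hfull (qel a) (qel_self_mem_eGrp ha) (qel_ne_one ha.sq ha.2.1), Subgroup.closure_le]
  rintro _ ⟨f, hf, rfl⟩
  exact Subgroup.commutator_mem_commutator (qel_self_mem_eGrp ha) hf

/-- The stabiliser of the series `0 ≤ R ≤ K ≤ M` acting trivially on the factors and on `R`. -/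
def coreGroup (R K : Submodule k M) (hRK : R ≤ K) : Subgroup (LinearMap.GeneralLinearGroup k M) where
  carrier := {g | LinearMap.range (udif g) ≤ K ∧ K.map (udif g) ≤ R ∧ R ≤ LinearMap.ker (udif g)}
  one_mem' := by simp [udif]
  mul_mem' := by
    rintro g h ⟨g1, g2, g3⟩ ⟨h1, h2, h3⟩
    refine ⟨?_, ?_, ?_⟩
    · rw [udif_mul]
      exact range_add_le' (range_add_le' ((LinearMap.range_comp_le_range _ _).trans g1) g1) h1
    · rintro _ ⟨m, hm, rfl⟩
      rw [udif_mul, LinearMap.add_apply, LinearMap.add_apply, Module.End.mul_apply]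
      exact add_mem (add_mem (g2 ⟨_, hRK (h2 ⟨m, hm, rfl⟩), rfl⟩) (g2 ⟨m, hm, rfl⟩)) (h2 ⟨m, hm, rfl⟩)
    · intro m hm
      rw [LinearMap.mem_ker, udif_mul]
      simp [LinearMap.mem_ker.1 (g3 hm), LinearMap.mem_ker.1 (h3 hm)]
  inv_mem' := by
    rintro g ⟨g1, g2, g3⟩
    have hu : ∀ m, udif g (udif g (udif g m)) = 0 := fun m =>
      g3 (g2 ⟨_, g1 ⟨m, rfl⟩, rfl⟩)
    have e : udif g⁻¹ = udif g * udif g - udif g := by
      have h : ((g⁻¹ : GLM) : EndM) = 1 - udif g + udif g * udif g := by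
        refine Units.inv_eq_of_mul_eq_one_right ?_
        have h0 : udif g * udif g * udif g = 0 := LinearMap.ext hu
        have hg : (g : EndM) = 1 + udif g := by simp [udif]
        rw [hg, add_mul, one_mul, mul_add, mul_sub, mul_one, ← mul_assoc, h0]
        abel
      rw [udif, h]; abel
    refine ⟨?_, ?_, ?_⟩
    · rw [e]; rintro _ ⟨m, rfl⟩
      exact sub_mem (g1 ⟨_, rfl⟩) (g1 ⟨m, rfl⟩)
    · rintro _ ⟨m, hm, rfl⟩
      rw [e, LinearMap.sub_apply, Module.End.mul_apply]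
      exact sub_mem (g2 ⟨_, hRK (g2 ⟨m, hm, rfl⟩), rfl⟩) (g2 ⟨m, hm, rfl⟩)
    · intro m hm
      rw [LinearMap.mem_ker, e]
      simp [LinearMap.mem_ker.1 (g3 hm)]

theorem class_two_core (h2 : (2 : k) ≠ 0) (h3 : Nat.card k ≠ 3)
    (ha : QMin G a) (hb : QMin G b) (hl : ¬ Linked a b) (hne : a * b ≠ b * a) :
    (∀ g ∈ eGrp G a ha ⊔ eGrp G b hb, ∀ z ∈ eGrp G (eps a b) (eps_data h2 h3 ha hb hl hne).1,
      g * z = z * g) ∧
    eGrp G a ha ⊔ eGrp G b hb ≤ coreGroup (LinearMap.range (eps a b)) (LinearMap.ker (eps a b))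
      (range_le_ker_of_sq (eps_data h2 h3 ha hb hl hne).1.sq) := by
  have hl' : ¬ Linked b a := fun h => hl h.symm
  obtain ⟨hq, -, hr, hk⟩ := eps_data h2 h3 ha hb hl hne
  have key : ∀ x, (x ∈ eSpace G a ha.sq ∨ x ∈ eSpace G b hb.sq) →
      LinearMap.range x ≤ LinearMap.ker (eps a b) ∧ LinearMap.range (eps a b) ≤ LinearMap.ker x ∧
        (LinearMap.ker (eps a b)).map x ≤ LinearMap.range (eps a b) := by
    intro x hx
    have hA : LinearMap.range a ≤ LinearMap.ker (eps a b) := by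
      rw [hk]; exact le_inf le_sup_right (le_sup_of_le_left (range_le_ker_of_sq ha.sq))
    have hB : LinearMap.range b ≤ LinearMap.ker (eps a b) := by
      rw [hk]; exact le_inf (le_sup_of_le_left (range_le_ker_of_sq hb.sq)) le_sup_right
    have hRA : LinearMap.range (eps a b) ≤ LinearMap.ker a := by
      rw [hr]; exact sup_le (inf_le_left.trans (range_le_ker_of_sq ha.sq)) inf_le_right
    have hRB : LinearMap.range (eps a b) ≤ LinearMap.ker b := by
      rw [hr]; exact sup_le inf_le_right (inf_le_left.trans (range_le_ker_of_sq hb.sq))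
    have ht : ∀ {a b x : EndM} (ha : QMin G a) (hb : QMin G b), ¬ Linked a b → x ∈ eSpace G a ha.sq →
        (LinearMap.ker a ⊔ LinearMap.range b).map x ≤ LinearMap.range a ⊓ LinearMap.ker b := by
      intro a b x ha hb hl hx
      rw [Submodule.map_sup]
      refine sup_le ?_ ?_
      · rintro _ ⟨m, hm, rfl⟩
        rw [LinearMap.mem_ker.1 (hx.2.2 hm)]; exact zero_mem _
      · rintro _ ⟨_, ⟨m, rfl⟩, rfl⟩
        refine ⟨hx.2.1 ⟨_, rfl⟩, ?_⟩
        exact LinearMap.congr_fun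
          (cross_zero h2 h3 hb ha (fun h => hl h.symm) (self_mem_eSpace hb) (self_mem_eSpace hb) hx) m
    rcases hx with hx | hx
    · refine ⟨hx.2.1.trans hA, hRA.trans hx.2.2, ?_⟩
      rw [hr, hk]
      exact ((Submodule.map_mono inf_le_right).trans (ht ha hb hl hx)).trans le_sup_left
    · refine ⟨hx.2.1.trans hB, hRB.trans hx.2.2, ?_⟩
      rw [hr, hk]
      exact ((Submodule.map_mono inf_le_left).trans (ht hb ha hl' hx)).trans le_sup_right
  refine ⟨?_, ?_⟩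
  · rintro g hg _ ⟨z, hz, rfl⟩
    have hgen : ∀ x, (x ∈ eSpace G a ha.sq ∨ x ∈ eSpace G b hb.sq) → qel x * qel z = qel z * qel x := by
      intro x hx
      obtain ⟨k1, k2, -⟩ := key x hx
      have hx1 : x * x = 0 := by rcases hx with h | h <;> exact h.1.1
      have e1 : x * z = 0 := mul_eq_zero_of_range_le (hz.2.1.trans k2)
      have e2 : z * x = 0 := mul_eq_zero_of_range_le (k1.trans hz.2.2)
      rw [qel_mul hx1 hz.1.1 e1 e2, qel_mul hz.1.1 hx1 e2 e1, add_comm]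
    refine (commute_sup (g := qel z) ?_ ?_ g hg).symm
    · rintro _ ⟨x, hx, rfl⟩; exact (hgen x (Or.inl hx)).symm
    · rintro _ ⟨x, hx, rfl⟩; exact (hgen x (Or.inr hx)).symm
  · refine sup_le ?_ ?_ <;>
    · rintro _ ⟨x, hx, rfl⟩
      obtain ⟨k1, k2, k3⟩ := key x (by first | exact Or.inl hx | exact Or.inr hx)
      show LinearMap.range (udif (qel x)) ≤ _ ∧ _ ∧ _
      rw [udif_qel hx.1.1]
      exact ⟨k1, k3, k2⟩

theorem commutator_central {X : Type*} [Group X] {A B Z : Subgroup X} (hA : ∀ a ∈ A, ∀ a' ∈ A, a * a' = a' * a)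
    (hB : ∀ b ∈ B, ∀ b' ∈ B, b * b' = b' * b) (hZ : ⁅A, B⁆ ≤ Z)
    (hc : ∀ g ∈ A ⊔ B, ∀ z ∈ Z, g * z = z * g) (hle : Z ≤ A ⊔ B) :
    ⁅A ⊔ B, A ⊔ B⁆ ≤ Z := by
  let N : Subgroup X := A ⊔ B
  have inner : ∀ g ∈ A ⊔ B, (∀ h, (h ∈ A ∨ h ∈ B) → g * h * g⁻¹ * h⁻¹ ∈ Z) →
      ∀ h ∈ A ⊔ B, g * h * g⁻¹ * h⁻¹ ∈ Z := by
    intro g hg hgen h hh
    rw [Subgroup.sup_eq_closure] at hh
    have hh' : ∀ {h}, h ∈ Subgroup.closure ((A : Set X) ∪ B) → h ∈ A ⊔ B := fun h => by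
      rwa [Subgroup.sup_eq_closure]
    refine Subgroup.closure_induction ?_ ?_ ?_ ?_ hh
    · intro h h1; exact hgen h h1
    · simp
    · intro p q hp _ i1 i2
      have e : g * (p * q) * g⁻¹ * (p * q)⁻¹ = g * p * g⁻¹ * p⁻¹ * (p * (g * q * g⁻¹ * q⁻¹) * p⁻¹) := by group
      rw [e, hc p (hh' hp) _ i2, mul_inv_cancel_right]
      exact mul_mem i1 i2
    · intro p hp i1
      have e : g * p⁻¹ * g⁻¹ * p⁻¹⁻¹ = p⁻¹ * (g * p * g⁻¹ * p⁻¹)⁻¹ * p := by group
      rw [e, hc p⁻¹ (inv_mem (hh' hp)) _ (inv_mem i1), inv_mul_cancel_right]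
      exact inv_mem i1
  refine Subgroup.commutator_le.2 fun g hg h hh => ?_
  have gen1 : ∀ g, (g ∈ A ∨ g ∈ B) → ∀ h, (h ∈ A ∨ h ∈ B) → g * h * g⁻¹ * h⁻¹ ∈ Z := by
    rintro g (hg | hg) h (hh | hh)
    · rw [hA g hg h hh, mul_inv_cancel_right, mul_inv_cancel]; exact one_mem Z
    · exact hZ (Subgroup.commutator_mem_commutator hg hh)
    · rw [Subgroup.commutator_comm] at hZ
      exact hZ (Subgroup.commutator_mem_commutator hg hh)
    · rw [hB g hg h hh, mul_inv_cancel_right, mul_inv_cancel]; exact one_mem Z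
  refine inner g hg (fun h' hh' => ?_) h hh
  have hm : h' ∈ A ⊔ B := hh'.elim (fun h => le_sup_left (α := Subgroup X) h) (fun h => le_sup_right (α := Subgroup X) h)
  have := inner h' hm (fun g' hg' => gen1 h' hh' g' hg') g hg
  have e : g * h' * g⁻¹ * h'⁻¹ = (h' * g * h'⁻¹ * g⁻¹)⁻¹ := by group
  rw [e]; exact inv_mem this

/-- Everything about a non-commuting pair generating a unipotent group. -/
theorem class_two_structure (h2 : (2 : k) ≠ 0) (h3 : Nat.card k ≠ 3) (hirr : IsIrreducibleFor G)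
    (ha : QMin G a) (hb : QMin G b) (hl : ¬ Linked a b) (hne : a * b ≠ b * a) :
    ⁅eGrp G a ha, eGrp G b hb⁆ ∈ quadraticRootSubgroups G ∧
    (∀ e ∈ eGrp G a ha, e ≠ 1 →
      Subgroup.closure ((fun f : GLM => e * f * e⁻¹ * f⁻¹) '' (eGrp G b hb : Set GLM)) = ⁅eGrp G a ha, eGrp G b hb⁆) ∧
    (∀ f ∈ eGrp G b hb, f ≠ 1 →
      Subgroup.closure ((fun e : GLM => e * f * e⁻¹ * f⁻¹) '' (eGrp G a ha : Set GLM)) = ⁅eGrp G a ha, eGrp G b hb⁆) ∧
    (∀ c ∈ ⁅eGrp G a ha, eGrp G b hb⁆, ∀ g ∈ eGrp G a ha ⊔ eGrp G b hb, c * g = g * c) ∧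
    ⁅eGrp G a ha ⊔ eGrp G b hb, eGrp G a ha ⊔ eGrp G b hb⁆ ≠ ⊥ ∧
    ⁅⁅eGrp G a ha ⊔ eGrp G b hb, eGrp G a ha ⊔ eGrp G b hb⁆, eGrp G a ha ⊔ eGrp G b hb⁆ = ⊥ ∧
    ((eGrp G a ha ⊔ eGrp G b hb : Subgroup GLM) : Set GLM) ⊆
      quadraticUnipotentCore G ⁅eGrp G a ha, eGrp G b hb⁆ := by
  obtain ⟨hZ, h1⟩ := class_two_commutators h2 h3 hirr ha hb hl hne
  obtain ⟨hcen, hcore⟩ := class_two_core h2 h3 ha hb hl hne
  have hq := (eps_data h2 h3 ha hb hl hne).1
  have hl' : ¬ Linked b a := fun h => hl h.symm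
  obtain ⟨hZ', h1'⟩ := class_two_commutators h2 h3 hirr hb ha hl' hne.symm
  have hsame : eGrp G (eps b a) (eps_data h2 h3 hb ha hl' hne.symm).1 = eGrp G (eps a b) hq :=
    eGrp_congr (by rw [eps_swap, LinearMap.range_neg]) (by rw [eps_swap]; ext m; simp)
  set A := eGrp G a ha
  set B := eGrp G b hb
  have hZX : ⁅A, B⁆ ≤ A ⊔ B := Subgroup.commutator_le.2 fun g hg h hh =>
    mul_mem (mul_mem (mul_mem (le_sup_left (α := Subgroup GLM) hg) (le_sup_right (α := Subgroup GLM) hh))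
      (inv_mem (le_sup_left (α := Subgroup GLM) hg))) (inv_mem (le_sup_right (α := Subgroup GLM) hh))
  have hcen' : ∀ g ∈ A ⊔ B, ∀ z ∈ ⁅A, B⁆, g * z = z * g := fun g hg z hz => hcen g hg z (hZ ▸ hz)
  have hder := commutator_central (fun g hg g' hg' => eGrp_comm ha hg hg')
    (fun g hg g' hg' => eGrp_comm hb hg hg') le_rfl hcen' hZX
  refine ⟨hZ ▸ mem_quadraticRootSubgroups.2 ⟨_, _, rfl⟩, fun e he he1 => (h1 e he he1).trans hZ.symm,
    fun f hf hf1 => ?_, fun c hc g hg => (hcen' g hg c hc).symm, fun h => ?_, ?_, ?_⟩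
  · rw [closure_image_comm_swap' f (A : Set GLM), hZ, ← hsame]
    exact h1' f hf hf1
  · refine eGrp_ne_bot hq (eq_bot_iff.2 ?_)
    rw [← hZ, ← h]
    exact Subgroup.commutator_mono le_sup_left le_sup_right
  · rw [eq_bot_iff, Subgroup.commutator_le]
    intro z hz g hg
    rw [Subgroup.mem_bot, commutatorElement_eq_one_iff_mul_comm]
    exact (hcen' g hg z (hder hz)).symm
  · intro g hg
    obtain ⟨k1, k2, k3⟩ := hcore hg
    rw [hZ]
    refine ⟨sup_le (eGrp_le ha) (eGrp_le hb) hg, ?_, ?_, ?_, ?_⟩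
    · exact conjBy_eq_self_iff.1 (conjBy_of_commute fun z hz => hcen g hg z hz)
    · intro m; rw [fixed_eGrp]; exact k1 ⟨m, rfl⟩
    · intro m hm; rw [commutator_eGrp]; rw [fixed_eGrp] at hm
      exact k2 ⟨m, hm, rfl⟩
    · intro m hm; rw [commutator_eGrp] at hm
      have := LinearMap.mem_ker.1 (k3 hm)
      rwa [udif, LinearMap.sub_apply, Module.End.one_apply, sub_eq_zero] at this
where
  closure_image_comm_swap' (f : GLM) (S : Set GLM) :
      Subgroup.closure ((fun e : GLM => e * f * e⁻¹ * f⁻¹) '' S) =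
        Subgroup.closure ((fun e : GLM => f * e * f⁻¹ * e⁻¹) '' S) := by
    apply le_antisymm <;> rw [Subgroup.closure_le] <;> rintro _ ⟨e, he, rfl⟩
    · have h : e * f * e⁻¹ * f⁻¹ = (f * e * f⁻¹ * e⁻¹)⁻¹ := by group
      show e * f * e⁻¹ * f⁻¹ ∈ _
      rw [h]; exact inv_mem (Subgroup.subset_closure ⟨e, he, rfl⟩)
    · have h : f * e * f⁻¹ * e⁻¹ = (e * f * e⁻¹ * f⁻¹)⁻¹ := by group
      show f * e * f⁻¹ * e⁻¹ ∈ _
      rw [h]; exact inv_mem (Subgroup.subset_closure ⟨e, he, rfl⟩)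

end CfsgLib.ThreeTransp
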