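import Mathlib
import Cfsg.Agent.Lib.ThreeTransp.RankOne

/-!
Elementary theory of sets of abstract root subgroups.
-/

set_option autoImplicit false

namespace CfsgLib.ThreeTransp

open Cfsg

variable {G : Type*} [Group G] {S : Set (Subgroup G)}

theorem rs_comm (hS : IsRootSubgroupSet S) {A : Subgroup G} (hA : A ∈ S) {x y : G}
    (hx : x ∈ A) (hy : y ∈ A) : x * y = y * x := by
  have := hS.commutative A hA
  exact congrArg Subtype.val (this.is_comm.comm ⟨x, hx⟩ ⟨y, hy⟩)

theorem rs_exists_ne_one (hS : IsRootSubgroupSet S) {A : Subgroup G} (hA : A ∈ S) :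
    ∃ a ∈ A, a ≠ 1 :=
  A.bot_or_exists_ne_one.resolve_left (hS.ne_bot A hA)

theorem rs_bot_notMem (hS : IsRootSubgroupSet S) : (⊥ : Subgroup G) ∉ S :=
  fun h => hS.ne_bot ⊥ h rfl

theorem rs_unipotent_mem (hS : IsRootSubgroupSet S) {A B C : Subgroup G} (hA : A ∈ S)
    (hC : C ∈ unipotentSubgroups A B) : C ∈ S := by
  obtain ⟨x, -, rfl⟩ := hC
  exact hS.conj_mem A hA x

/-! ### The commutator case -/

theorem closure_image_comm_swap (a : G) (B : Set G) :
    Subgroup.closure ((fun b : G => b * a * b⁻¹ * a⁻¹) '' B) =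
      Subgroup.closure ((fun b : G => a * b * a⁻¹ * b⁻¹) '' B) := by
  apply le_antisymm <;> rw [Subgroup.closure_le] <;> rintro _ ⟨b, hb, rfl⟩
  · have h := Subgroup.inv_mem _ (Subgroup.subset_closure
      (Set.mem_image_of_mem (fun b : G => a * b * a⁻¹ * b⁻¹) hb))
    simpa [mul_assoc] using h
  · have h := Subgroup.inv_mem _ (Subgroup.subset_closure
      (Set.mem_image_of_mem (fun b : G => b * a * b⁻¹ * a⁻¹) hb))
    simpa [mul_assoc] using h

theorem rcc_symm {A B : Subgroup G} (h : RootCommutatorCase S A B) :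
    RootCommutatorCase S B A := by
  obtain ⟨h1, h2, h3, h4⟩ := h
  refine ⟨by rwa [Subgroup.commutator_comm], ?_, ?_, ?_⟩
  · rw [Subgroup.commutator_comm, sup_comm]; exact h2
  · intro b hb hb1
    rw [Subgroup.commutator_comm, ← h4 b hb hb1]
    exact (closure_image_comm_swap b _).symm
  · intro a ha ha1
    rw [Subgroup.commutator_comm, ← h3 a ha ha1]
    exact closure_image_comm_swap a _

theorem rcc_central {A B : Subgroup G} (h : RootCommutatorCase S A B) {c x : G}
    (hc : c ∈ ⁅A, B⁆) (hx : x ∈ A ⊔ B) : c * x = x * c := h.2.1 c hc x hx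

theorem rcc_mem_comm {A B : Subgroup G} {a b : G} (ha : a ∈ A) (hb : b ∈ B) :
    a * b * a⁻¹ * b⁻¹ ∈ ⁅A, B⁆ := Subgroup.commutator_mem_commutator ha hb

theorem rcc_not_commute (hS : IsRootSubgroupSet S) {A B : Subgroup G}
    (h : RootCommutatorCase S A B) : ⁅A, B⁆ ≠ ⊥ :=
  fun hb => rs_bot_notMem hS (hb ▸ h.1)

theorem rcc_not_commute_pair (hS : IsRootSubgroupSet S) {A B : Subgroup G}
    (h : RootCommutatorCase S A B) : ¬ ∀ a ∈ A, ∀ b ∈ B, a * b = b * a :=
  fun hc => rcc_not_commute hS h (bot_of_comm hc)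

/-- In the commutator case a conjugate of `B` under `A` commutes with `B`. -/
theorem rcc_conj_commutes (hS : IsRootSubgroupSet S) {A B : Subgroup G} (hB : B ∈ S)
    (h : RootCommutatorCase S A B) {e x y : G} (he : e ∈ A) (hx : x ∈ conjBy B e) (hy : y ∈ B) :
    x * y = y * x := by
  rw [mem_conjBy] at hx
  have hk : x = (e * (e⁻¹ * x * e) * e⁻¹ * (e⁻¹ * x * e)⁻¹) * (e⁻¹ * x * e) := by
    simp [mul_assoc]
  rw [hk, mul_assoc, rs_comm hS hB hx hy, ← mul_assoc,
    rcc_central h (rcc_mem_comm he hx) ((le_sup_right : B ≤ A ⊔ B) hy), mul_assoc]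

theorem rcc_bracket_mul_right {A B : Subgroup G} (h : RootCommutatorCase S A B) {a b b' : G}
    (ha : a ∈ A) (hb : b ∈ B) (hb' : b' ∈ B) :
    a * (b * b') * a⁻¹ * (b * b')⁻¹ = (a * b * a⁻¹ * b⁻¹) * (a * b' * a⁻¹ * b'⁻¹) := by
  have hc := rcc_central h (rcc_mem_comm ha hb') ((le_sup_right : B ≤ A ⊔ B) hb)
  calc a * (b * b') * a⁻¹ * (b * b')⁻¹
      = (a * b * a⁻¹) * ((a * b' * a⁻¹ * b'⁻¹) * b⁻¹) := by simp [mul_assoc]
    _ = (a * b * a⁻¹) * (b⁻¹ * (a * b' * a⁻¹ * b'⁻¹)) := by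
        congr 1
        have h2 := congrArg (fun t => b⁻¹ * t * b⁻¹) hc
        simp only [← mul_assoc, inv_mul_cancel, one_mul] at h2
        simpa [mul_assoc] using h2.symm
    _ = _ := by simp [mul_assoc]

/-- The homomorphism `b ↦ a b a⁻¹ b⁻¹`. -/
def rccHom {A B : Subgroup G} (h : RootCommutatorCase S A B) {a : G} (ha : a ∈ A) :
    ↥B →* G :=
  MonoidHom.mk' (fun b => a * (b : G) * a⁻¹ * (b : G)⁻¹)
    (fun b b' => rcc_bracket_mul_right h ha b.2 b'.2)

theorem rcc_surj {A B : Subgroup G} (h : RootCommutatorCase S A B) {a c : G} (ha : a ∈ A)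
    (ha1 : a ≠ 1) (hc : c ∈ ⁅A, B⁆) : ∃ b ∈ B, a * b * a⁻¹ * b⁻¹ = c := by
  have hle : Subgroup.closure ((fun b : G => a * b * a⁻¹ * b⁻¹) '' (B : Set G)) ≤
      (rccHom h ha).range := by
    rw [Subgroup.closure_le]
    rintro _ ⟨b, hb, rfl⟩
    exact ⟨⟨b, hb⟩, rfl⟩
  rw [h.2.2.1 a ha ha1] at hle
  obtain ⟨b, hb⟩ := hle hc
  exact ⟨b, b.2, hb⟩

/-! ### The key lemma -/

/-- If `z` centralizes `⟨A, B⟩`, `a ∈ A#` and `z a` lies in a member `E`, then `z = 1` and `E = A`. -/
theorem rs_mul_eq (hS : IsRootSubgroupSet S) {A B E : Subgroup G} (hA : A ∈ S) (hB : B ∈ S)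
    (hE : E ∈ S) (h : IsRankOnePair A B) {z a : G}
    (hz : ∀ x ∈ A ⊔ B, z * x = x * z) (ha : a ∈ A) (ha1 : a ≠ 1) (hza : z * a ∈ E) :
    z = 1 ∧ E = A := by
  have hza_conj : conjBy B (z * a) = conjBy B a := by
    rw [conjBy_mul]
    refine conjBy_of_commute fun x hx => hz x ?_
    exact le_sup_of_mem_unipotent (conjBy_mem_unipotent (rop_right_mem_unipotent h)
      ((le_sup_left : A ≤ A ⊔ B) ha)) hx
  have hzinv : conjBy B (z * a)⁻¹ = conjBy B a⁻¹ := by
    rw [mul_inv_rev, conjBy_mul]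
    congr 1
    refine conjBy_of_commute fun x hx => ?_
    have h0 := hz x ((le_sup_right : B ≤ A ⊔ B) hx)
    exact ((show Commute z x from h0).inv_left).eq
  have hEA : E = A := by
    rcases hS.pair E hE B hB with hc | hr | hcc
    · exfalso
      apply ha1 (rop_eq_one_of_normalizes h ha ?_)
      rw [← hza_conj]
      exact conjBy_of_commute fun b hb => comm_of_bot hc hza hb
    · have hza1 : z * a ≠ 1 := by
        intro h1
        apply ha1 (rop_eq_one_of_normalizes h ha ?_)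
        rw [← hza_conj, h1, conjBy_one]
      obtain ⟨b', hb', -, he⟩ := hr.cond_left _ hza hza1
      rw [hzinv] at he
      obtain ⟨b, hb, -, he'⟩ := h.cond_left a ha ha1
      rw [← he'] at he
      have hEeq : E = conjBy A (b' * b⁻¹) := by
        rw [conjBy_mul, ← he, conjBy_conjBy_inv]
      have hbX : b' * b⁻¹ ∈ A ⊔ B :=
        (le_sup_right : B ≤ A ⊔ B) (mul_mem hb' (inv_mem hb))
      by_contra hne
      refine hza1 (rop_eq_one_of_mem_normalizes h ⟨_, hbX, hEeq⟩ (left_mem_unipotent A B) hne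
        hza ?_)
      rw [conjBy_mul, conjBy_of_mem ha]
      exact conjBy_of_commute fun x hx => hz x ((le_sup_left : A ≤ A ⊔ B) hx)
    · exfalso
      have hmem : conjBy B a ∈ unipotentSubgroups A B :=
        conjBy_mem_unipotent (rop_right_mem_unipotent h) ((le_sup_left : A ≤ A ⊔ B) ha)
      have hne : conjBy B a ≠ B := fun he => ha1 (rop_eq_one_of_normalizes h ha he)
      refine rop_not_commute_pair
        (rop_of_mem_mem h hmem (rop_right_mem_unipotent h) hne).1 ?_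
      intro x hx y hy
      rw [← hza_conj] at hx
      exact rcc_conj_commutes hS hB hcc hza hx hy
  refine ⟨?_, hEA⟩
  subst hEA
  have hzE : z ∈ E := by
    have h0 := mul_mem hza (inv_mem ha)
    simpa using h0
  exact rop_eq_one_of_normalizes h hzE
    (conjBy_of_commute fun b hb => hz b ((le_sup_right : B ≤ E ⊔ B) hb))

/-- A member with a rank one partner meets every other member trivially. -/
theorem rs_inter (hS : IsRootSubgroupSet S) {A B E : Subgroup G} (hA : A ∈ S) (hB : B ∈ S)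
    (hE : E ∈ S) (h : IsRankOnePair A B) {x : G} (hxA : x ∈ A) (hxE : x ∈ E) (hx : x ≠ 1) :
    E = A :=
  (rs_mul_eq hS hA hB hE h (z := 1) (a := x) (fun y _ => by simp) hxA hx (by simpa using hxE)).2

theorem rs_exists_partner_iff {A : Subgroup G} (hA : A ∈ S) :
    ¬ IsIsolatedIn (FAdj S) S A ↔ ∃ B ∈ S, IsRankOnePair A B := by
  constructor
  · intro h
    by_contra hne
    apply h
    refine ⟨hA, fun B => ⟨fun hB => hne ⟨B, hB.2.1, hB.2.2⟩,
      fun hB => hne ⟨B, hB.1, rop_symm hB.2.2⟩⟩⟩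
  · rintro ⟨B, hB, h⟩ hiso
    exact (hiso.2 B).1 ⟨hA, hB, h⟩

theorem rs_partner_conj (hS : IsRootSubgroupSet S) {A : Subgroup G}
    (hA : ∃ B ∈ S, IsRankOnePair A B) (g : G) :
    ∃ B ∈ S, IsRankOnePair (conjBy A g) B := by
  obtain ⟨B, hB, h⟩ := hA
  exact ⟨conjBy B g, hS.conj_mem B hB g, rop_conjBy h g⟩

/-- Membership in the product of two commuting subgroups. -/
theorem mem_sup_of_comm {A C : Subgroup G} (h : ∀ a ∈ A, ∀ c ∈ C, a * c = c * a) {x : G}
    (hx : x ∈ A ⊔ C) : ∃ a ∈ A, ∃ c ∈ C, a * c = x := by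
  rw [Subgroup.sup_eq_closure] at hx
  refine Subgroup.closure_induction'' ?_ ?_ ?_ ?_ hx
  · rintro g (hg | hg)
    · exact ⟨g, hg, 1, one_mem _, mul_one g⟩
    · exact ⟨1, one_mem _, g, hg, one_mul g⟩
  · rintro g (hg | hg)
    · exact ⟨g⁻¹, inv_mem (show g ∈ A from hg), 1, one_mem _, mul_one _⟩
    · exact ⟨1, one_mem _, g⁻¹, inv_mem (show g ∈ C from hg), one_mul _⟩
  · exact ⟨1, one_mem _, 1, one_mem _, mul_one 1⟩
  · rintro u v _ _ ⟨a, ha, c, hc, rfl⟩ ⟨a', ha', c', hc', rfl⟩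
    refine ⟨a * a', mul_mem ha ha', c * c', mul_mem hc hc', ?_⟩
    calc a * a' * (c * c') = a * (a' * c) * c' := by simp [mul_assoc]
      _ = a * (c * a') * c' := by rw [h a' ha' c hc]
      _ = a * c * (a' * c') := by simp [mul_assoc]

/-- A pair with commutator subgroup in `S` is in the commutator case. -/
theorem rcc_of_mem (hS : IsRootSubgroupSet S) {A B : Subgroup G} (hA : A ∈ S) (hB : B ∈ S)
    (hC : ⁅A, B⁆ ∈ S) : RootCommutatorCase S A B := by
  rcases hS.pair A hA B hB with hc | hr | hcc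
  · exact absurd (hc ▸ hC) (rs_bot_notMem hS)
  · exfalso
    obtain ⟨a, ha, ha1⟩ := rop_exists_ne_one hr
    have haX : a ∈ A ⊔ B := (le_sup_left : A ≤ A ⊔ B) ha
    have hNX : ⁅A, B⁆ ≤ A ⊔ B :=
      Subgroup.commutator_le.2 fun x hx y hy => mul_mem (mul_mem
        (mul_mem ((le_sup_left : A ≤ A ⊔ B) hx) ((le_sup_right : B ≤ A ⊔ B) hy))
        (inv_mem ((le_sup_left : A ≤ A ⊔ B) hx))) (inv_mem ((le_sup_right : B ≤ A ⊔ B) hy))
    have hnorm : ∀ x ∈ A ⊔ B, ∀ n ∈ ⁅A, B⁆, x * n * x⁻¹ ∈ ⁅A, B⁆ := fun x hx n hn =>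
      (Subgroup.mem_normalizer_iff.1 (sup_le (Subgroup.normalizer_commutator_ge_left A B)
        (Subgroup.normalizer_commutator_ge_right A B) hx) n).1 hn
    have hnotnorm : ¬ ∀ x ∈ A ⊔ B, conjBy A x = A := fun hall => by
      obtain ⟨b, hb, hb1⟩ := rop_exists_ne_one (rop_symm hr)
      exact hb1 (rop_eq_one_of_normalizes (rop_symm hr) hb (hall b ((le_sup_right : B ≤ A ⊔ B) hb)))
    -- a conjugate of `A` containing a product of a central element and an element of `A`
    have hfix : ∀ m ∈ A ⊔ B, (∀ y ∈ A ⊔ B, (m * a * m⁻¹ * a⁻¹) * y = y * (m * a * m⁻¹ * a⁻¹)) →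
        conjBy A m = A := by
      intro m hm hcen
      by_contra hne
      have hca : m * a * m⁻¹ = (m * a * m⁻¹ * a⁻¹) * a := by simp
      have h1 := rop_eq_one_of_mem_normalizes hr
        (conjBy_mem_unipotent (left_mem_unipotent A B) hm) (left_mem_unipotent A B) hne
        (conj_mem_conjBy ha m) ?_
      · exact ha1 (by simpa using h1)
      · rw [hca, conjBy_mul, conjBy_of_mem ha]
        exact conjBy_of_commute fun y hy => hcen y ((le_sup_left : A ≤ A ⊔ B) hy)
    rcases rop_normal_dichotomy hr hNX hnorm with hsup | hcen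
    · -- `A` normalizes `N := ⁅A, B⁆`, so `(A, N)` is no rank one pair
      have hAN : ∀ x ∈ A, conjBy ⁅A, B⁆ x = ⁅A, B⁆ := fun x hx => conjBy_eq_self_iff.2
        (Subgroup.normalizer_commutator_ge_left A B hx)
      have hNnorm : ∀ n ∈ ⁅A, B⁆, conjBy A n = A := by
        rcases hS.pair A hA _ hC with hc | hr' | hcc'
        · intro n hn
          exact conjBy_of_commute fun y hy => (comm_of_bot hc hy hn).symm
        · exact absurd (rop_eq_one_of_normalizes hr' ha (hAN a ha)) ha1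
        · intro n hn
          refine hfix n (hNX hn) fun y hy => ?_
          have hmem : n * a * n⁻¹ * a⁻¹ ∈ ⁅A, ⁅A, B⁆⁆ := by
            rw [Subgroup.commutator_comm]; exact Subgroup.commutator_mem_commutator hn ha
          refine rcc_central hcc' hmem ?_
          rw [sup_comm, hsup]; exact hy
      apply hnotnorm
      intro x hx
      rw [← hsup] at hx
      refine conjBy_eq_self_iff.2 ((sup_le (fun n hn => conjBy_eq_self_iff.1 (hNnorm n hn))
        Subgroup.le_normalizer : ⁅A, B⁆ ⊔ A ≤ Subgroup.normalizer (A : Set G)) hx)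
    · apply hnotnorm
      intro x hx
      refine conjBy_eq_self_iff.2 ((sup_le Subgroup.le_normalizer (fun m hm => ?_) :
        A ⊔ B ≤ Subgroup.normalizer (A : Set G)) hx)
      refine conjBy_eq_self_iff.1 (hfix m ((le_sup_right : B ≤ A ⊔ B) hm) fun y hy => ?_)
      refine hcen _ ?_ y hy
      rw [Subgroup.commutator_comm]; exact Subgroup.commutator_mem_commutator hm ha
  · exact hcc

theorem rcc_inj (hS : IsRootSubgroupSet S) {A B : Subgroup G} (hA : A ∈ S)
    (hpart : ∃ D ∈ S, IsRankOnePair A D) (h : RootCommutatorCase S A B) {a b : G} (ha : a ∈ A)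
    (ha1 : a ≠ 1) (hb : b ∈ B) (hab : a * b = b * a) : b = 1 := by
  by_contra hb1
  obtain ⟨D, hD, hr⟩ := hpart
  have hmem : a ∈ conjBy A b := by
    rw [mem_conjBy, mul_assoc, hab, inv_mul_cancel_left]; exact ha
  have hfix : conjBy A b = A := rs_inter hS hA hD (hS.conj_mem A hA b) hr ha hmem ha1
  have hle : ⁅A, B⁆ ≤ A := by
    rw [← h.2.2.2 b hb hb1, Subgroup.closure_le]
    rintro _ ⟨x, hx, rfl⟩
    have h1 : b * x⁻¹ * b⁻¹ ∈ A := by
      have h0 := conj_mem_conjBy (inv_mem hx) b; rwa [hfix] at h0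
    simpa [mul_assoc] using mul_mem hx h1
  obtain ⟨c, hc, hc1⟩ := rs_exists_ne_one hS h.1
  have heq : ⁅A, B⁆ = A := rs_inter hS hA hD h.1 hr (hle hc) hc hc1
  refine rcc_not_commute_pair hS h fun x hx y hy => ?_
  exact rcc_central h (heq.symm ▸ hx) ((le_sup_right : B ≤ A ⊔ B) hy)

end CfsgLib.ThreeTransp
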