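import Mathlib
import Cfsg.Agent.Lib.ThreeTransp.RootSet

/-!
The line `A [A, B]` of a commutator pair whose first member has a rank one partner.
-/

set_option autoImplicit false

namespace CfsgLib.ThreeTransp

open Cfsg

variable {G : Type*} [Group G] {S : Set (Subgroup G)}

theorem rcc_comm_left {A B : Subgroup G} (h : RootCommutatorCase S A B) :
    ∀ a ∈ A, ∀ c ∈ ⁅A, B⁆, a * c = c * a :=
  fun _ ha _ hc => (rcc_central h hc ((le_sup_left : A ≤ A ⊔ B) ha)).symm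

theorem rcc_conjBy_le {A B : Subgroup G} {b : G} (hb : b ∈ B) :
    conjBy A b ≤ A ⊔ ⁅A, B⁆ := by
  intro x hx
  rw [mem_conjBy] at hx
  have h1 : b * (b⁻¹ * x * b) * b⁻¹ * (b⁻¹ * x * b)⁻¹ ∈ ⁅A, B⁆ := by
    rw [Subgroup.commutator_comm]; exact Subgroup.commutator_mem_commutator hb hx
  have h2 := mul_mem ((le_sup_right : ⁅A, B⁆ ≤ A ⊔ ⁅A, B⁆) h1)
    ((le_sup_left : A ≤ A ⊔ ⁅A, B⁆) hx)
  simpa [mul_assoc] using h2

/-- Every element `a c`, `a ≠ 1`, of `A [A, B]` lies in a conjugate of `A` under `B`. -/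
theorem rcc_mul_mem {A B : Subgroup G} (h : RootCommutatorCase S A B) {a c : G} (ha : a ∈ A)
    (ha1 : a ≠ 1) (hc : c ∈ ⁅A, B⁆) : ∃ b ∈ B, a * c ∈ conjBy A b := by
  obtain ⟨b, hb, he⟩ := rcc_surj h ha ha1 (inv_mem hc)
  refine ⟨b, hb, ?_⟩
  have h2 : b * a * b⁻¹ = a * c := by
    have hac := rcc_comm_left h a ha c hc
    have : c = b * a * b⁻¹ * a⁻¹ := by
      have h0 := congrArg (fun t : G => t⁻¹) he
      simpa [mul_assoc] using h0.symm
    rw [hac, this]; simp [mul_assoc]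
  rw [← h2]; exact conj_mem_conjBy ha b

/-- No non-identity element of `[A, B]` centralizes a rank one partner of `A`. -/
theorem rcc_not_central (hS : IsRootSubgroupSet S) {A B D : Subgroup G} (hA : A ∈ S) (hD : D ∈ S)
    (hr : IsRankOnePair A D) (h : RootCommutatorCase S A B) {c : G} (hc : c ∈ ⁅A, B⁆)
    (hcD : ∀ d ∈ D, c * d = d * c) : c = 1 := by
  obtain ⟨a, ha, ha1⟩ := rs_exists_ne_one hS hA
  obtain ⟨b, hb, hmem⟩ := rcc_mul_mem h ha ha1 hc
  rw [rcc_comm_left h a ha c hc] at hmem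
  exact (rs_mul_eq hS hA hD (hS.conj_mem A hA b) hr
    (commute_sup (fun y hy => (rcc_comm_left h y hy c hc).symm) hcD) ha ha1 hmem).1

/-- `[A, B]` properly contains no member. -/
theorem rcc_eq_of_le (hS : IsRootSubgroupSet S) {A B : Subgroup G} (hA : A ∈ S)
    (hpart : ∃ D ∈ S, IsRankOnePair A D) (h : RootCommutatorCase S A B) {E : Subgroup G}
    (hE : E ∈ S) (hle : E ≤ ⁅A, B⁆) : E = ⁅A, B⁆ := by
  obtain ⟨D, hD, hr⟩ := hpart
  obtain ⟨e, he, he1⟩ := rs_exists_ne_one hS hE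
  have hnc : ∀ {X : Subgroup G}, X ≤ ⁅A, B⁆ → X ≠ ⊥ → ⁅X, D⁆ ≠ ⊥ := by
    intro X hX hX1 hc
    obtain ⟨x, hx, hx1⟩ := X.bot_or_exists_ne_one.resolve_left hX1
    exact hx1 (rcc_not_central hS hA hD hr h (hX hx) fun d hd => comm_of_bot hc hx hd)
  rcases hS.pair E hE D hD with hc | hr' | hcE
  · exact absurd hc (hnc hle (hS.ne_bot E hE))
  · exact (rs_inter hS hE hD h.1 hr' he (hle he) he1).symm
  · rcases hS.pair _ h.1 D hD with hc | hr' | hcC
    · exact absurd hc (hnc le_rfl (hS.ne_bot _ h.1))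
    · exact rs_inter hS h.1 hD hE hr' (hle he) he he1
    · have hsub : ⁅E, D⁆ = ⁅⁅A, B⁆, D⁆ := by
        rw [← hcE.2.2.1 e he he1, ← hcC.2.2.1 e (hle he) he1]
      refine le_antisymm hle fun c hc => ?_
      obtain ⟨d, hd, hd1⟩ := rs_exists_ne_one hS hD
      have hm : d * c * d⁻¹ * c⁻¹ ∈ ⁅D, E⁆ := by
        rw [Subgroup.commutator_comm D E, hsub, Subgroup.commutator_comm]
        exact Subgroup.commutator_mem_commutator hd hc
      obtain ⟨x, hx, hxe⟩ := rcc_surj (rcc_symm hcE) hd hd1 hm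
      have hxe' : rccHom (rcc_symm hcC) hd ⟨x, hle hx⟩ = rccHom (rcc_symm hcC) hd ⟨c, hc⟩ := hxe
      have h1 : rccHom (rcc_symm hcC) hd (⟨c, hc⟩⁻¹ * ⟨x, hle hx⟩) = 1 := by
        rw [map_mul, map_inv, hxe', inv_mul_cancel]
      have h3 : c⁻¹ * x = 1 := rcc_inj hS hD ⟨A, hA, rop_symm hr⟩ (rcc_symm hcC) hd hd1
        (mul_mem (inv_mem hc) (hle hx)) (by
          have h0 : d * (c⁻¹ * x) * d⁻¹ * (c⁻¹ * x)⁻¹ = 1 := h1
          rwa [mul_inv_eq_one, mul_inv_eq_iff_eq_mul] at h0)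
      rw [inv_mul_eq_one] at h3
      rw [h3]; exact hx

theorem rcc_conjBy_ne (hS : IsRootSubgroupSet S) {A B : Subgroup G}
    (h : RootCommutatorCase S A B) {b : G} (hb : b ∈ B) : conjBy A b ≠ ⁅A, B⁆ := by
  intro he
  refine rcc_not_commute_pair hS h fun a ha y hy => ?_
  have hfix : conjBy ⁅A, B⁆ b⁻¹ = ⁅A, B⁆ := by
    refine conjBy_of_commute fun c hc => ?_
    exact (rcc_central h hc ((le_sup_right : B ≤ A ⊔ B) (inv_mem hb))).symm
  have hA : A = ⁅A, B⁆ := by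
    rw [← hfix, ← he, conjBy_inv_conjBy]
  exact rcc_central h (hA ▸ ha) ((le_sup_right : B ≤ A ⊔ B) hy)

theorem rcc_membersIn (hS : IsRootSubgroupSet S) {A B : Subgroup G} (hA : A ∈ S)
    (hpart : ∃ D ∈ S, IsRankOnePair A D) (h : RootCommutatorCase S A B) :
    membersIn S (A ⊔ ⁅A, B⁆) = (fun b : G => conjBy A b) '' (B : Set G) ∪ {⁅A, B⁆} := by
  ext E
  constructor
  · rintro ⟨hE, hle⟩
    by_cases hEC : E ≤ ⁅A, B⁆
    · exact Or.inr (rcc_eq_of_le hS hA hpart h hE hEC)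
    · left
      obtain ⟨x, hxE, hxC⟩ := SetLike.not_le_iff_exists.1 hEC
      obtain ⟨a, ha, c, hc, rfl⟩ := mem_sup_of_comm (rcc_comm_left h) (hle hxE)
      have ha1 : a ≠ 1 := fun h1 => hxC (by rw [h1, one_mul]; exact hc)
      obtain ⟨b, hb, hmem⟩ := rcc_mul_mem h ha ha1 hc
      obtain ⟨D, hD, hr⟩ := rs_partner_conj hS hpart b
      refine ⟨b, hb, (rs_inter hS (hS.conj_mem A hA b) hD hE hr hmem hxE ?_).symm⟩
      intro h1; exact hxC (h1 ▸ one_mem _)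
  · rintro (⟨b, hb, rfl⟩ | rfl)
    · exact ⟨hS.conj_mem A hA b, rcc_conjBy_le hb⟩
    · exact ⟨h.1, le_sup_right⟩

theorem rcc_partition (hS : IsRootSubgroupSet S) {A B : Subgroup G} (hA : A ∈ S)
    (hpart : ∃ D ∈ S, IsRankOnePair A D) (h : RootCommutatorCase S A B) :
    IsSubgroupPartition (A ⊔ ⁅A, B⁆) (membersIn S (A ⊔ ⁅A, B⁆)) := by
  refine ⟨fun C hC => hC.2, ?_, ?_⟩
  · intro x hx _
    rw [rcc_membersIn hS hA hpart h]
    obtain ⟨a, ha, c, hc, rfl⟩ := mem_sup_of_comm (rcc_comm_left h) hx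
    by_cases ha1 : a = 1
    · exact ⟨_, Or.inr rfl, by rw [ha1, one_mul]; exact hc⟩
    · obtain ⟨b, hb, hmem⟩ := rcc_mul_mem h ha ha1 hc
      exact ⟨_, Or.inl ⟨b, hb, rfl⟩, hmem⟩
  · rw [rcc_membersIn hS hA hpart h]
    have hmem : ∀ {C : Subgroup G}, C ∈ (fun b : G => conjBy A b) '' (B : Set G) ∪ {⁅A, B⁆} →
        C ∈ S := by
      rintro C (⟨b, -, rfl⟩ | rfl)
      exacts [hS.conj_mem A hA b, h.1]
    have key : ∀ {b : G}, b ∈ B → ∀ {C : Subgroup G}, C ∈ S → C ≠ conjBy A b →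
        conjBy A b ⊓ C = ⊥ := by
      intro b _ C hC hne
      obtain ⟨D, hD, hr⟩ := rs_partner_conj hS hpart b
      rw [eq_bot_iff]
      rintro x ⟨hx1, hx2⟩
      rw [Subgroup.mem_bot]
      by_contra hx
      exact hne (rs_inter hS (hS.conj_mem A hA b) hD hC hr hx1 hx2 hx)
    intro C hC E hE hne
    rcases hC with ⟨b, hb, rfl⟩ | rfl
    · exact key hb (hmem hE) (Ne.symm hne)
    · rcases hE with ⟨b, hb, rfl⟩ | rfl
      · rw [inf_comm]; exact key hb h.1 hne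
      · exact absurd rfl hne

theorem rcc_line (hS : IsRootSubgroupSet S) {A B : Subgroup G} (hA : A ∈ S)
    (hpart : ∃ D ∈ S, IsRankOnePair A D) (h : RootCommutatorCase S A B) :
    A ∈ linePartners S ⁅A, B⁆ := by
  refine ⟨⟨hA, ?_, ?_⟩, ?_⟩
  · have := rcc_conjBy_ne hS h (one_mem B)
    rwa [conjBy_one] at this
  · exact bot_of_comm fun c hc a ha => (rcc_comm_left h a ha c hc).symm
  · rw [sup_comm]
    exact rcc_partition hS hA hpart h

/-- A conjugate of `A` under a commutator partner is `A` or lies in `Λ_A`. -/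
theorem rcc_conj_line (hS : IsRootSubgroupSet S) {A B : Subgroup G} (hA : A ∈ S)
    (hpart : ∃ D ∈ S, IsRankOnePair A D) (h : RootCommutatorCase S A B) {b : G} (hb : b ∈ B)
    (hb1 : b ≠ 1) : conjBy A b ∈ linePartners S A := by
  have hcomm : ∀ a ∈ A, ∀ x ∈ conjBy A b, a * x = x * a := by
    intro a ha x hx
    exact (rcc_conj_commutes hS hA (rcc_symm h) hb hx ha).symm
  have hsup : A ⊔ conjBy A b = A ⊔ ⁅A, B⁆ := by
    refine le_antisymm (sup_le le_sup_left (rcc_conjBy_le hb)) (sup_le le_sup_left ?_)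
    rw [← h.2.2.2 b hb hb1, Subgroup.closure_le]
    rintro _ ⟨a, ha, rfl⟩
    have h1 : b * a⁻¹ * b⁻¹ ∈ A ⊔ conjBy A b :=
      (le_sup_right : conjBy A b ≤ _) (conj_mem_conjBy (inv_mem ha) b)
    simpa [mul_assoc] using mul_mem ((le_sup_left : A ≤ A ⊔ conjBy A b) ha) h1
  refine ⟨⟨hS.conj_mem A hA b, ?_, bot_of_comm hcomm⟩, ?_⟩
  · intro he
    refine rcc_not_commute hS h (eq_bot_iff.2 ?_)
    have hc : ⁅A, B⁆ ≤ A := by
      calc ⁅A, B⁆ ≤ A ⊔ ⁅A, B⁆ := le_sup_right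
        _ = A := by rw [← hsup, he, sup_idem]
    obtain ⟨D, hD, hr⟩ := hpart
    obtain ⟨c, hc1, hc2⟩ := rs_exists_ne_one hS h.1
    have := rs_inter hS hA hD h.1 hr (hc hc1) hc1 hc2
    have hcn := rcc_conjBy_ne hS h (one_mem B)
    rw [conjBy_one] at hcn
    exact absurd this.symm hcn
  · rw [hsup]
    exact rcc_partition hS hA hpart h

end CfsgLib.ThreeTransp
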