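import Mathlib
import Cfsg.Agent.Lib.ThreeTransp.RootLine

/-!
The rank one graph on a set of abstract root subgroups.
-/

set_option autoImplicit false

namespace CfsgLib.ThreeTransp

open Cfsg

variable {G : Type*} [Group G] {S : Set (Subgroup G)}

theorem fadj_symm {A B : Subgroup G} (h : FAdj S A B) : FAdj S B A :=
  ⟨h.2.1, h.1, rop_symm h.2.2⟩

theorem freach_symm {A B : Subgroup G} (h : Relation.ReflTransGen (FAdj S) A B) :
    Relation.ReflTransGen (FAdj S) B A := by
  induction h with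
  | refl => exact .refl
  | tail _ h ih => exact (Relation.ReflTransGen.single (fadj_symm h)).trans ih

theorem freach_conj (hS : IsRootSubgroupSet S) {A B : Subgroup G}
    (h : Relation.ReflTransGen (FAdj S) A B) (g : G) :
    Relation.ReflTransGen (FAdj S) (conjBy A g) (conjBy B g) :=
  h.lift (fun C => conjBy C g) fun _ _ hab =>
    ⟨hS.conj_mem _ hab.1 g, hS.conj_mem _ hab.2.1 g, rop_conjBy hab.2.2 g⟩

theorem componentOf_eq_of_reach {A B : Subgroup G} (h : Relation.ReflTransGen (FAdj S) A B) :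
    componentOf (FAdj S) S A = componentOf (FAdj S) S B := by
  ext C
  exact ⟨fun hC => ⟨hC.1, (freach_symm h).trans hC.2⟩, fun hC => ⟨hC.1, h.trans hC.2⟩⟩

theorem exists_partner_of_component {A : Subgroup G}
    (h : ∃ A' ∈ componentOf (FAdj S) S A, A' ≠ A) : ∃ D ∈ S, IsRankOnePair A D := by
  obtain ⟨A', ⟨-, hr⟩, hne⟩ := h
  rcases Relation.ReflTransGen.cases_head hr with he | ⟨D, hD, -⟩
  · exact absurd he.symm hne
  · exact ⟨D, hD.2.1, hD.2.2⟩

/-- A third member of the line `A B` reaches `A` through a rank one partner `D` of `A`. -/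
theorem rs_line_third (hS : IsRootSubgroupSet S) {A B C D : Subgroup G} (hA : A ∈ S) (hB : B ∈ S)
    (hC : C ∈ S) (hD : D ∈ S) (hr : IsRankOnePair A D) {a b : G} (ha : a ∈ A) (ha1 : a ≠ 1)
    (hb : b ∈ B) (hab : a * b = b * a) (hmem : a * b ∈ C)
    (hnr : ¬ IsRankOnePair B D) : IsRankOnePair C D := by
  have hDU : D ∈ unipotentSubgroups A D := rop_right_mem_unipotent hr
  have haX : a ∈ A ⊔ D := (le_sup_left : A ≤ A ⊔ D) ha
  have hmoveD : conjBy D a ≠ D := fun he => ha1 (rop_eq_one_of_normalizes hr ha he)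
  have hmoveD' : conjBy D a⁻¹ ≠ D := fun he =>
    ha1 (inv_eq_one.1 (rop_eq_one_of_normalizes hr (inv_mem ha) he))
  have hDb : ∀ {x y : G}, x ∈ conjBy D b⁻¹ → y ∈ D → x * y = y * x := by
    intro x y hx hy
    rcases hS.pair B hB D hD with hc | hr' | hcc
    · rw [conjBy_of_commute (fun d hd => comm_of_bot hc (inv_mem hb) hd)] at hx
      exact rs_comm hS hD hx hy
    · exact absurd hr' hnr
    · exact rcc_conj_commutes hS hD hcc (inv_mem hb) hx hy
  rcases hS.pair C hC D hD with hc | hr' | hcc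
  · exfalso
    have h0 : conjBy D (a * b) = D := conjBy_of_commute fun d hd => comm_of_bot hc hmem hd
    have hE : conjBy D a = conjBy D b⁻¹ := by
      have h1 := congrArg (fun F => conjBy F b⁻¹) h0
      simp only [← conjBy_mul] at h1
      rwa [hab, inv_mul_cancel_left] at h1
    refine rop_not_commute_pair
      (rop_of_mem_mem hr (conjBy_mem_unipotent hDU haX) hDU hmoveD).1 ?_
    intro x hx y hy
    exact hDb (hE ▸ hx) hy
  · exact hr'
  · exfalso
    -- `conjBy D b⁻¹` centralizes `⟨D, conjBy D a⟩ = ⟨A, D⟩`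
    have hcom : ∀ {x y : G}, x ∈ conjBy D a → y ∈ conjBy D b⁻¹ → x * y = y * x := by
      intro x y hx hy
      have hx' : b * x * b⁻¹ ∈ conjBy D (a * b) := by
        rw [hab, conjBy_mul]; exact conj_mem_conjBy hx b
      have hy' : b * y * b⁻¹ ∈ D := by
        rw [mem_conjBy] at hy; simpa [mul_assoc] using hy
      have h2 := rcc_conj_commutes hS hD hcc hmem hx' hy'
      have h3 := congrArg (fun t => b⁻¹ * t * b) h2
      simpa [mul_assoc] using h3
    have hXeq := (rop_of_mem_mem hr (conjBy_mem_unipotent hDU haX) hDU hmoveD).2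
    have hcen : ∀ y ∈ conjBy D b⁻¹, ∀ x ∈ A ⊔ D, y * x = x * y := by
      intro y hy x hx
      rw [← hXeq] at hx
      exact commute_sup (fun u hu => (hcom hu hy).symm) (fun v hv => hDb hy hv) x hx
    obtain ⟨d, hd, hd1⟩ := rs_exists_ne_one hS hD
    set y := b⁻¹ * d * b with hy
    have hymem : y ∈ conjBy D b⁻¹ := by
      have h0 := conj_mem_conjBy hd b⁻¹
      simpa [hy] using h0
    have hy1 : y ≠ 1 := fun he => hd1 (by
      have h0 := congrArg (fun t => b * t * b⁻¹) he
      simpa [hy, mul_assoc] using h0)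
    rcases hS.pair B hB D hD with hc | hr' | hcc'
    · have hyD : y ∈ D := by
        rw [hy, mul_assoc, ← comm_of_bot hc hb hd, inv_mul_cancel_left]; exact hd
      exact rop_not_commute (rop_symm hr) hyD hy1
        fun z hz => hcen y hymem z ((le_sup_left : A ≤ A ⊔ D) hz)
    · exact hnr hr'
    · -- `y d⁻¹` lies in the commutator subgroup, a member
      have hf : y * d⁻¹ ∈ ⁅B, D⁆ := by
        simpa [hy] using rcc_mem_comm (inv_mem hb) hd
      exact hy1 (rs_mul_eq hS hD hA hcc'.1 (rop_symm hr)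
        (fun x hx => hcen y hymem x (by rw [sup_comm]; exact hx)) (inv_mem hd)
        (inv_ne_one.2 hd1) hf).1

theorem rs_line_component (hS : IsRootSubgroupSet S) {A B : Subgroup G} (hA : A ∈ S)
    (hA2 : ∃ D ∈ S, IsRankOnePair A D) (hB2 : ∃ D ∈ S, IsRankOnePair B D)
    (hline : B ∈ linePartners S A) : Relation.ReflTransGen (FAdj S) A B := by
  obtain ⟨⟨hB, hne, hc⟩, -, hcov, -⟩ := hline
  obtain ⟨D, hD, hr⟩ := hA2
  obtain ⟨D', hD', hr'⟩ := hB2
  by_cases hBD : IsRankOnePair B D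
  · exact (Relation.ReflTransGen.single (show FAdj S A D from ⟨hA, hD, hr⟩)).trans
      (Relation.ReflTransGen.single (fadj_symm ⟨hB, hD, hBD⟩))
  by_cases hAD' : IsRankOnePair A D'
  · exact (Relation.ReflTransGen.single (show FAdj S A D' from ⟨hA, hD', hAD'⟩)).trans
      (Relation.ReflTransGen.single (fadj_symm ⟨hB, hD', hr'⟩))
  obtain ⟨a, ha, ha1⟩ := rs_exists_ne_one hS hA
  obtain ⟨b, hb, hb1⟩ := rs_exists_ne_one hS hB
  have hab : a * b = b * a := comm_of_bot hc ha hb
  have hab1 : a * b ≠ 1 := by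
    intro h
    refine hne (rs_inter hS hA hD hB hr ha ?_ ha1)
    rw [eq_inv_of_mul_eq_one_left h]; exact inv_mem hb
  obtain ⟨C, ⟨hCS, -⟩, hC⟩ :=
    hcov (a * b) (mul_mem ((le_sup_left : A ≤ A ⊔ B) ha) ((le_sup_right : B ≤ A ⊔ B) hb)) hab1
  have h1 := rs_line_third hS hA hB hCS hD hr ha ha1 hb hab hC hBD
  have h2 := rs_line_third hS hB hA hCS hD' hr' hb hb1 ha hab.symm (hab ▸ hC) hAD'
  exact (Relation.ReflTransGen.single (show FAdj S A D from ⟨hA, hD, hr⟩)).trans
    ((Relation.ReflTransGen.single (fadj_symm ⟨hCS, hD, h1⟩)).trans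
      ((Relation.ReflTransGen.single (show FAdj S C D' from ⟨hCS, hD', h2⟩)).trans
        (Relation.ReflTransGen.single (fadj_symm ⟨hB, hD', hr'⟩))))

/-- In a rank one pair the members are conjugate. -/
theorem freach_conjugate {A B : Subgroup G} (h : Relation.ReflTransGen (FAdj S) A B) :
    ∃ g : G, B = conjBy A g := by
  induction h with
  | refl => exact ⟨1, (conjBy_one A).symm⟩
  | tail _ h ih =>
    obtain ⟨g, rfl⟩ := ih
    obtain ⟨x, -, hx⟩ := rop_right_mem_unipotent h.2.2
    exact ⟨x * g, by rw [conjBy_mul]; exact hx⟩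

theorem rs_connected_of_class (hS : IsRootSubgroupSet S) (hcl : IsConjClassOfSubgroups S)
    (hex : ∃ A ∈ S, ¬ IsIsolatedIn (FAdj S) S A) : IsConnectedFamily (FAdj S) S := by
  obtain ⟨A₀, hA₀, hni⟩ := hex
  have hpart : ∀ A ∈ S, ∃ D ∈ S, IsRankOnePair A D := by
    intro A hA
    obtain ⟨g, rfl⟩ := hcl.2 A₀ hA₀ A hA
    exact rs_partner_conj hS ((rs_exists_partner_iff hA₀).1 hni) g
  have hstep : ∀ E ∈ S, ∀ e ∈ E, ∀ A ∈ S, Relation.ReflTransGen (FAdj S) A (conjBy A e) := by
    intro E hE e he A hA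
    rcases hS.pair A hA E hE with hc | hr | hcc
    · rw [conjBy_of_commute fun a ha => (comm_of_bot hc ha he).symm]
    · have h1 : Relation.ReflTransGen (FAdj S) A E := .single ⟨hA, hE, hr⟩
      have h2 := freach_conj hS h1 e
      rw [conjBy_of_mem he] at h2
      exact h1.trans (freach_symm h2)
    · by_cases he1 : e = 1
      · rw [he1, conjBy_one]
      · exact rs_line_component hS hA (hpart A hA) (rs_partner_conj hS (hpart A hA) e)
          (rcc_conj_line hS hA (hpart A hA) hcc he he1)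
  have hall : ∀ g : G, ∀ A ∈ S, Relation.ReflTransGen (FAdj S) A (conjBy A g) := by
    intro g
    have hg : g ∈ Subgroup.closure (⋃ E ∈ S, (E : Set G)) := by
      have h0 : g ∈ (⨆ E ∈ S, E) := by rw [hS.generates]; trivial
      simpa [Subgroup.closure_iUnion] using h0
    refine Subgroup.closure_induction'' ?_ ?_ ?_ ?_ hg
    · intro x hx A hA
      simp only [Set.mem_iUnion] at hx
      obtain ⟨E, hE, hxE⟩ := hx
      exact hstep E hE x hxE A hA
    · intro x hx A hA
      simp only [Set.mem_iUnion] at hx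
      obtain ⟨E, hE, hxE⟩ := hx
      exact hstep E hE x⁻¹ (inv_mem (show x ∈ E from hxE)) A hA
    · intro A _; rw [conjBy_one]
    · intro x y _ _ hx hy A hA
      rw [conjBy_mul]
      exact (hy A hA).trans (hx _ (hS.conj_mem A hA y))
  intro A hA B hB
  obtain ⟨g, rfl⟩ := hcl.2 A hA B hB
  exact hall g A hA

theorem rs_class_of_connected (h2 : ∃ A ∈ S, ∃ B ∈ S, A ≠ B)
    (hc : IsConnectedFamily (FAdj S) S) :
    IsConjClassOfSubgroups S ∧ ∃ A ∈ S, ¬ IsIsolatedIn (FAdj S) S A := by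
  obtain ⟨A, hA, B, hB, hne⟩ := h2
  refine ⟨⟨⟨A, hA⟩, fun C hC E hE => freach_conjugate (hc C hC E hE)⟩, A, hA, ?_⟩
  rintro ⟨-, hiso⟩
  rcases Relation.ReflTransGen.cases_head (hc A hA B hB) with he | ⟨D, hD, -⟩
  · exact hne he
  · exact (hiso D).1 hD

end CfsgLib.ThreeTransp
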