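import Mathlib
import Cfsg.Agent.Lib.ThreeTransp.RankOne

/-!
Sets of root subgroups inside the subgroup they generate.
-/

set_option autoImplicit false

namespace CfsgLib.ThreeTransp

open Cfsg

variable {X : Type*} [Group X]

theorem conjBy_map {Y : Type*} [Group Y] (f : X →* Y) (C : Subgroup X) (g : X) :
    conjBy (C.map f) (f g) = (conjBy C g).map f := by
  simp only [Cfsg.conjBy, Subgroup.map_map]
  congr 1
  ext x
  simp

theorem rop_of_map {Y : Type*} [Group Y] {f : X →* Y} (hf : Function.Injective f) {A B : Subgroup X}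
    (h : IsRankOnePair (A.map f) (B.map f)) : IsRankOnePair A B := by
  have key : ∀ {A B : Subgroup X}, RankOneCondition (A.map f) (B.map f) → RankOneCondition A B := by
    intro A B hc a ha ha1
    obtain ⟨_, ⟨b, hb, rfl⟩, hb1, he⟩ := hc (f a) ⟨a, ha, rfl⟩ fun h => ha1 (hf (by rw [h, map_one]))
    refine ⟨b, hb, fun h => hb1 (by rw [h, map_one]), Subgroup.map_injective hf ?_⟩
    rwa [← map_inv, ← map_inv, conjBy_map, conjBy_map] at he
  refine ⟨fun e => h.ne (by rw [e]), ?_, ?_, key h.cond_left, key h.cond_right⟩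
  · haveI := h.nilpotent_left
    exact Group.nilpotent_of_mulEquiv (A.equivMapOfInjective f hf).symm
  · haveI := h.nilpotent_right
    exact Group.nilpotent_of_mulEquiv (B.equivMapOfInjective f hf).symm

theorem subgroupOf_map_subtype_eq {A H : Subgroup X} (h : A ≤ H) : (A.subgroupOf H).map H.subtype = A :=
  Subgroup.map_subgroupOf_eq_of_le h

theorem conjBy_subgroupOf {A H : Subgroup X} (h : A ≤ H) (g : H) :
    conjBy (A.subgroupOf H) g = (conjBy A g).subgroupOf H := by
  refine Subgroup.map_injective H.subtype_injective ?_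
  rw [← conjBy_map, subgroupOf_map_subtype_eq h, subgroupOf_map_subtype_eq]
  · rfl
  · intro x hx
    rw [mem_conjBy] at hx
    have := mul_mem (mul_mem g.2 (h hx)) (inv_mem g.2)
    simpa [mul_assoc] using this

/-- A family with the axioms restricts to a set of root subgroups of the group it generates. -/
theorem rootSet_restrict (S : Set (Subgroup X))
    (hcomm : ∀ A ∈ S, IsMulCommutative A) (hne : ∀ A ∈ S, A ≠ ⊥)
    (hconj : ∀ A ∈ S, ∀ g ∈ (⨆ B ∈ S, B), conjBy A g ∈ S)
    (hpair : ∀ A ∈ S, ∀ B ∈ S, ⁅A, B⁆ = ⊥ ∨ IsRankOnePair A B ∨ RootCommutatorCase S A B) :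
    IsRootSubgroupSet ((fun A : Subgroup X => A.subgroupOf (⨆ B ∈ S, B)) '' S) := by
  set H := ⨆ B ∈ S, B with hH
  have hle : ∀ A ∈ S, A ≤ H := fun A hA => le_iSup₂_of_le A hA le_rfl
  have hi := H.subtype_injective
  have hm : ∀ {A}, A ∈ S → (A.subgroupOf H).map H.subtype = A := fun hA =>
    subgroupOf_map_subtype_eq (hle _ hA)
  constructor
  · rintro _ ⟨A, hA, rfl⟩
    haveI := hcomm A hA
    refine ⟨⟨fun x y => Subtype.ext (Subtype.ext ?_)⟩⟩
    exact congrArg (fun t : A => (t : X)) ((hcomm A hA).is_comm.comm ⟨x.1.1, x.2⟩ ⟨y.1.1, y.2⟩)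
  · rintro _ ⟨A, hA, rfl⟩ h
    refine hne A hA ?_
    rw [← hm hA]
    dsimp only at h
    rw [h, Subgroup.map_bot]
  · refine Subgroup.map_injective hi ?_
    rw [iSup_image, Subgroup.map_iSup, ← MonoidHom.range_eq_map, Subgroup.range_subtype]
    refine iSup_congr fun A => ?_
    rw [Subgroup.map_iSup]
    exact iSup_congr fun hA => hm hA
  · rintro _ ⟨A, hA, rfl⟩ g
    exact ⟨_, hconj A hA g g.2, (conjBy_subgroupOf (hle A hA) g).symm⟩
  · rintro _ ⟨A, hA, rfl⟩ _ ⟨B, hB, rfl⟩
    have hcm : (⁅A.subgroupOf H, B.subgroupOf H⁆).map H.subtype = ⁅A, B⁆ := by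
      rw [Subgroup.map_commutator, hm hA, hm hB]
    rcases hpair A hA B hB with h | h | ⟨h1, h2, h3, h4⟩
    · left
      refine Subgroup.map_injective hi ?_
      rw [hcm, h, Subgroup.map_bot]
    · right; left
      exact rop_of_map hi (by rw [hm hA, hm hB]; exact h)
    · right; right
      refine ⟨⟨_, h1, Subgroup.map_injective hi ?_⟩, ?_, ?_, ?_⟩
      · rw [hcm, subgroupOf_map_subtype_eq (hle _ h1)]
      · intro c hc x hx
        refine Subtype.ext (h2 c ?_ x ?_)
        · rw [← hcm]; exact ⟨c, hc, rfl⟩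
        · rw [← hm hA, ← hm hB, ← Subgroup.map_sup]; exact ⟨x, hx, rfl⟩
      · intro a ha ha1
        refine Subgroup.map_injective hi ?_
        rw [MonoidHom.map_closure, hcm, ← h3 a.1 ha (fun h => ha1 (Subtype.ext h)), Set.image_image]
        congr 1
        ext x
        constructor
        · rintro ⟨b, hb, rfl⟩; exact ⟨b.1, hb, rfl⟩
        · rintro ⟨b, hb, rfl⟩; exact ⟨⟨b, hle B hB hb⟩, hb, rfl⟩
      · intro b hb hb1
        refine Subgroup.map_injective hi ?_
        rw [MonoidHom.map_closure, hcm, ← h4 b.1 hb (fun h => hb1 (Subtype.ext h)), Set.image_image]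
        congr 1
        ext x
        constructor
        · rintro ⟨a, ha, rfl⟩; exact ⟨a.1, ha, rfl⟩
        · rintro ⟨a, ha, rfl⟩; exact ⟨⟨a, hle A hA ha⟩, ha, rfl⟩

end CfsgLib.ThreeTransp
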