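import Mathlib
import Cfsg.Agent.Lib.ThreeTransp.QuadClassTwo
import Cfsg.Agent.Lib.ThreeTransp.RootGraph
import Cfsg.Agent.Lib.ThreeTransp.RootRestrict

/-!
The root subgroups of a quadratic pair and their graph.
-/

set_option autoImplicit false
set_option linter.unusedSectionVars false

namespace CfsgLib.ThreeTransp

open Cfsg

variable {k : Type*} [Field k] {M : Type*} [AddCommGroup M] [Module k M] [FiniteDimensional k M]
variable {G : Subgroup (LinearMap.GeneralLinearGroup k M)}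

local notation "GLM" => LinearMap.GeneralLinearGroup k M
local notation "EndM" => Module.End k M
local notation "Sig" => quadraticRootSubgroups G

variable {a b x y : Module.End k M}

theorem qel_commute_iff (hx : x * x = 0) (hy : y * y = 0) :
    qel x * qel y = qel y * qel x ↔ x * y = y * x := by
  rw [Units.ext_iff, Units.val_mul, Units.val_mul, qel_val hx, qel_val hy, ← sub_eq_zero,
    ← sub_eq_zero (a := x * y)]
  have : (1 + x) * (1 + y) - (1 + y) * (1 + x) = x * y - y * x := by noncomm_ring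
  rw [this]

theorem eGrp_bot_iff (h2 : (2 : k) ≠ 0) (h3 : Nat.card k ≠ 3) (ha : QMin G a) (hb : QMin G b) :
    ⁅eGrp G a ha, eGrp G b hb⁆ = ⊥ ↔ ¬ Linked a b ∧ a * b = b * a := by
  constructor
  · intro h
    have hc := (qel_commute_iff ha.sq hb.sq).1 (comm_of_bot h (qel_self_mem_eGrp ha) (qel_self_mem_eGrp hb))
    exact ⟨not_linked_of_commute h2 ha hb.sq hc, hc⟩
  · rintro ⟨hl, hc⟩
    refine bot_of_comm ?_
    rintro _ ⟨x, hx, rfl⟩ _ ⟨y, hy, rfl⟩
    exact (qel_commute_iff hx.1.1 hy.1.1).2 (commute_all_of_commute h2 h3 ha hb hl hc hx hy)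

theorem linked_of_rop (h2 : (2 : k) ≠ 0) (h3 : Nat.card k ≠ 3) (hirr : IsIrreducibleFor G)
    (ha : QMin G a) (hb : QMin G b) (h : IsRankOnePair (eGrp G a ha) (eGrp G b hb)) : Linked a b := by
  by_contra hl
  by_cases hc : a * b = b * a
  · exact rop_commutator_ne_bot h ((eGrp_bot_iff h2 h3 ha hb).2 ⟨hl, hc⟩)
  obtain ⟨-, -, -, -, -, s5, -⟩ := class_two_structure h2 h3 hirr ha hb hl hc
  apply hc
  rw [← qel_commute_iff ha.sq hb.sq]
  refine rop_second_center h (le_sup_left (α := Subgroup GLM) (qel_self_mem_eGrp ha)) ?_ _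
    (le_sup_right (α := Subgroup GLM) (qel_self_mem_eGrp hb))
  intro p hp q hq
  exact comm_of_bot s5 (Subgroup.commutator_mem_commutator
    (le_sup_left (α := Subgroup GLM) (qel_self_mem_eGrp ha)) hp) hq

theorem qrs_pair (h2 : (2 : k) ≠ 0) (h3 : Nat.card k ≠ 3) (hirr : IsIrreducibleFor G)
    {A B : Subgroup GLM} (hA : A ∈ Sig) (hB : B ∈ Sig) :
    ⁅A, B⁆ = ⊥ ∨ IsRankOnePair A B ∨ RootCommutatorCase Sig A B := by
  obtain ⟨a, ha, rfl⟩ := mem_quadraticRootSubgroups.1 hA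
  obtain ⟨b, hb, rfl⟩ := mem_quadraticRootSubgroups.1 hB
  by_cases hl : Linked a b
  · exact Or.inr (Or.inl (linked_special h2 h3 ha hb hl).1)
  by_cases hc : a * b = b * a
  · exact Or.inl ((eGrp_bot_iff h2 h3 ha hb).2 ⟨hl, hc⟩)
  obtain ⟨s1, s2, s3, s4, -, -, -⟩ := class_two_structure h2 h3 hirr ha hb hl hc
  exact Or.inr (Or.inr ⟨s1, s4, s2, s3⟩)

theorem qrs_conj {A : Subgroup GLM} (hA : A ∈ Sig) {g : GLM} (hg : g ∈ G) : conjBy A g ∈ Sig := by
  obtain ⟨a, ha, rfl⟩ := mem_quadraticRootSubgroups.1 hA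
  exact mem_quadraticRootSubgroups.2 ⟨_, _, conjBy_eGrp ha hg⟩

theorem qrs_le {A : Subgroup GLM} (hA : A ∈ Sig) : A ≤ G := by
  obtain ⟨a, ha, rfl⟩ := mem_quadraticRootSubgroups.1 hA
  exact eGrp_le ha

theorem qrs_commutative {A : Subgroup GLM} (hA : A ∈ Sig) : IsMulCommutative A := by
  obtain ⟨a, ha, rfl⟩ := mem_quadraticRootSubgroups.1 hA
  exact eGrp_isMulCommutative ha

theorem qrs_ne_bot {A : Subgroup GLM} (hA : A ∈ Sig) : A ≠ ⊥ := by
  obtain ⟨a, ha, rfl⟩ := mem_quadraticRootSubgroups.1 hA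
  exact eGrp_ne_bot ha

theorem qrs_exists_adj (h2 : (2 : k) ≠ 0) (h3 : Nat.card k ≠ 3) (hirr : IsIrreducibleFor G)
    {A : Subgroup GLM} (hA : A ∈ Sig) : ∃ B, FAdj Sig A B := by
  obtain ⟨a, ha, rfl⟩ := mem_quadraticRootSubgroups.1 hA
  obtain ⟨g, hg, hl⟩ := exists_linked h2 h3 hirr ha
  exact ⟨eGrp G _ (ha.conj hg), hA, mem_quadraticRootSubgroups.2 ⟨_, _, rfl⟩,
    (linked_special h2 h3 ha (ha.conj hg) hl.symm).1⟩

/-- Non-commuting root subgroups lie in one component, as does their commutator class. -/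
theorem qrs_reach (h2 : (2 : k) ≠ 0) (h3 : Nat.card k ≠ 3) (hirr : IsIrreducibleFor G)
    {A B : Subgroup GLM} (hA : A ∈ Sig) (hB : B ∈ Sig) (hne : ⁅A, B⁆ ≠ ⊥) :
    Relation.ReflTransGen (FAdj Sig) A B := by
  obtain ⟨a, ha, rfl⟩ := mem_quadraticRootSubgroups.1 hA
  obtain ⟨b, hb, rfl⟩ := mem_quadraticRootSubgroups.1 hB
  by_cases hl : Linked a b
  · exact Relation.ReflTransGen.single ⟨hA, hB, (linked_special h2 h3 ha hb hl).1⟩
  have hc : a * b ≠ b * a := fun hc => hne ((eGrp_bot_iff h2 h3 ha hb).2 ⟨hl, hc⟩)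
  have hq := (eps_data h2 h3 ha hb hl hc).1
  have hl' : ¬ Linked b a := fun h => hl h.symm
  have adj : ∀ {p q : EndM} (hp : QMin G p) (hq : QMin G q), Linked p q →
      FAdj Sig (eGrp G p hp) (eGrp G q hq) := fun hp hq h =>
    ⟨mem_quadraticRootSubgroups.2 ⟨_, _, rfl⟩, mem_quadraticRootSubgroups.2 ⟨_, _, rfl⟩,
      (linked_special h2 h3 hp hq h).1⟩
  obtain ⟨u, hu, u1, u2⟩ := exists_common_linked h2 h3 hirr ha hb hl hc
  obtain ⟨v, hv, v1, v2⟩ := exists_common_linked h2 h3 hirr hb ha hl' (Ne.symm hc)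
  have e : eGrp G (eps b a) (eps_data h2 h3 hb ha hl' (Ne.symm hc)).1 = eGrp G (eps a b) hq :=
    eGrp_congr (by rw [eps_swap, LinearMap.range_neg]) (by rw [eps_swap]; ext m; simp)
  have s1 := adj ha hu u1.symm
  have s2 := adj hu hq u2
  have s3 := adj (eps_data h2 h3 hb ha hl' (Ne.symm hc)).1 hv v2.symm
  rw [e] at s3
  exact (((Relation.ReflTransGen.single s1).tail s2).tail s3).tail (adj hv hb v1)

theorem qrs_reach_conj (h2 : (2 : k) ≠ 0) (h3 : Nat.card k ≠ 3) (hirr : IsIrreducibleFor G)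
    {A B : Subgroup GLM} (hA : A ∈ Sig) (hB : B ∈ Sig) {e : GLM} (he : e ∈ B) :
    Relation.ReflTransGen (FAdj Sig) A (conjBy A e) := by
  by_cases h : ⁅A, B⁆ = ⊥
  · rw [conjBy_of_commute fun a ha => (comm_of_bot h ha he).symm]
  have r := qrs_reach h2 h3 hirr hA hB h
  refine r.trans (freach_symm ?_)
  have hr : Relation.ReflTransGen (FAdj Sig) (conjBy A e) (conjBy B e) :=
    r.lift (fun C => conjBy C e) fun _ _ hab =>
      ⟨qrs_conj hab.1 (qrs_le hB he), qrs_conj hab.2.1 (qrs_le hB he), rop_conjBy hab.2.2 e⟩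
  rwa [conjBy_of_mem he] at hr

theorem three_lt_enat_card {K : Type*} [Field K] (h2 : (2 : K) ≠ 0) {l : K} (hl0 : l ≠ 0)
    (hl1 : l * l ≠ 1) : 3 < ENat.card K := by
  classical
  have h11 : (1 : K) ≠ -1 := fun h => h2 (by linear_combination h)
  have hc : ({0, 1, -1, l} : Finset K).card = 4 := by
    rw [Finset.card_eq_succ]
    refine ⟨0, {1, -1, l}, by simp [hl0.symm], rfl, Finset.card_eq_three.2 ⟨1, -1, l, h11,
      fun h => hl1 (by rw [← h, one_mul]), fun h => hl1 (by rw [← h]; ring), rfl⟩⟩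
  rcases finite_or_infinite K with hK | hK
  · haveI := Fintype.ofFinite K
    rw [ENat.card_eq_coe_fintype_card]
    have := Finset.card_le_univ ({0, 1, -1, l} : Finset K)
    rw [hc] at this
    exact_mod_cast (by omega : 3 < Fintype.card K)
  · rw [ENat.card_eq_top_of_infinite]; exact ENat.coe_lt_top 3

universe u

/-- Every rank one pair of root subgroups contains an image of `SL₂`. -/
theorem qrs_psl2 {k : Type u} [Field k] {M : Type u} [AddCommGroup M] [Module k M]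
    [FiniteDimensional k M] {G : Subgroup (LinearMap.GeneralLinearGroup k M)}
    (h2 : (2 : k) ≠ 0) (h3 : Nat.card k ≠ 3) (hirr : IsIrreducibleFor G)
    {A B : Subgroup (LinearMap.GeneralLinearGroup k M)} (hA : A ∈ quadraticRootSubgroups G)
    (hB : B ∈ quadraticRootSubgroups G) (h : IsRankOnePair A B) :
    ∃ A₀ B₀ : Subgroup (LinearMap.GeneralLinearGroup k M), A₀ ≤ A ∧ B₀ ≤ B ∧
      ∃ (k₁ : Type u) (_ : Field k₁), 3 < ENat.card k₁ ∧ IsPSL2PairOver k₁ A₀ B₀ := by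
  obtain ⟨a, ha, rfl⟩ := mem_quadraticRootSubgroups.1 hA
  obtain ⟨b, hb, rfl⟩ := mem_quadraticRootSubgroups.1 hB
  have hl := linked_of_rop h2 h3 hirr ha hb h
  obtain ⟨D⟩ := exists_pairData ha.sq hb.sq
  obtain ⟨hirrP, -, -, htop, hmap⟩ := pair_structure h2 h3 ha hb D (not_nilpotent_of_linked ha hl)
  haveI : Fact (Irreducible D.P) := ⟨hirrP⟩
  refine ⟨(upperUnipotentSL2 D.R).map D.rho, (lowerUnipotentSL2 D.R).map D.rho, ?_, ?_,
    D.R, inferInstance, ?_, D.rho, ?_, ?_, rfl, rfl⟩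
  · rintro _ ⟨g, hg, rfl⟩
    obtain ⟨t, rfl⟩ := (mem_upperUnipotentSL2 D.R).1 hg
    obtain ⟨m1, -, m3, -⟩ := phi_mem_eSpace ha hb D htop hmap t
    exact ⟨_, m1, m3.symm⟩
  · rintro _ ⟨g, hg, rfl⟩
    obtain ⟨t, rfl⟩ := (mem_lowerUnipotentSL2 D.R).1 hg
    obtain ⟨-, m2, -, m4⟩ := phi_mem_eSpace ha hb D htop hmap (D.rinv * t)
    rw [← mul_assoc, D.root_rinv, one_mul] at m4
    exact ⟨_, m2, m4.symm⟩
  · obtain ⟨l, hl0, hl1⟩ := exists_sq_ne_one h2 h3
    have hinj := (algebraMap k D.R).injective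
    refine three_lt_enat_card (l := algebraMap k D.R l) ?_ ?_ ?_
    · intro h; exact h2 (hinj (by rw [map_ofNat, h, map_zero]))
    · intro h; exact hl0 (hinj (by rw [h, map_zero]))
    · intro h; exact hl1 (hinj (by rw [map_mul, h, map_one]))
  · rw [← Subgroup.map_sup, sup_comm, sl2_gen, MonoidHom.range_eq_map]
  · rw [(MonoidHom.ker_eq_bot_iff _).2 D.rho_injective]; exact bot_le

end CfsgLib.ThreeTransp
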