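import Mathlib
import Cfsg.Agent.Lib.ThreeTransp.QuadRootSet

/-!
The components of the root subgroups of a quadratic pair generate quasisimple groups.
-/

set_option autoImplicit false
set_option linter.unusedSectionVars false

namespace CfsgLib.ThreeTransp

open Cfsg

variable {k : Type*} [Field k] {M : Type*} [AddCommGroup M] [Module k M] [FiniteDimensional k M]
variable {G : Subgroup (LinearMap.GeneralLinearGroup k M)}

local notation "GLM" => LinearMap.GeneralLinearGroup k M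
local notation "EndM" => Module.End k M
local notation "Sig" => quadraticRootSubgroups G

/-- The component of a root subgroup. -/
def qComp (G : Subgroup (LinearMap.GeneralLinearGroup k M)) (A : Subgroup (LinearMap.GeneralLinearGroup k M)) :
    Set (Subgroup (LinearMap.GeneralLinearGroup k M)) :=
  componentOf (FAdj (quadraticRootSubgroups G)) (quadraticRootSubgroups G) A

/-- The group generated by a component. -/
def qT (G : Subgroup (LinearMap.GeneralLinearGroup k M)) (A : Subgroup (LinearMap.GeneralLinearGroup k M)) :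
    Subgroup (LinearMap.GeneralLinearGroup k M) :=
  ⨆ B ∈ qComp G A, B

theorem qComp_self {A : Subgroup GLM} (hA : A ∈ Sig) : A ∈ qComp G A := ⟨hA, Relation.ReflTransGen.refl⟩

theorem qComp_eq {A B : Subgroup GLM} (h : B ∈ qComp G A) : qComp G B = qComp G A :=
  (componentOf_eq_of_reach h.2).symm

theorem qComp_adj {A B : Subgroup GLM} (h : FAdj Sig A B) : B ∈ qComp G A :=
  ⟨h.2.1, Relation.ReflTransGen.single h⟩

theorem le_qT {A B : Subgroup GLM} (h : B ∈ qComp G A) : B ≤ qT G A := le_iSup₂_of_le B h le_rfl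

theorem qT_le (A : Subgroup GLM) : qT G A ≤ G := iSup₂_le fun _ hB => qrs_le hB.1

variable (h2 : (2 : k) ≠ 0) (h3 : Nat.card k ≠ 3) (hirr : IsIrreducibleFor G)

include h2 h3 hirr

theorem qComp_comm {A B C : Subgroup GLM} (hB : B ∈ qComp G A) (hC : C ∈ Sig) (hn : C ∉ qComp G A) :
    ⁅B, C⁆ = ⊥ := by
  by_contra h
  exact hn ⟨hC, hB.2.trans (qrs_reach h2 h3 hirr hB.1 hC h)⟩

theorem qComp_conj {A B : Subgroup GLM} (hB : B ∈ qComp G A) {g : GLM} (hg : g ∈ qT G A) :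
    conjBy B g ∈ qComp G A := by
  have key : ∀ g ∈ qT G A, (∀ B ∈ qComp G A, conjBy B g ∈ qComp G A) ∧
      ∀ B ∈ qComp G A, conjBy B g⁻¹ ∈ qComp G A := by
    intro g hg
    rw [qT, Subgroup.mem_iSup_prop_iff_aux] at hg
    refine Subgroup.closure_induction ?_ ?_ ?_ ?_ hg
    · rintro e ⟨C, hC, he⟩
      refine ⟨fun B hB => ⟨qrs_conj hB.1 (qrs_le hC.1 he), hB.2.trans (qrs_reach_conj h2 h3 hirr hB.1 hC.1 he)⟩,
        fun B hB => ⟨qrs_conj hB.1 (qrs_le hC.1 (inv_mem he)),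
          hB.2.trans (qrs_reach_conj h2 h3 hirr hB.1 hC.1 (inv_mem he))⟩⟩
    · constructor <;> intro B hB <;> simpa [conjBy_one] using hB
    · rintro p q - - ⟨p1, p2⟩ ⟨q1, q2⟩
      refine ⟨fun B hB => ?_, fun B hB => ?_⟩
      · rw [conjBy_mul]; exact p1 _ (q1 B hB)
      · rw [mul_inv_rev, conjBy_mul]; exact q2 _ (p2 B hB)
    · rintro p - ⟨p1, p2⟩
      exact ⟨p2, by rw [inv_inv]; exact p1⟩
  exact (key g hg).1 B hB
where
  Subgroup.mem_iSup_prop_iff_aux {S : Set (Subgroup (LinearMap.GeneralLinearGroup k M))}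
      {g : LinearMap.GeneralLinearGroup k M} :
      g ∈ (⨆ B ∈ S, B) ↔ g ∈ Subgroup.closure {e | ∃ B ∈ S, e ∈ B} := by
    have : (⨆ B ∈ S, B) = Subgroup.closure {e | ∃ B ∈ S, e ∈ B} := by
      refine le_antisymm (iSup₂_le fun B hB e he => Subgroup.subset_closure ⟨B, hB, he⟩)
        ((Subgroup.closure_le _).2 ?_)
      rintro e ⟨B, hB, he⟩
      exact (le_iSup₂_of_le B hB le_rfl : B ≤ ⨆ B ∈ S, B) he
    rw [this]

theorem qT_comm {A A' : Subgroup GLM} (h : qComp G A ≠ qComp G A') : ⁅qT G A, qT G A'⁆ = ⊥ := by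
  have key : ∀ B ∈ qComp G A, ∀ C ∈ qComp G A', ⁅B, C⁆ = ⊥ := by
    intro B hB C hC
    refine qComp_comm h2 h3 hirr hB hC.1 fun hC' => h ?_
    rw [← qComp_eq hC', qComp_eq hC]
  rw [Subgroup.commutator_eq_bot_iff_le_centralizer]
  refine iSup₂_le fun B hB => ?_
  rw [Subgroup.le_centralizer_iff]
  refine iSup₂_le fun C hC => ?_
  intro c hc b hb
  exact comm_of_bot (key B hB C hC) hb hc

theorem linked_perfect {a b : EndM} (ha : QMin G a) (hb : QMin G b) (hl : Linked a b) :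
    eGrp G a ha ≤ ⁅eGrp G a ha ⊔ eGrp G b hb, eGrp G a ha ⊔ eGrp G b hb⁆ := by
  rintro _ ⟨x, hx, rfl⟩
  rcases eq_or_ne x 0 with rfl | hx0
  · rw [qel_zero]; exact one_mem _
  obtain ⟨hxm, hxr, hxk⟩ := eSpace_data ha hx hx0
  have hl' : Linked x b := (linked_congr hxr hxk rfl rfl).2 hl
  obtain ⟨D⟩ := exists_pairData hxm.sq hb.sq
  obtain ⟨-, hA, -, htop, hmap⟩ := pair_structure h2 h3 hxm hb D (not_nilpotent_of_linked hxm hl')
  obtain ⟨-, -, hU, -⟩ := phi_mem_eSpace hxm hb D htop hmap 1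
  rw [D.phi_one, show x * D.pi = x by rw [mul_sub, mul_one, sub_eq_zero] at hA; exact hA.symm] at hU
  have hX : ∀ g, D.rho g ∈ eGrp G a ha ⊔ eGrp G b hb := by
    intro g
    have : D.rho g ∈ pH x b := hmap ▸ ⟨g, by rw [htop]; trivial, rfl⟩
    refine (Subgroup.closure_le _).2 ?_ this
    rintro _ (⟨c, rfl⟩ | ⟨c, rfl⟩)
    · exact le_sup_left (α := Subgroup GLM) (qel_mem_eGrp ha (Submodule.smul_mem _ c hx))
    · exact le_sup_right (α := Subgroup GLM) (qel_mem_eGrp hb (Submodule.smul_mem _ c (self_mem_eSpace hb)))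
  obtain ⟨l, hl0, hl1⟩ := exists_sq_ne_one h2 h3
  have hdet : algebraMap k D.R l * algebraMap k D.R l⁻¹ = 1 := by
    rw [← map_mul, mul_inv_cancel₀ hl0, map_one]
  obtain ⟨d, hd⟩ : ∃ d : Matrix.SpecialLinearGroup (Fin 2) D.R,
      (d : Matrix (Fin 2) (Fin 2) D.R) = !![algebraMap k D.R l, 0; 0, algebraMap k D.R l⁻¹] :=
    ⟨⟨!![algebraMap k D.R l, 0; 0, algebraMap k D.R l⁻¹], by
      rw [Matrix.det_fin_two]; simpa using hdet⟩, rfl⟩
  set t := algebraMap k D.R (l * l - 1)⁻¹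
  have ht : (algebraMap k D.R l * algebraMap k D.R l - 1) * t = 1 := by
    rw [← map_mul, ← map_one (algebraMap k D.R), ← map_sub, ← map_mul,
      mul_inv_cancel₀ (sub_ne_zero.2 hl1)]
  have e : rU (1 : D.R) = d * rU t * d⁻¹ * (rU t)⁻¹ := by
    apply Subtype.ext
    rw [rU_inv]
    simp only [Matrix.SpecialLinearGroup.coe_mul, Matrix.SpecialLinearGroup.coe_inv, hd, rU_val,
      Matrix.adjugate_fin_two]
    generalize algebraMap k D.R l = L, algebraMap k D.R l⁻¹ = L' at hdet ht ⊢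
    ext i j
    fin_cases i <;> fin_cases j <;> simp [Matrix.mul_apply, Fin.sum_univ_two] <;> grind
  rw [← hU, e, map_mul, map_mul, map_mul, map_inv, map_inv]
  exact Subgroup.commutator_mem_commutator (hX _) (hX _)

/-- A proper normal subgroup of the group of a component. -/
def QProper (G : Subgroup (LinearMap.GeneralLinearGroup k M)) (A : Subgroup (LinearMap.GeneralLinearGroup k M))
    (N : Subgroup (LinearMap.GeneralLinearGroup k M)) : Prop :=
  N ≤ qT G A ∧ (∀ g ∈ qT G A, ∀ n ∈ N, g * n * g⁻¹ ∈ N) ∧ N ≠ qT G A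

/-- A member meeting a normal subgroup non-centrally. -/
theorem qProper_pair {A : Subgroup GLM} {N : Subgroup GLM} (hN : QProper G A N) {B C : Subgroup GLM}
    (hB : B ∈ qComp G A) (hC : C ∈ qComp G A) (hr : IsRankOnePair B C) {n : GLM} (hn : n ∈ N)
    (hnX : n ∈ B ⊔ C) : ∀ x ∈ B ⊔ C, n * x = x * n := by
  have hXT : B ⊔ C ≤ qT G A := sup_le (le_qT hB) (le_qT hC)
  have hperf : ∀ {B C : Subgroup GLM}, B ∈ Sig → C ∈ Sig → IsRankOnePair B C →
      B ≤ ⁅B ⊔ C, B ⊔ C⁆ := by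
    intro B C hB hC hr
    obtain ⟨b, hb, rfl⟩ := mem_quadraticRootSubgroups.1 hB
    obtain ⟨c, hc, rfl⟩ := mem_quadraticRootSubgroups.1 hC
    exact linked_perfect h2 h3 hirr hb hc (linked_of_rop h2 h3 hirr hb hc hr)
  rcases rop_normal_dichotomy hr (N := N ⊓ (B ⊔ C)) inf_le_right
    (fun x hx m hm => ⟨hN.2.1 x (hXT hx) m hm.1, mul_mem (mul_mem hx hm.2) (Subgroup.inv_mem _ hx)⟩) with h | h
  swap
  · exact h n ⟨hn, hnX⟩
  exfalso
  -- the whole rank one group is inside `N`, hence so is the component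
  have step : ∀ {B C : Subgroup GLM}, B ∈ qComp G A → C ∈ qComp G A → IsRankOnePair B C →
      (N ⊓ (B ⊔ C)) ⊔ B = B ⊔ C → B ⊔ C ≤ N := by
    intro B C hB hC hr h
    have hXT : B ⊔ C ≤ qT G A := sup_le (le_qT hB) (le_qT hC)
    set N' := N ⊓ (B ⊔ C) with hN'
    have hnorm : ∀ x ∈ B ⊔ C, ∀ m ∈ N', x * m * x⁻¹ ∈ N' := fun x hx m hm =>
      ⟨hN.2.1 x (hXT hx) m hm.1, mul_mem (mul_mem hx hm.2) (Subgroup.inv_mem _ hx)⟩
    let K : Subgroup GLM :=
      { carrier := {g | g ∈ B ⊔ C ∧ ∃ e ∈ B, g * e⁻¹ ∈ N'}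
        one_mem' := ⟨one_mem _, 1, one_mem _, by simp⟩
        mul_mem' := by
          rintro g g' ⟨hg, e, he, h1⟩ ⟨hg', e', he', h2'⟩
          refine ⟨mul_mem hg hg', e * e', mul_mem he he', ?_⟩
          have := mul_mem h1 (hnorm e ((le_sup_left : B ≤ B ⊔ C) he) _ h2')
          have e1 : g * g' * (e * e')⁻¹ = g * e⁻¹ * (e * (g' * e'⁻¹) * e⁻¹) := by group
          rwa [e1]
        inv_mem' := by
          rintro g ⟨hg, e, he, h1⟩
          refine ⟨inv_mem hg, e⁻¹, inv_mem he, ?_⟩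
          have := hnorm e⁻¹ ((le_sup_left : B ≤ B ⊔ C) (inv_mem he)) _ (inv_mem h1)
          have e1 : g⁻¹ * e⁻¹⁻¹ = e⁻¹ * (g * e⁻¹)⁻¹ * e⁻¹⁻¹ := by group
          rwa [e1] }
    have hK : B ⊔ C ≤ K := by
      rw [← h]
      exact sup_le (fun g hg => ⟨hg.2, 1, one_mem _, by simpa using hg⟩)
        (fun g hg => ⟨(le_sup_left : B ≤ B ⊔ C) hg, g, hg, by simp⟩)
    have hcm : ⁅B ⊔ C, B ⊔ C⁆ ≤ N' := by
      rw [Subgroup.commutator_le]
      intro g hg g' hg'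
      obtain ⟨-, e, he, h1⟩ := hK hg
      obtain ⟨-, e', he', h2'⟩ := hK hg'
      have hce : e * e' = e' * e := congrArg Subtype.val
        ((qrs_commutative hB.1).is_comm.comm ⟨e, he⟩ ⟨e', he'⟩)
      have hBX : B ≤ B ⊔ C := le_sup_left
      set m := g * e⁻¹ with hm
      set m' := g' * e'⁻¹ with hm'
      have e1 : g * g' * g⁻¹ * g'⁻¹ =
          m * (e * m' * e⁻¹) * ((e * e' * e⁻¹) * m⁻¹ * (e * e' * e⁻¹)⁻¹) * ((e * e' * e⁻¹) * e'⁻¹ * m'⁻¹) := by
        rw [hm, hm']; group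
      rw [commutatorElement_def, e1]
      refine mul_mem (mul_mem (mul_mem h1 (hnorm e (hBX he) _ h2'))
        (hnorm (e * e' * e⁻¹) (hBX (mul_mem (mul_mem he he') (inv_mem he))) _ (inv_mem h1))) ?_
      have e2 : (e * e' * e⁻¹) * e'⁻¹ = 1 := by rw [hce]; group
      rw [e2, one_mul]; exact inv_mem h2'
    exact sup_le ((hperf hB.1 hC.1 hr).trans (hcm.trans inf_le_left))
      (((hperf hC.1 hB.1 (rop_symm hr)).trans (le_of_eq (by rw [sup_comm C B]))).trans (hcm.trans inf_le_left))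
  have hX := step hB hC hr h
  refine hN.2.2 (le_antisymm hN.1 (iSup₂_le fun D hD => ?_))
  have hreach : Relation.ReflTransGen (FAdj Sig) B D := (freach_symm hB.2).trans hD.2
  suffices h' : D ≤ N ∧ D ∈ qComp G A from h'.1
  induction hreach with
  | refl => exact ⟨(le_sup_left : B ≤ B ⊔ C).trans hX, hB⟩
  | @tail P Q hp hpq ih =>
    obtain ⟨hP, hPm⟩ := ih ⟨hpq.1, hB.2.trans hp⟩
    have hQm : Q ∈ qComp G A := ⟨hpq.2.1, hPm.2.tail hpq⟩
    refine ⟨(le_sup_right : Q ≤ P ⊔ Q).trans (step hPm hQm hpq.2.2 ?_), hQm⟩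
    rcases rop_normal_dichotomy hpq.2.2 (N := N ⊓ (P ⊔ Q)) inf_le_right
      (fun x hx m hm => ⟨hN.2.1 x (sup_le (le_qT hPm) (le_qT hQm) hx) m hm.1,
        mul_mem (mul_mem hx hm.2) (Subgroup.inv_mem _ hx)⟩) with h' | h'
    · exact h'
    · exfalso
      obtain ⟨e, he, he1⟩ := rop_exists_ne_one hpq.2.2
      exact rop_not_commute hpq.2.2 he he1 fun q hq =>
        h' e ⟨hP he, (le_sup_left : P ≤ P ⊔ Q) he⟩ q ((le_sup_right : Q ≤ P ⊔ Q) hq)

theorem qProper_member {A : Subgroup GLM} {N : Subgroup GLM} (hN : QProper G A N) {B : Subgroup GLM}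
    (hB : B ∈ qComp G A) {n : GLM} (hn : n ∈ N) (hnB : n ∈ B) : n = 1 := by
  by_contra hn1
  obtain ⟨C, hC⟩ := qrs_exists_adj h2 h3 hirr hB.1
  have hCm : C ∈ qComp G A := ⟨hC.2.1, hB.2.tail hC⟩
  exact rop_not_commute hC.2.2 hnB hn1 fun c hc =>
    qProper_pair h2 h3 hirr hN hB hCm hC.2.2 hn ((le_sup_left : B ≤ B ⊔ C) hnB) c ((le_sup_right : C ≤ B ⊔ C) hc)

theorem qProper_commute {A : Subgroup GLM} {N : Subgroup GLM} (hN : QProper G A N) {B : Subgroup GLM}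
    (hB : B ∈ qComp G A) {n : GLM} (hn : n ∈ N) : ⁅conjBy B n, B⁆ = ⊥ := by
  obtain ⟨b, hb, rfl⟩ := mem_quadraticRootSubgroups.1 hB.1
  have hnG : n ∈ G := qT_le A (hN.1 hn)
  have hB' := qComp_conj h2 h3 hirr hB (hN.1 hn)
  rw [conjBy_eGrp hb hnG] at hB' ⊢
  set b' := eConj n b
  have hb' : QMin G b' := hb.conj hnG
  have hαT : qel b ∈ qT G A := le_qT hB (qel_self_mem_eGrp hb)
  have hw : qel b' * (qel b)⁻¹ ∈ N := by
    rw [← qel_conj hb.sq, mul_assoc, mul_assoc, ← mul_assoc (qel b)]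
    exact mul_mem hn (hN.2.1 _ hαT _ (inv_mem hn))
  by_contra hne
  by_cases hl : Linked b' b
  · have hc := qProper_pair h2 h3 hirr hN hB' hB (linked_special h2 h3 hb' hb hl).1 hw
      (mul_mem (le_sup_left (α := Subgroup GLM) (qel_self_mem_eGrp hb'))
        (inv_mem (le_sup_right (α := Subgroup GLM) (qel_self_mem_eGrp hb))))
      (qel b) (le_sup_right (α := Subgroup GLM) (qel_self_mem_eGrp hb))
    rw [inv_mul_cancel_right, ← mul_assoc, eq_mul_inv_iff_mul_eq] at hc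
    exact not_linked_of_commute h2 hb' hb.sq ((qel_commute_iff hb'.sq hb.sq).1 hc) hl
  have hcne : b' * b ≠ b * b' := fun hc => hne ((eGrp_bot_iff h2 h3 hb' hb).2 ⟨hl, hc⟩)
  obtain ⟨t1, t2⟩ := pair_triple h2 h3 hb' hb hl
  have hq := (eps_data h2 h3 hb' hb hl hcne).1
  have hz : qel (eps b' b) ∈ N := by
    rw [← eps_commutator hb'.sq hb.sq t1 t2]
    have h0 := mul_mem hw (hN.2.1 _ hαT _ (inv_mem hw))
    have e : qel b' * (qel b)⁻¹ * (qel b * (qel b' * (qel b)⁻¹)⁻¹ * (qel b)⁻¹) =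
        qel b' * qel b * (qel b')⁻¹ * (qel b)⁻¹ := by group
    rwa [e] at h0
  obtain ⟨u, hu, u1, u2⟩ := exists_common_linked h2 h3 hirr hb' hb hl hcne
  have hU : FAdj Sig (eGrp G b' hb') (eGrp G u hu) :=
    ⟨hB'.1, mem_quadraticRootSubgroups.2 ⟨_, _, rfl⟩, (linked_special h2 h3 hb' hu u1.symm).1⟩
  have hZ : FAdj Sig (eGrp G u hu) (eGrp G (eps b' b) hq) :=
    ⟨hU.2.1, mem_quadraticRootSubgroups.2 ⟨_, _, rfl⟩, (linked_special h2 h3 hu hq u2).1⟩
  have hZm : eGrp G (eps b' b) hq ∈ qComp G A := ⟨hZ.2.1, (hB'.2.tail hU).tail hZ⟩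
  exact qel_ne_one hq.sq hq.2.1 (qProper_member h2 h3 hirr hN hZm hz (qel_self_mem_eGrp hq))

theorem qProper_sup {A : Subgroup GLM} (hA : A ∈ Sig) {N N' : Subgroup GLM} (hN : QProper G A N)
    (hN' : QProper G A N') : QProper G A (N ⊔ N') := by
  refine ⟨sup_le hN.1 hN'.1, fun g hg n hn => ?_, fun htop => ?_⟩
  · have hle : N ⊔ N' ≤ (N ⊔ N').comap (MulAut.conj g).toMonoidHom := by
      refine sup_le (fun m hm => ?_) fun m hm => ?_
      · exact le_sup_left (α := Subgroup GLM) (hN.2.1 g hg m hm)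
      · exact le_sup_right (α := Subgroup GLM) (hN'.2.1 g hg m hm)
    exact hle hn
  -- modulo `N'` all conjugates of a member commute
  let K : Subgroup GLM :=
    { carrier := {g | g ∈ qT G A ∧ ∃ m ∈ N, g * m⁻¹ ∈ N'}
      one_mem' := ⟨one_mem _, 1, one_mem _, by simp⟩
      mul_mem' := by
        rintro g g' ⟨hg, e, he, h1⟩ ⟨hg', e', he', h2'⟩
        refine ⟨mul_mem hg hg', e * e', mul_mem he he', ?_⟩
        have := mul_mem h1 (hN'.2.1 e (hN.1 he) _ h2')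
        have e1 : g * g' * (e * e')⁻¹ = g * e⁻¹ * (e * (g' * e'⁻¹) * e⁻¹) := by group
        rwa [e1]
      inv_mem' := by
        rintro g ⟨hg, e, he, h1⟩
        refine ⟨inv_mem hg, e⁻¹, inv_mem he, ?_⟩
        have := hN'.2.1 e⁻¹ (hN.1 (inv_mem he)) _ (inv_mem h1)
        have e1 : g⁻¹ * e⁻¹⁻¹ = e⁻¹ * (g * e⁻¹)⁻¹ * e⁻¹⁻¹ := by group
        rwa [e1] }
  have hK : qT G A ≤ K := by
    rw [← htop]
    exact sup_le (fun g hg => ⟨hN.1 hg, g, hg, by simp⟩) fun g hg => ⟨hN'.1 hg, 1, one_mem _, by simpa using hg⟩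
  obtain ⟨C, hC⟩ := qrs_exists_adj h2 h3 hirr hA
  have hCm : C ∈ qComp G A := qComp_adj hC
  obtain ⟨g, hg, hge⟩ := rop_right_mem_unipotent hC.2.2
  have hgT : g ∈ qT G A := sup_le (le_qT (qComp_self hA)) (le_qT hCm) hg
  obtain ⟨-, n, hn, hgn⟩ := hK hgT
  -- commutators of `A` and `C` lie in `N'`
  have hcc : ∀ x ∈ A, ∀ y ∈ C, x * y * x⁻¹ * y⁻¹ ∈ N' := by
    intro x hx y hy
    obtain ⟨e, he, rfl⟩ : ∃ e ∈ A, g * e * g⁻¹ = y := by
      rw [hge] at hy; exact ⟨g⁻¹ * y * g, mem_conjBy.1 hy, by group⟩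
    set m := g * n⁻¹ with hm
    set y' := n * e * n⁻¹
    have hxy : y' * x = x * y' := comm_of_bot (qProper_commute h2 h3 hirr hN (qComp_self hA) hn)
      (conj_mem_conjBy he n) hx
    have hy' : g * e * g⁻¹ = m * y' * m⁻¹ := by simp only [hm, y']; group
    rw [hy']
    have hxT : x ∈ qT G A := le_qT (qComp_self hA) hx
    have hy'T : y' ∈ qT G A := mul_mem (mul_mem (hN.1 hn) (le_qT (qComp_self hA) he)) (inv_mem (hN.1 hn))
    have e1 : x * (m * y' * m⁻¹) * x⁻¹ * (m * y' * m⁻¹)⁻¹ =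
        (x * m * x⁻¹) * ((x * y' * x⁻¹) * (x * m⁻¹ * x⁻¹ * m) * (x * y' * x⁻¹)⁻¹) *
          ((x * y' * x⁻¹ * y'⁻¹) * m⁻¹) := by group
    rw [e1, show x * y' * x⁻¹ * y'⁻¹ = 1 by rw [← hxy]; group, one_mul]
    exact mul_mem (mul_mem (hN'.2.1 x hxT m hgn)
      (hN'.2.1 _ (mul_mem (mul_mem hxT hy'T) (inv_mem hxT)) _
        (mul_mem (hN'.2.1 x hxT _ (inv_mem hgn)) hgn))) (inv_mem hgn)
  have hA' : A ≤ N' := by
    have hXT : A ⊔ C ≤ qT G A := sup_le (le_qT (qComp_self hA)) (le_qT hCm)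
    obtain ⟨a, ha, rfl⟩ := mem_quadraticRootSubgroups.1 hA
    obtain ⟨c, hc, rfl⟩ := mem_quadraticRootSubgroups.1 hC.2.1
    refine (linked_perfect h2 h3 hirr ha hc (linked_of_rop h2 h3 hirr ha hc hC.2.2)).trans ?_
    have inner : ∀ p, (p ∈ eGrp G a ha ∨ p ∈ eGrp G c hc) → ∀ q, (q ∈ eGrp G a ha ∨ q ∈ eGrp G c hc) →
        p * q * p⁻¹ * q⁻¹ ∈ N' := by
      rintro p (hp | hp) q (hq | hq)
      · rw [eGrp_comm ha hp hq, mul_inv_cancel_right, mul_inv_cancel]; exact one_mem _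
      · exact hcc p hp q hq
      · have := inv_mem (hcc q hq p hp)
        have e : p * q * p⁻¹ * q⁻¹ = (q * p * q⁻¹ * p⁻¹)⁻¹ := by group
        rwa [e]
      · rw [eGrp_comm hc hp hq, mul_inv_cancel_right, mul_inv_cancel]; exact one_mem _
    have ext1 : ∀ p, p ∈ eGrp G a ha ⊔ eGrp G c hc →
        (∀ q, (q ∈ eGrp G a ha ∨ q ∈ eGrp G c hc) → p * q * p⁻¹ * q⁻¹ ∈ N') →
        ∀ q ∈ eGrp G a ha ⊔ eGrp G c hc, p * q * p⁻¹ * q⁻¹ ∈ N' := by
      intro p hp hgen q hq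
      rw [Subgroup.sup_eq_closure] at hq
      have hT' : ∀ {h}, h ∈ Subgroup.closure ((eGrp G a ha : Set GLM) ∪ eGrp G c hc) → h ∈ qT G (eGrp G a ha) :=
        fun h => hXT (by rwa [Subgroup.sup_eq_closure])
      refine Subgroup.closure_induction (fun r hr => hgen r hr) (by simp) ?_ ?_ hq
      · intro r s hr _ i1 i2
        have e : p * (r * s) * p⁻¹ * (r * s)⁻¹ = p * r * p⁻¹ * r⁻¹ * (r * (p * s * p⁻¹ * s⁻¹) * r⁻¹) := by group
        rw [e]; exact mul_mem i1 (hN'.2.1 r (hT' hr) _ i2)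
      · intro r hr i1
        have e : p * r⁻¹ * p⁻¹ * r⁻¹⁻¹ = r⁻¹ * (p * r * p⁻¹ * r⁻¹)⁻¹ * r⁻¹⁻¹ := by group
        rw [e]; exact hN'.2.1 r⁻¹ (inv_mem (hT' hr)) _ (inv_mem i1)
    rw [Subgroup.commutator_le]
    intro p hp q hq
    refine ext1 p hp (fun r hr => ?_) q hq
    have := ext1 r (hr.elim (fun h => le_sup_left (α := Subgroup GLM) h) (fun h => le_sup_right (α := Subgroup GLM) h))
      (fun s hs => inner r hr s hs) p hp
    have e : p * r * p⁻¹ * r⁻¹ = (r * p * r⁻¹ * p⁻¹)⁻¹ := by group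
    rw [e]; exact inv_mem this
  obtain ⟨e, he, he1⟩ := rop_exists_ne_one hC.2.2
  exact he1 (qProper_member h2 h3 hirr hN' (qComp_self hA) (hA' he) he)

/-- The largest proper normal subgroup. -/
def qRad (G : Subgroup (LinearMap.GeneralLinearGroup k M)) (A : Subgroup (LinearMap.GeneralLinearGroup k M)) :
    Subgroup (LinearMap.GeneralLinearGroup k M) :=
  sSup {N | QProper G A N}

omit h2 h3 hirr in
theorem le_qRad {A N : Subgroup GLM} (h : QProper G A N) : N ≤ qRad G A := le_sSup h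

theorem qRad_proper {A : Subgroup GLM} (hA : A ∈ Sig) : QProper G A (qRad G A) := by
  obtain ⟨C, hC⟩ := qrs_exists_adj h2 h3 hirr hA
  obtain ⟨e, he, he1⟩ := rop_exists_ne_one hC.2.2
  have hbot : QProper G A ⊥ := ⟨bot_le, fun g _ n hn => by
    rw [Subgroup.mem_bot.1 hn]; simp, fun h => he1 (Subgroup.mem_bot.1 (h ▸ le_qT (qComp_self hA) he))⟩
  have hdir : DirectedOn (· ≤ ·) {N | QProper G A N} := fun N hN N' hN' =>
    ⟨N ⊔ N', qProper_sup h2 h3 hirr hA hN hN', le_sup_left, le_sup_right⟩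
  have hmem : ∀ x, x ∈ qRad G A ↔ ∃ N, QProper G A N ∧ x ∈ N := fun x =>
    Subgroup.mem_sSup_of_directedOn ⟨⊥, hbot⟩ hdir
  refine ⟨sSup_le fun N hN => hN.1, fun g hg n hn => ?_, fun h => ?_⟩
  · obtain ⟨N, hN, hnN⟩ := (hmem n).1 hn
    exact (hmem _).2 ⟨N, hN, hN.2.1 g hg n hnN⟩
  · obtain ⟨N, hN, heN⟩ := (hmem e).1 (h ▸ le_qT (qComp_self hA) he)
    exact he1 (qProper_member h2 h3 hirr hN (qComp_self hA) heN he)

theorem qComp_map_conj {A : Subgroup GLM} (hA : A ∈ Sig) {g : GLM} (hg : g ∈ G) :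
    ∀ B ∈ qComp G A, conjBy B g ∈ qComp G (conjBy A g) := fun B hB =>
  ⟨qrs_conj hB.1 hg, hB.2.lift (fun C => conjBy C g) fun _ _ hab =>
    ⟨qrs_conj hab.1 hg, qrs_conj hab.2.1 hg, rop_conjBy hab.2.2 g⟩⟩

theorem qT_conj {A : Subgroup GLM} (hA : A ∈ Sig) {g : GLM} (hg : g ∈ G) :
    conjBy (qT G A) g = qT G (conjBy A g) := by
  apply le_antisymm
  · rw [Cfsg.conjBy, Subgroup.map_le_iff_le_comap]
    refine iSup₂_le fun B hB => ?_
    rw [← Subgroup.map_le_iff_le_comap]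
    exact le_qT (qComp_map_conj h2 h3 hirr hA hg B hB)
  · refine iSup₂_le fun B hB => ?_
    have h := qComp_map_conj h2 h3 hirr (qrs_conj hA hg) (inv_mem hg) B hB
    rw [conjBy_inv_conjBy] at h
    rw [← conjBy_conjBy_inv B g]
    exact Subgroup.map_mono (le_qT h)

theorem qRad_conj {A : Subgroup GLM} (hA : A ∈ Sig) {g : GLM} (hg : g ∈ G) :
    conjBy (qRad G A) g ≤ qRad G (conjBy A g) := by
  obtain ⟨r1, r2, r3⟩ := qRad_proper h2 h3 hirr hA
  refine le_qRad ⟨?_, fun h hh n hn => ?_, fun h => r3 ?_⟩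
  · rw [← qT_conj h2 h3 hirr hA hg]; exact Subgroup.map_mono r1
  · rw [← qT_conj h2 h3 hirr hA hg, mem_conjBy] at hh
    rw [mem_conjBy] at hn ⊢
    have := r2 _ hh _ hn
    have e : g⁻¹ * (h * n * h⁻¹) * g = g⁻¹ * h * g * (g⁻¹ * n * g) * (g⁻¹ * h * g)⁻¹ := by group
    rwa [e]
  · rw [← qT_conj h2 h3 hirr hA hg] at h
    exact conjBy_inj h

omit h2 h3 hirr in
theorem commutator_normalized {R B : Subgroup GLM} {r : GLM} (hr : r ∈ R) {c : GLM}
    (hc : c ∈ ⁅R, B⁆) : r * c * r⁻¹ ∈ ⁅R, B⁆ := by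
  have hle : ⁅R, B⁆ ≤ (⁅R, B⁆).comap (MulAut.conj r).toMonoidHom := by
    rw [Subgroup.commutator_le]
    intro p hp q hq
    show r * (p * q * p⁻¹ * q⁻¹) * r⁻¹ ∈ ⁅R, B⁆
    have e : r * (p * q * p⁻¹ * q⁻¹) * r⁻¹ =
        ((r * p) * q * (r * p)⁻¹ * q⁻¹) * (r * q * r⁻¹ * q⁻¹)⁻¹ := by group
    rw [e]
    exact mul_mem (Subgroup.commutator_mem_commutator (mul_mem hr hp) hq)
      (inv_mem (Subgroup.commutator_mem_commutator hr hq))
  exact hle hc

theorem uNil_rad {A B : Subgroup GLM} (hA : A ∈ Sig) (hB : B ∈ qComp G A) :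
    UNil ((⁅qRad G A, B⁆ : Subgroup GLM) : Set GLM) := by
  have hR := qRad_proper h2 h3 hirr hA
  obtain ⟨b, hb, rfl⟩ := mem_quadraticRootSubgroups.1 hB.1
  set S : Set GLM := {s | ∃ n ∈ qRad G A, s ∈ conjBy (eGrp G b hb) n} with hS
  have hcomm : ∀ s ∈ S, ∀ t ∈ S, s * t = t * s := by
    rintro s ⟨n, hn, hs⟩ t ⟨m, hm, ht⟩
    rw [mem_conjBy] at hs ht
    have hc := comm_of_bot (qProper_commute h2 h3 hirr hR hB (mul_mem (inv_mem hm) hn))
      (conj_mem_conjBy hs (m⁻¹ * n)) ht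
    have e1 : m⁻¹ * n * (n⁻¹ * s * n) * (m⁻¹ * n)⁻¹ = m⁻¹ * s * m := by group
    rw [e1] at hc
    have := congrArg (fun x => m * x * m⁻¹) hc
    simpa [mul_assoc] using this
  have hel : ∀ s ∈ S, udif s * udif s = 0 := by
    rintro s ⟨n, hn, hs⟩
    rw [conjBy_eGrp hb (qT_le A (hR.1 hn))] at hs
    exact (udif_mem_eSpace _ hs).1.1.1
  have hnil : UNil S := by
    refine uNil_of_pairs (fun s hs t ht => ?_) fun s hs t ht => by
      rw [hcomm s hs t ht, mul_inv_cancel_right]; exact ht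
    have h := uNil_pair_of_nilpotent (hel s hs) (hel t ht) ?_
    · rwa [qel_udif (hel s hs), qel_udif (hel t ht)] at h
    · have hst : udif s * udif t = udif t * udif s := by
        have h := hcomm s hs t ht
        rw [← qel_udif (hel s hs), ← qel_udif (hel t ht)] at h
        exact (qel_commute_iff (hel s hs) (hel t ht)).1 h
      refine ⟨2, ?_⟩
      rw [← hst, ← two_smul k, pow_two, smul_mul_smul_comm, mul_assoc, ← mul_assoc (udif t), ← hst,
        mul_assoc (udif s) (udif t) (udif t), hel t ht, mul_zero, mul_zero, smul_zero]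
  refine uNil_of_unipotent (unipotent_of_uNil hnil) ?_
  refine SetLike.coe_subset_coe.2 ?_
  rw [Subgroup.commutator_le]
  intro n hn e he
  rw [commutatorElement_def]
  exact mul_mem (Subgroup.subset_closure ⟨n, hn, conj_mem_conjBy he n⟩)
    (inv_mem (Subgroup.subset_closure ⟨1, one_mem _, by rw [conjBy_one]; exact he⟩))

theorem qRad_central {A : Subgroup GLM} (hA : A ∈ Sig) :
    ∀ n ∈ qRad G A, ∀ t ∈ qT G A, n * t = t * n := by
  set S : Set GLM := {s | ∃ A ∈ Sig, ∃ B ∈ qComp G A, s ∈ ⁅qRad G A, B⁆} with hS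
  have hrad_eq : ∀ {A A' : Subgroup GLM}, qComp G A = qComp G A' → qRad G A = qRad G A' ∧ qT G A = qT G A' := by
    intro A A' h
    have hT : qT G A = qT G A' := by rw [qT, qT, h]
    refine ⟨?_, hT⟩
    rw [qRad, qRad]
    congr 1
    ext N
    simp only [Set.mem_setOf_eq, QProper, hT]
  have hle : ∀ {A B : Subgroup GLM}, A ∈ Sig → B ∈ qComp G A → ⁅qRad G A, B⁆ ≤ qRad G A := by
    intro A B hA hB
    obtain ⟨r1, r2, -⟩ := qRad_proper h2 h3 hirr hA
    rw [Subgroup.commutator_le]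
    intro n hn e he
    rw [commutatorElement_def, mul_assoc, mul_assoc, ← mul_assoc e]
    exact mul_mem hn (r2 e (le_qT hB he) _ (inv_mem hn))
  have hnorm : ∀ {A B A' B' : Subgroup GLM}, A ∈ Sig → B ∈ qComp G A → A' ∈ Sig → B' ∈ qComp G A' →
      ∀ s ∈ ⁅qRad G A', B'⁆, ∀ d ∈ ⁅qRad G A, B⁆, s * d * s⁻¹ ∈ ⁅qRad G A, B⁆ := by
    intro A B A' B' hA hB hA' hB' s hs d hd
    have hsR := hle hA' hB' hs
    by_cases h : qComp G A = qComp G A'
    · rw [← (hrad_eq h).1] at hsR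
      exact commutator_normalized hsR hd
    · have hd' := (qRad_proper h2 h3 hirr hA).1 (hle hA hB hd)
      have hs' := (qRad_proper h2 h3 hirr hA').1 hsR
      rw [← comm_of_bot (qT_comm h2 h3 hirr h) hd' hs', mul_inv_cancel_right]
      exact hd
  have hnil : UNil S := by
    refine uNil_of_pairs ?_ ?_
    · rintro s ⟨A, hA, B, hB, hs⟩ t ⟨A', hA', B', hB', ht⟩
      refine UNil.mono ((uNil_rad h2 h3 hirr hA hB).union_of_normalized (uNil_rad h2 h3 hirr hA' hB')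
        fun s hs d hd => uSpan_le_uAlg _ (udif_mem_uSpan (hnorm hA hB hA' hB' s hs d hd))) ?_
      rintro x (rfl | rfl)
      · exact Or.inl hs
      · exact Or.inr ht
    · rintro s ⟨A', hA', B', hB', hs⟩ d ⟨A, hA, B, hB, hd⟩
      exact ⟨A, hA, B, hB, hnorm hA hB hA' hB' s hs d hd⟩
  have hconj : ∀ g ∈ G, ∀ s ∈ S, g * s * g⁻¹ ∈ S := by
    rintro g hg s ⟨A, hA, B, hB, hs⟩
    refine ⟨conjBy A g, qrs_conj hA hg, conjBy B g, qComp_map_conj h2 h3 hirr hA hg B hB, ?_⟩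
    have h : g * s * g⁻¹ ∈ conjBy ⁅qRad G A, B⁆ g := conj_mem_conjBy hs g
    rw [conjBy_commutator] at h
    exact Subgroup.commutator_mono (qRad_conj h2 h3 hirr hA hg) le_rfl h
  have h0 := fixed_of_uNil hirr hnil hconj
  intro n hn
  have hgen : ∀ B ∈ qComp G A, ∀ e ∈ B, n * e = e * n := by
    intro B hB e he
    have hm : n * e * n⁻¹ * e⁻¹ ∈ ⁅qRad G A, B⁆ := Subgroup.commutator_mem_commutator hn he
    have h1 := h0 _ ⟨A, hA, B, hB, hm⟩
    have h1' : n * e * n⁻¹ * e⁻¹ = 1 := Units.ext (by rwa [udif, sub_eq_zero] at h1)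
    rw [mul_inv_eq_one, mul_inv_eq_iff_eq_mul] at h1'
    exact h1'
  intro t ht
  have : qT G A ≤ Subgroup.centralizer ({n} : Set GLM) := iSup₂_le fun B hB e he => by
    rw [Subgroup.mem_centralizer_singleton_iff]; exact (hgen B hB e he).symm
  exact (Subgroup.mem_centralizer_singleton_iff.1 (this ht)).symm

theorem qT_quasisimple {A : Subgroup GLM} (hA : A ∈ Sig) : IsQuasisimple (qT G A) := by
  set T := qT G A with hT
  have hperf : ⁅T, T⁆ = T := by
    refine le_antisymm (Subgroup.commutator_le.2 fun g hg h hh =>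
      mul_mem (mul_mem (mul_mem hg hh) (inv_mem hg)) (inv_mem hh)) (iSup₂_le fun B hB => ?_)
    obtain ⟨C, hC⟩ := qrs_exists_adj h2 h3 hirr hB.1
    have hCm : C ∈ qComp G A := ⟨hC.2.1, hB.2.tail hC⟩
    obtain ⟨b, hb, rfl⟩ := mem_quadraticRootSubgroups.1 hB.1
    obtain ⟨c, hc, rfl⟩ := mem_quadraticRootSubgroups.1 hC.2.1
    exact (linked_perfect h2 h3 hirr hb hc (linked_of_rop h2 h3 hirr hb hc hC.2.2)).trans
      (Subgroup.commutator_mono (sup_le (le_qT hB) (le_qT hCm)) (sup_le (le_qT hB) (le_qT hCm)))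
  have hperf' : commutator T = ⊤ := by
    refine Subgroup.map_injective T.subtype_injective ?_
    rw [Subgroup.map_subtype_commutator, hperf, ← MonoidHom.range_eq_map, Subgroup.range_subtype]
  have hnormal : ∀ N : Subgroup T, N.Normal → N ≠ ⊤ → N ≤ Subgroup.center T := by
    intro N hN hne n hn
    rw [Subgroup.mem_center_iff]
    intro t
    have hp : QProper G A (N.map T.subtype) := by
      refine ⟨Subgroup.map_subtype_le N, ?_, fun h => hne (Subgroup.map_injective T.subtype_injective ?_)⟩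
      · rintro g hg _ ⟨m, hm, rfl⟩
        exact ⟨⟨g, hg⟩ * m * ⟨g, hg⟩⁻¹, hN.conj_mem m hm ⟨g, hg⟩, rfl⟩
      · rw [h, ← MonoidHom.range_eq_map, Subgroup.range_subtype]
    exact Subtype.ext (qRad_central h2 h3 hirr hA n (le_qRad hp ⟨n, hn, rfl⟩) t t.2).symm
  have hcT : Subgroup.center T ≠ ⊤ := by
    intro h
    obtain ⟨C, hC⟩ := qrs_exists_adj h2 h3 hirr hA
    obtain ⟨e, he, he1⟩ := rop_exists_ne_one hC.2.2
    refine rop_not_commute hC.2.2 he he1 fun c hc => ?_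
    have hm : (⟨e, le_qT (qComp_self hA) he⟩ : T) ∈ Subgroup.center T := by rw [h]; trivial
    exact (congrArg Subtype.val (Subgroup.mem_center_iff.1 hm ⟨c, le_qT (qComp_adj hC) hc⟩)).symm
  refine ⟨⟨hperf'⟩, ?_⟩
  haveI : Nontrivial (T ⧸ Subgroup.center T) := QuotientGroup.nontrivial_iff.2 hcT
  refine ⟨fun N hN => ?_⟩
  by_cases h : N.comap (QuotientGroup.mk' (Subgroup.center T)) = ⊤
  · right
    rw [← Subgroup.map_comap_eq_self_of_surjective (QuotientGroup.mk'_surjective _) N, h,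
      Subgroup.map_top_of_surjective _ (QuotientGroup.mk'_surjective _)]
  · left
    rw [eq_bot_iff, ← Subgroup.map_comap_eq_self_of_surjective (QuotientGroup.mk'_surjective _) N]
    refine (Subgroup.map_mono (hnormal _ (hN.comap _) h)).trans ?_
    rintro _ ⟨x, hx, rfl⟩
    exact Subgroup.mem_bot.2 ((QuotientGroup.eq_one_iff x).2 hx)

end CfsgLib.ThreeTransp
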