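import Mathlib
import Cfsg.Agent.Lib.ThreeTransp.QuadMixed
import Cfsg.Agent.Lib.Components.Basic

/-!
The central product decomposition of a quadratic pair.
-/

set_option autoImplicit false
set_option linter.unusedSectionVars false

universe u v

namespace CfsgLib.ThreeTransp

open Cfsg

open scoped commutatorElement

section General

/-- In a group generated by a set distributed over commuting perfect subgroups each subgroup
is generated by the part of the set it contains. -/
theorem closure_inter_eq {X : Type*} [Group X] {ι : Type*} {S : Set X} {P : ι → Subgroup X}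
    (hS : S ⊆ ⋃ i, (P i : Set X)) (hle : ∀ i, P i ≤ Subgroup.closure S)
    (hc : ∀ i j, i ≠ j → ⁅P i, P j⁆ = ⊥) (hp : ∀ i, P i ≤ ⁅P i, P i⁆) (i : ι) :
    Subgroup.closure (S ∩ P i) = P i := by
  have hLP : Subgroup.closure (S ∩ P i) ≤ P i := (Subgroup.closure_le _).2 fun x hx => hx.2
  refine le_antisymm hLP ?_
  set L := Subgroup.closure (S ∩ P i) with hL
  set C := Subgroup.centralizer (P i : Set X) with hC
  have hcomm : ∀ l ∈ L, ∀ c ∈ C, l * c = c * l := fun l hl c hc =>
    Subgroup.mem_centralizer_iff.1 hc l (hLP hl)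
  have hprod : ∀ x ∈ Subgroup.closure S, ∃ l ∈ L, ∃ c ∈ C, x = l * c := by
    intro x hx
    induction hx using Subgroup.closure_induction with
    | mem x hx =>
      obtain ⟨j, hj⟩ := Set.mem_iUnion.1 (hS hx)
      by_cases h : j = i
      · subst h
        exact ⟨x, Subgroup.subset_closure ⟨hx, hj⟩, 1, one_mem _, (mul_one x).symm⟩
      · refine ⟨1, one_mem _, x, Subgroup.mem_centralizer_iff.2 fun y hy => ?_, (one_mul x).symm⟩
        exact comm_of_bot (hc i j (Ne.symm h)) hy hj
    | one => exact ⟨1, one_mem _, 1, one_mem _, (mul_one 1).symm⟩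
    | mul x y _ _ hx hy =>
      obtain ⟨l, hl, c, hc, rfl⟩ := hx
      obtain ⟨l', hl', c', hc', rfl⟩ := hy
      refine ⟨l * l', mul_mem hl hl', c * c', mul_mem hc hc', ?_⟩
      rw [mul_assoc, ← mul_assoc c, ← hcomm l' hl' c hc, mul_assoc, mul_assoc]
    | inv x _ hx =>
      obtain ⟨l, hl, c, hc, rfl⟩ := hx
      exact ⟨l⁻¹, inv_mem hl, c⁻¹, inv_mem hc, by rw [hcomm l hl c hc, mul_inv_rev]⟩
  refine (hp i).trans (Subgroup.commutator_le.2 fun x hx y hy => ?_)
  obtain ⟨l, hl, c, hc, rfl⟩ := hprod x (hle i hx)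
  obtain ⟨l', hl', c', hc', rfl⟩ := hprod y (hle i hy)
  have hcP : c ∈ P i := by simpa using mul_mem (inv_mem (hLP hl)) hx
  have hcc : c * c' = c' * c := Subgroup.mem_centralizer_iff.1 hc' c hcP
  have e : ⁅l * c, l' * c'⁆ = ⁅l, l'⁆ := by
    rw [commutatorElement_def, commutatorElement_def]
    have h1 := hcomm l' hl' c hc
    have h2 := hcomm l hl c' hc'
    calc l * c * (l' * c') * (l * c)⁻¹ * (l' * c')⁻¹
        = l * (c * l') * c' * c⁻¹ * l⁻¹ * c'⁻¹ * l'⁻¹ := by group
      _ = l * (l' * c) * c' * c⁻¹ * (c' * l)⁻¹ * l'⁻¹ := by rw [h1]; group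
      _ = l * l' * (c * c') * c⁻¹ * (l * c')⁻¹ * l'⁻¹ := by rw [h2]; group
      _ = l * l' * (c' * c) * c⁻¹ * (l * c')⁻¹ * l'⁻¹ := by rw [hcc]
      _ = l * l' * l⁻¹ * l'⁻¹ := by group
  rw [e, commutatorElement_def]
  exact mul_mem (mul_mem (mul_mem hl hl') (inv_mem hl)) (inv_mem hl')

end General

variable {k : Type*} [Field k] {M : Type*} [AddCommGroup M] [Module k M] [FiniteDimensional k M]
variable {G : Subgroup (LinearMap.GeneralLinearGroup k M)}

local notation "GLM" => LinearMap.GeneralLinearGroup k M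
local notation "EndM" => Module.End k M
local notation "Sig" => quadraticRootSubgroups G

/-- The group generated by the root subgroups. -/
def qG0 (G : Subgroup (LinearMap.GeneralLinearGroup k M)) : Subgroup (LinearMap.GeneralLinearGroup k M) :=
  ⨆ A ∈ quadraticRootSubgroups G, A

theorem le_qG0 {A : Subgroup GLM} (hA : A ∈ Sig) : A ≤ qG0 G := le_iSup₂_of_le A hA le_rfl

theorem qG0_le : qG0 G ≤ G := iSup₂_le fun _ hA => qrs_le hA

theorem qT_le_qG0 (A : Subgroup GLM) : qT G A ≤ qG0 G := iSup₂_le fun _ hB => le_qG0 hB.1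

theorem qel_mem_qG0 {a x : EndM} (ha : QMin G a) (hx : x ∈ eSpace G a ha.sq) : qel x ∈ qG0 G :=
  le_qG0 (mem_quadraticRootSubgroups.2 ⟨a, ha, rfl⟩) (qel_mem_eGrp ha hx)

theorem qel_mem_centralizer_qG0 {s : EndM} (hs : s * s = 0)
    (hc : ∀ a, QMin G a → a * s = s * a) : qel s ∈ Subgroup.centralizer (qG0 G : Set GLM) := by
  have hle : qG0 G ≤ Subgroup.centralizer ({qel s} : Set GLM) := by
    refine iSup₂_le fun A hA e he => ?_
    obtain ⟨a, ha, rfl⟩ := mem_quadraticRootSubgroups.1 hA
    obtain ⟨x, hx, rfl⟩ := he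
    rw [Subgroup.mem_centralizer_singleton_iff]
    refine (qel_commute_iff hx.1.1 hs).2 ?_
    rcases eq_or_ne x 0 with rfl | hx0
    · simp
    · exact hc x (eSpace_data ha hx hx0).1
  exact Subgroup.mem_centralizer_iff.2 fun h hh => Subgroup.mem_centralizer_singleton_iff.1 (hle hh)

/-- A group normalised by an irreducible group and fixing a nonzero vector is trivial. -/
theorem eq_bot_of_fixed (hirr : IsIrreducibleFor G) {T : Subgroup GLM}
    (hT : ∀ g ∈ G, ∀ h ∈ T, g * h * g⁻¹ ∈ T) {w : M} (hw : w ≠ 0)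
    (hfix : ∀ h ∈ T, (h : EndM) w = w) : T = ⊥ := by
  let W : Submodule k M := ⨅ h ∈ T, LinearMap.ker (udif h)
  have hmem : ∀ v, v ∈ W ↔ ∀ h ∈ T, udif h v = 0 := fun v => by simp [W, Submodule.mem_iInf]
  have hinv : ∀ g ∈ G, ∀ v ∈ W, (g : EndM) v ∈ W := by
    intro g hg v hv
    refine (hmem _).2 fun h hh => ?_
    have h1 := hT g⁻¹ (inv_mem hg) h hh
    rw [inv_inv] at h1
    have h0 := (hmem v).1 hv _ h1
    rw [udif, LinearMap.sub_apply, sub_eq_zero, Module.End.one_apply] at h0
    rw [udif, LinearMap.sub_apply, sub_eq_zero, Module.End.one_apply, ← Module.End.mul_apply,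
      ← Units.val_mul, show h * g = g * (g⁻¹ * h * g) by group, Units.val_mul, Module.End.mul_apply, h0]
  rcases hirr.2 W hinv with h | h
  · refine absurd ((Submodule.mem_bot k).1 (h ▸ (hmem w).2 fun t ht => ?_)) hw
    rw [udif, LinearMap.sub_apply, hfix t ht, Module.End.one_apply, sub_self]
  · refine eq_bot_iff.2 fun t ht => Subgroup.mem_bot.2 (Units.ext (LinearMap.ext fun v => ?_))
    have h0 := (hmem v).1 (h ▸ Submodule.mem_top) t ht
    rwa [udif, LinearMap.sub_apply, sub_eq_zero] at h0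

theorem qComp_exists_conj {A B : Subgroup GLM} (hB : B ∈ qComp G A) : ∃ g ∈ qT G A, B = conjBy A g := by
  obtain ⟨hB', hr⟩ := hB
  clear hB'
  induction hr with
  | refl => exact ⟨1, one_mem _, (conjBy_one A).symm⟩
  | @tail C D hr hCD ih =>
    obtain ⟨g, hg, rfl⟩ := ih
    obtain ⟨x, hx, hD⟩ := rop_right_mem_unipotent hCD.2.2
    refine ⟨x * g, mul_mem (sup_le (le_qT ⟨hCD.1, hr⟩) (le_qT ⟨hCD.2.1, hr.tail hCD⟩) hx) hg, ?_⟩
    rw [conjBy_mul]; exact hD

theorem exists_qmin {s : EndM} (hs : QFam G s) (hs0 : s ≠ 0) : ∃ a, QMin G a := by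
  classical
  have hex : ∃ n, ∃ y, QFam G y ∧ y ≠ 0 ∧ erk y = n := ⟨_, s, hs, hs0, rfl⟩
  obtain ⟨y, hy, hy0, he⟩ := Nat.find_spec hex
  exact ⟨y, hy, hy0, fun z hz hz0 => he ▸ Nat.find_min' hex ⟨z, hz, hz0, rfl⟩⟩

variable (h2 : (2 : k) ≠ 0) (h3 : Nat.card k ≠ 3) (hirr : IsIrreducibleFor G)

include h2 h3 hirr

/-- Every family is congruent modulo the root subgroups to one commuting with all of them. -/
theorem exists_companion {s : EndM} (hs : QFam G s) :
    ∃ s' : EndM, QFam G s' ∧ (∀ a, QMin G a → a * s' = s' * a) ∧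
      ∀ c : k, qel (c • s) * (qel (c • s'))⁻¹ ∈ qG0 G := by
  induction hn : erk s using Nat.strong_induction_on generalizing s with
  | _ n ih =>
    by_cases hall : ∀ x, QMin G x → IsNilpotent (x * s + s * x)
    · exact ⟨s, hs, fun a ha => commute_of_unlinked h2 h3 hirr hs hall ha,
        fun c => by rw [mul_inv_cancel]; exact one_mem _⟩
    push Not at hall
    obtain ⟨a, ha, hz⟩ := hall
    obtain ⟨s₁, s₀, rfl, hm, hf, p1, p2, -, hlt⟩ := exists_split h2 h3 ha hs hz
    obtain ⟨s', hs', hc', hmem⟩ := ih _ (hn ▸ hlt) hf rfl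
    refine ⟨s', hs', hc', fun c => ?_⟩
    rw [smul_add, ← qel_mul (smul_sq_zero hm.sq c) (smul_sq_zero hf.1 c)
      (by rw [smul_mul_smul_comm, p1, smul_zero]) (by rw [smul_mul_smul_comm, p2, smul_zero]), mul_assoc]
    exact mul_mem (qel_mem_qG0 hm (Submodule.smul_mem _ c (self_mem_eSpace hm))) (hmem c)

omit hirr in
theorem qG0_sup_centralizer (hG : IsQuadraticPair G) :
    qG0 G ⊔ (G ⊓ Subgroup.centralizer (qG0 G : Set GLM)) = G := by
  refine le_antisymm (sup_le qG0_le inf_le_left) ?_
  conv_lhs => rw [← hG.2]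
  refine (Subgroup.closure_le _).2 fun σ hσ => ?_
  obtain ⟨hs, -⟩ := mem_quadraticElements.1 hσ
  obtain ⟨s', hs', hc, hmem⟩ := exists_companion h2 h3 hG.1 hs
  have h1 := hmem 1
  rw [one_smul, one_smul, qel_udif hs.1] at h1
  have e : σ = σ * (qel s')⁻¹ * qel s' := by group
  rw [SetLike.mem_coe, e]
  exact Subgroup.mul_mem_sup h1 ⟨hs'.mem, qel_mem_centralizer_qG0 hs'.1 hc⟩

omit hirr in
theorem qT_normal (hG : IsQuadraticPair G) {A : Subgroup GLM} (hA : A ∈ Sig) {g : GLM} (hg : g ∈ G) :
    conjBy (qT G A) g = qT G A := by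
  have hle : qG0 G ⊔ (G ⊓ Subgroup.centralizer (qG0 G : Set GLM)) ≤
      Subgroup.normalizer (qT G A : Set GLM) := by
    refine sup_le (iSup₂_le fun B hB e he => conjBy_eq_self_iff.1 ?_) fun c hc => conjBy_eq_self_iff.1 ?_
    · rw [qT_conj h2 h3 hG.1 hA (qrs_le hB he), qT, qT,
        qComp_eq ⟨qrs_conj hA (qrs_le hB he), qrs_reach_conj h2 h3 hG.1 hA hB he⟩]
    · exact conjBy_of_commute fun t ht =>
        (Subgroup.mem_centralizer_iff.1 hc.2 t (qT_le_qG0 A ht)).symm
  rw [qG0_sup_centralizer h2 h3 hG] at hle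
  exact conjBy_eq_self_iff.2 (hle hg)

omit hirr in
/-- Every family commutes with all root subgroups or lies in a component. -/
theorem qfam_dichotomy (hG : IsQuadraticPair G) {s : EndM} (hs : QFam G s) :
    (∀ a, QMin G a → a * s = s * a) ∨ ∃ A ∈ Sig, ∀ c : k, qel (c • s) ∈ qT G A := by
  induction hn : erk s using Nat.strong_induction_on generalizing s with
  | _ n ih =>
    by_cases hall : ∀ x, QMin G x → IsNilpotent (x * s + s * x)
    · exact Or.inl fun a ha => commute_of_unlinked h2 h3 hG.1 hs hall ha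
    push Not at hall
    obtain ⟨a, ha, hz⟩ := hall
    obtain ⟨s₁, s₀, rfl, hm, hf, p1, p2, -, hlt⟩ := exists_split h2 h3 ha hs hz
    set A := eGrp G s₁ hm with hAdef
    have hA : A ∈ Sig := mem_quadraticRootSubgroups.2 ⟨_, hm, rfl⟩
    have h1T : ∀ c : k, qel (c • s₁) ∈ qT G A := fun c =>
      le_qT (qComp_self hA) (qel_mem_eGrp hm (Submodule.smul_mem _ c (self_mem_eSpace hm)))
    refine Or.inr ⟨A, hA, fun c => ?_⟩
    rcases eq_or_ne s₀ 0 with rfl | h0
    · rw [add_zero]; exact h1T c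
    rw [smul_add, ← qel_mul (smul_sq_zero hm.sq c) (smul_sq_zero hf.1 c)
      (by rw [smul_mul_smul_comm, p1, smul_zero]) (by rw [smul_mul_smul_comm, p2, smul_zero])]
    refine mul_mem (h1T c) ?_
    by_contra hnot
    have hcs : qT G A ≤ Subgroup.centralizer ({qel s₀} : Set GLM) := by
      rcases ih _ (hn ▸ hlt) hf rfl with hc | ⟨A', hA', hc⟩
      · exact fun t ht => Subgroup.mem_centralizer_singleton_iff.2
          (Subgroup.mem_centralizer_iff.1 (qel_mem_centralizer_qG0 hf.1 hc) t (qT_le_qG0 A ht))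
      · intro t ht
        rw [Subgroup.mem_centralizer_singleton_iff]
        have hne : qComp G A ≠ qComp G A' := fun e => hnot (by rw [qT, e]; exact hc c)
        exact comm_of_bot (qT_comm h2 h3 hG.1 hne) ht (by simpa using hc 1)
    have hfix : qT G A ≤ MulAction.stabilizer GLM s₀ := by
      refine iSup₂_le fun B hB e he => ?_
      obtain ⟨g, hg, rfl⟩ := qComp_exists_conj hB
      rw [mem_conjBy] at he
      obtain ⟨x, hx, hxe⟩ := he
      have hxz : x * s₀ = 0 := mul_eq_zero_of_range_le fun m hm' => hx.2.2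
        (by obtain ⟨m', rfl⟩ := hm'; exact LinearMap.congr_fun p1 m')
      have hgs : eConj g s₀ = s₀ := by
        have h4 : g * qel s₀ * g⁻¹ = qel s₀ := by
          rw [Subgroup.mem_centralizer_singleton_iff.1 (hcs hg), mul_inv_cancel_right]
        rw [qel_conj hf.1] at h4
        have := congrArg udif h4
        rwa [udif_qel (eConj_sq hf.1), udif_qel hf.1] at this
      rw [MulAction.mem_stabilizer_iff, Units.smul_def, smul_eq_mul]
      have he' : e = qel (eConj g x) := by
        rw [← qel_conj hx.1.1, hxe]; group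
      rw [he', qel_val (eConj_sq hx.1.1), add_mul, one_mul]
      conv_lhs => arg 2; rw [← hgs]
      rw [eConj_mul, hxz, eConj_zero, add_zero]
    obtain ⟨m, hm0⟩ : ∃ m, s₀ m ≠ 0 := by
      by_contra h
      push Not at h
      exact h0 (LinearMap.ext h)
    have hbot : qT G A = ⊥ := eq_bot_of_fixed hG.1
      (fun g hg t ht => by
        have := conj_mem_conjBy ht g
        rwa [qT_normal h2 h3 hG hA hg] at this) hm0
      (fun t ht => LinearMap.congr_fun (MulAction.mem_stabilizer_iff.1 (hfix ht)) m)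
    exact qrs_ne_bot hA (eq_bot_iff.2 (hbot ▸ le_qT (qComp_self hA)))

/-- There are finitely many components. -/
theorem components_finite : (qComp G '' Sig).Finite := by
  classical
  have hch : ∀ i : ↥(qComp G '' Sig), ∃ (a b : EndM) (ha : QMin G a) (hb : QMin G b),
      qComp G (eGrp G a ha) = i.1 ∧ qComp G (eGrp G b hb) = i.1 ∧ a * b ≠ b * a := by
    rintro ⟨_, A, hA, rfl⟩
    obtain ⟨a, ha, rfl⟩ := mem_quadraticRootSubgroups.1 hA
    obtain ⟨g, hg, hl⟩ := exists_linked h2 h3 hirr ha
    refine ⟨a, eConj g a, ha, ha.conj hg, rfl, ?_, fun h =>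
      not_linked_of_commute h2 ha (eConj_sq ha.sq) h hl.symm⟩
    exact qComp_eq (qComp_adj ⟨hA, mem_quadraticRootSubgroups.2 ⟨_, _, rfl⟩,
      (linked_special h2 h3 ha (ha.conj hg) hl.symm).1⟩)
  choose av bv hav hbv hea heb hab using hch
  have hli : LinearIndependent k av := by
    rw [linearIndependent_iff']
    intro t c hsum i hi
    have hcomm : ∀ j, j ≠ i → av j * bv i - bv i * av j = 0 := by
      intro j hj
      rw [sub_eq_zero]
      have hne : qComp G (eGrp G (av j) (hav j)) ≠ qComp G (eGrp G (bv i) (hbv i)) := by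
        rw [hea j, heb i]; exact fun h => hj (Subtype.ext h)
      exact (qel_commute_iff (hav j).sq (hbv i).sq).1 (comm_of_bot (qT_comm h2 h3 hirr hne)
        (le_qT (qComp_self (mem_quadraticRootSubgroups.2 ⟨_, _, rfl⟩)) (qel_self_mem_eGrp (hav j)))
        (le_qT (qComp_self (mem_quadraticRootSubgroups.2 ⟨_, _, rfl⟩)) (qel_self_mem_eGrp (hbv i))))
    have h0 : ∑ j ∈ t, c j • (av j * bv i - bv i * av j) = 0 := by
      have e : (∑ j ∈ t, c j • av j) * bv i - bv i * (∑ j ∈ t, c j • av j) =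
          ∑ j ∈ t, c j • (av j * bv i - bv i * av j) := by
        simp only [Finset.sum_mul, Finset.mul_sum, ← Finset.sum_sub_distrib, smul_mul_assoc,
          mul_smul_comm, smul_sub]
      rw [← e, hsum, zero_mul, mul_zero, sub_self]
    rw [Finset.sum_eq_single i (fun j _ hj => by rw [hcomm j hj, smul_zero])
      (fun h => absurd hi h)] at h0
    exact (smul_eq_zero.1 h0).resolve_right fun h => hab i (sub_eq_zero.1 h)
  exact Set.finite_coe_iff.1 hli.finite

omit h2 h3 hirr

/-- The quadratic elements commuting with all root subgroups. -/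
def qCentral (G : Subgroup (LinearMap.GeneralLinearGroup k M)) : Set (LinearMap.GeneralLinearGroup k M) :=
  {σ | σ ∈ quadraticElements G ∧ ∀ a, QMin G a → a * udif σ = udif σ * a}

theorem qCentral_closure_le : Subgroup.closure (qCentral G) ≤
    G ⊓ Subgroup.centralizer (qG0 G : Set GLM) := by
  refine (Subgroup.closure_le _).2 fun σ hσ => ⟨hσ.1.1, ?_⟩
  have h := mem_quadraticElements.1 hσ.1
  have := qel_mem_centralizer_qG0 h.1.1 hσ.2
  rwa [qel_udif h.1.1] at this

theorem qel_mem_qCentral_closure {s : EndM} (hs : QFam G s) (hc : ∀ a, QMin G a → a * s = s * a)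
    (c : k) : qel (c • s) ∈ Subgroup.closure (qCentral G) := by
  rcases eq_or_ne (c • s) 0 with h | h
  · rw [h, qel_zero]; exact one_mem _
  refine Subgroup.subset_closure ⟨mem_quadraticElements.2 ?_, ?_⟩ <;>
    rw [udif_qel (smul_sq_zero hs.1 c)]
  · exact ⟨hs.smul c, h⟩
  · exact fun a ha => by rw [mul_smul_comm, smul_mul_assoc, hc a ha]

theorem qT_generated {A : Subgroup GLM} :
    qT G A ≤ Subgroup.closure (quadraticElements G ∩ (qT G A : Set GLM)) := by
  refine iSup₂_le fun B hB e he => ?_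
  by_cases he1 : e = 1
  · rw [he1]; exact one_mem _
  refine Subgroup.subset_closure ⟨?_, le_qT hB he⟩
  obtain ⟨b, hb, rfl⟩ := mem_quadraticRootSubgroups.1 hB.1
  obtain ⟨x, hx, rfl⟩ := he
  refine mem_quadraticElements.2 ?_
  rw [udif_qel hx.1.1]
  exact ⟨hx.1, fun h => he1 (by rw [h, qel_zero])⟩

include h2 h3

/-- The properties of a central decomposition. -/
theorem qG0_sup_qCentral (hG : IsQuadraticPair G) :
    qG0 G ⊔ Subgroup.closure (qCentral G) = G := by
  refine le_antisymm (sup_le qG0_le (qCentral_closure_le.trans inf_le_left)) ?_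
  conv_lhs => rw [← hG.2]
  refine (Subgroup.closure_le _).2 fun σ hσ => ?_
  obtain ⟨hs, -⟩ := mem_quadraticElements.1 hσ
  obtain ⟨s', hs', hc, hmem⟩ := exists_companion h2 h3 hG.1 hs
  have h1 := hmem 1
  rw [one_smul, one_smul, qel_udif hs.1] at h1
  have e : σ = σ * (qel s')⁻¹ * qel s' := by group
  rw [SetLike.mem_coe, e]
  exact Subgroup.mul_mem_sup h1 (by simpa using qel_mem_qCentral_closure hs' hc 1)

end CfsgLib.ThreeTransp

namespace CfsgLib.ThreeTransp

open Cfsg

/-- The data of a central decomposition for a set of generators. -/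
structure CentralData {k : Type*} [Field k] {M : Type*} [AddCommGroup M] [Module k M]
    (G : Subgroup (LinearMap.GeneralLinearGroup k M)) (S : Set (LinearMap.GeneralLinearGroup k M))
    (ι : Type*) where
  P : ι → Subgroup (LinearMap.GeneralLinearGroup k M)
  le : ∀ i, P i ≤ G
  normal : ∀ i, ∀ g ∈ G, conjBy (P i) g = P i
  comm : ∀ i j, i ≠ j → ⁅P i, P j⁆ = ⊥
  quasi : ∀ i, IsQuasisimple ↥(P i)
  gen : ∀ i, Subgroup.closure (quadraticElements G ∩ (P i : Set (LinearMap.GeneralLinearGroup k M))) = P i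
  cover : S ⊆ ⋃ i, (P i : Set (LinearMap.GeneralLinearGroup k M))

variable {k : Type u} [Field k]

theorem central_decomposition (h2 : (2 : k) ≠ 0) (h3 : Nat.card k ≠ 3) :
    ∀ (n : ℕ) {M : Type u} [AddCommGroup M] [Module k M] [FiniteDimensional k M],
      Module.finrank k M = n → ∀ {G : Subgroup (LinearMap.GeneralLinearGroup k M)},
      IsQuadraticPair G → ∃ (ι : Type u) (_ : Finite ι), Nonempty (CentralData G (quadraticElements G) ι) := by
  intro n
  induction n using Nat.strong_induction_on with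
  | _ n ih =>
  intro M _ _ _ hn G hG
  -- the part centralising the root subgroups
  obtain ⟨κ, hκ, D, hDc⟩ : ∃ (κ : Type u) (_ : Finite κ), ∃ D : CentralData G (qCentral G) κ,
      ∀ j, D.P j ≤ Subgroup.centralizer (qG0 G : Set (LinearMap.GeneralLinearGroup k M)) := by
    rcases (qCentral G).eq_empty_or_nonempty with he | ⟨σ, hσ⟩
    · exact ⟨PEmpty, inferInstance, ⟨PEmpty.elim, by intro i; exact i.elim, by intro i; exact i.elim,
        by intro i; exact i.elim, by intro i; exact i.elim, by intro i; exact i.elim,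
        by rw [he]; exact Set.empty_subset _⟩, fun j => j.elim⟩
    obtain ⟨hs, hs0⟩ := mem_quadraticElements.1 hσ.1
    obtain ⟨a, ha⟩ := exists_qmin hs hs0
    set G2 := Subgroup.closure (qCentral G) with hG2
    have hG2le := qCentral_closure_le (G := G)
    -- a proper invariant subspace
    have hka : ∀ g ∈ G2, ∀ v ∈ LinearMap.ker a, (g : Module.End k M) v ∈ LinearMap.ker a := by
      intro g hg v hv
      have h4 := Subgroup.mem_centralizer_iff.1 (hG2le hg).2 _ (qel_mem_qG0 ha (self_mem_eSpace ha))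
      have h5 : a * (g : Module.End k M) = g * a := by
        have h6 := congrArg (fun x : LinearMap.GeneralLinearGroup k M => (x : Module.End k M)) h4
        simpa only [Units.val_mul, qel_val ha.sq, add_mul, mul_add, one_mul, mul_one, add_right_inj] using h6
      rw [LinearMap.mem_ker, ← Module.End.mul_apply, h5, Module.End.mul_apply,
        LinearMap.mem_ker.1 hv, map_zero]
    have hka0 : LinearMap.ker a ≠ ⊥ := fun h => ha.2.1
      (LinearMap.range_eq_bot.1 (eq_bot_iff.2 (h ▸ range_le_ker_of_sq ha.sq)))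
    obtain ⟨U, ⟨hU0, hUa, hUinv⟩, hUmin⟩ := (wellFounded_lt (α := Submodule k M)).has_min
      {U | U ≠ ⊥ ∧ U ≤ LinearMap.ker a ∧ ∀ g ∈ G2, ∀ v ∈ U, (g : Module.End k M) v ∈ U}
      ⟨_, hka0, le_rfl, hka⟩
    have hUlt : Module.finrank k U < n := hn ▸ Submodule.finrank_lt fun h =>
      ha.2.1 (LinearMap.ker_eq_top.1 (top_unique (h ▸ hUa)))
    let f0 : G2 →* Module.End k U :=
      { toFun := fun g => ((g : LinearMap.GeneralLinearGroup k M) : Module.End k M).restrict (hUinv g g.2)
        map_one' := by ext v; simp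
        map_mul' := fun g g' => by ext v; simp }
    let f : G2 →* LinearMap.GeneralLinearGroup k U := f0.toHomUnits
    have hf : ∀ (g : G2) (v : U), (((f g : LinearMap.GeneralLinearGroup k U) : Module.End k U) v : M) =
        ((g : LinearMap.GeneralLinearGroup k M) : Module.End k M) v := fun g v => rfl
    obtain ⟨v0, hv0, hv00⟩ := Submodule.exists_mem_ne_zero_of_ne_bot hU0
    -- normalisers
    have hnorm : ∀ K : Subgroup (LinearMap.GeneralLinearGroup k M), K ≤ G2 →
        (∀ g ∈ G2, conjBy K g = K) → ∀ g ∈ G, conjBy K g = K := by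
      intro K hK hK2 g hg
      have : qG0 G ⊔ G2 ≤ Subgroup.normalizer (K : Set (LinearMap.GeneralLinearGroup k M)) := by
        refine sup_le (fun c hc => conjBy_eq_self_iff.1 (conjBy_of_commute fun t ht => ?_))
          fun c hc => conjBy_eq_self_iff.1 (hK2 c hc)
        exact Subgroup.mem_centralizer_iff.1 (hG2le (hK ht)).2 c hc
      rw [qG0_sup_qCentral h2 h3 hG] at this
      exact conjBy_eq_self_iff.2 (this hg)
    have hnormal : ∀ N : Subgroup G2, N.Normal →
        ∀ g ∈ G, conjBy (N.map G2.subtype) g = N.map G2.subtype := by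
      intro N hN
      refine hnorm _ (Subgroup.map_subtype_le N) fun g hg => conjBy_eq_self_iff.2 ?_
      rw [Subgroup.mem_normalizer_iff]
      intro t
      constructor
      · rintro ⟨m, hm, rfl⟩
        exact ⟨⟨g, hg⟩ * m * ⟨g, hg⟩⁻¹, hN.conj_mem m hm ⟨g, hg⟩, rfl⟩
      · rintro ⟨m, hm, e⟩
        refine ⟨⟨g, hg⟩⁻¹ * m * ⟨g, hg⟩, ?_, ?_⟩
        · simpa using hN.conj_mem m hm ⟨g, hg⟩⁻¹
        · simp only [map_mul, map_inv, Subgroup.coe_subtype] at e ⊢
          rw [e]; group
    have hinj : Function.Injective f := by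
      rw [← MonoidHom.ker_eq_bot_iff]
      refine Subgroup.map_injective G2.subtype_injective (Subgroup.map_bot G2.subtype ▸
        eq_bot_of_fixed hG.1 (T := (f.ker).map G2.subtype) ?_ hv00 ?_)
      · intro g hg t ht
        have := conj_mem_conjBy ht g
        rwa [hnormal _ f.normal_ker g hg] at this
      · rintro _ ⟨m, hm, rfl⟩
        have := hf m ⟨v0, hv0⟩
        rw [MonoidHom.mem_ker.1 hm] at this
        simpa using this.symm
    -- the restricted pair
    have himg : ∀ τ : G2, (τ : LinearMap.GeneralLinearGroup k M) ∈ qCentral G →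
        f τ ∈ quadraticElements f.range := by
      intro τ hτ
      obtain ⟨ht, ht0⟩ := mem_quadraticElements.1 hτ.1
      set t := udif (τ : LinearMap.GeneralLinearGroup k M) with htdef
      have htU : ∀ v ∈ U, t v ∈ U := fun v hv => by
        rw [htdef, udif, LinearMap.sub_apply, Module.End.one_apply]
        exact sub_mem (hUinv τ τ.2 v hv) hv
      have e1 : udif (f τ) = t.restrict htU := by
        refine LinearMap.ext fun v => Subtype.ext ?_
        simp [udif, htdef, hf]
      have hsq : t.restrict htU * t.restrict htU = 0 :=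
        LinearMap.ext fun v => Subtype.ext (LinearMap.congr_fun ht.1 (v : M))
      refine mem_quadraticElements.2 ⟨⟨e1 ▸ hsq, fun c => ?_⟩, fun h => ht0 ?_⟩
      · refine ⟨⟨qel (c • t), qel_mem_qCentral_closure ht hτ.2 c⟩, ?_⟩
        rw [e1]
        refine (qel_eq_of_val (smul_sq_zero hsq c) (LinearMap.ext fun v => Subtype.ext ?_)).symm
        rw [hf]
        simp [qel_val (smul_sq_zero ht.1 c)]
      · have h7 : f τ = 1 := Units.ext (by rwa [udif, sub_eq_zero] at h)
        rw [htdef, show τ = 1 from hinj (h7.trans (map_one f).symm)]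
        simp [udif]
    have hH : IsQuadraticPair f.range := by
      refine ⟨⟨⟨⟨v0, hv0⟩, fun h => hv00 (congrArg Subtype.val h)⟩, fun W hW => ?_⟩,
        le_antisymm ((Subgroup.closure_le _).2 fun x hx => hx.1) ?_⟩
      · by_cases hWb : W = ⊥
        · exact Or.inl hWb
        right
        refine Submodule.map_injective_of_injective U.injective_subtype ?_
        rw [Submodule.map_subtype_top]
        by_contra hne
        refine hUmin (W.map U.subtype) ⟨?_, (Submodule.map_subtype_le U W).trans hUa, ?_⟩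
          (lt_of_le_of_ne (Submodule.map_subtype_le U W) hne)
        · intro h
          exact hWb (Submodule.map_injective_of_injective U.injective_subtype (h.trans (Submodule.map_bot _).symm))
        · rintro g hg _ ⟨w, hw, rfl⟩
          exact ⟨_, hW _ ⟨⟨g, hg⟩, rfl⟩ w hw, hf _ _⟩
      · have : G2 ≤ ((Subgroup.closure (quadraticElements f.range)).comap f).map G2.subtype := by
          refine (Subgroup.closure_le _).2 fun τ hτ => ?_
          exact ⟨⟨τ, Subgroup.subset_closure hτ⟩, Subgroup.subset_closure (himg ⟨τ, _⟩ hτ), rfl⟩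
        rintro _ ⟨g, rfl⟩
        obtain ⟨m, hm, hmg⟩ := this g.2
        rwa [show m = g from Subtype.ext hmg] at hm
    obtain ⟨κ, hκ, ⟨D⟩⟩ := ih _ hUlt rfl hH
    -- pull back
    set P : κ → Subgroup (LinearMap.GeneralLinearGroup k M) := fun j => ((D.P j).comap f).map G2.subtype
      with hP
    have hPle : ∀ j, P j ≤ G2 := fun j => Subgroup.map_subtype_le _
    have hcomm : ∀ i j, i ≠ j → ⁅P i, P j⁆ = ⊥ := by
      intro i j hij
      rw [hP]
      refine bot_of_comm ?_
      rintro _ ⟨x, hx, rfl⟩ _ ⟨y, hy, rfl⟩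
      have := hinj (a₁ := x * y) (a₂ := y * x)
        (by rw [map_mul, map_mul]; exact comm_of_bot (D.comm i j hij) hx hy)
      exact congrArg Subtype.val this
    have hquasi : ∀ j, IsQuasisimple ↥(P j) := by
      intro j
      have e := ((D.P j).comap f).equivMapOfInjective f hinj
      rw [Subgroup.map_comap_eq_self (D.le j)] at e
      exact CfsgLib.Components.isQuasisimple_of_mulEquiv
        (e.symm.trans (((D.P j).comap f).equivMapOfInjective G2.subtype G2.subtype_injective)) (D.quasi j)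
    have hcover : qCentral G ⊆ ⋃ j, (P j : Set (LinearMap.GeneralLinearGroup k M)) := by
      intro τ hτ
      have hτ2 : τ ∈ G2 := Subgroup.subset_closure hτ
      obtain ⟨j, hj⟩ := Set.mem_iUnion.1 (D.cover (himg ⟨τ, hτ2⟩ hτ))
      exact Set.mem_iUnion.2 ⟨j, ⟨τ, hτ2⟩, hj, rfl⟩
    have hperf : ∀ j, P j ≤ ⁅P j, P j⁆ := by
      intro j
      haveI := (hquasi j).1
      rw [← Subgroup.map_subtype_commutator, Group.IsPerfect.commutator_eq_top,
        ← MonoidHom.range_eq_map, Subgroup.range_subtype]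
    refine ⟨κ, hκ, ⟨P, fun j => (hPle j).trans (hG2le.trans inf_le_left), ?_, hcomm, hquasi, ?_, hcover⟩,
      fun j => (hPle j).trans (hG2le.trans inf_le_right)⟩
    · intro j
      refine hnormal _ ⟨fun m hm g => ?_⟩
      rw [Subgroup.mem_comap, map_mul, map_mul, map_inv]
      have := conj_mem_conjBy (show f m ∈ D.P j from hm) (f g)
      rwa [D.normal j (f g) ⟨g, rfl⟩] at this
    · intro j
      refine le_antisymm ((Subgroup.closure_le _).2 fun x hx => hx.2) ?_
      refine le_of_eq_of_le (closure_inter_eq hcover hPle hcomm hperf j).symm (Subgroup.closure_mono ?_)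
      exact fun x hx => ⟨hx.1.1, hx.2⟩
  -- the components
  haveI := (components_finite h2 h3 hG.1).to_subtype
  have hch : ∀ i : ↥(qComp G '' quadraticRootSubgroups G),
      ∃ A ∈ quadraticRootSubgroups G, qComp G A = i.1 := fun i => i.2
  choose rep hrep hrepc using hch
  refine ⟨↥(qComp G '' quadraticRootSubgroups G) ⊕ κ, inferInstance,
    ⟨Sum.elim (fun i => qT G (rep i)) D.P, ?_, ?_, ?_, ?_, ?_, ?_⟩⟩
  · rintro (i | j)
    · exact qT_le (rep i)
    · exact D.le j
  · rintro (i | j) g hg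
    · exact qT_normal h2 h3 hG (hrep i) hg
    · exact D.normal j g hg
  · have hTP : ∀ A j, ⁅qT G A, D.P j⁆ = ⊥ := fun A j =>
      bot_of_comm fun t ht c hc => Subgroup.mem_centralizer_iff.1 (hDc j hc) t (qT_le_qG0 A ht)
    rintro (i | j) (i' | j') hne
    · refine qT_comm h2 h3 hG.1 fun h => hne ?_
      rw [hrepc, hrepc] at h
      rw [Subtype.ext h]
    · exact hTP _ _
    · exact comm_bot_symm (hTP _ _)
    · exact D.comm j j' fun h => hne (by rw [h])
  · rintro (i | j)
    · exact qT_quasisimple h2 h3 hG.1 (hrep i)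
    · exact D.quasi j
  · rintro (i | j)
    · exact le_antisymm ((Subgroup.closure_le _).2 fun x hx => hx.2) qT_generated
    · exact D.gen j
  · intro σ hσ
    obtain ⟨hs, -⟩ := mem_quadraticElements.1 hσ
    rcases qfam_dichotomy h2 h3 hG hs with hc | ⟨A, hA, hc⟩
    · obtain ⟨j, hj⟩ := Set.mem_iUnion.1 (D.cover ⟨hσ, hc⟩)
      exact Set.mem_iUnion.2 ⟨Sum.inr j, hj⟩
    · have h1 := hc 1
      rw [one_smul, qel_udif hs.1] at h1
      refine Set.mem_iUnion.2 ⟨Sum.inl ⟨_, A, hA, rfl⟩, ?_⟩
      show σ ∈ qT G (rep _)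
      rw [qT, hrepc]
      exact h1

/-- A quadratic pair is a central product of quasisimple groups. -/
theorem quadratic_pair_central_product (h2 : (2 : k) ≠ 0) (h3 : Nat.card k ≠ 3) {M : Type u}
    [AddCommGroup M] [Module k M] [FiniteDimensional k M]
    {G : Subgroup (LinearMap.GeneralLinearGroup k M)} (hG : IsQuadraticPair G) :
    ∃ (s : ℕ) (Gi : Fin s → Subgroup (LinearMap.GeneralLinearGroup k M)),
      (∀ i, Gi i ≤ G ∧ ∀ g ∈ G, conjBy (Gi i) g = Gi i) ∧ (∀ i j, i ≠ j → ⁅Gi i, Gi j⁆ = ⊥) ∧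
      (⨆ i, Gi i) = G ∧
      (∀ i, IsQuasisimple ↥(Gi i) ∧ Subgroup.closure (quadraticElements G ∩
        (Gi i : Set (LinearMap.GeneralLinearGroup k M))) = Gi i) ∧
      quadraticElements G ⊆ ⋃ i, (Gi i : Set (LinearMap.GeneralLinearGroup k M)) := by
  obtain ⟨ι, hι, ⟨D⟩⟩ := central_decomposition h2 h3 _ rfl hG
  obtain ⟨s, ⟨e⟩⟩ := Finite.exists_equiv_fin ι
  have hcov : quadraticElements G ⊆ ⋃ i, (D.P (e.symm i) : Set (LinearMap.GeneralLinearGroup k M)) := by
    intro σ hσ
    obtain ⟨j, hj⟩ := Set.mem_iUnion.1 (D.cover hσ)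
    exact Set.mem_iUnion.2 ⟨e j, by rwa [e.symm_apply_apply]⟩
  refine ⟨s, fun i => D.P (e.symm i), fun i => ⟨D.le _, D.normal _⟩,
    fun i j h => D.comm _ _ fun he => h (e.symm.injective he), ?_, fun i => ⟨D.quasi _, D.gen _⟩, hcov⟩
  refine le_antisymm (iSup_le fun i => D.le _) ?_
  conv_lhs => rw [← hG.2]
  refine (Subgroup.closure_le _).2 fun σ hσ => ?_
  obtain ⟨i, hi⟩ := Set.mem_iUnion.1 (hcov hσ)
  exact Subgroup.mem_iSup_of_mem i hi

end CfsgLib.ThreeTransp
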