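import Cfsg.Agent.Lib.ThreeTransp.FischerHyp

/-!
A primitive class of three-transpositions is a rank three set under conjugation.
-/

set_option autoImplicit false

namespace CfsgLib.ThreeTransp

open Cfsg

universe u

variable {G : Type u} [Group G] {D : Set G}

/-- Ordered pairs that are conjugate. -/
def SamePair (a c a' c' : G) : Prop := ∃ g : G, g * a * g⁻¹ = a' ∧ g * c * g⁻¹ = c'

theorem SamePair.symm {a c a' c' : G} (h : SamePair a c a' c') : SamePair a' c' a c := by
  obtain ⟨g, rfl, rfl⟩ := h
  exact ⟨g⁻¹, by group, by group⟩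

theorem SamePair.trans {a c a' c' a'' c'' : G} (h : SamePair a c a' c') (h' : SamePair a' c' a'' c'') :
    SamePair a c a'' c'' := by
  obtain ⟨g, rfl, rfl⟩ := h
  obtain ⟨k, rfl, rfl⟩ := h'
  exact ⟨k * g, by group, by group⟩

theorem samePair_refl (a c : G) : SamePair a c a c := ⟨1, by group, by group⟩

theorem samePair_of_inv {g a c a' c' : G} (hg : g⁻¹ = g) (h1 : g * a * g = a') (h2 : g * c * g = c') :
    SamePair a c a' c' := ⟨g, by rw [hg, h1], by rw [hg, h2]⟩

/-- The two orders of a non-commuting pair. -/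
theorem TClass.pair_swap (hC : TClass D) {a c : G} (ha : a ∈ D) (hc : c ∈ D) (h : ¬ Commute a c) :
    SamePair a c c a := by
  have b1 := ts_braid hC.ts ha hc h
  have hinv : (a * c * a)⁻¹ = a * c * a := by
    rw [mul_inv_rev, mul_inv_rev, ts_inv hC.ts ha, ts_inv hC.ts hc, mul_assoc]
  refine samePair_of_inv hinv ?_ ?_
  · calc a * c * a * a * (a * c * a) = a * c * (a * a) * a * c * a := by group
      _ = (a * c * a) * c * a := by rw [ts_mul_self hC.ts ha, mul_one]
      _ = c * a * (c * c) * a := by rw [b1]; group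
      _ = c := by rw [ts_mul_self hC.ts hc, mul_one, mul_assoc, ts_mul_self hC.ts ha, mul_one]
  · calc a * c * a * c * (a * c * a) = a * c * a * (c * a * c) * a := by group
      _ = a * c * a * (a * c * a) * a := by rw [b1]
      _ = a * c * (a * a) * c * (a * a) := by group
      _ = a := by rw [ts_mul_self hC.ts ha, mul_one, mul_one, mul_assoc, ts_mul_self hC.ts hc, mul_one]

/-- Two commuting members not commuting with `a` are conjugate beside `a`. -/
theorem TClass.cherry (hC : TClass D) {a b c : G} (ha : a ∈ D) (hb : b ∈ D) (hc : c ∈ D)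
    (hab : ¬ Commute a b) (hac : ¬ Commute a c) (hbc : Commute b c) : SamePair a b a c := by
  have b1 := ts_braid hC.ts ha hb hab
  have b2 := ts_braid hC.ts ha hc hac
  have sa := ts_mul_self hC.ts ha
  have sb := ts_mul_self hC.ts hb
  have sc := ts_mul_self hC.ts hc
  have hbcb : b * c * b = c := by rw [hbc.eq, mul_assoc, sb, mul_one]
  have hcbc : c * b * c = b := by rw [← hbc.eq, mul_assoc, sc, mul_one]
  -- the member `e`
  obtain ⟨e, he⟩ : ∃ e, e = b * a * c * a * b := ⟨_, rfl⟩
  have hinv : e⁻¹ = e := by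
    rw [he]
    simp only [mul_inv_rev, ts_inv hC.ts ha, ts_inv hC.ts hb, ts_inv hC.ts hc, mul_assoc]
  have hea : a * e * a = e := by
    rw [he]
    calc a * (b * a * c * a * b) * a = (a * b * a) * c * (a * b * a) := by group
      _ = b * a * (b * c * b) * a * b := by rw [b1]; group
      _ = b * a * c * a * b := by rw [hbcb]
  refine ⟨e * a, ?_, ?_⟩
  · rw [mul_inv_rev, hinv, ts_inv hC.ts ha]
    calc e * a * a * (a * e) = e * (a * a) * a * e := by group
      _ = e * (a * e * a) * a := by rw [sa]; simp only [mul_one, mul_assoc, sa]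
      _ = a := by
        rw [hea, show e * e = 1 by rw [← inv_eq_iff_mul_eq_one, hinv], one_mul]
  · rw [mul_inv_rev, hinv, ts_inv hC.ts ha]
    calc e * a * b * (a * e) = e * (a * b * a) * e := by group
      _ = b * a * c * a * (b * b) * a * (b * b) * a * c * a * b := by rw [b1, he]; group
      _ = b * (a * c * a) * c * a * b := by rw [sb, mul_one, mul_one]; simp only [mul_assoc]; rw [← mul_assoc a a, sa, one_mul]
      _ = b * (c * a * (c * c) * a) * b := by rw [b2]; group
      _ = b * c * b := by rw [sc, mul_one, mul_assoc c, sa, mul_one]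
      _ = c := hbcb

variable [Finite G]

/-- The members commuting with both. -/
def both (D : Set G) (a c : G) : Set G := {y | y ∈ D ∧ Commute a y ∧ Commute c y}

omit [Finite G] in
theorem TClass.both_ncard (hC : TClass D) {a c a' c' : G} (h : SamePair a c a' c') :
    (both D a c).ncard = (both D a' c').ncard := by
  obtain ⟨g, rfl, rfl⟩ := h
  have himg : (fun x => g * x * g⁻¹) '' both D a c = both D (g * a * g⁻¹) (g * c * g⁻¹) := by
    ext z
    constructor
    · rintro ⟨y, ⟨hy, h1, h2⟩, rfl⟩
      exact ⟨hC.conj g y hy, (commute_conj_iff g).2 h1, (commute_conj_iff g).2 h2⟩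
    · rintro ⟨hz, h1, h2⟩
      have e : g * (g⁻¹ * z * g) * g⁻¹ = z := by group
      rw [← e] at h1 h2
      exact ⟨g⁻¹ * z * g, ⟨by simpa using hC.conj g⁻¹ z hz, (commute_conj_iff g).1 h1,
        (commute_conj_iff g).1 h2⟩, e⟩
  rw [← himg, Set.ncard_image_of_injective _ fun x y h => mul_left_cancel (mul_right_cancel h)]

/-- A non-commuting pair has a common neighbour. -/
theorem TClass.both_nonempty (hC : TClass D) (hp : IsPrimitiveUnderConj D)
    (hw : ∃ a ∈ D, ∃ b ∈ D, a ≠ b ∧ Commute a b) {a c : G} (ha : a ∈ D) (hc : c ∈ D)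
    (h : ¬ Commute a c) : (both D a c).Nonempty := by
  by_contra hemp
  rw [Set.not_nonempty_iff_eq_empty] at hemp
  have hcon := (connected_iff_creach ⟨a, ha⟩).1 (hC.connected_of_primitive hp hw) a ha c hc
  have key : ∀ w, CReach D a w → w ∈ D → ¬ Commute w c ∧ SamePair a c w c := by
    intro w hw'
    induction hw' with
    | refl => exact fun _ => ⟨h, samePair_refl a c⟩
    | @tail u w _ huw ih =>
      intro hwD
      obtain ⟨h1, h2⟩ := ih huw.1
      have h3 : ¬ Commute w c := fun h4 => by
        have h5 : (both D u c).Nonempty := ⟨w, hwD, huw.2.2, h4.symm⟩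
        rw [← Set.ncard_pos (Set.toFinite _), ← hC.both_ncard h2, hemp, Set.ncard_empty] at h5
        omega
      refine ⟨h3, h2.trans ?_⟩
      obtain ⟨g, g1, g2⟩ := hC.cherry hc huw.1 hwD (fun e => h1 e.symm) (fun e => h3 e.symm) huw.2.2
      exact ⟨g, g2, g1⟩
  exact (key c hcon hc).1 (Commute.refl c)

/-- Private neighbours of the two ends commute somewhere. -/
theorem TClass.exists_private (hC : TClass D) (hp : IsPrimitiveUnderConj D)
    (hw : ∃ a ∈ D, ∃ b ∈ D, a ≠ b ∧ Commute a b) {a c : G} (ha : a ∈ D) (hc : c ∈ D)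
    (h : ¬ Commute a c) : ∃ b ∈ D, ∃ d ∈ D, Commute a b ∧ ¬ Commute c b ∧ Commute c d ∧ ¬ Commute a d ∧
      Commute b d := by
  by_contra hcon
  push Not at hcon
  have hW : WeakTS D := weakTS_of_group ⟨hC.ts, hC.conj, hC.gen⟩
  obtain ⟨h2, -⟩ := hC.pCores_central_of_primitive hp hw
  have hne : ∀ y ∈ both D a c, y ≠ c := fun y hy e => h (e ▸ hy.2.1)
  have hFd : ∀ d ∈ D, Commute c d → d ≠ c → ¬ Commute a d → ∀ y ∈ both D a c, Commute d y := by
    intro d hd hcd hdc had
    have hsub : both D a d ⊆ both D a c := fun y hy => ⟨hy.1, hy.2.1, by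
      by_contra hcy
      exact hcon y hy.1 d hd hy.2.1 hcy hcd had hy.2.2.symm⟩
    have heq := Set.eq_of_subset_of_ncard_le hsub
      (le_of_eq (hC.both_ncard (hC.cherry ha hc hd h had hcd))) (Set.toFinite _)
    intro y hy
    rw [← heq] at hy
    exact hy.2.2
  obtain ⟨y₀, hy₀⟩ := hC.both_nonempty hp hw ha hc h
  obtain ⟨d₀, hd₀, hd₀c, hcd₀, had₀⟩ : ∃ d ∈ D, d ≠ c ∧ Commute c d ∧ ¬ Commute a d := by
    by_contra hn
    push Not at hn
    -- then `a` and `c` have the same neighbours, and so has every member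
    have hsub : nb D c ⊆ nb D a := fun d hd =>
      ⟨hd.1, fun e => h ((e ▸ hd.2.2 : Commute c a).symm), hn d hd.1 hd.2.1 hd.2.2⟩
    obtain ⟨g, hg⟩ := hC.trans a ha c hc
    have hcard : (nb D a).ncard ≤ (nb D c).ncard := by
      rw [← Set.ncard_image_of_injective (nb D a) (f := fun x => g * x * g⁻¹)
        (fun p q e => mul_left_cancel (mul_right_cancel e))]
      refine Set.ncard_le_ncard (Set.image_subset_iff.2 fun x hx => ?_) (Set.toFinite _)
      exact hg ▸ hW.nb_conj g hx
    have heq := Set.eq_of_subset_of_ncard_le hsub hcard (Set.toFinite _)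
    set U : Set G := {y | y ∈ D ∧ Commute a y} ∪ {c}
    have hUD : U ⊆ D := fun y hy => hy.elim (fun h => h.1) fun h => h ▸ hc
    have hH : IsDSubgroup D (Subgroup.closure U) :=
      le_antisymm ((Subgroup.closure_le _).2 fun y hy => hy.2)
        (Subgroup.closure_mono fun y hy => ⟨hUD hy, Subgroup.subset_closure hy⟩)
    rcases (hC.maximal_commuting hp hw ha).2 _ hH (Subgroup.closure_mono Set.subset_union_left) with e | e
    · have hm : c ∈ Subgroup.closure {y | y ∈ D ∧ Commute a y} := e ▸ Subgroup.subset_closure (Or.inr rfl)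
      have hle : Subgroup.closure {y | y ∈ D ∧ Commute a y} ≤ Subgroup.centralizer ({a} : Set G) :=
        (Subgroup.closure_le _).2 fun y hy => Subgroup.mem_centralizer_singleton_iff.2 hy.2.eq.symm
      exact h (Commute.symm (Subgroup.mem_centralizer_singleton_iff.1 (hle hm)))
    · obtain ⟨k, hk⟩ := hC.trans y₀ hy₀.1 a ha
      have hall : orb U y₀ ⊆ nb D a := by
        refine orb_subset_of_gen ⟨hy₀.1, fun e' => h ((e' ▸ hy₀.2.2 : Commute c a).symm), hy₀.2.1⟩
          (fun w hw' => hW.inv (hUD hw')) fun w hw' z _ hz => ?_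
        rcases hw' with ⟨-, haw⟩ | hwc
        · exact ⟨hC.conj w z hz.1, fun e' => hz.2.1 (by
            have h3 : w * z * w⁻¹ = w * a * w⁻¹ := by rw [e', haw.symm.eq, mul_inv_cancel_right]
            exact mul_left_cancel (mul_right_cancel h3)),
            (haw.mul_right hz.2.2).mul_right haw.inv_right⟩
        · rw [Set.mem_singleton_iff] at hwc
          subst hwc
          rw [← heq] at hz
          rw [hz.2.2.eq, mul_inv_cancel_right]
          exact heq ▸ hz
      exact (hall ⟨k, by rw [e]; trivial, hk⟩).2.1 rfl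
  have hy₀nb : y₀ ∈ nb D c := ⟨hy₀.1, hne y₀ hy₀, hy₀.2.2⟩
  have horb : orb (nb D c) y₀ ⊆ both D a c := by
    refine orb_subset_of_gen hy₀ (fun w hw' => hW.inv hw'.1) fun w hw' z hz hzF => ?_
    by_cases haw : Commute a w
    · refine ⟨hC.conj w z hzF.1, (haw.mul_right hzF.2.1).mul_right haw.inv_right, ?_⟩
      exact (hw'.2.2.mul_right hzF.2.2).mul_right hw'.2.2.inv_right
    · rw [(hFd w hw'.1 hw'.2.2 hw'.2.1 haw z hzF).eq, mul_inv_cancel_right]
      exact hzF
  exact had₀ (horb (hC.orb_nb hp hc hy₀nb ⟨hd₀, hd₀c, hcd₀⟩)).2.1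

/-- Primitive classes have rank three. -/
theorem TClass.rank_three (hC : TClass D) (hp : IsPrimitiveUnderConj D)
    (hw : ∃ a ∈ D, ∃ b ∈ D, a ≠ b ∧ Commute a b) {a c c' : G} (ha : a ∈ D) (hc : c ∈ D) (hc' : c' ∈ D)
    (h : ¬ Commute a c) (h' : ¬ Commute a c') : SamePair a c a c' := by
  classical
  have hW : WeakTS D := weakTS_of_group ⟨hC.ts, hC.conj, hC.gen⟩
  obtain ⟨c₁, ⟨hc₁, h₁⟩, hmax⟩ := Set.exists_max_image {x | x ∈ D ∧ ¬ Commute a x}
    (fun x => (both D a x).ncard) (Set.toFinite _) ⟨c, hc, h⟩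
  suffices key : ∀ x ∈ D, ¬ Commute a x → SamePair a c₁ a x from (key c hc h).symm.trans (key c' hc' h')
  let T : Set G := {y | y ∈ D ∧ (Commute a y ∨ SamePair a c₁ a y)}
  -- the orbit is closed in every triangle
  have htri : ∀ u ∈ D, ∀ x ∈ D, ¬ Commute a u → SamePair a c₁ a u → ¬ Commute a x → SamePair a c₁ a x →
      ¬ Commute u x → ¬ Commute a (u * x * u) → SamePair a c₁ a (u * x * u) := by
    intro u hu x hx hau hU hax hX hux haz
    by_contra hbad
    set z := u * x * u with hz
    have hzD : z ∈ D := by simpa [hz, ts_inv hC.ts hu] using hC.conj u x hx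
    have hsu := ts_mul_self hC.ts hu
    have hsx := ts_mul_self hC.ts hx
    have e1 : u * z * u = x := by
      rw [hz, show u * (u * x * u) * u = u * u * x * (u * u) by group, hsu, one_mul, mul_one]
    have e2 : x * z * x = u := by
      rw [hz, ts_braid hC.ts hu hx hux, show x * (x * u * x) * x = x * x * u * (x * x) by group, hsx,
        one_mul, mul_one]
    have huz : SamePair u x u z := samePair_of_inv (ts_inv hC.ts hu) (by rw [hsu, one_mul]) rfl
    have hxz : SamePair x u x z := by
      refine samePair_of_inv (ts_inv hC.ts hx) (by rw [hsx, one_mul]) ?_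
      rw [← ts_braid hC.ts hu hx hux]
    have hnuz : ¬ Commute u z := fun e => hux (by
      rw [← e1, e.eq, mul_assoc, hsu, mul_one]; exact e)
    have hnxz : ¬ Commute x z := fun e => hux (by
      rw [← e2, e.eq, mul_assoc, hsx, mul_one]; exact e.symm)
    -- the lines in the direction of `u x` have the colour of `a c₁`
    have hγ : SamePair a c₁ u x := by
      obtain ⟨b, hb, d, hd, hab, hzb, hzd, had, hbd⟩ := hC.exists_private hp hw ha hzD haz
      by_cases hud : Commute u d
      · exact absurd (hU.trans ((hC.cherry ha hu hd hau had hud).trans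
          (hC.cherry ha hd hzD had haz hzd.symm))) hbad
      by_cases hub : Commute u b
      · have hxb : ¬ Commute x b := fun e => hzb (by
          rw [hz]; exact (hub.mul_left e).mul_left hub)
        exact hX.trans ((hC.pair_swap ha hx hax).trans
          ((hC.cherry hx ha hb (fun e => hax e.symm) hxb hab).trans
            ((hC.cherry hx hb hu hxb (fun e => hux e.symm) hub.symm).trans
              (hC.pair_swap hx hu fun e => hux e.symm))))
      · exact hU.trans ((hC.pair_swap ha hu hau).trans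
          ((hC.cherry hu ha hb (fun e => hau e.symm) hub hab).trans
            ((hC.cherry hu hb hd hub hud hbd).trans
              ((hC.cherry hu hd hzD hud hnuz hzd.symm).trans huz.symm))))
    obtain ⟨b, hb, d, hd, hab, hub, hud, had, hbd⟩ := hC.exists_private hp hw ha hu hau
    have hzd : ¬ Commute z d := fun e => hbad (hU.trans ((hC.cherry ha hu hd hau had hud).trans
      (hC.cherry ha hd hzD had haz e.symm)))
    have hαu : SamePair a c₁ u z := hγ.trans huz
    have hzb : Commute z b := by
      by_contra hzb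
      have h3 : SamePair a z u z := by
        obtain ⟨g, g1, g2⟩ := ((hC.cherry hzD ha hb (fun e => haz e.symm) hzb hab).trans
          ((hC.cherry hzD hb hd hzb hzd hbd).trans
            (hC.cherry hzD hd hu hzd (fun e => hnuz e.symm) hud.symm)))
        exact ⟨g, g2, g1⟩
      exact hbad (hαu.trans h3.symm)
    have hsub : both D a u ⊂ both D a z := by
      refine ⟨fun y hy => ⟨hy.1, hy.2.1, ?_⟩, fun hle => hub (hle ⟨hb, hab, hzb⟩).2.2⟩
      by_contra hzy
      obtain ⟨g, g1, g2⟩ := (hC.cherry hzD ha hy.1 (fun e => haz e.symm) hzy hy.2.1).trans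
        (hC.cherry hzD hy.1 hu hzy (fun e => hnuz e.symm) hy.2.2.symm)
      exact hbad (hαu.trans (show SamePair a z u z from ⟨g, g2, g1⟩).symm)
    have h4 := Set.ncard_lt_ncard hsub
    have h5 := hC.both_ncard hU
    have h6 := hmax z ⟨hzD, haz⟩
    omega
  -- the set is invariant
  have hgen : Subgroup.closure ({y | y ∈ D ∧ Commute a y} ∪ {c₁}) = ⊤ := by
    set U := {y | y ∈ D ∧ Commute a y} ∪ {c₁}
    have hUD : U ⊆ D := fun y hy => hy.elim (fun h => h.1) fun h => h ▸ hc₁
    have hH : IsDSubgroup D (Subgroup.closure U) :=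
      le_antisymm ((Subgroup.closure_le _).2 fun y hy => hy.2)
        (Subgroup.closure_mono fun y hy => ⟨hUD hy, Subgroup.subset_closure hy⟩)
    rcases (hC.maximal_commuting hp hw ha).2 _ hH (Subgroup.closure_mono Set.subset_union_left) with e | e
    · exfalso
      have hm : c₁ ∈ Subgroup.closure {y | y ∈ D ∧ Commute a y} := e ▸ Subgroup.subset_closure (Or.inr rfl)
      have hle : Subgroup.closure {y | y ∈ D ∧ Commute a y} ≤ Subgroup.centralizer ({a} : Set G) :=
        (Subgroup.closure_le _).2 fun y hy => Subgroup.mem_centralizer_singleton_iff.2 hy.2.eq.symm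
      exact h₁ (Commute.symm (Subgroup.mem_centralizer_singleton_iff.1 (hle hm)))
    · exact e
  have hstep : ∀ w ∈ {y | y ∈ D ∧ Commute a y} ∪ {c₁}, ∀ t ∈ T, w * t * w⁻¹ ∈ T := by
    intro w hw' t ht
    have hwD : w ∈ D := hw'.elim (fun h => h.1) fun h => h ▸ hc₁
    refine ⟨hC.conj w t ht.1, ?_⟩
    rcases hw' with ⟨-, haw⟩ | rfl
    · rcases ht.2 with h3 | ⟨g, g1, g2⟩
      · exact Or.inl ((haw.mul_right h3).mul_right haw.inv_right)
      · refine Or.inr ⟨w * g, ?_, ?_⟩
        · rw [show w * g * a * (w * g)⁻¹ = w * (g * a * g⁻¹) * w⁻¹ by group, g1, haw.symm.eq, mul_inv_cancel_right]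
        · rw [show w * g * c₁ * (w * g)⁻¹ = w * (g * c₁ * g⁻¹) * w⁻¹ by group, g2]
    · by_cases hwt : Commute w t
      · rw [hwt.eq, mul_inv_cancel_right]; exact ht.2
      by_cases haz : Commute a (w * t * w⁻¹)
      · exact Or.inl haz
      refine Or.inr ?_
      rcases ht.2 with h3 | h3
      · by_cases hat : t = a
        · subst hat
          refine samePair_of_inv (ts_inv hC.ts ht.1) ?_ ?_
          · rw [ts_mul_self hC.ts ht.1, one_mul]
          · rw [ts_inv hC.ts hc₁, ts_braid hC.ts hc₁ ht.1 hwt]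
        · refine ⟨t, ?_, ?_⟩
          · rw [h3.symm.eq, mul_inv_cancel_right]
          · rw [ts_inv hC.ts hc₁, ts_inv hC.ts ht.1, ts_braid hC.ts hc₁ ht.1 hwt]
      · have hat : ¬ Commute a t := by
          obtain ⟨g, g1, g2⟩ := h3
          rw [← g1, ← g2]
          exact fun e => h₁ ((commute_conj_iff g).1 e)
        rw [ts_inv hC.ts hc₁] at haz ⊢
        exact htri w hc₁ t ht.1 h₁ (samePair_refl a w) hat h3 hwt haz
  have haT : a ∈ T := ⟨ha, Or.inl (Commute.refl a)⟩
  have hall : ∀ g : G, ∀ t ∈ T, g * t * g⁻¹ ∈ T := by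
    intro g
    have hg : g ∈ Subgroup.closure ({y | y ∈ D ∧ Commute a y} ∪ {c₁}) := by rw [hgen]; trivial
    induction hg using Subgroup.closure_induction with
    | mem x hx => exact hstep x hx
    | one => intro t ht; simpa using ht
    | mul x y _ _ hx hy =>
      intro t ht
      rw [show x * y * t * (x * y)⁻¹ = x * (y * t * y⁻¹) * x⁻¹ by group]
      exact hx _ (hy t ht)
    | inv x _ hx =>
      intro t ht
      obtain ⟨⟨t', ht'⟩, e⟩ := (Finite.injective_iff_surjective.1
        (show Function.Injective (fun t : T => (⟨x * t.1 * x⁻¹, hx t.1 t.2⟩ : T)) from fun p q h =>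
          Subtype.ext (mul_left_cancel (mul_right_cancel (congrArg Subtype.val h))))) ⟨t, ht⟩
      have e' : x * t' * x⁻¹ = t := congrArg Subtype.val e
      rwa [← e', show x⁻¹ * (x * t' * x⁻¹) * x⁻¹⁻¹ = t' by group]
  intro x hx hax
  obtain ⟨g, hg⟩ := hC.trans a ha x hx
  exact ((hg ▸ hall g a haT : x ∈ T).2).resolve_left hax


/-- A class with simple non-abelian derived group is primitive of width at least two. -/
theorem TClass.primitive_of_simple_commutator (hC : TClass D) (hs : IsSimpleGroup (commutator G))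
    (hna : ∃ x y : commutator G, x * y ≠ y * x) :
    IsPrimitiveUnderConj D ∧ ∃ a ∈ D, ∃ b ∈ D, a ≠ b ∧ Commute a b := by
  haveI := hs
  obtain ⟨x, y, hxy⟩ := hna
  have hP : commutator G ≠ ⊥ := fun e => hxy (Subtype.ext (by
    have hx : (x : G) = 1 := Subgroup.mem_bot.1 (e ▸ x.2)
    have hy : (y : G) = 1 := Subgroup.mem_bot.1 (e ▸ y.2)
    show (x : G) * y = y * x
    rw [hx, hy]))
  have hnormal : ∀ N : Subgroup G, N.Normal → commutator G ≤ N ∨ N ⊓ commutator G = ⊥ := by
    intro N hN
    rcases (hN.subgroupOf (commutator G)).eq_bot_or_eq_top with h | h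
    · exact Or.inr (Subgroup.subgroupOf_eq_bot.1 h).eq_bot
    · exact Or.inl (Subgroup.subgroupOf_eq_top.1 h)
  have hcore : ∀ p : ℕ, p.Prime → pCore p G ≤ Subgroup.center G := by
    intro p hp
    haveI : Fact p.Prime := ⟨hp⟩
    haveI : Group.IsNilpotent (pCore p G) := (Base.isPGroup_pCore p G).isNilpotent
    rcases hnormal (pCore p G) inferInstance with h | h
    · exfalso
      haveI : Group.IsSolvable (commutator G) :=
        Group.isSolvable_of_isSolvable_injective (Subgroup.inclusion_injective h)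
      exact hxy (IsSimpleGroup.comm_iff_isSolvable.2 inferInstance x y)
    · intro z hz
      refine Subgroup.mem_center_iff.2 fun g => ?_
      have h1 : g * z * g⁻¹ * z⁻¹ ∈ pCore p G ⊓ commutator G :=
        Subgroup.mem_inf.2 ⟨mul_mem ((inferInstance : (pCore p G).Normal).conj_mem z hz g) ((pCore p G).inv_mem hz),
          Subgroup.commutator_mem_commutator (Subgroup.mem_top g) (Subgroup.mem_top z)⟩
      rw [h, Subgroup.mem_bot, mul_inv_eq_one, mul_inv_eq_iff_eq_mul] at h1
      exact h1
  have h2 := hcore 2 Nat.prime_two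
  have h3 := hcore 3 Nat.prime_three
  obtain ⟨L, hLn, hL, hF⟩ := hC.exists_layer h2 h3
  haveI := hLn
  have hLle : L ≤ commutator G := by
    conv_lhs => rw [← quasisimple_perfect hL]
    exact Subgroup.commutator_mono le_top le_top
  have hLP : L = commutator G := by
    rcases hnormal L hLn with h | h
    · exact le_antisymm hLle h
    · exfalso
      rw [inf_eq_left.2 hLle] at h
      obtain ⟨d, hd, -⟩ := hC.two
      exact quasisimple_not_central hC hL hd (fun z hz => by
        rw [h, Subgroup.mem_bot] at hz; rw [hz]; exact Commute.one_right d)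
  refine ⟨hC.primitive_of_index h2 h3 hL hF ?_, ?_⟩
  · obtain ⟨d, hd, -⟩ := hC.two
    have htop : L ⊔ Subgroup.zpowers d = ⊤ := by
      refine top_unique (hC.gen ▸ (Subgroup.closure_le _).2 fun e he => ?_)
      obtain ⟨g, rfl⟩ := hC.trans d hd e he
      rw [SetLike.mem_coe, show g * d * g⁻¹ = g * d * g⁻¹ * d⁻¹ * d by group]
      exact mul_mem (Subgroup.mem_sup_left (hLP ▸ Subgroup.commutator_mem_commutator
        (Subgroup.mem_top g) (Subgroup.mem_top d))) (Subgroup.mem_sup_right (Subgroup.mem_zpowers d))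
    have hsurj : Function.Surjective ((QuotientGroup.mk' L).comp (Subgroup.zpowers d).subtype) := by
      intro q
      induction q using QuotientGroup.induction_on with
      | H g =>
        obtain ⟨z, hz, y, hy, rfl⟩ := Subgroup.mem_sup_of_normal_left.1 (htop ▸ Subgroup.mem_top g)
        refine ⟨⟨y, hy⟩, ?_⟩
        show (y : G ⧸ L) = ((z * y : G) : G ⧸ L)
        rw [QuotientGroup.mk_mul, (QuotientGroup.eq_one_iff z).2 hz, one_mul]
    have := Nat.card_le_card_of_surjective _ hsurj
    rwa [Nat.card_zpowers, ts_invol hC.ts hd] at this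
  · by_contra hn
    push Not at hn
    obtain ⟨d, hd, -⟩ := hC.two
    have hw : commutingWidth D = 1 := by
      refine IsGreatest.csSup_eq ⟨⟨{d}, Set.singleton_subset_iff.2 hd, Set.finite_singleton _,
        by rintro _ rfl _ rfl; exact Commute.refl _, Set.ncard_singleton _⟩, ?_⟩
      rintro k ⟨E, hE, -, hEc, rfl⟩
      refine (Set.ncard_le_one_iff (Set.toFinite E)).2 fun {u v} hu hv => ?_
      by_contra hne
      exact hn u (hE hu) v (hE hv) hne (hEc u hu v hv)
    have htop := (commutingWidth_eq_one_iff ⟨hC.ts, hC.conj, hC.gen⟩ hd).1 hw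
    haveI : Fact (Nat.Prime 3) := ⟨Nat.prime_three⟩
    haveI : Group.IsNilpotent (pCore 3 G) := (Base.isPGroup_pCore 3 G).isNilpotent
    haveI : Group.IsSolvable G := solvable_of_quotient_cyclic (N := pCore 3 G) inferInstance htop
    exact hxy (IsSimpleGroup.comm_iff_isSolvable.2 inferInstance x y)

end CfsgLib.ThreeTransp
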