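import Cfsg.Agent.Lib.ThreeTransp.WeakTS
import Cfsg.Agent.Lib.ThreeTransp.FischerPrim

/-!
The subgroup generated by the transpositions commuting with one: in a primitive group of width
at least two they form a single class there.
-/

set_option autoImplicit false

namespace CfsgLib.ThreeTransp

open Cfsg CfsgLib.Involutions

variable {G : Type*} [Group G] {D : Set G}

/-- The other members commuting with `d`. -/
def nb (D : Set G) (d : G) : Set G := {y | y ∈ D ∧ y ≠ d ∧ Commute d y}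

/-- A set inside the subgroup it generates. -/
def inClosure (E : Set G) : Set (Subgroup.closure E) := {x | (x : G) ∈ E}

theorem closure_nb_le (D : Set G) (d : G) :
    Subgroup.closure (nb D d) ≤ Subgroup.centralizer ({d} : Set G) :=
  (Subgroup.closure_le _).2 fun _ hy => Subgroup.mem_centralizer_singleton_iff.2 hy.2.2.eq.symm

theorem commute_closure_nb {d h : G} (hh : h ∈ Subgroup.closure (nb D d)) : Commute h d :=
  Subgroup.mem_centralizer_singleton_iff.1 (closure_nb_le D d hh)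

theorem WeakTS.sub (hW : WeakTS D) (d : G) : WeakTS (inClosure (nb D d)) := by
  refine ⟨fun a ha => Subtype.ext (hW.sq _ ha.1), fun a ha b hb => ?_, fun g a ha => ?_, ?_⟩
  · rcases hW.prod _ ha.1 _ hb.1 with h | h
    · exact Or.inl (Subtype.ext h)
    · exact Or.inr (Subtype.ext h)
  · have hg : Commute (g : G) d := commute_closure_nb g.2
    have hd : (g : G) * d * (g : G)⁻¹ = d := by rw [hg.eq, mul_inv_cancel_right]
    refine ⟨hW.conj g _ ha.1, fun h => ha.2.1 ?_, ?_⟩
    · exact mul_left_cancel (mul_right_cancel (h.trans hd.symm))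
    · have := (commute_conj_iff (g : G)).2 ha.2.2
      rwa [hd] at this
  · exact Subgroup.closure_closure_coe_preimage

theorem WeakTS.quot (hW : WeakTS D) (N : Subgroup G) [N.Normal] :
    WeakTS ((QuotientGroup.mk : G → G ⧸ N) '' D) := by
  refine ⟨?_, ?_, ?_, ?_⟩
  · rintro _ ⟨a, ha, rfl⟩
    rw [← QuotientGroup.mk_mul, hW.sq a ha, QuotientGroup.mk_one]
  · rintro _ ⟨a, ha, rfl⟩ _ ⟨b, hb, rfl⟩
    rcases hW.prod a ha b hb with h | h
    · exact Or.inl (by rw [← QuotientGroup.mk_mul, ← QuotientGroup.mk_pow, h, QuotientGroup.mk_one])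
    · exact Or.inr (by rw [← QuotientGroup.mk_mul, ← QuotientGroup.mk_pow, h, QuotientGroup.mk_one])
  · intro g
    obtain ⟨g, rfl⟩ := QuotientGroup.mk_surjective g
    rintro _ ⟨a, ha, rfl⟩
    exact ⟨g * a * g⁻¹, hW.conj g a ha, by simp⟩
  · have := MonoidHom.map_closure (QuotientGroup.mk' N) D
    rw [hW.gen, ← MonoidHom.range_eq_map, MonoidHom.range_eq_top.2 (QuotientGroup.mk'_surjective N)]
      at this
    exact this.symm

theorem WeakTS.nb_conj (hW : WeakTS D) {d y : G} (g : G) (hy : y ∈ nb D d) :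
    g * y * g⁻¹ ∈ nb D (g * d * g⁻¹) :=
  ⟨hW.conj g y hy.1, fun h => hy.2.1 (mul_left_cancel (mul_right_cancel h)),
    (commute_conj_iff g).2 hy.2.2⟩

/-- The orbit of `y` under the subgroup generated by `E`. -/
def orb (E : Set G) (y : G) : Set G := {z | ∃ h ∈ Subgroup.closure E, h * y * h⁻¹ = z}

theorem mem_orb_self (E : Set G) (y : G) : y ∈ orb E y := ⟨1, one_mem _, by simp⟩

theorem orb_conj {E : Set G} {y z h : G} (hh : h ∈ Subgroup.closure E) (hz : z ∈ orb E y) :
    h * z * h⁻¹ ∈ orb E y := by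
  obtain ⟨k, hk, rfl⟩ := hz
  exact ⟨h * k, mul_mem hh hk, by group⟩

theorem orb_eq_of_mem {E : Set G} {y z : G} (hz : z ∈ orb E y) : orb E z = orb E y := by
  obtain ⟨k, hk, rfl⟩ := hz
  refine Set.Subset.antisymm ?_ ?_
  · rintro _ ⟨h, hh, rfl⟩; exact orb_conj hh ⟨k, hk, rfl⟩
  · rintro _ ⟨h, hh, rfl⟩
    exact ⟨h * k⁻¹, mul_mem hh (inv_mem hk), by group⟩

theorem orb_subset_nb (hW : WeakTS D) {d y : G} (hy : y ∈ nb D d) :
    orb (nb D d) y ⊆ nb D d := by
  rintro _ ⟨h, hh, rfl⟩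
  have := hW.nb_conj h hy
  rwa [(commute_closure_nb hh).eq, mul_inv_cancel_right] at this

theorem WeakTS.mem_orb_of_not_commute (hW : WeakTS D) {E : Set G} (hE : E ⊆ D) {y z w : G}
    (hzE : z ∈ E) (hw : w ∈ E) (hz : z ∈ orb E y) (h : ¬ Commute w z) : w ∈ orb E y := by
  have := orb_conj (mul_mem (Subgroup.subset_closure hzE) (Subgroup.subset_closure hw)) hz
  rw [show z * w * z * (z * w)⁻¹ = w from hW.conj_braid (hE hzE) (hE hw) fun e => h e.symm] at this
  exact this

theorem orb_image {E E' : Set G} (g : G) (hEE : (fun x => g * x * g⁻¹) '' E = E') (y : G) :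
    (fun x => g * x * g⁻¹) '' orb E y = orb E' (g * y * g⁻¹) := by
  have hcl : ∀ h, h ∈ Subgroup.closure E ↔ g * h * g⁻¹ ∈ Subgroup.closure E' := fun h => by
    rw [← hEE, show (fun x => g * x * g⁻¹) = (MulAut.conj g).toMonoidHom from rfl,
      ← MonoidHom.map_closure]
    exact (Subgroup.mem_map_iff_mem (f := (MulAut.conj g).toMonoidHom) (MulAut.conj g).injective).symm
  ext z
  constructor
  · rintro ⟨_, ⟨h, hh, rfl⟩, rfl⟩
    exact ⟨g * h * g⁻¹, (hcl h).1 hh, by group⟩
  · rintro ⟨h, hh, rfl⟩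
    refine ⟨_, ⟨g⁻¹ * h * g, (hcl _).2 ?_, rfl⟩, by group⟩
    simpa [mul_assoc] using hh

/-- Invariance under the generators passes to the orbit. -/
theorem orb_subset_of_gen {E : Set G} {y : G} {S : Set G} (hy : y ∈ S)
    (hE : ∀ w ∈ E, w⁻¹ = w) (h : ∀ w ∈ E, ∀ z ∈ orb E y, z ∈ S → w * z * w⁻¹ ∈ S) :
    orb E y ⊆ S := by
  have key : ∀ k ∈ Subgroup.closure E, ∀ z ∈ orb E y, z ∈ S → k * z * k⁻¹ ∈ S := by
    intro k hk
    induction hk using Subgroup.closure_induction'' with
    | mem w hw => exact h w hw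
    | inv_mem w hw => rw [hE w hw]; exact h w hw
    | one => intro z _ hz; simpa using hz
    | mul p q hp hq ihp ihq =>
      intro z hzo hz
      rw [show p * q * z * (p * q)⁻¹ = p * (q * z * q⁻¹) * p⁻¹ by group]
      exact ihp _ (orb_conj hq hzo) (ihq z hzo hz)
  rintro _ ⟨k, hk, rfl⟩
  exact key k hk y (mem_orb_self E y) hy

section Primitive

variable [Finite G]

/-- The members commuting with `d` determine `d`. -/
theorem TClass.eq_of_partners_subset (hC : TClass D) (h2 : pCore 2 G ≤ Subgroup.center G) {d e : G}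
    (hd : d ∈ D) (he : e ∈ D) (hsub : ∀ y ∈ D, Commute d y → Commute e y) : e = d := by
  have hW : WeakTS D := weakTS_of_group ⟨hC.ts, hC.conj, hC.gen⟩
  obtain ⟨g, hg⟩ := hC.trans d hd e he
  have himg : (fun x => g * x * g⁻¹) '' {y | y ∈ D ∧ Commute d y} = {y | y ∈ D ∧ Commute e y} := by
    ext z
    constructor
    · rintro ⟨y, ⟨hy, hc⟩, rfl⟩
      exact ⟨hC.conj g y hy, hg ▸ (commute_conj_iff g).2 hc⟩
    · rintro ⟨hz, hc⟩
      refine ⟨g⁻¹ * z * g, ⟨by simpa using hC.conj g⁻¹ z hz, ?_⟩, by group⟩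
      have := (commute_conj_iff g⁻¹).2 (hg ▸ hc : Commute (g * d * g⁻¹) z)
      simpa [mul_assoc] using this
  have hcard : ({y | y ∈ D ∧ Commute e y} : Set G).ncard ≤ ({y | y ∈ D ∧ Commute d y} : Set G).ncard := by
    rw [← himg]; exact Set.ncard_image_le
  have heq := Set.eq_of_subset_of_ncard_le (s := {y | y ∈ D ∧ Commute d y})
    (t := {y | y ∈ D ∧ Commute e y}) (fun y hy => ⟨hy.1, hsub y hy.1 hy.2⟩) hcard
  refine hW.twin_eq h2 he hd (hC.not_mem_center he) fun z hz => ⟨fun h => ?_, hsub z hz⟩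
  exact (show z ∈ {y | y ∈ D ∧ Commute d y} from heq.symm ▸ ⟨hz, h⟩).2

/-- A member commuting with `d` is moved by some other one. -/
theorem TClass.not_central_nb (hC : TClass D) (h2 : pCore 2 G ≤ Subgroup.center G) {d e : G}
    (hd : d ∈ D) (he : e ∈ nb D d) : ∃ z ∈ nb D d, ¬ Commute e z := by
  by_contra h
  push Not at h
  refine he.2.1 (hC.eq_of_partners_subset h2 hd he.1 fun y hy hdy => ?_)
  by_cases hyd : y = d
  · exact hyd ▸ he.2.2.symm
  · exact h y ⟨hy, hyd, hdy⟩

theorem TClass.closure_union (hC : TClass D) (hp : IsPrimitiveUnderConj D) {d e : G} (hd : d ∈ D)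
    (he : e ∈ nb D d) :
    Subgroup.closure ({y | y ∈ D ∧ Commute d y} ∪ {y | y ∈ D ∧ Commute e y}) = ⊤ := by
  have hw : ∃ a ∈ D, ∃ b ∈ D, a ≠ b ∧ Commute a b := ⟨e, he.1, d, hd, he.2.1, he.2.2.symm⟩
  obtain ⟨h2, -⟩ := hC.pCores_central_of_primitive hp hw
  set U : Set G := {y | y ∈ D ∧ Commute d y} ∪ {y | y ∈ D ∧ Commute e y}
  have hUD : U ⊆ D := fun y hy => hy.elim (fun h => h.1) fun h => h.1
  have hH : IsDSubgroup D (Subgroup.closure U) :=
    le_antisymm ((Subgroup.closure_le _).2 fun y hy => hy.2)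
      (Subgroup.closure_mono fun y hy => ⟨hUD hy, Subgroup.subset_closure hy⟩)
  rcases (hC.maximal_commuting hp hw hd).2 _ hH (Subgroup.closure_mono Set.subset_union_left) with
    h | h
  · exfalso
    refine he.2.1 (hC.eq_of_partners_subset h2 he.1 hd fun y hy hey => ?_).symm
    have hy' : y ∈ Subgroup.closure {y | y ∈ D ∧ Commute d y} :=
      h ▸ Subgroup.subset_closure (Or.inr ⟨hy, hey⟩)
    have hle : Subgroup.closure {y | y ∈ D ∧ Commute d y} ≤ Subgroup.centralizer ({d} : Set G) :=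
      (Subgroup.closure_le _).2 fun y hy => Subgroup.mem_centralizer_singleton_iff.2 hy.2.eq.symm
    exact Commute.symm (Subgroup.mem_centralizer_singleton_iff.1 (hle hy'))
  · exact h

/-- For commuting `d`, `e` the class of `y` avoiding `e` is the class of `d` beside `e`. -/
theorem TClass.class_subset (hC : TClass D) (hp : IsPrimitiveUnderConj D) {d e y : G} (hd : d ∈ D)
    (he : e ∈ nb D d) (hy : y ∈ nb D d) (hne : y ∉ orb (nb D d) e) :
    y ∈ orb (nb D e) d := by
  have hW : WeakTS D := weakTS_of_group ⟨hC.ts, hC.conj, hC.gen⟩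
  have hsubd : nb D d ⊆ D := fun _ h => h.1
  have hsube : nb D e ⊆ D := fun _ h => h.1
  have hinv : ∀ {d : G}, ∀ w ∈ nb D d, w⁻¹ = w := fun w hw => hW.inv hw.1
  have hde : d ∈ nb D e := ⟨hd, he.2.1.symm, he.2.2.symm⟩
  have hcy : ∀ z ∈ orb (nb D d) y, Commute e z ∧ z ≠ e := by
    intro z hz
    refine ⟨?_, fun h => hne ?_⟩
    · by_contra h
      exact hne (orb_eq_of_mem (hW.mem_orb_of_not_commute hsubd (orb_subset_nb hW hy hz) he hz h) ▸
        mem_orb_self _ y)
    · rw [h] at hz; exact orb_eq_of_mem hz ▸ mem_orb_self _ y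
  have hye : y ∈ nb D e := ⟨hy.1, (hcy y (mem_orb_self _ y)).2, (hcy y (mem_orb_self _ y)).1⟩
  have hEF : orb (nb D d) y ⊆ orb (nb D e) y := by
    refine orb_subset_of_gen (mem_orb_self _ y) hinv fun w hw z hz hzF => ?_
    by_cases hc : Commute w z
    · rwa [hc.eq, mul_inv_cancel_right]
    · have hwy := hW.mem_orb_of_not_commute hsubd (orb_subset_nb hW hy hz) hw hz hc
      exact orb_conj (Subgroup.subset_closure ⟨hw.1, (hcy w hwy).2, (hcy w hwy).1⟩) hzF
  by_contra hnd
  have hcd : ∀ z ∈ orb (nb D e) y, Commute d z ∧ z ≠ d := by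
    intro z hz
    refine ⟨?_, fun h => hnd ?_⟩
    · by_contra h
      exact hnd (orb_eq_of_mem (hW.mem_orb_of_not_commute hsube (orb_subset_nb hW hye hz) hde hz h) ▸
        mem_orb_self _ y)
    · rw [h] at hz; exact orb_eq_of_mem hz ▸ mem_orb_self _ y
  have hFE : orb (nb D e) y ⊆ orb (nb D d) y := by
    refine orb_subset_of_gen (mem_orb_self _ y) hinv fun w hw z hz hzF => ?_
    by_cases hc : Commute w z
    · rwa [hc.eq, mul_inv_cancel_right]
    · have hwy := hW.mem_orb_of_not_commute hsube (orb_subset_nb hW hye hz) hw hz hc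
      exact orb_conj (Subgroup.subset_closure ⟨hw.1, (hcd w hwy).2, (hcd w hwy).1⟩) hzF
  -- the class is invariant under the whole group
  set U : Set G := {y | y ∈ D ∧ Commute d y} ∪ {y | y ∈ D ∧ Commute e y}
  have hall : orb U y ⊆ orb (nb D d) y := by
    refine orb_subset_of_gen (mem_orb_self _ y) (fun w hw => hW.inv (hw.elim (·.1) (·.1)))
      fun w hw z _ hz => ?_
    rcases hw with ⟨hwD, hwc⟩ | ⟨hwD, hwc⟩
    · by_cases hwd : w = d
      · subst hwd; rwa [(orb_subset_nb hW hy hz).2.2.eq, mul_inv_cancel_right]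
      · exact orb_conj (Subgroup.subset_closure ⟨hwD, hwd, hwc⟩) hz
    · by_cases hwe : w = e
      · subst hwe; rwa [(hcy z hz).1.eq, mul_inv_cancel_right]
      · exact hFE (orb_conj (Subgroup.subset_closure ⟨hwD, hwe, hwc⟩) (hEF hz))
  obtain ⟨g, hg⟩ := hC.trans y hy.1 d hd
  have hdm : d ∈ orb (nb D d) y := hall ⟨g, by rw [hC.closure_union hp hd he]; trivial, hg⟩
  exact (orb_subset_nb hW hy hdm).2.1 rfl

/-- The members other than `d` commuting with `d` form one class of the group they generate. -/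
theorem TClass.orb_nb (hC : TClass D) (hp : IsPrimitiveUnderConj D) {d x y : G} (hd : d ∈ D)
    (hx : x ∈ nb D d) (hy : y ∈ nb D d) : y ∈ orb (nb D d) x := by
  have hW : WeakTS D := weakTS_of_group ⟨hC.ts, hC.conj, hC.gen⟩
  -- every class has more than half of the members
  have key : ∀ e ∈ nb D d, (nb D d \ orb (nb D d) e).ncard < (orb (nb D d) e).ncard := by
    intro e he
    have hsub : insert d (nb D d \ orb (nb D d) e) ⊆ orb (nb D e) d := by
      rintro z (rfl | hz)
      · exact mem_orb_self _ _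
      · exact hC.class_subset hp hd he hz.1 hz.2
    have h1 := Set.ncard_le_ncard hsub
    rw [Set.ncard_insert_of_notMem (fun h => h.1.2.1 rfl)] at h1
    obtain ⟨g, hg⟩ := hC.trans d hd e he.1
    have himg : (fun x => g * x * g⁻¹) '' nb D d = nb D e := by
      ext z
      constructor
      · rintro ⟨w, hw, rfl⟩; exact hg ▸ hW.nb_conj g hw
      · intro hz
        refine ⟨g⁻¹ * z * g, ?_, by group⟩
        have := hW.nb_conj g⁻¹ (hg.symm ▸ hz : z ∈ nb D (g * d * g⁻¹))
        simpa [mul_assoc] using this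
    have hm := orb_image g himg (g⁻¹ * d * g)
    rw [show g * (g⁻¹ * d * g) * g⁻¹ = d by group] at hm
    have hc : (orb (nb D e) d).ncard = (orb (nb D d) (g⁻¹ * d * g)).ncard := by
      rw [← hm]
      exact Set.ncard_image_of_injective _ fun a b h => mul_left_cancel (mul_right_cancel h)
    have hmem : g⁻¹ * d * g ∈ nb D d := by
      have := hW.nb_conj g⁻¹ (hg.symm ▸ ⟨hd, he.2.1.symm, he.2.2.symm⟩ : d ∈ nb D (g * d * g⁻¹))
      simpa [mul_assoc] using this
    by_cases hin : g⁻¹ * d * g ∈ orb (nb D d) e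
    · rw [orb_eq_of_mem hin] at hc; omega
    · have h2 : orb (nb D d) (g⁻¹ * d * g) ⊆ nb D d \ orb (nb D d) e := fun z hz =>
        ⟨orb_subset_nb hW hmem hz, fun h => hin (by
          rw [← orb_eq_of_mem h, orb_eq_of_mem hz]; exact mem_orb_self _ _)⟩
      have := Set.ncard_le_ncard h2
      omega
  by_contra hxy
  have h1 := key x hx
  have h2 := key y hy
  have h3 : orb (nb D d) y ⊆ nb D d \ orb (nb D d) x := fun z hz =>
    ⟨orb_subset_nb hW hy hz, fun h => hxy (by
      rw [← orb_eq_of_mem h, orb_eq_of_mem hz]; exact mem_orb_self _ _)⟩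
  have h4 : orb (nb D d) x ⊆ nb D d \ orb (nb D d) y := fun z hz =>
    ⟨orb_subset_nb hW hx hz, fun h => hxy (by
      rw [← orb_eq_of_mem hz, orb_eq_of_mem h]; exact mem_orb_self _ _)⟩
  have := Set.ncard_le_ncard h3
  have := Set.ncard_le_ncard h4
  omega

/-- Two different commuting members beside `d` have a common neighbour beside `d` moved by both. -/
theorem TClass.exists_moved_by_both (hC : TClass D) (hp : IsPrimitiveUnderConj D) {d a b : G}
    (hd : d ∈ D) (ha : a ∈ nb D d) (hb : b ∈ nb D d) (hab : Commute a b) :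
    ∃ x ∈ nb D d, ¬ Commute x a ∧ ¬ Commute x b := by
  have hW : WeakTS D := weakTS_of_group ⟨hC.ts, hC.conj, hC.gen⟩
  obtain ⟨h2, -⟩ := hC.pCores_central_of_primitive hp ⟨a, ha.1, d, hd, ha.2.1, ha.2.2.symm⟩
  by_contra hno
  push Not at hno
  -- `P z`: `b` commutes with `z` and with everything moving `z`
  set P : Set G := {z | z ∈ nb D d ∧ Commute z b ∧ ∀ x ∈ nb D d, ¬ Commute x z → Commute x b}
  have hPa : a ∈ P := ⟨ha, hab, hno⟩
  have hstep : ∀ z ∈ P, ∀ x ∈ nb D d, ¬ Commute x z → x ∈ P := by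
    intro z hz x hx hxz
    refine ⟨hx, hz.2.2 x hx hxz, fun w hw hwx => ?_⟩
    set g := x * z with hg
    have hgx : g * x * g⁻¹ = z := hW.conj_braid hx.1 hz.1.1 hxz
    have hgH : g ∈ Subgroup.closure (nb D d) :=
      mul_mem (Subgroup.subset_closure hx) (Subgroup.subset_closure hz.1)
    have hgb : g * b * g⁻¹ = b := by
      rw [show g * b = b * g from (Commute.mul_left (hz.2.2 x hx hxz) hz.2.1).eq, mul_inv_cancel_right]
    have hw' : g * w * g⁻¹ ∈ nb D d :=
      orb_subset_nb hW hw ⟨g, hgH, rfl⟩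
    have h1 := hz.2.2 _ hw' (fun h => hwx ((commute_conj_iff g).1 (hgx.symm ▸ h)))
    exact (commute_conj_iff g).1 (hgb.symm ▸ h1)
  have hall : orb (nb D d) a ⊆ P := by
    refine orb_subset_of_gen hPa (fun w hw => hW.inv hw.1) fun w hw z hz hzP => ?_
    by_cases hc : Commute w z
    · rwa [hc.eq, mul_inv_cancel_right]
    · have hwP := hstep z hzP w hw hc
      refine hstep w hwP _ (orb_subset_nb hW hzP.1 ⟨w, Subgroup.subset_closure hw, rfl⟩) fun h => hc ?_
      have h1 : Commute (w * z * w⁻¹) (w * w * w⁻¹) := by rwa [mul_inv_cancel_right]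
      exact ((commute_conj_iff w).1 h1).symm
  obtain ⟨z, hz, hzn⟩ := hC.not_central_nb h2 hd hb
  exact hzn (hall (hC.orb_nb hp hd ha hz)).2.1.symm

end Primitive

end CfsgLib.ThreeTransp
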