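import Mathlib
import Cfsg.Prelude.Def_Solvable
import Cfsg.Agent.Lib.ThreeTransp.Basic
import Cfsg.Agent.Lib.Base.Cores
import Cfsg.Agent.Lib.Involutions.BaerSuzuki
import Cfsg.Agent.Lib.KnownB.SymCox

/-!
Three transpositions with local group the symmetric group of degree three.
-/

set_option autoImplicit false

namespace CfsgLib.ThreeTransp.SymThree

open Cfsg CfsgLib.Involutions CfsgLib.ThreeTransp

variable {G : Type*} [Group G] {D : Set G}

/-- The members of `D` other than `d` commuting with `d`. -/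
def perp (D : Set G) (d : G) : Set G := {y | y ∈ D ∧ y ≠ d ∧ Commute d y}

set_option synthInstance.maxSize 2000 in
theorem p3_pair : ∀ a b c : Equiv.Perm (Fin 3), a * a = 1 → a ≠ 1 → b * b = 1 → b ≠ 1 →
    c * c = 1 → c ≠ 1 → a ≠ b → a * b ≠ b * a ∧ (c = a ∨ c = b ∨ c = a * b * a) := by
  decide +kernel

theorem p3_center : ∀ a : Equiv.Perm (Fin 3), (∀ b, a * b = b * a) → a = 1 := by
  decide +kernel

theorem p3_noncomm : ¬ ∀ a b : Equiv.Perm (Fin 3), a * b = b * a := by decide +kernel

/-- The hypothesis on the local subgroups. -/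
def LocS3 (D : Set G) : Prop :=
  ∀ d ∈ D, Nonempty (↥(Subgroup.closure (perp D d)) ≃* Equiv.Perm (Fin 3))

variable (hD : IsThreeTranspositionSet D) (hconj : ∀ g : G, ∀ d ∈ D, g * d * g⁻¹ ∈ D)

include hD hconj in
theorem cv_mem {a x : G} (ha : a ∈ D) (hx : x ∈ D) : a * x * a ∈ D := by
  have h := hconj a x hx
  rwa [ts_inv hD ha] at h

theorem perp_symm {d x : G} (hd : d ∈ D) (h : x ∈ perp D d) : d ∈ perp D x :=
  ⟨hd, h.2.1.symm, h.2.2.symm⟩

include hconj in
theorem perp_conj (g : G) {d x : G} (h : x ∈ perp D d) :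
    g * x * g⁻¹ ∈ perp D (g * d * g⁻¹) :=
  ⟨hconj g x h.1, fun e => h.2.1 (mul_left_cancel (mul_right_cancel e)),
    (commute_conj_iff g).2 h.2.2⟩

include hD hconj in
theorem perp_triple {d u v : G} (hu : u ∈ perp D d) (hv : v ∈ perp D d) :
    u * v * u ∈ perp D d := by
  have hu2 := ts_mul_self hD hu.1
  refine ⟨cv_mem hD hconj hu.1 hv.1, fun e => hv.2.1 ?_, ?_⟩
  · calc v = u * (u * v * u) * u := by simp only [mul_assoc, hu2, mul_one]
                                       rw [← mul_assoc, hu2, one_mul]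
      _ = u * d * u := by rw [e]
      _ = d := by rw [← hu.2.2.eq, mul_assoc, hu2, mul_one]
  · exact (hu.2.2.mul_right hv.2.2).mul_right hu.2.2

theorem perp_two (hl : LocS3 D) {d : G} (hd : d ∈ D) :
    ∃ x y, x ∈ perp D d ∧ y ∈ perp D d ∧ x ≠ y := by
  obtain ⟨φ⟩ := hl d hd
  by_contra hcon
  push Not at hcon
  apply p3_noncomm
  intro a b
  have hc : IsMulCommutative ↥(Subgroup.closure (perp D d)) := Subgroup.isMulCommutative_closure
    (fun u hu v hv => by rw [hcon u v hu hv])
  have := congrArg φ (hc.is_comm.comm (φ.symm a) (φ.symm b))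
  simpa using this

include hD in
theorem perp_pair (hl : LocS3 D) {d u v : G} (hd : d ∈ D) (hu : u ∈ perp D d)
    (hv : v ∈ perp D d) (huv : u ≠ v) :
    ¬ Commute u v ∧ ∀ w ∈ perp D d, w = u ∨ w = v ∨ w = u * v * u := by
  obtain ⟨φ⟩ := hl d hd
  let a : ↥(Subgroup.closure (perp D d)) := ⟨u, Subgroup.subset_closure hu⟩
  let b : ↥(Subgroup.closure (perp D d)) := ⟨v, Subgroup.subset_closure hv⟩
  have key : ∀ t (ht : t ∈ perp D d),
      φ ⟨t, Subgroup.subset_closure ht⟩ * φ ⟨t, Subgroup.subset_closure ht⟩ = 1 ∧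
      φ ⟨t, Subgroup.subset_closure ht⟩ ≠ 1 := by
    intro t ht
    refine ⟨?_, fun h => invol_ne_one (ts_invol hD ht.1) ?_⟩
    · rw [← map_mul, ← map_one φ]
      exact congrArg φ (Subtype.ext (ts_mul_self hD ht.1))
    · exact congrArg Subtype.val ((map_eq_one_iff φ φ.injective).1 h)
  have hne : φ a ≠ φ b := fun h => huv (congrArg Subtype.val (φ.injective h))
  constructor
  · intro hc
    refine (p3_pair (φ a) (φ b) (φ a) (key u hu).1 (key u hu).2 (key v hv).1 (key v hv).2
      (key u hu).1 (key u hu).2 hne).1 ?_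
    rw [← map_mul, ← map_mul]
    exact congrArg φ (Subtype.ext hc.eq)
  · intro w hw
    rcases (p3_pair (φ a) (φ b) (φ ⟨w, Subgroup.subset_closure hw⟩) (key u hu).1 (key u hu).2
      (key v hv).1 (key v hv).2 (key w hw).1 (key w hw).2 hne).2 with h | h | h
    · exact Or.inl (congrArg Subtype.val (φ.injective h))
    · exact Or.inr (Or.inl (congrArg Subtype.val (φ.injective h)))
    · rw [← map_mul, ← map_mul] at h
      exact Or.inr (Or.inr (congrArg Subtype.val (φ.injective h)))

include hD hconj in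
/-- A member of `D` commuting with `e` constructed from `d` and a member of the perp of `d`. -/
theorem perp_formula {d x e : G} (hd : d ∈ D) (hx : x ∈ perp D d) (he : e ∈ D)
    (hde : ¬ Commute d e) (hxe : ¬ Commute x e) :
    d * (x * e * x) * d ∈ perp D e ∧ d * (x * e * x) * d ≠ d := by
  have d2 := ts_mul_self hD hd
  have x2 := ts_mul_self hD hx.1
  have d1 : ∀ t : G, d * (d * t) = t := fun t => by rw [← mul_assoc, d2, one_mul]
  have x1 : ∀ t : G, x * (x * t) = t := fun t => by rw [← mul_assoc, x2, one_mul]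
  have bd := ts_braid hD hd he hde
  have bx := ts_braid hD hx.1 he hxe
  have hdx := hx.2.2.eq
  have hmem : d * (x * e * x) * d ∈ D := cv_mem hD hconj hd (cv_mem hD hconj hx.1 he)
  have hfix : e * (d * (x * e * x) * d) * e = d * (x * e * x) * d := by
    calc e * (d * (x * e * x) * d) * e = (e * d * e) * x * (e * d * e) := by rw [bx]; group
      _ = (d * e * d) * x * (d * e * d) := by rw [bd]
      _ = d * (e * (d * x * d) * e) * d := by group
      _ = d * (e * x * e) * d := by rw [commute_mul_self (ts_invol hD hd) hx.2.2]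
      _ = d * (x * e * x) * d := by rw [bx]
  refine ⟨⟨hmem, fun h => hx.2.1 ?_, ?_⟩, fun h => hde ?_⟩
  · have h1 : x * e * x = d * e * d := by
      have := congrArg (fun t => d * t * d) h
      simpa [mul_assoc, d1, d2] using this
    rw [bx, bd] at h1
    exact mul_left_cancel (mul_right_cancel h1)
  · have := congrArg (· * e) hfix
    simp only [mul_assoc, ts_mul_self hD he, mul_one] at this
    show e * (d * (x * e * x) * d) = d * (x * e * x) * d * e
    simpa [mul_assoc] using this
  · have h1 : x * e * x = d := by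
      have := congrArg (fun t => d * t * d) h
      simpa [mul_assoc, d1, d2] using this
    have h2 : e = d := by
      have := congrArg (fun t => x * t * x) h1
      simp only [mul_assoc, x1, x2, mul_one] at this
      rw [this, ← mul_assoc, ← hdx, mul_assoc, x2, mul_one]
    rw [h2]

include hD hconj in
/-- A member noncommuting with `d` and its whole perp gives two members of `D` sharing two
distinct perps. -/
theorem shared_perps (hl : LocS3 D) {d x y e : G} (hd : d ∈ D) (hx : x ∈ perp D d)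
    (hy : y ∈ perp D d) (hxy : x ≠ y) (he : e ∈ D) (hde : ¬ Commute d e)
    (hne : ∀ u ∈ perp D d, ¬ Commute u e) :
    x * y * e * (x * y)⁻¹ ≠ e ∧
    d * (x * e * x) * d ≠ d * (y * e * y) * d ∧
    d * (x * e * x) * d ∈ perp D e ∧ d * (y * e * y) * d ∈ perp D e ∧
    d * (x * e * x) * d ∈ perp D (x * y * e * (x * y)⁻¹) ∧
    d * (y * e * y) * d ∈ perp D (x * y * e * (x * y)⁻¹) := by
  have hz := perp_triple hD hconj hx hy
  have hnc := (perp_pair hD hl hd hx hy hxy).1
  have bxy := ts_braid hD hx.1 hy.1 hnc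
  have x2 := ts_mul_self hD hx.1
  have y2 := ts_mul_self hD hy.1
  have d2 := ts_mul_self hD hd
  have x1 : ∀ t : G, x * (x * t) = t := fun t => by rw [← mul_assoc, x2, one_mul]
  have y1 : ∀ t : G, y * (y * t) = t := fun t => by rw [← mul_assoc, y2, one_mul]
  have d1 : ∀ t : G, d * (d * t) = t := fun t => by rw [← mul_assoc, d2, one_mul]
  have hinv : (x * y)⁻¹ = y * x := by rw [mul_inv_rev, ts_inv hD hx.1, ts_inv hD hy.1]
  have hxey : x * e * x ≠ y * e * y := by
    rw [ts_braid hD hx.1 he (hne x hx), ts_braid hD hy.1 he (hne y hy)]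
    exact fun h => hxy (mul_left_cancel (mul_right_cancel h))
  have fu := fun u hu => (perp_formula hD hconj hd hu he hde (hne u hu)).1
  have hcd : x * y * d * (x * y)⁻¹ = d := by
    have hc : Commute d (x * y) := hx.2.2.mul_right hy.2.2
    rw [← hc.eq]; group
  have tr : ∀ u w : G, x * y * u * (x * y)⁻¹ = w → u ∈ perp D d →
      d * (w * (x * y * e * (x * y)⁻¹) * w) * d ∈ perp D (x * y * e * (x * y)⁻¹) := by
    intro u w hw hu
    have h := perp_conj hconj (x * y) (fu u hu)
    have heq : x * y * (d * (u * e * u) * d) * (x * y)⁻¹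
        = (x * y * d * (x * y)⁻¹) * ((x * y * u * (x * y)⁻¹) * (x * y * e * (x * y)⁻¹)
          * (x * y * u * (x * y)⁻¹)) * (x * y * d * (x * y)⁻¹) := by group
    rwa [heq, hw, hcd] at h
  refine ⟨fun h => hxey ?_, fun h => hxey ?_, fu x hx, fu y hy, ?_, ?_⟩
  · rw [hinv] at h
    have := congrArg (fun t => x * t * x) h
    simp only [mul_assoc, x1, x2, mul_one] at this
    simpa [mul_assoc] using this.symm
  · have := congrArg (fun t => d * t * d) h
    simpa [mul_assoc, d1, d2] using this
  · have hw : x * y * y * (x * y)⁻¹ = x * y * x := by rw [hinv]; simp [mul_assoc, y1]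
    have h := tr y _ hw hy
    convert h using 2
    rw [hinv]
    simp only [mul_assoc, x1, y1]
  · have hw : x * y * (x * y * x) * (x * y)⁻¹ = x := by
      rw [hinv, bxy]
      simp only [mul_assoc, x1, y1, x2, mul_one]
    have h := tr _ _ hw hz
    convert h using 2
    rw [hinv]
    simp only [mul_assoc, x1, x2, mul_one]

/-- An involutory fixed-point-free automorphism inverts. -/
theorem fpf_inverts {S : Subgroup G} [Finite S] {t : G} (ht : t * t = 1)
    (hn : ∀ n ∈ S, t * n * t ∈ S) (hfix : ∀ n ∈ S, t * n * t = n → n = 1) {n : G}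
    (hnS : n ∈ S) : t * n * t = n⁻¹ := by
  have t1 : ∀ u : G, t * (t * u) = u := fun u => by rw [← mul_assoc, ht, one_mul]
  let f : S → S := fun w => ⟨(w : G)⁻¹ * (t * w * t), S.mul_mem (S.inv_mem w.2) (hn _ w.2)⟩
  have hf : Function.Injective f := by
    intro a b hab
    have he : (a : G)⁻¹ * (t * a * t) = (b : G)⁻¹ * (t * b * t) := congrArg Subtype.val hab
    have h : t * ((b : G) * (a : G)⁻¹) * t = b * (a : G)⁻¹ := by
      calc t * ((b : G) * (a : G)⁻¹) * t
          = b * ((b : G)⁻¹ * (t * b * t)) * (t * (a : G)⁻¹ * t) := by simp [mul_assoc, t1]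
        _ = b * ((a : G)⁻¹ * (t * a * t)) * (t * (a : G)⁻¹ * t) := by rw [he]
        _ = b * (a : G)⁻¹ := by simp [mul_assoc, t1, ht]
    exact Subtype.ext (mul_inv_eq_one.1 (hfix _ (S.mul_mem b.2 (S.inv_mem a.2)) h)).symm
  obtain ⟨w, hw⟩ := (Finite.injective_iff_surjective.1 hf) ⟨n, hnS⟩
  rw [← show (w : G)⁻¹ * (t * w * t) = n from congrArg Subtype.val hw]
  simp [mul_assoc, t1, ht, inv_eq_of_mul_eq_one_right ht]

theorem perm5_not_ker {H : Type*} [Group H] (φ : Equiv.Perm (Fin 5) →* H)
    (h : φ (CfsgLib.KnownB.SymCox.f 4 0 * CfsgLib.KnownB.SymCox.f 4 1) ≠ 1) :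
    Function.Injective φ := by
  rw [← MonoidHom.ker_eq_bot_iff]
  by_contra hne
  have hmem : CfsgLib.KnownB.SymCox.f 4 0 * CfsgLib.KnownB.SymCox.f 4 1
      ∈ alternatingGroup (Fin 5) := by
    rw [Equiv.Perm.mem_alternatingGroup]
    decide
  exact h (Equiv.Perm.alternatingGroup_le_of_normal (by simp)
    ((Subgroup.nontrivial_iff_ne_bot _).2 hne) hmem)

include hD in
/-- Four members forming a path of type `A₄` give the symmetric group of degree five. -/
theorem path_four {a b c e : G} (ha : a ∈ D) (hb : b ∈ D) (hc : c ∈ D) (he : e ∈ D)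
    (hab : ¬ Commute a b) (hbc : ¬ Commute b c) (hce : ¬ Commute c e)
    (hac : Commute a c) (hae : Commute a e) (hbe : Commute b e) :
    Nonempty (↥(Subgroup.closure ({a, b, c, e} : Set G)) ≃* Equiv.Perm (Fin 5)) := by
  obtain ⟨cs, hcs⟩ := CfsgLib.KnownB.SymCox.main 4
  have sq : ∀ p q : G, p ∈ D → q ∈ D → Commute p q → (p * q) ^ 2 = 1 :=
    fun p q hp hq h => (invol_commute_iff (hD.1 p hp) (hD.1 q hq)).1 h
  have cu : ∀ p q : G, p ∈ D → q ∈ D → ¬ Commute p q → (p * q) ^ 3 = 1 ∧ (q * p) ^ 3 = 1 :=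
    fun p q hp hq h => ⟨ts_cube hD hp hq h, ts_cube hD hq hp fun h' => h h'.symm⟩
  have hlift : (CoxeterMatrix.A 4).IsLiftable ![a, b, c, e] := by
    intro i j
    fin_cases i <;> fin_cases j <;>
      simp [CoxeterMatrix.A, ts_mul_self hD ha, ts_mul_self hD hb, ts_mul_self hD hc,
        ts_mul_self hD he, cu a b ha hb hab, cu b c hb hc hbc, cu c e hc he hce,
        sq a c ha hc hac, sq c a hc ha hac.symm, sq a e ha he hae, sq e a he ha hae.symm,
        sq b e hb he hbe, sq e b he hb hbe.symm]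
  set φ := cs.lift ⟨![a, b, c, e], hlift⟩ with hφ
  have hs : ∀ i, φ (cs.simple i) = ![a, b, c, e] i := fun i => cs.lift_apply_simple hlift i
  have hinj : Function.Injective φ := by
    refine perm5_not_ker φ ?_
    rw [← hcs, ← hcs, map_mul, hs, hs]
    intro h
    have h' : a * b = 1 := h
    exact hab (by rw [← inv_eq_of_mul_eq_one_right h', ts_inv hD ha])
  have hrange : φ.range = Subgroup.closure ({a, b, c, e} : Set G) := by
    rw [MonoidHom.range_eq_map, ← cs.subgroup_closure_range_simple, MonoidHom.map_closure,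
      ← Set.range_comp]
    congr 1
    have : (φ ∘ cs.simple) = ![a, b, c, e] := funext hs
    rw [this]
    ext t
    simp [Fin.exists_fin_succ]
    tauto
  exact ⟨((MonoidHom.ofInjective hinj).trans (MulEquiv.subgroupCongr hrange)).symm⟩

/-- No two members of `D` share two distinct perps. -/
def NoTwins (D : Set G) : Prop :=
  ∀ d ∈ D, ∀ d' ∈ D, ∀ x ∈ perp D d, ∀ y ∈ perp D d, x ∈ perp D d' → y ∈ perp D d' →
    x ≠ y → d' = d

include hD hconj in
theorem no_twins_sym5 (hl : LocS3 D) (hne : D.Nonempty) (hnt : NoTwins D) :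
    Nonempty (↥(Subgroup.closure D) ≃* Equiv.Perm (Fin 5)) := by
  obtain ⟨d, hd⟩ := hne
  obtain ⟨x, y, hx, hy, hxy⟩ := perp_two hl hd
  obtain ⟨u, hu, hud⟩ : ∃ u ∈ perp D y, u ≠ d := by
    obtain ⟨p, q, hp, hq, hpq⟩ := perp_two hl hy.1
    by_cases h : p = d
    · exact ⟨q, hq, fun h' => hpq (h.trans h'.symm)⟩
    · exact ⟨p, hp, h⟩
  have hxy' := (perp_pair hD hl hd hx hy hxy).1
  have hyd := perp_symm hd hy
  obtain ⟨hdu, hperpy⟩ := perp_pair hD hl hy.1 hyd hu hud.symm
  have hux : ¬ Commute u x := by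
    intro h
    have hux : x ≠ u := fun e => hxy' (e ▸ hu.2.2.symm)
    exact hud (hnt d hd u hu.1 x hx y hy ⟨hx.1, hux, h⟩ (perp_symm hy.1 hu) hxy)
  obtain ⟨φ⟩ := path_four hD hd hu.1 hx.1 hy.1 hdu hux hxy' hx.2.2 hy.2.2 hu.2.2.symm
  set R := Subgroup.closure ({d, u, x, y} : Set G) with hR
  have mem : ∀ t ∈ ({d, u, x, y} : Set G), t ∈ R := fun t ht => Subgroup.subset_closure ht
  have dR : d ∈ R := mem d (by simp)
  have uR : u ∈ R := mem u (by simp)
  have xR : x ∈ R := mem x (by simp)
  have yR : y ∈ R := mem y (by simp)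
  have hLR : ∀ t ∈ perp D d, t ∈ R := by
    intro t ht
    rcases (perp_pair hD hl hd hx hy hxy).2 t ht with rfl | rfl | rfl
    · exact xR
    · exact yR
    · exact R.mul_mem (R.mul_mem xR yR) xR
  have hyR : ∀ t ∈ perp D y, t ∈ R := by
    intro t ht
    rcases hperpy t ht with rfl | rfl | rfl
    · exact dR
    · exact uR
    · exact R.mul_mem (R.mul_mem dR uR) dR
  have hLperp : ∀ v ∈ perp D d, ∀ t ∈ perp D v, t ∈ R := by
    intro v hv t ht
    have back : ∀ g ∈ R, g * v * g⁻¹ = y → t ∈ R := by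
      intro g hg hgv
      have h1 := hyR _ (hgv ▸ perp_conj hconj g ht)
      have : t = g⁻¹ * (g * t * g⁻¹) * g := by group
      rw [this]
      exact R.mul_mem (R.mul_mem (R.inv_mem hg) h1) hg
    rcases (perp_pair hD hl hd hx hy hxy).2 v hv with rfl | rfl | rfl
    · refine back (v * y) (R.mul_mem xR yR) ?_
      rw [ts_braid hD hx.1 hy.1 hxy', mul_inv_rev, ts_inv hD hx.1, ts_inv hD hy.1]
      have y1 : ∀ t : G, y * (y * t) = t := fun t => by
        rw [← mul_assoc, ts_mul_self hD hy.1, one_mul]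
      simp only [mul_assoc, y1, ts_mul_self hD hx.1, mul_one]
    · exact hyR t ht
    · refine back x xR ?_
      rw [ts_inv hD hx.1]
      simp only [mul_assoc, ts_mul_self hD hx.1, mul_one]
      rw [← mul_assoc, ts_mul_self hD hx.1, one_mul]
  have hDR : Subgroup.closure D = R := by
    refine le_antisymm ((Subgroup.closure_le _).2 fun t ht => ?_) ((Subgroup.closure_mono ?_))
    · by_cases h1 : t = d
      · exact h1 ▸ dR
      by_cases h2 : Commute d t
      · exact hLR t ⟨ht, h1, h2⟩
      by_cases h3 : ∃ v ∈ perp D d, Commute v t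
      · obtain ⟨v, hv, hvt⟩ := h3
        exact hLperp v hv t ⟨ht, fun e => h2 (e ▸ hv.2.2), hvt⟩
      · push Not at h3
        obtain ⟨ha, hb, p1, p2, p3, p4⟩ := shared_perps hD hconj hl hd hx hy hxy ht h2 h3
        exact absurd (hnt t ht _ (hconj _ t ht) _ p1 _ p2 p3 p4 hb) ha
    · intro t ht
      rcases ht with rfl | rfl | rfl | rfl
      exacts [hd, hu.1, hx.1, hy.1]
  exact ⟨(MulEquiv.subgroupCongr hDR).trans φ⟩

/-- All members of the perp of `e` have the same perp. -/
def Reg (D : Set G) (e : G) : Prop := ∀ v ∈ perp D e, ∀ w ∈ perp D e, perp D v = perp D w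

include hconj in
theorem reg_conj (g : G) {e : G} (h : Reg D e) : Reg D (g * e * g⁻¹) := by
  intro v hv w hw
  have back : ∀ t ∈ perp D (g * e * g⁻¹), g⁻¹ * t * g ∈ perp D e := fun t ht => by
    have h1 := perp_conj hconj g⁻¹ ht
    simpa [mul_assoc] using h1
  have h1 := h _ (back v hv) _ (back w hw)
  have fwd : ∀ p q : G, perp D (g⁻¹ * p * g) = perp D (g⁻¹ * q * g) →
      perp D p ⊆ perp D q := by
    intro p q hpq t ht
    have h2 : g⁻¹ * t * g ∈ perp D (g⁻¹ * q * g) := by
      rw [← hpq]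
      simpa using perp_conj hconj g⁻¹ ht
    simpa [mul_assoc] using perp_conj hconj g h2
  exact (fwd v w h1).antisymm (fwd w v h1.symm)

section Twins

variable (hl : LocS3 D) {d d' x y : G} (hd : d ∈ D) (hd' : d' ∈ D) (hdd : d' ≠ d)
  (hx : x ∈ perp D d) (hy : y ∈ perp D d) (hxy : x ≠ y)
  (hx' : x ∈ perp D d') (hy' : y ∈ perp D d')

include hD hconj hl hd hd' hdd hx hy hxy hx' hy'

theorem twin_full : (∀ v ∈ perp D d, perp D v = perp D x) ∧
    (∀ m ∈ perp D x, perp D m = perp D d) := by
  have hz := perp_triple hD hconj hx' hy'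
  have hsub : ∀ v ∈ perp D d, v ∈ perp D d' := by
    intro v hv
    rcases (perp_pair hD hl hd hx hy hxy).2 v hv with rfl | rfl | rfl
    exacts [hx', hy', hz]
  have hLv : ∀ v ∈ perp D d, ∀ m ∈ perp D x, m ∈ perp D v := by
    intro v hv m hm
    have h1 := perp_symm hd hv
    have h2 := perp_symm hd' (hsub v hv)
    rcases (perp_pair hD hl hx.1 (perp_symm hd hx) (perp_symm hd' hx') hdd.symm).2 m hm with
      rfl | rfl | rfl
    exacts [h1, h2, perp_triple hD hconj h1 h2]
  constructor
  · intro v hv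
    refine (Set.Subset.antisymm (fun m hm => ?_) (hLv v hv))
    rcases (perp_pair hD hl hv.1 (perp_symm hd hv) (perp_symm hd' (hsub v hv)) hdd.symm).2 m hm
      with rfl | rfl | rfl
    exacts [perp_symm hd hx, perp_symm hd' hx',
      perp_triple hD hconj (perp_symm hd hx) (perp_symm hd' hx')]
  · intro m hm
    have hsup : ∀ v ∈ perp D d, v ∈ perp D m := fun v hv => perp_symm hv.1 (hLv v hv m hm)
    refine Set.Subset.antisymm (fun t ht => ?_) hsup
    rcases (perp_pair hD hl hm.1 (hsup x hx) (hsup y hy) hxy).2 t ht with rfl | rfl | rfl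
    exacts [hx, hy, perp_triple hD hconj hx hy]

theorem twin_reg : Reg D d := fun v hv w hw => by
  have h := (twin_full hD hconj hl hd hd' hdd hx hy hxy hx' hy').1
  rw [h v hv, h w hw]

/-- The case in which `D` consists of two commuting triples. -/
theorem twin_square (hall : D ⊆ perp D d ∪ perp D x) :
    Nonempty (↥(Subgroup.closure D) ≃* Equiv.Perm (Fin 3) × Equiv.Perm (Fin 3)) := by
  have hf := (twin_full hD hconj hl hd hd' hdd hx hy hxy hx' hy').1
  obtain ⟨φ⟩ := hl d hd
  obtain ⟨ψ⟩ := hl x hx.1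
  have hcomm : Subgroup.closure (perp D d) ≤
      Subgroup.centralizer (Subgroup.closure (perp D x) : Set G) := by
    rw [Subgroup.centralizer_closure]
    exact (Subgroup.closure_le _).2 fun v hv m hm => ((hf v hv).symm ▸ hm : m ∈ perp D v).2.2.symm.eq
  have hc : ∀ (a : ↥(Subgroup.closure (perp D d))) (b : ↥(Subgroup.closure (perp D x))),
      Commute (a : G) (b : G) := fun a b => ((hcomm a.2) b b.2).symm
  let Φ := MonoidHom.noncommCoprod (Subgroup.closure (perp D d)).subtype
    (Subgroup.closure (perp D x)).subtype hc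
  have hinj : Function.Injective Φ := by
    rw [injective_iff_map_eq_one]
    rintro ⟨a, b⟩ hab
    have hab' : (a : G) * (b : G) = 1 := hab
    have ha : a = 1 := by
      refine φ.injective ?_
      rw [map_one]
      refine p3_center _ fun c => ?_
      obtain ⟨c', rfl⟩ := φ.surjective c
      rw [← map_mul, ← map_mul]
      congr 1
      refine Subtype.ext ?_
      have hb : (a : G) = ((b : G))⁻¹ := eq_inv_of_mul_eq_one_left hab'
      show (a : G) * c' = c' * a
      rw [hb]
      exact ((hc c' b).inv_right.symm).eq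
    subst ha
    simpa using hab'
  have hrange : Φ.range = Subgroup.closure D := by
    refine (MonoidHom.noncommCoprod_range _ _ hc).trans ?_
    rw [Subgroup.range_subtype, Subgroup.range_subtype,
      ← Subgroup.closure_union]
    refine le_antisymm (Subgroup.closure_mono ?_) (Subgroup.closure_mono hall)
    rintro t (ht | ht) <;> exact ht.1
  exact ⟨((MonoidHom.ofInjective hinj).trans (MulEquiv.subgroupCongr hrange)).symm.trans
    (φ.prodCongr ψ)⟩

end Twins

end CfsgLib.ThreeTransp.SymThree
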