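import Cfsg.Agent.Lib.ThreeTransp.Neighbours
import Cfsg.Agent.Lib.Classical.UnitarySimple
import Cfsg.Agent.Lib.Classical.UnitaryOrder

/-!
In groups of type M(23) and M(24) a product of at most three commuting transpositions determines
its factors.
-/

set_option autoImplicit false

namespace CfsgLib.ThreeTransp

open Cfsg CfsgLib.Involutions

variable {G : Type*} [Group G] [Finite G] {D : Set G}

theorem pCore_eq_bot_of_simple {S : Type*} [Group S] [Finite S] (hS : IsSimpleGroup S)
    (hna : ¬ IsMulCommutative S) : pCore 2 S = ⊥ := by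
  haveI : Fact (Nat.Prime 2) := ⟨Nat.prime_two⟩
  rcases hS.eq_bot_or_eq_top_of_normal (pCore 2 S) inferInstance with h | h
  · exact h
  exfalso
  have hp : IsPGroup 2 S := by
    have := Base.isPGroup_pCore (p := 2) S
    rw [h] at this
    exact this.of_equiv Subgroup.topEquiv
  haveI := hS.toNontrivial
  haveI := hp.center_nontrivial
  rcases hS.eq_bot_or_eq_top_of_normal (Subgroup.center S) inferInstance with hb | ht
  · exact (Subgroup.nontrivial_iff_ne_bot _).1 inferInstance hb
  · exact hna ⟨⟨fun a b => Subgroup.mem_center_iff.1 (ht ▸ Subgroup.mem_top b) a⟩⟩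

theorem isSimpleGroup_of_equiv {A B : Type*} [Group A] [Group B] (e : A ≃* B) (h : IsSimpleGroup B) :
    IsSimpleGroup A := by
  have := h
  have : Nontrivial A := e.toEquiv.nontrivial
  exact IsSimpleGroup.isSimpleGroup_of_surjective e.symm.toMonoidHom e.symm.surjective

theorem pCore_le_center_of_quot {H : Type*} [Group H] [Finite H]
    (h : pCore 2 (H ⧸ Subgroup.center H) = ⊥) : pCore 2 H ≤ Subgroup.center H := by
  haveI : Fact (Nat.Prime 2) := ⟨Nat.prime_two⟩
  intro x hx
  haveI : ((pCore 2 H).map (QuotientGroup.mk' (Subgroup.center H))).Normal :=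
    (inferInstance : (pCore 2 H).Normal).map _ (QuotientGroup.mk'_surjective _)
  have h1 := Base.le_pCore ((Base.isPGroup_pCore (p := 2) H).map (QuotientGroup.mk' (Subgroup.center H)))
    ⟨x, hx, rfl⟩
  rw [h, Subgroup.mem_bot] at h1
  exact (QuotientGroup.eq_one_iff x).1 h1

/-- Two members moving each other are conjugate under the group. -/
theorem WeakTS.conj_of_not_commute (hW : WeakTS D) {a b : G} (ha : a ∈ D) (hb : b ∈ D)
    (h : ¬ Commute a b) : ∃ g : G, g * a * g⁻¹ = b := ⟨a * b, hW.conj_braid ha hb h⟩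

/-- The shape of the centraliser data in a group of type M(22) separates twins. -/
theorem WeakTS.twin_free (hW : WeakTS D) (hZ : Subgroup.center G = ⊥) {d c : G} (hd : d ∈ D)
    (hc : c ∈ D) (hdc : ¬ Commute d c)
    (hs : IsSimpleGroup (Subgroup.closure (nb D d) ⧸ Subgroup.center (Subgroup.closure (nb D d))))
    (hna : ¬ IsMulCommutative (Subgroup.closure (nb D d) ⧸ Subgroup.center (Subgroup.closure (nb D d))))
    (hL : ¬ Nonempty ((Subgroup.closure (nb D d ∩ nb D c) ⧸
      Subgroup.center (Subgroup.closure (nb D d ∩ nb D c))) ≃*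
      (Subgroup.closure (nb D d) ⧸ Subgroup.center (Subgroup.closure (nb D d)))))
    {x y : G} (hx : x ∈ D) (hy : y ∈ D) (htw : ∀ z ∈ D, Commute x z ↔ Commute y z) : x = y := by
  classical
  by_contra hxy
  have hcent : ∀ {a : G}, (∀ z ∈ D, Commute a z) → a = 1 := fun h => by
    have := hW.mem_center h
    rwa [hZ, Subgroup.mem_bot] at this
  obtain ⟨w, hw, hxw⟩ : ∃ w ∈ D, ¬ Commute x w := by
    by_contra h
    push Not at h
    exact hxy ((hcent h).trans (hcent fun z hz => (htw z hz).1 (h z hz)).symm)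
  set E := nb D d with hE
  set X := Subgroup.closure E
  haveI hsX : IsSimpleGroup (X ⧸ Subgroup.center X) := hs
  have h2X : pCore 2 X ≤ Subgroup.center X := pCore_le_center_of_quot (pCore_eq_bot_of_simple hs hna)
  have hWX : WeakTS (inClosure E) := hW.sub d
  set R : Set G := {r | ∃ h : r ∈ E, (⟨r, Subgroup.subset_closure h⟩ : X) ∉ Subgroup.center X}
  set O : Set G := {o | ∃ g : G, g * x * g⁻¹ = o}
  have hxO : x ∈ O := ⟨1, by simp⟩
  have hOconj : ∀ g : G, ∀ o ∈ O, g * o * g⁻¹ ∈ O := by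
    rintro g _ ⟨k, rfl⟩; exact ⟨g * k, by group⟩
  have hOD : ∀ o ∈ O, o ∈ D := by rintro _ ⟨g, rfl⟩; exact hW.conj g x hx
  have hOnc : ∀ {o z : G}, o ∈ O → z ∈ D → ¬ Commute o z → z ∈ O := by
    intro o z ho hz h
    obtain ⟨g, hg⟩ := hW.conj_of_not_commute (hOD o ho) hz h
    exact hg ▸ hOconj g o ho
  -- every member of `O` has a twin
  have hOtw : ∀ o ∈ O, ∃ o' ∈ D, o' ≠ o ∧ ∀ z ∈ D, Commute o z ↔ Commute o' z := by
    rintro _ ⟨g, rfl⟩
    refine ⟨g * y * g⁻¹, hW.conj g y hy, fun h => hxy (mul_left_cancel (mul_right_cancel h)).symm,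
      fun z hz => ?_⟩
    have hz' : z = g * (g⁻¹ * z * g) * g⁻¹ := by group
    rw [hz', commute_conj_iff, commute_conj_iff]
    exact htw _ (by simpa using hW.conj g⁻¹ z hz)
  by_cases hRO : ∃ r ∈ R, r ∈ O
  · obtain ⟨r, ⟨hrE, hrc⟩, hrO⟩ := hRO
    obtain ⟨r', hr'D, hne, hr'⟩ := hOtw r hrO
    have hr'd : r' ≠ d := by
      intro h
      refine hrc (hWX.mem_center fun z hz => ?_)
      refine Subtype.ext ((hr' _ hz.1).2 ?_).eq
      exact h ▸ (hz.2.2 : Commute d _)
    have hr'E : r' ∈ E := ⟨hr'D, hr'd, ((hr' d hd).1 hrE.2.2.symm).symm⟩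
    have := hWX.twin_eq h2X (x := ⟨r, Subgroup.subset_closure hrE⟩)
      (y := ⟨r', Subgroup.subset_closure hr'E⟩) hrE hr'E hrc fun z hz =>
        ⟨fun h => Subtype.ext ((hr' _ hz.1).1 (congrArg Subtype.val h.eq)).eq,
          fun h => Subtype.ext ((hr' _ hz.1).2 (congrArg Subtype.val h.eq)).eq⟩
    exact hne (congrArg Subtype.val this).symm
  push Not at hRO
  have hRc : ∀ r ∈ R, ∀ o ∈ O, Commute r o := fun r hr o ho => by
    by_contra h
    exact hRO r hr (hOnc ho hr.1.1 fun e => h e.symm)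
  by_cases hdO : d ∈ O
  · have hcO : c ∈ O := hOnc hdO hc hdc
    set L := Subgroup.closure (nb D d ∩ nb D c)
    have hLX : L ≤ X := Subgroup.closure_mono Set.inter_subset_left
    let φ : L →* X ⧸ Subgroup.center X :=
      (QuotientGroup.mk' (Subgroup.center X)).comp (Subgroup.inclusion hLX)
    have hφ : Function.Surjective φ := by
      rw [← MonoidHom.range_eq_top, eq_top_iff]
      rw [← MonoidHom.range_eq_top.2 (QuotientGroup.mk'_surjective (Subgroup.center X)),
        MonoidHom.range_eq_map, ← hWX.gen, MonoidHom.map_closure, Subgroup.closure_le]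
      rintro _ ⟨z, hz, rfl⟩
      by_cases hzc : z ∈ Subgroup.center X
      · refine ⟨1, ?_⟩
        rw [map_one]
        exact ((QuotientGroup.eq_one_iff z).2 hzc).symm
      · have hzR : (z : G) ∈ R := ⟨hz, hzc⟩
        exact ⟨⟨z, Subgroup.subset_closure ⟨hz, hz.1, fun h => hRO _ hzR (h ▸ hcO),
          (hRc _ hzR c hcO).symm⟩⟩, rfl⟩
    have hker : φ.ker = Subgroup.center L := by
      ext l
      rw [MonoidHom.mem_ker]
      constructor
      · intro h
        have hl : Subgroup.inclusion hLX l ∈ Subgroup.center X := (QuotientGroup.eq_one_iff _).1 h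
        refine Subgroup.mem_center_iff.2 fun m => ?_
        exact Subgroup.inclusion_injective hLX (by
          rw [map_mul, map_mul]; exact Subgroup.mem_center_iff.1 hl _)
      · intro h
        have hl : φ l ∈ Subgroup.center (X ⧸ Subgroup.center X) := Subgroup.mem_center_iff.2 fun q => by
          obtain ⟨m, rfl⟩ := hφ q
          rw [← map_mul, ← map_mul, Subgroup.mem_center_iff.1 h m]
        rcases hsX.eq_bot_or_eq_top_of_normal _ (inferInstance : (Subgroup.center (X ⧸ Subgroup.center X)).Normal)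
          with hb | ht
        · rwa [hb, Subgroup.mem_bot] at hl
        · exact absurd ⟨⟨fun a b => Subgroup.mem_center_iff.1 (ht ▸ Subgroup.mem_top b) a⟩⟩ hna
    exact hL ⟨(QuotientGroup.quotientMulEquivOfEq hker.symm).trans
      (QuotientGroup.quotientKerEquivOfSurjective φ hφ)⟩
  · have hOE : ∀ o ∈ O, o ∈ E := fun o ho => ⟨hOD o ho, fun h => hdO (h ▸ ho), by
      by_contra h
      exact hdO (hOnc ho hd fun e => h e.symm)⟩
    have hwO : w ∈ O := hOnc hxO hw hxw
    have hxc : (⟨x, Subgroup.subset_closure (hOE x hxO)⟩ : X) ∈ Subgroup.center X := by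
      by_contra h; exact hRO x ⟨hOE x hxO, h⟩ hxO
    exact hxw (congrArg Subtype.val (Subgroup.mem_center_iff.1 hxc
      ⟨w, Subgroup.subset_closure (hOE w hwO)⟩)).symm

theorem WeakTS.pCore_bot_of_twin_free (hW : WeakTS D) (hZ : Subgroup.center G = ⊥)
    (h : ∀ {x y : G}, x ∈ D → y ∈ D → (∀ z ∈ D, Commute x z ↔ Commute y z) → x = y) :
    pCore 2 G = ⊥ := by
  rw [eq_bot_iff, ← hZ]
  intro n hn
  refine hW.mem_center fun x hx => ?_
  by_cases hx1 : x = 1
  · rw [hx1]; exact Commute.one_right n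
  have hy := hW.conj n x hx
  have hy1 : n * x * n⁻¹ ≠ 1 := fun e => hx1 (by simpa using e)
  have hm : x * (n * x * n⁻¹) ∈ pCore 2 G := by
    have h1 := mul_mem ((inferInstance : (pCore 2 G).Normal).conj_mem n hn x) (inv_mem hn)
    rw [hW.inv hx] at h1
    simpa [mul_assoc] using h1
  have hs := sameC_of_mul_mem_pCore hW.strict.1 (d := x) (v := n * x * n⁻¹) ⟨hx, hx1⟩ ⟨hy, hy1⟩ hm
  have he := h hx hy fun z hz => by
    by_cases hz1 : z = 1
    · subst hz1; exact iff_of_true (Commute.one_right _) (Commute.one_right _)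
    · exact (hs.2 z ⟨hz, hz1⟩).symm
  show n * x = x * n
  calc n * x = n * x * n⁻¹ * n := by rw [inv_mul_cancel_right]
    _ = x * n := by rw [← he]

theorem psu_six_simple {F : Type} [Field F] [Fintype F] (hF : Fintype.card F = 4) :
    IsSimpleGroup (PSU 6 F 2) ∧ ¬ IsMulCommutative (PSU 6 F 2) ∧ 2 ^ 15 ∣ Nat.card (PSU 6 F 2) := by
  have hc : Nat.card F = 2 ^ 2 := by rw [Nat.card_eq_fintype_card, hF]; norm_num
  have hs := CfsgLib.Classical.Unitary.isSimpleGroup_PSU (n := 6) hc (by norm_num) (by norm_num)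
  have h1 := CfsgLib.Classical.card_PSU_mul (n := 6) hc (by norm_num)
  rw [CfsgLib.Classical.card_GU hc 6] at h1
  simp only [Finset.prod_range_succ, Finset.prod_range_zero] at h1
  norm_num at h1
  have hd : 2 ^ 15 ∣ Nat.card (PSU 6 F 2) := by omega
  refine ⟨hs, fun hcm => ?_, hd⟩
  haveI := hcm
  letI : CommGroup (PSU 6 F 2) :=
    { (inferInstance : Group (PSU 6 F 2)) with mul_comm := fun a b => hcm.is_comm.comm a b }
  have hp := IsSimpleGroup.prime_card (α := PSU 6 F 2)
  have := (Nat.prime_dvd_prime_iff_eq Nat.prime_two hp).1 (dvd_trans (by norm_num) hd)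
  rw [← this] at hd
  norm_num at hd

theorem two_pow_not_dvd_refl {X : Type*} [Group X] {μ c : ZMod 3}
    (h : IsProjReflectionGroupModThree X 6 μ c) : ¬ 2 ^ 15 ∣ Nat.card X := by
  obtain ⟨Q, -, -, ⟨e⟩⟩ := h
  intro hd
  rw [Nat.card_congr e.toEquiv] at hd
  have h1 := hd.trans ((Subgroup.card_quotient_dvd_card _).trans
    ((Subgroup.card_subgroup_dvd_card _).trans (Subgroup.card_subgroup_dvd_card _)))
  rw [Matrix.card_GL_field, Fin.prod_univ_six, ZMod.card] at h1
  norm_num at h1

theorem pCore_bot_of_typeM22 (hW : WeakTS D) (h : IsOfTypeM22 G D) : pCore 2 G = ⊥ := by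
  obtain ⟨hZ, d, hd, c, hc, hdc, ⟨F, _, _, hF, ⟨e⟩⟩, c3, -, hR⟩ := h
  obtain ⟨hs, hna, hdvd⟩ := psu_six_simple hF
  haveI := hs
  refine hW.pCore_bot_of_twin_free hZ fun hx hy htw => hW.twin_free hZ hd hc hdc
    (isSimpleGroup_of_equiv e hs) (fun hcm => hna ⟨⟨fun a b => e.symm.injective ?_⟩⟩)
    (fun ⟨i⟩ => two_pow_not_dvd_refl hR ?_) hx hy htw
  · rw [map_mul, map_mul]; exact hcm.is_comm.comm _ _
  · exact Nat.card_congr (i.trans e).toEquiv ▸ hdvd

theorem special_of_typeM22 (h : IsOfTypeM22 G D) : ∃ d ∈ D,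
    pCore 2 (Subgroup.closure (nb D d)) ≤ Subgroup.center (Subgroup.closure (nb D d)) := by
  obtain ⟨-, d, hd, c, -, -, ⟨F, _, _, hF, ⟨e⟩⟩, -⟩ := h
  obtain ⟨hs, hna, -⟩ := psu_six_simple hF
  haveI := hs
  refine ⟨d, hd, pCore_le_center_of_quot (pCore_eq_bot_of_simple
    (isSimpleGroup_of_equiv e hs) fun hcm => hna ⟨⟨fun a b => e.symm.injective ?_⟩⟩)⟩
  rw [map_mul, map_mul]; exact hcm.is_comm.comm _ _

theorem special_of_typeM23 (hW : WeakTS D) (h : IsOfTypeM23 G D) : ∃ d ∈ D,
    pCore 2 (Subgroup.closure (nb D d)) ≤ Subgroup.center (Subgroup.closure (nb D d)) := by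
  obtain ⟨-, d, hd, c, -, -, hU, -⟩ := h
  exact ⟨d, hd, pCore_le_center_of_quot (pCore_bot_of_typeM22 ((hW.sub d).quot _) hU)⟩

theorem WeakTS.five_impossible (hW : WeakTS D) (hZ : Subgroup.center G = ⊥) {d : G}
    (h2 : pCore 2 (Subgroup.closure (nb D d)) ≤ Subgroup.center (Subgroup.closure (nb D d)))
    {l : List G} (hl : ∀ a ∈ l, a ∈ D) (hld : ∀ a ∈ l, ∃ g : G, g * a * g⁻¹ = d) (hnd : l.Nodup)
    (hp : ∀ a ∈ l, ∀ b ∈ l, Commute a b) (hlen : l.length = 5) (hprod : l.prod = 1) : False := by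
  classical
  -- partners of one member are partners of all
  have key : ∀ a ∈ l, ∀ x ∈ D, Commute x a → ∀ b ∈ l, Commute x b := by
    intro a ha x hx hxa b hb
    by_cases hab : b = a
    · exact hab ▸ hxa
    obtain ⟨g, hg⟩ := hld a ha
    let φ : G ≃* G := MulAut.conj g
    have hφa : φ a = d := by rw [← hg]; rfl
    have hperm : (a :: l.erase a).Perm l := (List.perm_cons_erase ha).symm
    have hEnb : ∀ z, z ∈ D → z ≠ a → Commute z a → φ z ∈ nb D d := fun z hz hne hc =>
      hg ▸ hW.nb_conj g ⟨hz, hne, hc.symm⟩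
    have hmem : ∀ z ∈ l.erase a, z ∈ l ∧ z ≠ a := fun z hz =>
      ⟨List.mem_of_mem_erase hz, fun e => hnd.not_mem_erase (e ▸ hz)⟩
    set X := Subgroup.closure (nb D d)
    let m : List X := (l.erase a).attach.map fun z =>
      (⟨φ z.1, Subgroup.subset_closure (hEnb z.1 (hl _ (hmem _ z.2).1) (hmem _ z.2).2
        (hp _ (hmem _ z.2).1 _ ha))⟩ : X)
    have hmD : ∀ z ∈ m, z ∈ inClosure (nb D d) := by
      intro z hz
      obtain ⟨⟨t, ht⟩, -, rfl⟩ := List.mem_map.1 hz
      exact hEnb t (hl _ (hmem _ ht).1) (hmem _ ht).2 (hp _ (hmem _ ht).1 _ ha)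
    have hmp : ∀ z ∈ m, ∀ z' ∈ m, Commute z z' := by
      intro z hz z' hz'
      obtain ⟨⟨t, ht⟩, -, rfl⟩ := List.mem_map.1 hz
      obtain ⟨⟨t', ht'⟩, -, rfl⟩ := List.mem_map.1 hz'
      exact Subtype.ext ((hp t (hmem _ ht).1 t' (hmem _ ht').1).map φ).eq
    have hmn : m.Nodup := (List.nodup_attach.2 (hnd.erase a)).map fun u v h =>
      Subtype.ext (φ.injective (congrArg Subtype.val h))
    have hmprod : (m.prod : G) = φ ((l.erase a).prod) := by
      rw [← Subgroup.coe_subtype, map_list_prod, map_list_prod, List.map_map]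
      congr 1
      conv_rhs => rw [← List.attach_map_subtype_val (l.erase a), List.map_map]
      rfl
    have hd1 : φ ((l.erase a).prod) = d := by
      have h1 := hperm.prod_eq' (List.pairwise_of_forall_mem_list fun u hu v hv =>
        hp u (hperm.subset hu) v (hperm.subset hv))
      rw [hprod, List.prod_cons, mul_eq_one_iff_inv_eq] at h1
      rw [← h1, hW.inv (hl a ha), hφa]
    have hmc : m.prod ∈ Subgroup.center X := Subgroup.mem_center_iff.2 fun u => Subtype.ext (by
      show (u : G) * (m.prod : G) = (m.prod : G) * u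
      rw [hmprod, hd1]; exact commute_closure_nb u.2)
    have hcen := (hW.sub d).four_central h2 hmD hmn hmp (by
      simp [m, List.length_erase_of_mem ha, hlen]) hmc
    by_cases hxa' : x = a
    · exact hxa' ▸ hp a ha b hb
    have hbm : (⟨φ b, Subgroup.subset_closure (hEnb b (hl b hb) hab (hp b hb a ha))⟩ : X) ∈
        Subgroup.center X :=
      hcen _ (List.mem_map.2 ⟨⟨b, (List.mem_erase_of_ne hab).2 hb⟩, List.mem_attach _ _, rfl⟩)
    have h1 := congrArg Subtype.val (Subgroup.mem_center_iff.1 hbm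
      ⟨φ x, Subgroup.subset_closure (hEnb x hx hxa' hxa)⟩)
    exact φ.injective (by rw [map_mul, map_mul]; exact h1)
  have hall : ∀ a ∈ l, ∀ x ∈ D, Commute a x := by
    intro a ha x hx
    rcases hW.count_moved hx hl hnd hp (by rw [hprod]; exact Commute.one_right x) with h0 | ⟨-, h4⟩ | h6
    · exact (h0 a ha).symm
    · exfalso
      by_cases hsome : ∃ b ∈ l, Commute x b
      · obtain ⟨b, hb, hxb⟩ := hsome
        have : (l.filter fun a => decide (¬ Commute x a)) = [] :=
          List.filter_eq_nil_iff.2 fun u hu => by simpa using key b hb x hx hxb u hu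
        rw [this] at h4; simp at h4
      · push Not at hsome
        have := List.length_filter_eq_length_iff (p := fun a => decide (¬ Commute x a)) (l := l) |>.2
          fun u hu => by simpa using hsome u hu
        omega
    · have := List.length_filter_le (fun a => decide (¬ Commute x a)) l
      omega
  match l with
  | a :: b :: _ =>
    have h1 : ∀ z ∈ a :: b :: _, z = 1 := fun z hz => by
      have := hW.mem_center (hall z hz)
      rwa [hZ, Subgroup.mem_bot] at this
    simp [h1 a (by simp), h1 b (by simp)] at hnd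
  | [_] => simp at hlen
  | [] => simp at hlen

/-- The data used from types M(23) and M(24). -/
def HasPartnerData (D : Set G) : Prop :=
  ∃ d ∈ D, Subgroup.center (Subgroup.closure (nb D d) ⧸ Subgroup.center (Subgroup.closure (nb D d))) = ⊥ ∧
    ∃ b ∈ (QuotientGroup.mk : Subgroup.closure (nb D d) →
        Subgroup.closure (nb D d) ⧸ Subgroup.center (Subgroup.closure (nb D d))) '' inClosure (nb D d),
      pCore 2 (Subgroup.closure (nb ((QuotientGroup.mk : Subgroup.closure (nb D d) →
        Subgroup.closure (nb D d) ⧸ Subgroup.center (Subgroup.closure (nb D d))) '' inClosure (nb D d)) b)) ≤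
      Subgroup.center (Subgroup.closure (nb ((QuotientGroup.mk : Subgroup.closure (nb D d) →
        Subgroup.closure (nb D d) ⧸ Subgroup.center (Subgroup.closure (nb D d))) '' inClosure (nb D d)) b))

theorem hasPartnerData (hD : IsThreeTranspositionGroup D) (h : IsOfTypeM23 G D ∨ IsOfTypeM24 G D) :
    HasPartnerData D := by
  rcases h with h | h
  · obtain ⟨-, d, hd, c, -, -, hT, -⟩ := h
    exact ⟨d, hd, hT.1, special_of_typeM22 hT⟩
  · obtain ⟨-, d, hd, c, -, -, hT, -⟩ := h
    exact ⟨d, hd, hT.1, special_of_typeM23 (((weakTS_of_group hD).sub d).quot _) hT⟩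

theorem TClass.six_impossible (hC : TClass D) (hp : IsPrimitiveUnderConj D) (hdata : HasPartnerData D)
    {l : List G} (hl : ∀ a ∈ l, a ∈ D) (hnd : l.Nodup) (hpc : ∀ a ∈ l, ∀ b ∈ l, Commute a b)
    (hlen : l.length = 6) (hprod : l.prod = 1) : False := by
  classical
  have hW : WeakTS D := weakTS_of_group ⟨hC.ts, hC.conj, hC.gen⟩
  obtain ⟨d, hd, hZ, b, hb, h2b⟩ := hdata
  match l with
  | a :: t =>
    simp only [List.length_cons, Nat.add_right_cancel_iff] at hlen
    rw [List.nodup_cons] at hnd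
    obtain ⟨g, hg⟩ := hC.trans a (hl a (by simp)) d hd
    let φ : G ≃* G := MulAut.conj g
    have hφa : φ a = d := by rw [← hg]; rfl
    have hnb : ∀ z ∈ t, φ z ∈ nb D d := fun z hz =>
      hg ▸ hW.nb_conj g ⟨hl z (by simp [hz]), fun e => hnd.1 (e ▸ hz), hpc a (by simp) z (by simp [hz])⟩
    set X := Subgroup.closure (nb D d)
    let q : X →* X ⧸ Subgroup.center X := QuotientGroup.mk' _
    let m : List (X ⧸ Subgroup.center X) := t.attach.map fun z =>
      q ⟨φ z.1, Subgroup.subset_closure (hnb z.1 z.2)⟩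
    have hW' := (hW.sub d).quot (Subgroup.center X)
    have hne : ∃ y, y ∈ t := List.exists_mem_of_ne_nil t (by rintro rfl; simp at hlen)
    obtain ⟨y, hy⟩ := hne
    obtain ⟨h2, -⟩ := hC.pCores_central_of_primitive hp ⟨φ y, (hnb y hy).1, d, hd, (hnb y hy).2.1,
      (hnb y hy).2.2.symm⟩
    refine hW'.five_impossible hZ h2b (l := m) ?_ ?_ ?_ ?_ (by simpa [m] using hlen) ?_
    · intro z hz
      obtain ⟨⟨u, hu⟩, -, rfl⟩ := List.mem_map.1 hz
      exact ⟨_, hnb u hu, rfl⟩
    · intro z hz
      obtain ⟨⟨u, hu⟩, -, rfl⟩ := List.mem_map.1 hz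
      obtain ⟨⟨b0, hb0m⟩, hb0, rfl⟩ := hb
      obtain ⟨k, hk, hk'⟩ := hC.orb_nb hp hd (hnb u hu) (hb0 : b0 ∈ nb D d)
      refine ⟨q ⟨k, hk⟩, ?_⟩
      rw [← map_mul, ← map_inv, ← map_mul]
      exact congrArg q (Subtype.ext hk')
    · refine (List.nodup_attach.2 hnd.2).map_on ?_
      rintro ⟨u, hu⟩ - ⟨v, hv⟩ - huv
      by_contra hne'
      have huvne : φ u ≠ φ v := fun e => hne' (Subtype.ext (φ.injective e))
      have hcuv : Commute (φ u) (φ v) := (hpc u (by simp [hu]) v (by simp [hv])).map φ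
      obtain ⟨x, hx, hxu, hxv⟩ := hC.exists_moved_by_both hp hd (hnb u hu) (hnb v hv) hcuv
      refine huvne (hW.eq_of_commute_mul hx.1 (hnb u hu).1 (hnb v hv).1 hcuv hxu hxv ?_)
      have h1 : (⟨φ u, Subgroup.subset_closure (hnb u hu)⟩ : X)⁻¹ *
          ⟨φ v, Subgroup.subset_closure (hnb v hv)⟩ ∈ Subgroup.center X := QuotientGroup.eq.1 huv
      have h3 := congrArg Subtype.val
        (Subgroup.mem_center_iff.1 h1 ⟨x, Subgroup.subset_closure hx⟩)
      simp only [Subgroup.coe_mul, InvMemClass.coe_inv, hW.inv (hnb u hu).1] at h3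
      exact h3
    · intro z hz z' hz'
      obtain ⟨⟨u, hu⟩, -, rfl⟩ := List.mem_map.1 hz
      obtain ⟨⟨v, hv⟩, -, rfl⟩ := List.mem_map.1 hz'
      exact Commute.map (Subtype.ext ((hpc u (by simp [hu]) v (by simp [hv])).map φ).eq :
        Commute (⟨φ u, Subgroup.subset_closure (hnb u hu)⟩ : X)
          ⟨φ v, Subgroup.subset_closure (hnb v hv)⟩) q
    · let m0 : List X := t.attach.map fun z => ⟨φ z.1, Subgroup.subset_closure (hnb z.1 z.2)⟩
      have hm : m = m0.map q := by simp [m, m0, List.map_map, Function.comp_def]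
      have hm0 : (m0.prod : G) = φ t.prod := by
        rw [← Subgroup.coe_subtype, map_list_prod, map_list_prod, List.map_map]
        congr 1
        conv_rhs => rw [← List.attach_map_subtype_val t, List.map_map]
        rfl
      rw [List.prod_cons, mul_eq_one_iff_inv_eq, hW.inv (hl a (by simp))] at hprod
      rw [hm, ← map_list_prod]
      refine (QuotientGroup.eq_one_iff _).2 (Subgroup.mem_center_iff.2 fun u => Subtype.ext ?_)
      show (u : G) * (m0.prod : G) = (m0.prod : G) * u
      rw [hm0, ← hprod, hφa]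
      exact commute_closure_nb u.2
  | [] => simp at hlen

theorem TClass.pair_unique (hC : TClass D) (h2 : pCore 2 G ≤ Subgroup.center G) {a b c e : G}
    (ha : a ∈ D) (hb : b ∈ D) (hc : c ∈ D) (he : e ∈ D) (hab : a ≠ b) (hce : c ≠ e)
    (cab : Commute a b) (cce : Commute c e) (h : a * b = c * e) :
    (c = a ∧ e = b) ∨ (c = b ∧ e = a) := by
  have hW : WeakTS D := weakTS_of_group ⟨hC.ts, hC.conj, hC.gen⟩
  by_cases h1 : c = a
  · subst h1; exact Or.inl ⟨rfl, (mul_left_cancel h).symm⟩
  by_cases h1' : c = b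
  · subst h1'; rw [cab.eq] at h; exact Or.inr ⟨rfl, (mul_left_cancel h).symm⟩
  by_cases h2a : e = a
  · subst h2a; rw [cce.eq] at h; exact absurd (mul_left_cancel h).symm h1'
  by_cases h2b : e = b
  · subst h2b; exact absurd (mul_right_cancel h).symm h1
  exfalso
  have hcj : ∀ z, (z = c ∨ z = e) → Commute z a ∧ Commute z b := by
    intro z hz
    have hzD : z ∈ D := by rcases hz with rfl | rfl <;> assumption
    have hzc : Commute z (c * e) := by
      rcases hz with rfl | rfl
      · exact (Commute.refl _).mul_right cce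
      · exact cce.symm.mul_right (Commute.refl _)
    have := hW.commute_all_of_short hzD (l := [a, b]) (by simp [ha, hb]) (by simp [hab])
      (by simp [cab, cab.symm]) (by simpa [h] using hzc) (by simp)
    simpa using this
  obtain ⟨cca, ccb⟩ := hcj c (Or.inl rfl)
  obtain ⟨cea, ceb⟩ := hcj e (Or.inr rfl)
  refine hC.not_mem_center ha (hW.four_central h2 (l := [a, b, e, c]) (by simp [ha, hb, hc, he])
    (by simp [hab, Ne.symm h2a, Ne.symm h1, Ne.symm h2b, Ne.symm h1', Ne.symm hce])
    (by simp [cab, cab.symm, cca, cca.symm, ccb, ccb.symm, cea, cea.symm, ceb, ceb.symm, cce, cce.symm])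
    rfl ?_ a (by simp))
  have : a * (b * (e * c)) = 1 := by
    rw [← mul_assoc, h, mul_assoc, hW.mul_mul_self he, hW.sq c hc]
  simp [this]

theorem TClass.product_unique (hC : TClass D) (hp : IsPrimitiveUnderConj D) (hdata : HasPartnerData D)
    {m : ℕ} (hm : m ≤ 3) {j : G} {l l' : List G}
    (hl : l.Nodup ∧ l.length = m ∧ (∀ a ∈ l, a ∈ D) ∧ (∀ a ∈ l, ∀ b ∈ l, Commute a b) ∧ l.prod = j)
    (hl' : l'.Nodup ∧ l'.length = m ∧ (∀ a ∈ l', a ∈ D) ∧ (∀ a ∈ l', ∀ b ∈ l', Commute a b) ∧
      l'.prod = j) : ∀ x : G, x ∈ l ↔ x ∈ l' := by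
  classical
  have hW : WeakTS D := weakTS_of_group ⟨hC.ts, hC.conj, hC.gen⟩
  obtain ⟨hn, hlen, hD, hc, hj⟩ := hl
  obtain ⟨hn', hlen', hD', hc', hj'⟩ := hl'
  interval_cases m
  · simp [List.length_eq_zero_iff.1 hlen, List.length_eq_zero_iff.1 hlen']
  · obtain ⟨a, rfl⟩ := List.length_eq_one_iff.1 hlen
    obtain ⟨b, rfl⟩ := List.length_eq_one_iff.1 hlen'
    simp at hj hj'
    simp [hj, hj']
  · obtain ⟨a, b, rfl⟩ := List.length_eq_two.1 hlen
    obtain ⟨c, e, rfl⟩ := List.length_eq_two.1 hlen'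
    simp at hn hn' hD hD' hj hj'
    have cab : Commute a b := hc a (by simp) b (by simp)
    obtain ⟨h2, -⟩ := hC.pCores_central_of_primitive hp ⟨a, hD.1, b, hD.2, hn, cab⟩
    rcases hC.pair_unique h2 hD.1 hD.2 hD'.1 hD'.2 hn hn' cab (hc' c (by simp) e (by simp))
      (hj.trans hj'.symm) with ⟨rfl, rfl⟩ | ⟨rfl, rfl⟩
    · simp
    · intro x; simp [or_comm]
  · obtain ⟨a, b, e, rfl⟩ := List.length_eq_three.1 hlen
    have hab : a ≠ b := by simp at hn; exact hn.1.1
    obtain ⟨h2, -⟩ := hC.pCores_central_of_primitive hp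
      ⟨a, hD a (by simp), b, hD b (by simp), hab, hc a (by simp) b (by simp)⟩
    by_cases hshare : ∃ z, z ∈ [a, b, e] ∧ z ∈ l'
    · obtain ⟨z, hz, hz'⟩ := hshare
      have hp1 : (z :: [a, b, e].erase z).Perm [a, b, e] := (List.perm_cons_erase hz).symm
      have hp2 : (z :: l'.erase z).Perm l' := (List.perm_cons_erase hz').symm
      have e1 := hp1.prod_eq' (List.pairwise_of_forall_mem_list fun u hu v hv =>
        hc u (hp1.subset hu) v (hp1.subset hv))
      have e2 := hp2.prod_eq' (List.pairwise_of_forall_mem_list fun u hu v hv =>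
        hc' u (hp2.subset hu) v (hp2.subset hv))
      rw [List.prod_cons, hj] at e1
      rw [List.prod_cons, hj', ← e1] at e2
      obtain ⟨p, r, hpr⟩ := List.length_eq_two.1 (show ([a, b, e].erase z).length = 2 by
        rw [List.length_erase_of_mem hz]; rfl)
      obtain ⟨p', r', hpr'⟩ := List.length_eq_two.1 (show (l'.erase z).length = 2 by
        rw [List.length_erase_of_mem hz', hlen'])
      rw [hpr] at e2 hp1
      rw [hpr'] at e2 hp2
      simp only [List.prod_cons, List.prod_nil, mul_one] at e2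
      have hne : p ≠ r := by have := hp1.nodup_iff.2 hn; simp at this; exact this.2
      have hne' : p' ≠ r' := by have := hp2.nodup_iff.2 hn'; simp at this; exact this.2
      have hm1 : ∀ u ∈ [z, p, r], u ∈ [a, b, e] := fun u hu => hp1.subset hu
      have hm2 : ∀ u ∈ [z, p', r'], u ∈ l' := fun u hu => hp2.subset hu
      intro x
      rw [← hp1.mem_iff, ← hp2.mem_iff]
      rcases hC.pair_unique h2 (hD p (hm1 p (by simp))) (hD r (hm1 r (by simp)))
        (hD' p' (hm2 p' (by simp))) (hD' r' (hm2 r' (by simp))) hne hne'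
        (hc p (hm1 p (by simp)) r (hm1 r (by simp)))
        (hc' p' (hm2 p' (by simp)) r' (hm2 r' (by simp))) (mul_left_cancel e2).symm with
        ⟨rfl, rfl⟩ | ⟨rfl, rfl⟩
      · rfl
      · simp [or_comm]
    · push Not at hshare
      exfalso
      have hjj : j * j = 1 := by
        rw [← hj]
        have c1 : Commute a (b * e) := (hc a (by simp) b (by simp)).mul_right (hc a (by simp) e (by simp))
        have c2 : Commute b e := hc b (by simp) e (by simp)
        simp only [List.prod_cons, List.prod_nil, mul_one]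
        rw [← pow_two, c1.mul_pow, c2.mul_pow, pow_two, pow_two, pow_two, hW.sq a (hD a (by simp)),
          hW.sq b (hD b (by simp)), hW.sq e (hD e (by simp)), one_mul, one_mul]
      have hcross : ∀ u ∈ l', ∀ v ∈ [a, b, e], Commute u v := fun u hu v hv =>
        hW.commute_all_of_short (hD' u hu) hD hn hc (by
          rw [hj, ← hj']
          exact Commute.list_prod_right _ _ fun w hw => hc' u hu w hw) (by simp) v hv
      refine hC.six_impossible hp hdata (l := [a, b, e] ++ l') ?_ ?_ ?_ (by simp [hlen']) ?_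
      · intro u hu
        rcases List.mem_append.1 hu with h | h
        exacts [hD u h, hD' u h]
      · exact List.nodup_append.2 ⟨hn, hn', fun u hu v hv huv => hshare u hu (huv ▸ hv)⟩
      · intro u hu v hv
        rcases List.mem_append.1 hu with h | h <;> rcases List.mem_append.1 hv with h' | h'
        exacts [hc u h v h', (hcross v h' u h).symm, hcross u h v h', hc' u h v h']
      · rw [List.prod_append, hj, hj', hjj]

end CfsgLib.ThreeTransp
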