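import Cfsg.Agent.Lib.ThreeTransp.SixLines
import Cfsg.Agent.Lib.ThreeTransp.ProductUnique

/-!
In a group of type M(22) a product of three commuting transpositions comes from exactly two triples.
-/

set_option autoImplicit false

namespace CfsgLib.ThreeTransp

open Cfsg CfsgLib.Involutions CfsgLib.Classical.Unitary

variable {G : Type*} [Group G] {D : Set G}

theorem WeakTS.map {H : Type*} [Group H] (hW : WeakTS D) (e : G ≃* H) : WeakTS (e '' D) := by
  refine ⟨?_, ?_, ?_, ?_⟩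
  · rintro _ ⟨a, ha, rfl⟩; rw [← map_mul, hW.sq a ha, map_one]
  · rintro _ ⟨a, ha, rfl⟩ _ ⟨b, hb, rfl⟩
    rcases hW.prod a ha b hb with h | h
    · exact Or.inl (by rw [← map_mul, ← map_pow, h, map_one])
    · exact Or.inr (by rw [← map_mul, ← map_pow, h, map_one])
  · rintro g _ ⟨a, ha, rfl⟩
    exact ⟨e.symm g * a * (e.symm g)⁻¹, hW.conj _ a ha, by simp⟩
  · have := MonoidHom.map_closure e.toMonoidHom D
    rw [hW.gen, ← MonoidHom.range_eq_map, MonoidHom.range_eq_top.2 e.surjective] at this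
    exact this.symm

theorem lineData_of_equiv {F : Type} [Field F] [Fintype F] (hF : Fintype.card F = 4) (hW : WeakTS D)
    (φ : G ≃* PSU 6 F 2) : LineData D := by
  have hc : Nat.card F = 2 ^ 2 := by rw [Nat.card_eq_fintype_card, hF]; norm_num
  obtain ⟨σ, hσ⟩ := exists_uFrob hc
  have hL := USix.lineData hc hσ (hW.map φ)
  intro u hu v hv hu1 hv1 huv hc'
  obtain ⟨e, f, g, hm, hn, hp, hprod, ⟨y, hy, z, hz, c1, c2, c3, c4, c5⟩, hdi⟩ :=
    hL (φ u) ⟨u, hu, rfl⟩ (φ v) ⟨v, hv, rfl⟩ (fun h => hu1 (φ.map_eq_one_iff.1 h))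
      (fun h => hv1 (φ.map_eq_one_iff.1 h)) (fun h => huv (φ.injective h)) (hc'.map φ)
  have hD : ∀ w, w ∈ φ '' D → φ.symm w ∈ D := by rintro _ ⟨x, hx, rfl⟩; simpa using hx
  have hcc : ∀ a b, Commute a b → Commute (φ.symm a) (φ.symm b) := fun a b h => h.map φ.symm
  have hl : [u, v, φ.symm e, φ.symm f, φ.symm g] = [φ u, φ v, e, f, g].map φ.symm := by simp
  refine ⟨φ.symm e, φ.symm f, φ.symm g, ?_, ?_, ?_, ?_, ?_, ?_⟩
  · rw [hl]; intro w hw
    obtain ⟨x, hx, rfl⟩ := List.mem_map.1 hw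
    exact ⟨hD x (hm x hx).1, fun h => (hm x hx).2 (φ.symm.map_eq_one_iff.1 h)⟩
  · rw [hl]; exact hn.map φ.symm.injective
  · rw [hl]; intro a ha b hb
    obtain ⟨x, hx, rfl⟩ := List.mem_map.1 ha
    obtain ⟨x', hx', rfl⟩ := List.mem_map.1 hb
    exact hcc _ _ (hp x hx x' hx')
  · rw [hl, ← map_list_prod, hprod, map_one]
  · refine ⟨_, hD y hy, _, hD z hz, ?_, ?_, ?_, ?_, fun h => c5 ?_⟩
    · simpa using hcc _ _ c1
    · simpa using hcc _ _ c2
    · simpa using hcc _ _ c3
    · simpa using hcc _ _ c4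
    · simpa using h.map φ
  · intro w hw hw1 hwu hwv cu cv
    rcases hdi (φ w) ⟨w, hw, rfl⟩ (fun h => hw1 (φ.map_eq_one_iff.1 h))
      (fun h => hwu (φ.injective h)) (fun h => hwv (φ.injective h)) (cu.map φ) (cv.map φ) with h | h
    · left
      have := List.mem_map_of_mem (f := φ.symm) h
      simpa using this
    · right
      intro Y hY Z hZ a1 a2 a3 b1 b2 b3
      have := h (φ Y) ⟨Y, hY, rfl⟩ (φ Z) ⟨Z, hZ, rfl⟩ (a1.map φ) (a2.map φ) (a3.map φ) (b1.map φ)
        (b2.map φ) (b3.map φ)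
      simpa using this.map φ.symm

section Hexad

variable [Finite G]

/-- The conditions on a triple of factors. -/
def IsTriple (D : Set G) (j : G) (l : List G) : Prop :=
  l.Nodup ∧ l.length = 3 ∧ (∀ a ∈ l, a ∈ D) ∧ (∀ a ∈ l, ∀ b ∈ l, Commute a b) ∧ l.prod = j

theorem IsTriple.map {j : G} {l : List G} (h : IsTriple D j l) (φ : G ≃* G)
    (hφ : ∀ a ∈ D, φ a ∈ D) : IsTriple D (φ j) (l.map φ) := by
  obtain ⟨hn, hlen, hD, hc, hj⟩ := h
  refine ⟨hn.map φ.injective, by simp [hlen], fun a ha => ?_, fun a ha b hb => ?_,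
    by rw [← map_list_prod, hj]⟩
  · obtain ⟨x, hx, rfl⟩ := List.mem_map.1 ha; exact hφ x (hD x hx)
  · obtain ⟨x, hx, rfl⟩ := List.mem_map.1 ha
    obtain ⟨y, hy, rfl⟩ := List.mem_map.1 hb
    exact (hc x hx y hy).map φ

/-- Triples with the same product and a common member agree. -/
theorem TClass.triple_shared (hC : TClass D) (h2 : pCore 2 G ≤ Subgroup.center G) {j : G}
    {l l' : List G} (hl : IsTriple D j l) (hl' : IsTriple D j l') {z : G} (hz : z ∈ l) (hz' : z ∈ l') :
    ∀ x, x ∈ l ↔ x ∈ l' := by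
  classical
  obtain ⟨hn, hlen, hD, hc, hj⟩ := hl
  obtain ⟨hn', hlen', hD', hc', hj'⟩ := hl'
  have hp1 : (z :: l.erase z).Perm l := (List.perm_cons_erase hz).symm
  have hp2 : (z :: l'.erase z).Perm l' := (List.perm_cons_erase hz').symm
  have e1 := hp1.prod_eq' (List.pairwise_of_forall_mem_list fun u hu v hv =>
    hc u (hp1.subset hu) v (hp1.subset hv))
  have e2 := hp2.prod_eq' (List.pairwise_of_forall_mem_list fun u hu v hv =>
    hc' u (hp2.subset hu) v (hp2.subset hv))
  rw [List.prod_cons, hj] at e1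
  rw [List.prod_cons, hj', ← e1] at e2
  obtain ⟨p, r, hpr⟩ := List.length_eq_two.1 (show (l.erase z).length = 2 by
    rw [List.length_erase_of_mem hz, hlen])
  obtain ⟨p', r', hpr'⟩ := List.length_eq_two.1 (show (l'.erase z).length = 2 by
    rw [List.length_erase_of_mem hz', hlen'])
  rw [hpr] at e2 hp1
  rw [hpr'] at e2 hp2
  simp only [List.prod_cons, List.prod_nil, mul_one] at e2
  have hne : p ≠ r := by have := hp1.nodup_iff.2 hn; simp at this; exact this.2
  have hne' : p' ≠ r' := by have := hp2.nodup_iff.2 hn'; simp at this; exact this.2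
  have hm1 : ∀ u ∈ [z, p, r], u ∈ l := fun u hu => hp1.subset hu
  have hm2 : ∀ u ∈ [z, p', r'], u ∈ l' := fun u hu => hp2.subset hu
  intro x
  rw [← hp1.mem_iff, ← hp2.mem_iff]
  rcases hC.pair_unique h2 (hD p (hm1 p (by simp))) (hD r (hm1 r (by simp)))
    (hD' p' (hm2 p' (by simp))) (hD' r' (hm2 r' (by simp))) hne hne'
    (hc p (hm1 p (by simp)) r (hm1 r (by simp)))
    (hc' p' (hm2 p' (by simp)) r' (hm2 r' (by simp))) (mul_left_cancel e2).symm with
    ⟨rfl, rfl⟩ | ⟨rfl, rfl⟩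
  · rfl
  · simp [or_comm]

/-- A member commuting with two of five with product one commutes with all. -/
theorem WeakTS.commute_five (hW : WeakTS D) {l : List G} (hl : ∀ a ∈ l, a ∈ D) (hn : l.Nodup)
    (hp : ∀ a ∈ l, ∀ b ∈ l, Commute a b) (hlen : l.length = 5) (hprod : l.prod = 1) {x a b : G}
    (hx : x ∈ D) (ha : a ∈ l) (hb : b ∈ l) (hab : a ≠ b) (ca : Commute x a) (cb : Commute x b) :
    ∀ c ∈ l, Commute x c := by
  classical
  set p : G → Bool := fun a => decide (¬ Commute x a)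
  have hle : (l.filter p).length ≤ 3 := by
    have hsub : (l.filter p) ⊆ (l.erase a).erase b := fun u hu => by
      rw [List.mem_filter] at hu
      have hu2 : ¬ Commute x u := by simpa [p] using hu.2
      exact (List.mem_erase_of_ne fun e => hu2 (by subst e; exact cb)).2
        ((List.mem_erase_of_ne fun e => hu2 (by subst e; exact ca)).2 hu.1)
    have := (List.subperm_of_subset (hn.filter _) hsub).length_le
    rw [List.length_erase_of_mem ((List.mem_erase_of_ne hab.symm).2 hb), List.length_erase_of_mem ha,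
      hlen] at this
    omega
  rcases hW.count_moved hx hl hn hp (by rw [hprod]; exact Commute.one_right x) with h0 | ⟨-, h4⟩ | h6
  · exact h0
  · change (l.filter p).length = 4 at h4; omega
  · change 6 ≤ (l.filter p).length at h6; omega

set_option maxHeartbeats 1000000 in
theorem TClass.two_triples_special (hC : TClass D) (hp : IsPrimitiveUnderConj D) {d₀ : G}
    (hd₀ : d₀ ∈ D) (hH : pCore 2 (Subgroup.closure (nb D d₀)) ≤ Subgroup.center (Subgroup.closure (nb D d₀)))
    (hZG : Subgroup.center G = ⊥) {d : G} (hd : d ∈ D)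
    (hL : LineData ((QuotientGroup.mk : Subgroup.closure (nb D d) →
      Subgroup.closure (nb D d) ⧸ Subgroup.center (Subgroup.closure (nb D d))) '' inClosure (nb D d)))
    {b c : G} (hb : b ∈ nb D d) (hc : c ∈ nb D d) (hbc : b ≠ c) (cbc : Commute b c) :
    ∃ l₂ : List G, IsTriple D (d * (b * c)) l₂ ∧ ¬ (∀ x, x ∈ [d, b, c] ↔ x ∈ l₂) ∧
      ∀ l, IsTriple D (d * (b * c)) l → (∀ x, x ∈ l ↔ x ∈ [d, b, c]) ∨ ∀ x, x ∈ l ↔ x ∈ l₂ := by
  classical
  have hW : WeakTS D := weakTS_of_group ⟨hC.ts, hC.conj, hC.gen⟩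
  obtain ⟨h2, -⟩ := hC.pCores_central_of_primitive hp ⟨b, hb.1, d, hd, hb.2.1, hb.2.2.symm⟩
  set X := Subgroup.closure (nb D d)
  let q : X →* X ⧸ Subgroup.center X := QuotientGroup.mk' _
  let D' : Set (X ⧸ Subgroup.center X) := q '' inClosure (nb D d)
  have hW' : WeakTS D' := (hW.sub d).quot _
  let ι : ∀ x, x ∈ nb D d → X := fun x hx => ⟨x, Subgroup.subset_closure hx⟩
  have hne1 : ∀ {x} (hx : x ∈ nb D d), q (ι x hx) ≠ 1 := fun {x} hx h => by
    obtain ⟨z, hz, hn⟩ := hC.not_central_nb h2 hd hx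
    exact hn (congrArg Subtype.val
      (Subgroup.mem_center_iff.1 ((QuotientGroup.eq_one_iff _).1 h) (ι z hz))).symm
  have hinj : ∀ {x y} (hx : x ∈ nb D d) (hy : y ∈ nb D d), q (ι x hx) = q (ι y hy) → x = y := by
    intro x y hx hy h
    have hz := QuotientGroup.eq.1 h
    have hcen : ∀ w (hw : w ∈ nb D d), Commute w (x * y) := fun w hw => by
      have h3 := congrArg Subtype.val (Subgroup.mem_center_iff.1 hz (ι w hw))
      simp only [Subgroup.coe_mul, InvMemClass.coe_inv, ι, hW.inv hx.1] at h3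
      exact h3
    have hxy : Commute x y := by
      have h4 : x * (x * y) = x * y * x := (hcen x hx).eq
      rw [hW.mul_mul_self hx.1] at h4
      calc x * y = x * (x * y * x) := by rw [← h4]
        _ = y * x := by rw [mul_assoc x y x, hW.mul_mul_self hx.1]
    obtain ⟨w, hw, h5, h6⟩ := hC.exists_moved_by_both hp hd hx hy hxy
    exact hW.eq_of_commute_mul hw.1 hx.1 hy.1 hxy h5 h6 (hcen w hw)
  have hcomm : ∀ {x y} (hx : x ∈ nb D d) (hy : y ∈ nb D d),
      Commute (q (ι x hx)) (q (ι y hy)) → Commute x y := by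
    intro x y hx hy h
    by_contra hn
    have h3 : (ι x hx * ι y hy) ^ 3 = 1 :=
      Subtype.ext ((hW.prod x hx.1 y hy.1).resolve_left fun h2' => hn <| by
        rw [pow_two] at h2'
        have h1 := inv_eq_of_mul_eq_one_right h2'
        rw [_root_.mul_inv_rev, hW.inv hx.1, hW.inv hy.1] at h1
        exact h1.symm)
    have h2' : (q (ι x hx) * q (ι y hy)) ^ 2 = 1 := by
      rw [h.mul_pow, ← map_pow, ← map_pow,
        show ι x hx ^ 2 = 1 from Subtype.ext (by simpa [pow_two] using hW.sq x hx.1),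
        show ι y hy ^ 2 = 1 from Subtype.ext (by simpa [pow_two] using hW.sq y hy.1), map_one, one_mul]
    have h31 : q (ι x hx) * q (ι y hy) = 1 := by
      have := congrArg q h3
      rwa [map_pow, map_mul, map_one, pow_succ, h2', one_mul] at this
    have : q (ι x hx) = q (ι y hy) := by
      rw [mul_eq_one_iff_eq_inv] at h31
      rw [h31, ← map_inv]
      exact congrArg q (Subtype.ext (hW.inv hy.1))
    exact hn (hinj hx hy this ▸ Commute.refl x)
  have hlift : ∀ {t}, t ∈ D' → ∃ x, ∃ hx : x ∈ nb D d, t = q (ι x hx) := by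
    rintro _ ⟨x, hx, rfl⟩; exact ⟨x, hx, rfl⟩
  have himg : ∀ {x y : G} (hx : x ∈ nb D d) (hy : y ∈ nb D d), Commute x y →
      Commute (q (ι x hx)) (q (ι y hy)) := fun hx hy h =>
    (show Commute (ι _ hx) (ι _ hy) from Subtype.ext h.eq).map q
  -- the line through `b` and `c`
  obtain ⟨E₀, F₀, G₀, hm, hn, hpw, hprod, ⟨Y, hY, Z, hZ, yb, yc, zb, zc, hyz⟩, hdi⟩ :=
    hL (q (ι b hb)) ⟨ι b hb, hb, rfl⟩ (q (ι c hc)) ⟨ι c hc, hc, rfl⟩ (hne1 hb) (hne1 hc) (fun h => hbc (hinj hb hc h))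
      (himg hb hc cbc)
  obtain ⟨e, he, rfl⟩ := hlift (hm E₀ (by simp)).1
  obtain ⟨f, hf, rfl⟩ := hlift (hm F₀ (by simp)).1
  obtain ⟨g, hg, rfl⟩ := hlift (hm G₀ (by simp)).1
  obtain ⟨y, hy, rfl⟩ := hlift hY
  obtain ⟨z, hz, rfl⟩ := hlift hZ
  have hyz' : ¬ Commute y z := fun h => hyz (himg hy hz h)
  have h5mem : ∀ x ∈ [b, c, e, f, g], x ∈ nb D d := by simp [hb, hc, he, hf, hg]
  have h5q : ∀ x (hx : x ∈ [b, c, e, f, g]), q (ι x (h5mem x hx)) ∈
      [q (ι b hb), q (ι c hc), q (ι e he), q (ι f hf), q (ι g hg)] := by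
    intro x hx
    simp only [List.mem_cons, List.not_mem_nil, or_false] at hx
    rcases hx with rfl | rfl | rfl | rfl | rfl <;> simp
  have h5c : ∀ x ∈ [b, c, e, f, g], ∀ x' ∈ [b, c, e, f, g], Commute x x' := fun x hx x' hx' =>
    hcomm (h5mem x hx) (h5mem x' hx') (hpw _ (h5q x hx) _ (h5q x' hx'))
  have h5n : [b, c, e, f, g].Nodup := by
    simp only [List.nodup_cons, List.mem_cons, List.not_mem_nil, or_false, not_or,
      List.nodup_nil, and_true, not_false_eq_true] at hn ⊢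
    obtain ⟨⟨n1, n2, n3, n4⟩, ⟨n5, n6, n7⟩, ⟨n8, n9⟩, n10⟩ := hn
    refine ⟨⟨?_, ?_, ?_, ?_⟩, ⟨?_, ?_, ?_⟩, ⟨?_, ?_⟩, ?_⟩ <;> intro h <;> subst h
    exacts [n1 rfl, n2 rfl, n3 rfl, n4 rfl, n5 rfl, n6 rfl, n7 rfl, n8 rfl, n9 rfl, n10 rfl]
  have hyz5 : ∀ x ∈ [b, c, e, f, g], Commute y x ∧ Commute z x := fun x hx =>
    ⟨hcomm hy (h5mem x hx) (hW'.commute_five (fun a ha => (hm a ha).1) hn hpw rfl hprod
      ⟨ι y hy, hy, rfl⟩ (a := q (ι b hb)) (b := q (ι c hc)) (by simp) (by simp)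
      (fun h => hbc (hinj hb hc h)) yb yc _ (h5q x hx)),
    hcomm hz (h5mem x hx) (hW'.commute_five (fun a ha => (hm a ha).1) hn hpw rfl hprod
      ⟨ι z hz, hz, rfl⟩ (a := q (ι b hb)) (b := q (ι c hc)) (by simp) (by simp)
      (fun h => hbc (hinj hb hc h)) zb zc _ (h5q x hx))⟩
  have hsix : ∀ x ∈ [d, b, c, e, f, g], x ∈ D := by
    intro x hx
    rcases List.mem_cons.1 hx with e' | hx
    exacts [e' ▸ hd, (h5mem x hx).1]
  have hsixc : ∀ x ∈ [d, b, c, e, f, g], ∀ x' ∈ [d, b, c, e, f, g], Commute x x' := by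
    intro x hx x' hx'
    rcases List.mem_cons.1 hx with e' | hx <;> rcases List.mem_cons.1 hx' with e'' | hx'
    · rw [e', e'']
    · rw [e']; exact (h5mem x' hx').2.2
    · rw [e'']; exact (h5mem x hx).2.2.symm
    · exact h5c x hx x' hx'
  have hsixn : [d, b, c, e, f, g].Nodup := by
    rw [List.nodup_cons]
    exact ⟨fun h => (h5mem d h).2.1 rfl, h5n⟩
  -- the product of the six
  set P := d * (b * (c * (e * (f * g)))) with hP
  have hPd : ∀ w ∈ D, Commute d w → Commute P w := by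
    intro w hw hdw
    by_cases hwd : w = d
    · subst hwd
      exact Commute.symm ((Commute.refl w).mul_right (hb.2.2.mul_right (hc.2.2.mul_right
        (he.2.2.mul_right (hf.2.2.mul_right hg.2.2)))))
    have hwn : w ∈ nb D d := ⟨hw, hwd, hdw⟩
    have hz5 : ι b hb * (ι c hc * (ι e he * (ι f hf * ι g hg))) ∈ Subgroup.center X := by
      refine (QuotientGroup.eq_one_iff _).1 ?_
      show q _ = 1
      simp only [map_mul]
      simpa using hprod
    have h7 := congrArg Subtype.val (Subgroup.mem_center_iff.1 hz5 (ι w hwn))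
    simp only [Subgroup.coe_mul, ι] at h7
    exact hdw.mul_left (Commute.symm h7)
  have hPb : ∀ w ∈ D, Commute b w → Commute P w := by
    obtain ⟨k, hk⟩ := hC.trans b hb.1 d hd
    let φ : G ≃* G := MulAut.conj k
    have hφb : φ b = d := by rw [← hk]; rfl
    have hφn : ∀ {x}, x ∈ D → x ≠ b → Commute b x → φ x ∈ nb D d := fun hx hne hcb =>
      hk ▸ hW.nb_conj k ⟨hx, hne, hcb⟩
    have hbd : b ≠ d := hb.2.1
    have hcb' : c ≠ b := hbc.symm
    have h5n' := h5n
    simp only [List.nodup_cons, List.mem_cons, List.not_mem_nil, or_false, not_or,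
      List.nodup_nil, and_true, not_false_eq_true] at h5n'
    obtain ⟨⟨-, nbe, nbf, nbg⟩, ⟨nce, ncf, ncg⟩, -, -⟩ := h5n'
    have Dd := hφn hd hbd.symm hb.2.2.symm
    have Dc := hφn hc.1 hcb' cbc
    obtain ⟨E₁, F₁, G₁, hm1, hn1, hpw1, hprod1, -, hdi1⟩ :=
      hL (q (ι _ Dd)) ⟨ι _ Dd, Dd, rfl⟩ (q (ι _ Dc)) ⟨ι _ Dc, Dc, rfl⟩ (hne1 Dd) (hne1 Dc)
        (fun h => hc.2.1 (φ.injective (hinj Dd Dc h)).symm) (himg Dd Dc (hc.2.2.map φ))
    have hyb : y ≠ b := fun h => hyz' (h ▸ ((hyz5 b (by simp)).2).symm)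
    have hzb : z ≠ b := fun h => hyz' (h ▸ (hyz5 b (by simp)).1)
    have Dy := hφn hy.1 hyb (hyz5 b (by simp)).1.symm
    have Dz := hφn hz.1 hzb (hyz5 b (by simp)).2.symm
    have hon : ∀ {x}, x ∈ [b, c, e, f, g] → (hxb : x ≠ b) → x ≠ c → ∃ hx : φ x ∈ nb D d,
        q (ι _ hx) ∈ [E₁, F₁, G₁] := by
      intro x hx hxb hxc
      have hxn := h5mem x hx
      have Dx := hφn hxn.1 hxb (h5c b (by simp) x hx)
      refine ⟨Dx, ?_⟩
      rcases hdi1 (q (ι _ Dx)) ⟨ι _ Dx, Dx, rfl⟩ (hne1 Dx)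
        (fun h => hxn.2.1 (φ.injective (hinj Dx Dd h))) (fun h => hxc (φ.injective (hinj Dx Dc h)))
        (himg Dx Dd (hxn.2.2.symm.map φ)) (himg Dx Dc ((h5c x hx c (by simp)).map φ)) with h | h
      · exact h
      · exfalso
        have := h (q (ι _ Dy)) ⟨ι _ Dy, Dy, rfl⟩ (q (ι _ Dz)) ⟨ι _ Dz, Dz, rfl⟩ (himg Dy Dd (hy.2.2.symm.map φ))
          (himg Dy Dc ((hyz5 c (by simp)).1.map φ)) (himg Dy Dx ((hyz5 x hx).1.map φ))
          (himg Dz Dd (hz.2.2.symm.map φ)) (himg Dz Dc ((hyz5 c (by simp)).2.map φ))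
          (himg Dz Dx ((hyz5 x hx).2.map φ))
        exact hyz' (by simpa using (hcomm Dy Dz this).map φ.symm)
    obtain ⟨De, me⟩ := hon (x := e) (by simp) (Ne.symm nbe) (Ne.symm nce)
    obtain ⟨Df, mf⟩ := hon (x := f) (by simp) (Ne.symm nbf) (Ne.symm ncf)
    obtain ⟨Dg, mg⟩ := hon (x := g) (by simp) (Ne.symm nbg) (Ne.symm ncg)
    set l3 := [q (ι _ De), q (ι _ Df), q (ι _ Dg)]
    have hl3n : l3.Nodup := by
      have h3 : [e, f, g].Nodup := (h5n.of_cons).of_cons
      simp only [l3, List.nodup_cons, List.mem_cons, List.not_mem_nil, or_false, not_or,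
        List.nodup_nil, and_true, not_false_eq_true] at h3 ⊢
      exact ⟨⟨fun h => h3.1.1 (φ.injective (hinj De Df h)), fun h => h3.1.2 (φ.injective (hinj De Dg h))⟩,
        fun h => h3.2 (φ.injective (hinj Df Dg h))⟩
    have hperm : l3.Perm [E₁, F₁, G₁] := by
      refine (List.subperm_of_subset hl3n ?_).perm_of_length_le (by simp [l3])
      intro u hu
      simp only [l3, List.mem_cons, List.not_mem_nil, or_false] at hu
      rcases hu with rfl | rfl | rfl <;> assumption
    have hp5 : ([q (ι _ Dd), q (ι _ Dc)] ++ [E₁, F₁, G₁]).Perm ([q (ι _ Dd), q (ι _ Dc)] ++ l3) :=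
      hperm.symm.append_left _
    have hpr : (q (ι _ Dd) * (q (ι _ Dc) * (q (ι _ De) * (q (ι _ Df) * q (ι _ Dg))))) = 1 := by
      have := hp5.prod_eq' (List.pairwise_of_forall_mem_list fun u hu v hv => hpw1 u hu v hv)
      simp only [List.cons_append, List.nil_append, l3] at this
      rw [hprod1] at this
      simpa using this.symm
    intro w hw hbw
    by_cases hwb : w = b
    · subst hwb
      exact Commute.symm (hb.2.2.symm.mul_right ((Commute.refl w).mul_right
        (cbc.mul_right ((h5c w (by simp) e (by simp)).mul_right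
          ((h5c w (by simp) f (by simp)).mul_right (h5c w (by simp) g (by simp)))))))
    have Dw := hφn hw hwb hbw
    have hz5 : ι _ Dd * (ι _ Dc * (ι _ De * (ι _ Df * ι _ Dg))) ∈ Subgroup.center X := by
      refine (QuotientGroup.eq_one_iff _).1 ?_
      show q _ = 1
      simp only [map_mul]
      exact hpr
    have h7 := congrArg Subtype.val (Subgroup.mem_center_iff.1 hz5 (ι _ Dw))
    simp only [Subgroup.coe_mul, ι] at h7
    rw [← map_mul, ← map_mul, ← map_mul, ← map_mul, ← map_mul, ← map_mul] at h7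
    have h8 : Commute (d * (c * (e * (f * g)))) w := (φ.injective h7).symm
    have hPe : P = b * (d * (c * (e * (f * g)))) := by
      rw [hP, ← mul_assoc d b, hb.2.2.eq, mul_assoc]
    rw [hPe]
    exact hbw.mul_left h8
  have hP1 : P = 1 := by
    have hcen : P ∈ Subgroup.center G := by
      refine Subgroup.mem_center_iff.2 fun w => ?_
      have hle : Subgroup.closure ({w | w ∈ D ∧ Commute d w} ∪ {w | w ∈ D ∧ Commute b w}) ≤
          Subgroup.centralizer ({P} : Set G) := (Subgroup.closure_le _).2 fun u hu =>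
        Subgroup.mem_centralizer_singleton_iff.2 (hu.elim (fun h => (hPd u h.1 h.2).eq.symm)
          fun h => (hPb u h.1 h.2).eq.symm)
      rw [hC.closure_union hp hd hb] at hle
      exact Subgroup.mem_centralizer_singleton_iff.1 (hle (Subgroup.mem_top w))
    rwa [hZG, Subgroup.mem_bot] at hcen
  have hefg : (e * (f * g)) * (e * (f * g)) = 1 := by
    have c1 : Commute e (f * g) := (h5c e (by simp) f (by simp)).mul_right (h5c e (by simp) g (by simp))
    rw [← pow_two, c1.mul_pow, (h5c f (by simp) g (by simp)).mul_pow, pow_two, pow_two, pow_two,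
      hW.sq e he.1, hW.sq f hf.1, hW.sq g hg.1, one_mul, one_mul]
  have hprod' : e * (f * g) = d * (b * c) := by
    have h9 : d * (b * c) * (e * (f * g)) = 1 := by rw [← hP1, hP]; simp only [mul_assoc]
    exact (mul_right_cancel (h9.trans hefg.symm)).symm
  have h3sub : ∀ x ∈ [e, f, g], x ∈ [d, b, c, e, f, g] := by
    intro x hx; simp only [List.mem_cons] at hx ⊢; tauto
  have hT2 : IsTriple D (d * (b * c)) [e, f, g] :=
    ⟨h5n.of_cons.of_cons, rfl, fun a ha => hsix a (h3sub a ha),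
      fun a ha a' ha' => hsixc a (h3sub a ha) a' (h3sub a' ha'), by simpa using hprod'⟩
  refine ⟨[e, f, g], hT2, fun h => ?_, fun l hl => ?_⟩
  · have h10 : e ∈ [d, b, c] := (h e).2 (by simp)
    have := hsixn
    simp only [List.nodup_cons, List.mem_cons, List.not_mem_nil, or_false, not_or] at this h10
    rcases h10 with h10 | h10 | h10
    exacts [this.1.2.2.1 h10.symm, this.2.1.2.1 h10.symm, this.2.2.1.1 h10.symm]
  have hT0 : IsTriple D (d * (b * c)) [d, b, c] := by
    have hsub : ∀ {a}, a ∈ [d, b, c] → a ∈ [d, b, c, e, f, g] := fun {a} ha => by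
      simp only [List.mem_cons, List.not_mem_nil, or_false] at ha ⊢
      rcases ha with h | h | h <;> simp [h]
    exact ⟨by simp [hb.2.1.symm, hc.2.1.symm, hbc], rfl, fun a ha => hsix a (hsub ha),
      fun a ha a' ha' => hsixc a (hsub ha) a' (hsub ha'), by simp⟩
  by_cases hsh : ∃ x ∈ l, x ∈ [d, b, c]
  · obtain ⟨x, hx, hx'⟩ := hsh
    exact Or.inl (hC.triple_shared h2 hl hT0 hx hx')
  push Not at hsh
  right
  obtain ⟨hln, hllen, hlD, hlc, hlj⟩ := hl
  have hcross : ∀ u ∈ l, ∀ v ∈ [d, b, c], Commute u v := fun u hu v hv =>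
    hW.commute_all_of_short (hlD u hu) hT0.2.2.1 hT0.1 hT0.2.2.2.1 (by
      rw [hT0.2.2.2.2, ← hlj]
      exact Commute.list_prod_right _ _ fun w hw => hlc u hu w hw) (by simp) v hv
  have hlnb : ∀ u ∈ l, u ∈ nb D d := fun u hu =>
    ⟨hlD u hu, fun h => hsh u hu (by simp [h]), (hcross u hu d (by simp)).symm⟩
  match l, hllen with
  | [p, r, s], _ =>
    have hjj : (b * c) * (p * (r * s)) = d := by
      have h11 : p * (r * s) = d * (b * c) := by simpa using hlj
      rw [h11, ← mul_assoc, ((hb.2.2.mul_right hc.2.2).symm).eq, mul_assoc, ← pow_two, cbc.mul_pow,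
        pow_two, pow_two, hW.sq b hb.1, hW.sq c hc.1, one_mul, mul_one]
    set L5 : List (X ⧸ Subgroup.center X) := [q (ι b hb), q (ι c hc), q (ι p (hlnb p (by simp))),
      q (ι r (hlnb r (by simp))), q (ι s (hlnb s (by simp)))] with hL5
    have hmemL : ∀ t ∈ L5, ∃ x, ∃ hx : x ∈ nb D d, x ∈ [b, c, p, r, s] ∧ t = q (ι x hx) := by
      intro t ht
      simp only [L5, List.mem_cons, List.not_mem_nil, or_false] at ht
      rcases ht with rfl | rfl | rfl | rfl | rfl
      · exact ⟨b, hb, by simp, rfl⟩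
      · exact ⟨c, hc, by simp, rfl⟩
      · exact ⟨p, hlnb p (by simp), by simp, rfl⟩
      · exact ⟨r, hlnb r (by simp), by simp, rfl⟩
      · exact ⟨s, hlnb s (by simp), by simp, rfl⟩
    have hall5 : ∀ x ∈ [b, c, p, r, s], ∀ x' ∈ [b, c, p, r, s], Commute x x' := by
      have hm' : ∀ x ∈ [b, c, p, r, s], x ∈ [d, b, c] ∨ x ∈ [p, r, s] := by
        intro x hx; simp only [List.mem_cons] at hx ⊢; tauto
      intro x hx x' hx'
      rcases hm' x hx with h | h <;> rcases hm' x' hx' with h' | h'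
      exacts [hT0.2.2.2.1 x h x' h', (hcross x' h' x h).symm, hcross x h x' h', hlc x h x' h']
    have hn5 : L5.Nodup := by
      have e1 := hln
      have e2 : ∀ x ∈ [p, r, s], x ≠ b ∧ x ≠ c := fun x hx =>
        ⟨fun h => hsh x hx (by simp [h]), fun h => hsh x hx (by simp [h])⟩
      obtain ⟨pb, pc⟩ := e2 p (by simp)
      obtain ⟨rb, rc⟩ := e2 r (by simp)
      obtain ⟨sb, sc⟩ := e2 s (by simp)
      simp only [L5, List.nodup_cons, List.mem_cons, List.not_mem_nil, or_false, not_or,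
        List.nodup_nil, and_true, not_false_eq_true] at e1 ⊢
      refine ⟨⟨?_, ?_, ?_, ?_⟩, ⟨?_, ?_, ?_⟩, ⟨?_, ?_⟩, ?_⟩ <;> intro h <;>
        have h := hinj (by first | assumption | exact hlnb _ (by simp))
          (by first | assumption | exact hlnb _ (by simp)) h
      exacts [hbc h, pb h.symm, rb h.symm, sb h.symm, pc h.symm, rc h.symm, sc h.symm, e1.1.1 h,
        e1.1.2 h, e1.2 h]
    have hpr5 : L5.prod = 1 := by
      have hz5 : ι b hb * (ι c hc * (ι p (hlnb p (by simp)) * (ι r (hlnb r (by simp)) *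
          ι s (hlnb s (by simp))))) ∈ Subgroup.center X := Subgroup.mem_center_iff.2 fun u =>
        Subtype.ext (by
          simp only [Subgroup.coe_mul, ι]
          rw [← mul_assoc b c, hjj]
          exact commute_closure_nb u.2)
      have h14 : q (ι b hb * (ι c hc * (ι p (hlnb p (by simp)) * (ι r (hlnb r (by simp)) *
          ι s (hlnb s (by simp)))))) = 1 := (QuotientGroup.eq_one_iff _).2 hz5
      simp only [map_mul] at h14
      simpa [L5] using h14
    have key : ∀ x ∈ [p, r, s], x ∈ [e, f, g] := by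
      intro x hx
      have hxn := hlnb x hx
      have hx5 : x ∈ [b, c, p, r, s] := by simp only [List.mem_cons] at hx ⊢; tauto
      rcases hdi (q (ι x hxn)) ⟨ι x hxn, hxn, rfl⟩ (hne1 hxn) (fun h => hsh x hx (by simp [hinj hxn hb h]))
        (fun h => hsh x hx (by simp [hinj hxn hc h])) (himg hxn hb (hcross x hx b (by simp)))
        (himg hxn hc (hcross x hx c (by simp))) with h | h
      · simp only [List.mem_cons, List.not_mem_nil, or_false] at h ⊢
        rcases h with h | h | h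
        exacts [Or.inl (hinj hxn he h), Or.inr (Or.inl (hinj hxn hf h)), Or.inr (Or.inr (hinj hxn hg h))]
      · exfalso
        have hxL : q (ι x hxn) ∈ L5 := by
          simp only [List.mem_cons, List.not_mem_nil, or_false] at hx
          rcases hx with rfl | rfl | rfl <;> simp [L5]
        have hD5 : ∀ t ∈ L5, t ∈ D' := fun t ht => by
          obtain ⟨u, hu, -, rfl⟩ := hmemL t ht; exact ⟨ι u hu, hu, rfl⟩
        have hp5 : ∀ t ∈ L5, ∀ t' ∈ L5, Commute t t' := fun t ht t' ht' => by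
          obtain ⟨u, hu, mu, rfl⟩ := hmemL t ht
          obtain ⟨u', hu', mu', rfl⟩ := hmemL t' ht'
          exact himg hu hu' (hall5 u mu u' mu')
        have hy' := hW'.commute_five hD5 hn5 hp5 rfl hpr5 ⟨ι y hy, hy, rfl⟩
          (a := q (ι b hb)) (b := q (ι c hc)) (by simp [L5]) (by simp [L5])
          (fun h => hbc (hinj hb hc h)) yb yc _ hxL
        have hz' := hW'.commute_five hD5 hn5 hp5 rfl hpr5 ⟨ι z hz, hz, rfl⟩
          (a := q (ι b hb)) (b := q (ι c hc)) (by simp [L5]) (by simp [L5])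
          (fun h => hbc (hinj hb hc h)) zb zc _ hxL
        exact hyz (h (q (ι y hy)) ⟨ι y hy, hy, rfl⟩ (q (ι z hz)) ⟨ι z hz, hz, rfl⟩ yb yc hy' zb zc hz')
    have hperm : [p, r, s].Perm [e, f, g] :=
      (List.subperm_of_subset hln key).perm_of_length_le (by simp)
    exact fun x => hperm.mem_iff

theorem TClass.two_triples (hC : TClass D) (hp : IsPrimitiveUnderConj D) {d₀ : G}
    (hd₀ : d₀ ∈ D) (hH : pCore 2 (Subgroup.closure (nb D d₀)) ≤ Subgroup.center (Subgroup.closure (nb D d₀)))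
    (h22 : IsOfTypeM22 G D) {j : G} {l₀ : List G} (h₀ : IsTriple D j l₀) :
    ∃ l₁ l₂ : List G, IsTriple D j l₁ ∧ IsTriple D j l₂ ∧ ¬ (∀ x, x ∈ l₁ ↔ x ∈ l₂) ∧
      ∀ l, IsTriple D j l → (∀ x, x ∈ l ↔ x ∈ l₁) ∨ ∀ x, x ∈ l ↔ x ∈ l₂ := by
  obtain ⟨hZ, d, hd, c₀, -, -, ⟨F, _, _, hF, ⟨φ₀⟩⟩, -⟩ := h22
  have hW : WeakTS D := weakTS_of_group ⟨hC.ts, hC.conj, hC.gen⟩
  have hL := lineData_of_equiv hF ((hW.sub d).quot (Subgroup.center (Subgroup.closure (nb D d)))) φ₀
  obtain ⟨hn, hlen, hD, hcm, hj⟩ := h₀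
  match l₀, hlen with
  | [a, b, c], _ =>
    obtain ⟨k, hk⟩ := hC.trans a (hD a (by simp)) d hd
    let φ : G ≃* G := MulAut.conj k
    have hφ : ∀ x ∈ D, φ x ∈ D := fun x hx => hC.conj k x hx
    have hφ' : ∀ x ∈ D, φ.symm x ∈ D := fun x hx => by
      simpa [φ] using hC.conj k⁻¹ x hx
    have hφa : φ a = d := by rw [← hk]; rfl
    have hne : a ≠ b ∧ a ≠ c ∧ b ≠ c := by simp at hn; exact ⟨hn.1.1, hn.1.2, hn.2⟩
    have hnb : ∀ x ∈ [b, c], φ x ∈ nb D d := fun x hx => by
      refine hk ▸ hW.nb_conj k ⟨hD x (by simp_all), fun h => ?_, hcm a (by simp) x (by simp_all)⟩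
      simp only [List.mem_cons, List.not_mem_nil, or_false] at hx
      rcases hx with rfl | rfl
      exacts [hne.1 h.symm, hne.2.1 h.symm]
    obtain ⟨l₂, h₂, hdiff, hall⟩ := hC.two_triples_special hp hd₀ hH hZ hd hL
      (hnb b (by simp)) (hnb c (by simp)) (fun h => hne.2.2 (φ.injective h))
      ((hcm b (by simp) c (by simp)).map φ)
    have hj' : φ j = d * (φ b * φ c) := by
      rw [← hj, List.prod_cons, List.prod_cons, List.prod_cons, List.prod_nil, mul_one, map_mul,
        map_mul, hφa]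
    rw [← hj'] at h₂ hall
    have h₂' := h₂.map φ.symm hφ'
    rw [φ.symm_apply_apply] at h₂'
    refine ⟨[a, b, c], l₂.map φ.symm, ⟨hn, rfl, hD, hcm, hj⟩, h₂', fun h => hdiff fun x => ?_,
      fun l hl => ?_⟩
    · have := h (φ.symm x)
      simp only [List.mem_map, EmbeddingLike.apply_eq_iff_eq, exists_eq_right] at this
      rw [← this]
      simp [← hφa, MulEquiv.symm_apply_eq]
    · have hl' := hl.map φ hφ
      rcases hall _ hl' with h | h
      · left
        intro x
        have := h (φ x)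
        simp only [List.mem_map, EmbeddingLike.apply_eq_iff_eq, exists_eq_right] at this
        rw [this]
        simp [← hφa]
      · right
        intro x
        have := h (φ x)
        simp only [List.mem_map, EmbeddingLike.apply_eq_iff_eq, exists_eq_right] at this
        rw [this, List.mem_map]
        constructor
        · intro hx; exact ⟨φ x, hx, φ.symm_apply_apply x⟩
        · rintro ⟨u, hu, rfl⟩; rwa [φ.apply_symm_apply]

end Hexad

end CfsgLib.ThreeTransp
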