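import Cfsg.Agent.Lib.ThreeTransp.Blocks

/-!
Products of pairwise commuting transpositions.  The setting allows the identity among the
transpositions, so that it passes to quotients.
-/

set_option autoImplicit false

namespace CfsgLib.ThreeTransp

open Cfsg CfsgLib.Involutions

variable {G : Type*} [Group G] {D : Set G}

/-- A generating conjugation-closed set satisfying the order conditions, the identity allowed. -/
structure WeakTS (D : Set G) : Prop where
  sq : ∀ a ∈ D, a * a = 1
  prod : ∀ a ∈ D, ∀ b ∈ D, (a * b) ^ 2 = 1 ∨ (a * b) ^ 3 = 1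
  conj : ∀ g : G, ∀ d ∈ D, g * d * g⁻¹ ∈ D
  gen : Subgroup.closure D = ⊤

theorem weakTS_of_group (hD : IsThreeTranspositionGroup D) : WeakTS D :=
  ⟨fun _ ha => ts_mul_self hD.1 ha, fun a ha b hb => hD.1.2 a ha b hb, hD.2.1, hD.2.2⟩

theorem WeakTS.inv (hW : WeakTS D) {a : G} (ha : a ∈ D) : a⁻¹ = a :=
  inv_eq_of_mul_eq_one_right (hW.sq a ha)

theorem WeakTS.braid (hW : WeakTS D) {a b : G} (ha : a ∈ D) (hb : b ∈ D) (h : ¬ Commute a b) :
    a * b * a = b * a * b := by
  have h3 : (a * b) ^ 3 = 1 := (hW.prod a ha b hb).resolve_left fun h2 => h <| by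
    rw [pow_two] at h2
    have h1 := inv_eq_of_mul_eq_one_right h2
    rw [mul_inv_rev, hW.inv ha, hW.inv hb] at h1
    exact h1.symm
  rw [pow_succ, pow_two] at h3
  have h2 : (a * b * a) * (b * a * b) = 1 := by simpa [mul_assoc] using h3
  rw [← inv_eq_of_mul_eq_one_right h2, mul_inv_rev, mul_inv_rev, hW.inv ha, hW.inv hb, mul_assoc]

theorem WeakTS.mul_mul_self (hW : WeakTS D) {a : G} (ha : a ∈ D) (x : G) : a * (a * x) = x := by
  rw [← mul_assoc, hW.sq a ha, one_mul]

theorem WeakTS.commute_conj (hW : WeakTS D) {a x y : G} (ha : a ∈ D) :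
    Commute (a * x * a) (a * y * a) ↔ Commute x y := by
  have := commute_conj_iff (x := x) (y := y) a
  rwa [hW.inv ha] at this

theorem WeakTS.conj_self (hW : WeakTS D) {a : G} (ha : a ∈ D) (x : G) :
    a * (a * x * a) * a = x := by
  simp only [mul_assoc]
  rw [hW.sq a ha, mul_one, hW.mul_mul_self ha]

theorem WeakTS.conj_of_commute (hW : WeakTS D) {a x : G} (ha : a ∈ D) (h : Commute a x) :
    a * x * a = x := by rw [h.eq, mul_assoc, hW.sq a ha, mul_one]

/-- Non-commuting members are conjugate. -/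
theorem WeakTS.conj_braid (hW : WeakTS D) {a b : G} (ha : a ∈ D) (hb : b ∈ D) (h : ¬ Commute a b) :
    a * b * a * (a * b)⁻¹ = b := by
  rw [mul_inv_rev, hW.inv ha, hW.inv hb, hW.braid ha hb h]
  simp only [mul_assoc]
  rw [hW.mul_mul_self hb, hW.sq a ha, mul_one]

/-- Members commuting with each other and not with `x` are determined by the conjugate of `x`. -/
theorem WeakTS.eq_of_conj_eq (hW : WeakTS D) {x a b : G} (hx : x ∈ D) (ha : a ∈ D) (hb : b ∈ D)
    (hxa : ¬ Commute x a) (hxb : ¬ Commute x b) (h : a * x * a = b * x * b) : a = b := by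
  rw [← hW.braid hx ha hxa, ← hW.braid hx hb hxb] at h
  exact mul_left_cancel (mul_right_cancel h)

theorem WeakTS.eq_of_commute_mul (hW : WeakTS D) {x a b : G} (hx : x ∈ D) (ha : a ∈ D) (hb : b ∈ D)
    (hab : Commute a b) (hxa : ¬ Commute x a) (hxb : ¬ Commute x b) (h : Commute x (a * b)) :
    a = b := by
  refine hW.eq_of_conj_eq hx ha hb hxa hxb ?_
  have h1 : x * (a * b) = a * b * x := h
  calc a * x * a = a * (x * (a * b)) * b := by
        simp only [mul_assoc]; rw [hW.sq b hb, mul_one]
    _ = a * (a * b * x) * b := by rw [h1]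
    _ = b * x * b := by simp only [mul_assoc]; rw [hW.mul_mul_self ha]

theorem WeakTS.pair_conj_commute (hW : WeakTS D) {x a b : G} (hx : x ∈ D) (ha : a ∈ D) (hb : b ∈ D)
    (hab : Commute a b) (hxa : ¬ Commute x a) (hxb : ¬ Commute x b) :
    Commute (a * (b * x * b) * a) x := by
  have h1 : Commute (x * b * x) (x * a * x) := (hW.commute_conj hx).2 hab.symm
  rw [hW.braid hx hb hxb, hW.braid hx ha hxa] at h1
  have := (hW.commute_conj ha).2 h1
  rwa [hW.conj_self ha x] at this

theorem WeakTS.not_commute_three (hW : WeakTS D) {x a b c : G} (hx : x ∈ D) (ha : a ∈ D)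
    (hb : b ∈ D) (hc : c ∈ D) (hab : Commute a b)
    (hxa : ¬ Commute x a) (hxb : ¬ Commute x b) (hxc : ¬ Commute x c) :
    ¬ Commute x (a * (b * c)) := by
  intro h
  have e1 : a * (b * x * b) * a = c * x * c := by
    have h1 : x * (a * (b * c)) = a * (b * c) * x := h
    have h2 : c * x * c = b * (a * x * a) * b := by
      calc c * x * c = b * (a * (a * (b * c) * x)) * c := by
            simp only [mul_assoc]; rw [hW.mul_mul_self ha, hW.mul_mul_self hb]
        _ = b * (a * (x * (a * (b * c)))) * c := by rw [h1]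
        _ = b * (a * x * a) * b := by
            simp only [mul_assoc]; rw [hW.sq c hc, mul_one]
    rw [h2]
    have e : a * b = b * a := hab
    calc a * (b * x * b) * a = (a * b) * x * (b * a) := by simp only [mul_assoc]
      _ = (b * a) * x * (a * b) := by rw [e]
      _ = b * (a * x * a) * b := by simp only [mul_assoc]
  have h3 := hW.pair_conj_commute hx ha hb hab hxa hxb
  rw [e1, ← hW.braid hx hc hxc] at h3
  have h4 := (hW.commute_conj hx).2 h3
  rw [hW.conj_self hx c, hW.conj_of_commute hx (Commute.refl x)] at h4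
  exact hxc h4.symm

theorem WeakTS.not_commute_five (hW : WeakTS D) {x a b c d e : G} (hx : x ∈ D) (ha : a ∈ D)
    (hb : b ∈ D) (hc : c ∈ D) (hd : d ∈ D) (he : e ∈ D) (hab : Commute a b) (hcd : Commute c d)
    (hce : Commute c e) (hde : Commute d e)
    (hxa : ¬ Commute x a) (hxb : ¬ Commute x b) (hxc : ¬ Commute x c) (hxd : ¬ Commute x d)
    (hxe : ¬ Commute x e) :
    ¬ Commute x (a * (b * (c * (d * e)))) := by
  intro h
  set w := c * (d * x * d) * c with hw
  have hwx : Commute w x := hW.pair_conj_commute hx hc hd hcd hxc hxd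
  have e0 : ∀ {p q : G}, Commute p q → ∀ y : G, p * (q * y * q) * p = q * (p * y * p) * q := by
    intro p q hpq y
    calc p * (q * y * q) * p = (p * q) * y * (q * p) := by simp only [mul_assoc]
      _ = (q * p) * y * (p * q) := by rw [hpq.eq]
      _ = q * (p * y * p) * q := by simp only [mul_assoc]
  have e1 : a * (b * x * b) * a = e * w * e := by
    have h1 : x * (a * (b * (c * (d * e)))) = a * (b * (c * (d * e))) * x := h
    have h2 : c * (d * (e * x * e) * d) * c = b * (a * x * a) * b := by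
      calc c * (d * (e * x * e) * d) * c
          = b * (a * (a * (b * (c * (d * e))) * x)) * (e * (d * c)) := by
            simp only [mul_assoc]; rw [hW.mul_mul_self ha, hW.mul_mul_self hb]
        _ = b * (a * (x * (a * (b * (c * (d * e)))))) * (e * (d * c)) := by rw [h1]
        _ = b * (a * x * a) * b := by
            simp only [mul_assoc]
            rw [hW.mul_mul_self he, hW.mul_mul_self hd, hW.sq c hc, mul_one]
    rw [e0 hab, ← h2, e0 hde, e0 hce]
  have h3 := hW.pair_conj_commute hx ha hb hab hxa hxb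
  rw [e1] at h3
  have h4 := (hW.commute_conj he).2 h3
  rw [hW.conj_self he w, ← hW.braid hx he hxe] at h4
  have h5 := (hW.commute_conj hx).2 h4
  rw [hW.conj_self hx e, hW.conj_of_commute hx hwx.symm] at h5
  have h6 := (hW.commute_conj hd).2 ((hW.commute_conj hc).2 h5)
  rw [hw, hW.conj_self hc, hW.conj_self hd, hW.conj_of_commute hc hce,
    hW.conj_of_commute hd hde] at h6
  exact hxe h6

/-- No member commutes with a product of one, two, three or five members that it moves. -/
theorem WeakTS.length_moved (hW : WeakTS D) {x : G} (hx : x ∈ D) {l : List G} (hl : ∀ a ∈ l, a ∈ D)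
    (hnd : l.Nodup) (hp : l.Pairwise Commute) (hm : ∀ a ∈ l, ¬ Commute x a)
    (h : Commute x l.prod) : l.length = 0 ∨ l.length = 4 ∨ 6 ≤ l.length := by
  match l with
  | [] => simp
  | [a] => exact absurd (by simpa using h) (hm a (by simp))
  | [a, b] =>
    simp at hl hp hm hnd h
    exact absurd (hW.eq_of_commute_mul hx hl.1 hl.2 hp hm.1 hm.2 h) hnd
  | [a, b, c] =>
    simp at hl hp hm h
    exact absurd h (hW.not_commute_three hx hl.1 hl.2.1 hl.2.2 hp.1.1 hm.1 hm.2.1 hm.2.2)
  | [a, b, c, d] => simp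
  | [a, b, c, d, e] =>
    simp at hl hp hm h
    exact absurd h (hW.not_commute_five hx hl.1 hl.2.1 hl.2.2.1 hl.2.2.2.1 hl.2.2.2.2 hp.1.1
      hp.2.2.1.1 hp.2.2.1.2 hp.2.2.2 hm.1 hm.2.1 hm.2.2.1 hm.2.2.2.1 hm.2.2.2.2)
  | a :: b :: c :: d :: e :: f :: l => right; right; simp

open Classical in
/-- The members moving a given one, in a product commuting with it. -/
theorem WeakTS.count_moved (hW : WeakTS D) {x : G} (hx : x ∈ D) {l : List G} (hl : ∀ a ∈ l, a ∈ D)
    (hnd : l.Nodup) (hp : ∀ a ∈ l, ∀ b ∈ l, Commute a b) (h : Commute x l.prod) :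
    (∀ a ∈ l, Commute x a) ∨
      (4 ≤ l.length ∧ (l.filter fun a => decide (¬ Commute x a)).length = 4) ∨
      (6 ≤ (l.filter fun a => decide (¬ Commute x a)).length) := by
  set m := l.filter fun a => decide (¬ Commute x a) with hm
  set n := l.filter fun a => !decide (¬ Commute x a) with hn
  have hperm : (m ++ n).Perm l := List.filter_append_perm _ l
  have hpc : (m ++ n).Pairwise Commute :=
    List.pairwise_of_forall_mem_list fun a ha b hb => hp a (hperm.subset ha) b (hperm.subset hb)
  have hn' : Commute x n.prod := Commute.list_prod_right _ _ fun a ha => by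
    rw [hn, List.mem_filter] at ha
    simpa using ha.2
  have hm' : Commute x m.prod := by
    rw [← hperm.prod_eq' hpc, List.prod_append] at h
    simpa using h.mul_right hn'.inv_right
  have hmem : ∀ a, a ∈ m ↔ a ∈ l ∧ ¬ Commute x a := fun a => by simp [hm, List.mem_filter]
  rcases hW.length_moved hx (fun a ha => hl a ((hmem a).1 ha).1) (hnd.filter _)
    (List.Pairwise.sublist (List.sublist_append_left m n) hpc)
    (fun a ha => ((hmem a).1 ha).2) hm' with h0 | h4 | h6
  · left
    intro a ha
    by_contra hc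
    exact List.not_mem_nil (List.length_eq_zero_iff.1 h0 ▸ (hmem a).2 ⟨ha, hc⟩)
  · exact Or.inr (Or.inl ⟨h4 ▸ List.length_filter_le _ _, h4⟩)
  · exact Or.inr (Or.inr h6)

theorem WeakTS.commute_all_of_short (hW : WeakTS D) {x : G} (hx : x ∈ D) {l : List G}
    (hl : ∀ a ∈ l, a ∈ D) (hnd : l.Nodup) (hp : ∀ a ∈ l, ∀ b ∈ l, Commute a b)
    (h : Commute x l.prod) (hlen : l.length ≤ 3) : ∀ a ∈ l, Commute x a := by
  classical
  rcases hW.count_moved hx hl hnd hp h with h0 | ⟨h4, -⟩ | h6
  · exact h0
  · omega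
  · have := List.length_filter_le (fun a => decide (¬ Commute x a)) l
    omega

theorem WeakTS.mem_center (hW : WeakTS D) {a : G} (h : ∀ x ∈ D, Commute a x) :
    a ∈ Subgroup.center G := by
  refine Subgroup.mem_center_iff.2 fun g => ?_
  have hle : Subgroup.closure D ≤ Subgroup.centralizer ({a} : Set G) :=
    (Subgroup.closure_le _).2 fun x hx => Subgroup.mem_centralizer_singleton_iff.2 (h x hx).eq.symm
  rw [hW.gen] at hle
  exact Subgroup.mem_centralizer_singleton_iff.1 (hle (Subgroup.mem_top g))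

theorem WeakTS.commute_of_center {a z : G} (ha : a ∈ Subgroup.center G) : Commute z a :=
  Subgroup.mem_center_iff.1 ha z

/-- The set without the identity is a set of 3-transpositions. -/
theorem WeakTS.strict (hW : WeakTS D) : IsThreeTranspositionSet {a : G | a ∈ D ∧ a ≠ 1} ∧
    ∀ g : G, ∀ a ∈ {a : G | a ∈ D ∧ a ≠ 1}, g * a * g⁻¹ ∈ {a : G | a ∈ D ∧ a ≠ 1} := by
  refine ⟨⟨fun a ha => invol_iff.2 ⟨hW.sq a ha.1, ha.2⟩, fun a ha b hb => hW.prod a ha.1 b hb.1⟩,
    fun g a ha => ⟨hW.conj g a ha.1, fun h => ha.2 ?_⟩⟩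
  simpa using h

/-- With central `O₂` two members with the same partners coincide. -/
theorem WeakTS.twin_eq [Finite G] (hW : WeakTS D) (h2 : pCore 2 G ≤ Subgroup.center G) {x y : G}
    (hx : x ∈ D) (hy : y ∈ D) (hxz : x ∉ Subgroup.center G)
    (htw : ∀ z ∈ D, Commute x z ↔ Commute y z) : x = y := by
  obtain ⟨z, hz, hn⟩ : ∃ z ∈ D, ¬ Commute x z := by
    by_contra h
    push Not at h
    exact hxz (hW.mem_center h)
  have hx1 : x ≠ 1 := fun e => hxz (e ▸ one_mem _)
  have hny : ¬ Commute y z := fun h => hn ((htw z hz).2 h)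
  have hy1 : y ≠ 1 := fun e => hny (e ▸ Commute.one_left z)
  have hm := sameC_mul_mem_pCore hW.strict.1 hW.strict.2 (d := x) (v := y) ⟨hx, hx1⟩
    ⟨⟨hy, hy1⟩, fun e he => (htw e he.1).symm⟩
  have hxy : Commute x y := ((htw x hx).1 (Commute.refl x)).symm
  exact hW.eq_of_commute_mul hz hx hy hxy (fun h => hn h.symm) (fun h => hny h.symm)
    (WeakTS.commute_of_center (h2 hm))

/-- Four members with central product are central. -/
theorem WeakTS.four_central [Finite G] (hW : WeakTS D) (h2 : pCore 2 G ≤ Subgroup.center G)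
    {l : List G} (hl : ∀ a ∈ l, a ∈ D) (hnd : l.Nodup) (hp : ∀ a ∈ l, ∀ b ∈ l, Commute a b)
    (hlen : l.length = 4) (hc : l.prod ∈ Subgroup.center G) : ∀ a ∈ l, a ∈ Subgroup.center G := by
  classical
  intro a ha
  by_contra hac
  obtain ⟨b, hb, hba⟩ : ∃ b ∈ l, b ≠ a := by
    by_contra h
    push Not at h
    have h1 : l.toFinset ⊆ {a} := fun b hb => Finset.mem_singleton.2 (h b (List.mem_toFinset.1 hb))
    have := Finset.card_le_card h1
    rw [List.toFinset_card_of_nodup hnd, hlen, Finset.card_singleton] at this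
    omega
  refine hba.symm (hW.twin_eq h2 (hl a ha) (hl b hb) hac fun z hz => ?_)
  rcases hW.count_moved hz hl hnd hp (WeakTS.commute_of_center hc) with h0 | ⟨-, h4⟩ | h6
  · exact ⟨fun _ => (h0 b hb).symm, fun _ => (h0 a ha).symm⟩
  · have hall := List.length_filter_eq_length_iff.1 (h4.trans hlen.symm)
    exact ⟨fun h => absurd h.symm (by simpa using hall a ha),
      fun h => absurd h.symm (by simpa using hall b hb)⟩
  · have := List.length_filter_le (fun a => decide (¬ Commute z a)) l
    omega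

end CfsgLib.ThreeTransp
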