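import Cfsg.Agent.Lib.ThreeTransp.LargeQuotient
import Cfsg.Agent.Lib.Components.FStar
import Cfsg.Agent.Lib.Base.Cores
import Cfsg.Agent.Lib.PGroups.Basic

/-!
Large extraspecial subgroups under isomorphisms; a normal 2-subgroup containing its centraliser with a quotient
without normal 2-subgroups is the generalized Fitting subgroup.
-/

set_option autoImplicit false

namespace CfsgLib.ThreeTransp

open Cfsg CfsgLib.Base

universe u

theorem center_map_equiv {A B : Type*} [Group A] [Group B] (e : A ≃* B) (Q : Subgroup A) :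
    centerIn (Q.map e.toMonoidHom) = (centerIn Q).map e.toMonoidHom := by
  ext b
  obtain ⟨a, rfl⟩ := e.surjective b
  have hm : ∀ (H : Subgroup A) (x : A), e x ∈ H.map e.toMonoidHom ↔ x ∈ H := fun H x =>
    Subgroup.mem_map_iff_mem (f := e.toMonoidHom) e.injective
  rw [hm, mem_centerIn, mem_centerIn, hm]
  constructor
  · exact fun h => ⟨h.1, fun q hq => e.injective (by rw [map_mul, map_mul]; exact h.2 _ ((hm Q q).2 hq))⟩
  · refine fun h => ⟨h.1, ?_⟩
    rintro _ ⟨q, hq, rfl⟩
    show e q * e a = e a * e q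
    rw [← map_mul, ← map_mul, h.2 q hq]

theorem centralizer_map_equiv {A B : Type*} [Group A] [Group B] (e : A ≃* B) (H : Subgroup A) :
    Subgroup.centralizer (H.map e.toMonoidHom : Set B) =
      (Subgroup.centralizer (H : Set A)).map e.toMonoidHom := by
  ext b
  obtain ⟨a, rfl⟩ := e.surjective b
  simp only [Subgroup.mem_centralizer_iff, Subgroup.coe_map, Set.forall_mem_image, Subgroup.mem_map,
    MulEquiv.coe_toMonoidHom, SetLike.mem_coe]
  constructor
  · intro h
    exact ⟨a, fun x hx => e.injective (by simpa using h hx), rfl⟩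
  · rintro ⟨a', ha', h⟩ x hx
    obtain rfl := e.injective h
    rw [← map_mul, ← map_mul, ha' x hx]

open Subgroup in
/-- Being extraspecial is kept by isomorphisms. -/
theorem extraspecial_equiv {E E' : Type*} [Group E] [Group E'] {p : ℕ} (e : E ≃* E')
    (h : Cfsg.IsExtraspecial p E) : Cfsg.IsExtraspecial p E' := by
  obtain ⟨⟨hp, hf, hc⟩, hz⟩ := h
  have hcz : (center E).map e.toMonoidHom = center E' := by
    ext y
    simp only [Subgroup.mem_map, mem_center_iff]
    constructor
    · rintro ⟨x, hx, rfl⟩ z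
      obtain ⟨w, rfl⟩ := e.surjective z
      simp [← map_mul, hx w]
    · intro hy
      exact ⟨e.symm y, fun w => e.injective (by simp [hy (e w)]), by simp⟩
  have hcc : (commutator E).map e.toMonoidHom = commutator E' := by
    rw [commutator_def, map_commutator, Subgroup.map_top_of_surjective _ e.surjective, commutator_def]
  refine ⟨⟨hp.of_equiv e, ?_, by rw [← hcc, hc, hcz]⟩, ?_⟩
  · rw [← hcz, ← hf]
    ext y
    obtain ⟨x, rfl⟩ := e.surjective y
    rw [show e x = e.toMonoidHom x from rfl, mem_map_iff_mem e.injective,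
      CfsgLib.PGroups.mem_frattini_iff, CfsgLib.PGroups.mem_frattini_iff]
    constructor
    · intro h M hM
      exact h (M.map e.toMonoidHom) ((e.mapSubgroup.isCoatom_iff M).2 hM) |> (mem_map_iff_mem e.injective).1
    · intro h M hM
      have hM' : IsCoatom (M.comap e.toMonoidHom) := by
        refine (e.mapSubgroup.isCoatom_iff _).1 ?_
        show IsCoatom ((M.comap e.toMonoidHom).map e.toMonoidHom)
        rwa [map_comap_eq_self_of_surjective e.surjective]
      exact h _ hM'
  · rw [← hcz, Subgroup.card_map_of_injective e.injective, hz]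

/-- Being large extraspecial is kept by isomorphisms. -/
theorem large_equiv {A B : Type*} [Group A] [Group B] (e : A ≃* B) {Q : Subgroup A} (h : IsLargeExtraspecial Q) :
    IsLargeExtraspecial (Q.map e.toMonoidHom) := by
  obtain ⟨h1, h2, h3, h4⟩ := h
  refine ⟨extraspecial_equiv (e.subgroupMap Q) h1, ?_, ?_, ?_⟩
  · rw [centralizer_map_equiv]
    show _ = centerIn _
    rw [center_map_equiv, h2]
  · show Subgroup.centralizer (centerIn (Q.map e.toMonoidHom) : Set B) ≤ _
    rw [center_map_equiv, centralizer_map_equiv]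
    rintro _ ⟨a, ha, rfl⟩
    exact Subgroup.le_normalizer_map e.toMonoidHom ⟨a, h3 ha, rfl⟩
  · intro K hK hn
    obtain ⟨K', rfl⟩ : ∃ K' : Subgroup A, K = K'.map e.toMonoidHom :=
      ⟨K.comap e.toMonoidHom, (Subgroup.map_comap_eq_self_of_surjective e.surjective K).symm⟩
    rw [Subgroup.card_map_of_injective e.injective] at hK
    rw [h4 K' hK fun q hq => ?_, Subgroup.map_bot]
    rw [Subgroup.mem_normalizer_iff]
    intro k
    have := Subgroup.mem_normalizer_iff.1 (hn ⟨q, hq, rfl⟩) (e k)
    simp only [MulEquiv.coe_toMonoidHom, ← map_inv, ← map_mul] at this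
    have hm : ∀ x : A, e x ∈ K'.map e.toMonoidHom ↔ x ∈ K' := fun x =>
      Subgroup.mem_map_iff_mem (f := e.toMonoidHom) e.injective
    rwa [hm, hm] at this

/-- The automorphism group of a non-commutative simple group has no normal 2-subgroup. -/
theorem normal_two_mulAut (S : Type u) [Group S] [Finite S] [IsSimpleGroup S] (hS : ¬ IsPGroup 2 S)
    (hc : Subgroup.center S = ⊥) (N : Subgroup (MulAut S)) [N.Normal] (hN : IsPGroup 2 N) : N = ⊥ := by
  obtain ⟨ι, hι⟩ : ∃ ι : S →* MulAut S, ι = MulAut.conj := ⟨_, rfl⟩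
  have hinj : Function.Injective ι := by
    rw [injective_iff_map_eq_one]
    intro x hx
    rw [← Subgroup.mem_bot, ← hc, Subgroup.mem_center_iff]
    intro y
    have := congrArg (fun f : MulAut S => f y) hx
    simp only [hι, MulAut.conj_apply, MulAut.one_apply] at this
    exact (mul_inv_eq_iff_eq_mul.1 this).symm
  have hbot : N.comap ι = ⊥ := by
    rcases Subgroup.Normal.eq_bot_or_eq_top (Subgroup.Normal.comap (H := N) inferInstance ι) with h | h
    · exact h
    refine absurd ?_ hS
    have h2 := hN.comap_of_injective ι hinj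
    rw [h] at h2
    exact h2.of_equiv Subgroup.topEquiv
  rw [eq_bot_iff]
  intro φ hφ
  rw [Subgroup.mem_bot]
  ext x
  have hconj : φ * ι x * φ⁻¹ = ι (φ x) := by
    ext y
    simp [hι, MulAut.mul_apply]
  have h1 : ι (φ x * x⁻¹) ∈ N := by
    rw [map_mul, ← hconj, map_inv, show φ * ι x * φ⁻¹ * (ι x)⁻¹ = φ * (ι x * φ⁻¹ * (ι x)⁻¹) by group]
    exact mul_mem hφ (Subgroup.Normal.conj_mem inferInstance _ (inv_mem hφ) _)
  have h2 : φ x * x⁻¹ ∈ N.comap ι := h1
  rw [hbot, Subgroup.mem_bot, mul_inv_eq_one] at h2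
  exact h2

/-- A normal 2-subgroup containing its centraliser, with no normal 2-subgroup in the quotient. -/
theorem fstar_eq_of_quotient {Γ : Type u} [Group Γ] [Finite Γ] (N : Subgroup Γ) [N.Normal] (hN : IsPGroup 2 N)
    (hC : Subgroup.centralizer (N : Set Γ) ≤ N) {H : Type*} [Group H] (f : Γ ⧸ N ≃* H)
    (hH : ∀ M : Subgroup H, M.Normal → IsPGroup 2 M → M = ⊥) : generalizedFittingSubgroup Γ = N := by
  haveI : Fact (Nat.Prime 2) := ⟨Nat.prime_two⟩
  have hF : fittingSubgroup Γ ≤ N := by
    rw [fittingSubgroup_eq_iSup_pCore]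
    refine iSup_le fun q => ?_
    haveI := Fact.mk q.2
    rcases eq_or_ne (q : ℕ) 2 with h | h
    · rw [h]
      have hs : Function.Surjective (f.toMonoidHom.comp (QuotientGroup.mk' N)) :=
        f.surjective.comp (QuotientGroup.mk'_surjective N)
      have := hH _ (Subgroup.Normal.map inferInstance _ hs)
        ((CfsgLib.Base.isPGroup_pCore 2 Γ).map (f.toMonoidHom.comp (QuotientGroup.mk' N)))
      rwa [Subgroup.map_eq_bot_iff, MonoidHom.ker_comp_of_injective _ f.toMonoidHom f.injective,
        QuotientGroup.ker_mk'] at this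
    · have hd : Disjoint (Cfsg.pCore (q : ℕ) Γ) N :=
        IsPGroup.disjoint_of_ne _ 2 h _ _ (CfsgLib.Base.isPGroup_pCore _ _) hN
      intro x hx
      refine hC (Subgroup.mem_centralizer_iff.2 fun y hy => ?_)
      exact (Subgroup.commute_of_normal_of_disjoint _ _ inferInstance inferInstance hd x y hx hy).eq.symm
  refine le_antisymm (CfsgLib.Components.fstar_le_of_fitting_le (Subgroup.Normal.isSubnormal inferInstance) hF hC) ?_
  exact le_trans (le_fittingSubgroup hN.isNilpotent) CfsgLib.Components.fitting_le_fstar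

end CfsgLib.ThreeTransp
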