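import Mathlib
import Cfsg.Agent.Lib.ThreeTransp.Basic

/-!
The symmetric group of degree four from three transpositions `a - b - c`.
-/

set_option autoImplicit false

namespace CfsgLib.ThreeTransp

open Cfsg CfsgLib.Involutions

/-- The Coxeter generators of the symmetric group of degree four. -/
def s4Gen : Fin 3 → Equiv.Perm (Fin 4) := ![Equiv.swap 0 1, Equiv.swap 1 2, Equiv.swap 2 3]

/-- Normal forms. -/
def s4Word : Fin 24 → List (Fin 3) :=
  ![[], [0], [1], [0, 1], [1, 0], [0, 1, 0], [2], [0, 2], [1, 2], [0, 1, 2], [1, 0, 2], [0, 1, 0, 2], [2, 1], [0, 2, 1], [1, 2, 1], [0, 1, 2, 1], [1, 0, 2, 1], [0, 1, 0, 2, 1], [2, 1, 0], [0, 2, 1, 0], [1, 2, 1, 0], [0, 1, 2, 1, 0], [1, 0, 2, 1, 0], [0, 1, 0, 2, 1, 0]]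

def s4Next : Fin 24 → Fin 3 → Fin 24 :=
  ![![1, 2, 6],
    ![0, 3, 7],
    ![4, 0, 8],
    ![5, 1, 9],
    ![2, 5, 10],
    ![3, 4, 11],
    ![7, 12, 0],
    ![6, 13, 1],
    ![10, 14, 2],
    ![11, 15, 3],
    ![8, 16, 4],
    ![9, 17, 5],
    ![18, 6, 14],
    ![19, 7, 15],
    ![20, 8, 12],
    ![21, 9, 13],
    ![22, 10, 17],
    ![23, 11, 16],
    ![12, 19, 20],
    ![13, 18, 21],
    ![14, 22, 18],
    ![15, 23, 19],
    ![16, 20, 23],
    ![17, 21, 22]]

theorem s4Next_spec : ∀ t i,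
    ((s4Word t).map s4Gen).prod * s4Gen i = ((s4Word (s4Next t i)).map s4Gen).prod := by
  decide +kernel

theorem s4Word_surj : ∀ σ : Equiv.Perm (Fin 4), ∃ t, ((s4Word t).map s4Gen).prod = σ := by
  decide +kernel

theorem s4Word_inj : ∀ t t' : Fin 24,
    ((s4Word t).map s4Gen).prod = ((s4Word t').map s4Gen).prod → t = t' := by
  decide +kernel

theorem s4_three_cycle_or_double : ∀ σ : Equiv.Perm (Fin 4), σ = 1 ∨
    (∃ ρ, ρ * σ * ρ⁻¹ = Equiv.swap 0 1 * Equiv.swap 2 3) ∨
    (∃ ρ, ρ * σ * ρ⁻¹ = Equiv.swap 0 1 * Equiv.swap 1 2) ∨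
    (∃ ρ, ρ * σ * ρ⁻¹ = Equiv.swap 0 1) ∨
    (∃ ρ, ρ * (σ * σ) * ρ⁻¹ = Equiv.swap 0 1 * Equiv.swap 2 3) := by
  decide +kernel

section
variable {G : Type*} [Group G]

/-- Evaluation of a normal form. -/
def s4Eval (a b c : G) (t : Fin 24) : G := ((s4Word t).map ![a, b, c]).prod

theorem s4Eval_next {a b c : G} (ha : a * a = 1) (hb : b * b = 1) (hc : c * c = 1)
    (hac : c * a = a * c) (hab : b * a * b = a * b * a) (hbc : c * b * c = b * c * b) :
    ∀ t i, s4Eval a b c t * ![a, b, c] i = s4Eval a b c (s4Next t i) := by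
  have a1 : ∀ x, a * (a * x) = x := fun x => by rw [← mul_assoc, ha, one_mul]
  have b1 : ∀ x, b * (b * x) = x := fun x => by rw [← mul_assoc, hb, one_mul]
  have c1 : ∀ x, c * (c * x) = x := fun x => by rw [← mul_assoc, hc, one_mul]
  have ca : ∀ x, c * (a * x) = a * (c * x) := fun x => by rw [← mul_assoc, hac, mul_assoc]
  have bab : b * (a * b) = a * (b * a) := by simpa [mul_assoc] using hab
  have bab' : ∀ x, b * (a * (b * x)) = a * (b * (a * x)) := fun x => by
    simpa [mul_assoc] using congrArg (· * x) hab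
  have cbc : c * (b * c) = b * (c * b) := by simpa [mul_assoc] using hbc
  have cbc' : ∀ x, c * (b * (c * x)) = b * (c * (b * x)) := fun x => by
    simpa [mul_assoc] using congrArg (· * x) hbc
  have cbac : c * (b * (a * c)) = b * (c * (b * a)) := by rw [← hac, cbc']
  have cbac' : ∀ x, c * (b * (a * (c * x))) = b * (c * (b * (a * x))) := fun x => by
    rw [← ca, cbc']
  intro t i
  fin_cases t <;> fin_cases i <;>
    simp [s4Eval, s4Word, s4Next, mul_assoc, a1, b1, c1, ha, hb, hc, hac, ca, bab, bab', cbc, cbc',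
      cbac, cbac']

/-- Three transpositions `a - b - c` with `a ≠ c` commuting give a copy of `S₄`. -/
theorem exists_s4_hom {D : Set G} (hD : IsThreeTranspositionSet D) {a b c : G} (ha : a ∈ D)
    (hb : b ∈ D) (hc : c ∈ D) (hac : a ≠ c) (hac' : Commute a c) (hab : ¬ Commute a b)
    (hbc : ¬ Commute b c) :
    ∃ φ : Equiv.Perm (Fin 4) →* G, Function.Injective φ ∧ φ (Equiv.swap 0 1) = a ∧
      φ (Equiv.swap 1 2) = b ∧ φ (Equiv.swap 2 3) = c := by
  choose idx hidx using s4Word_surj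
  let el : G → G → G → Fin 24 → G := fun a b c t => s4Eval a b c t
  have hnext := s4Eval_next (ts_mul_self hD ha) (ts_mul_self hD hb) (ts_mul_self hD hc)
    hac'.eq.symm (ts_braid hD hb ha fun h => hab h.symm) (ts_braid hD hc hb fun h => hbc h.symm)
  have hgen : ∀ σ i, el a b c (idx (σ * s4Gen i)) = el a b c (idx σ) * ![a, b, c] i := by
    intro σ i
    rw [hnext]
    congr 1
    apply s4Word_inj
    rw [hidx, ← s4Next_spec, hidx]
  have hword : ∀ (l : List (Fin 3)) (σ : Equiv.Perm (Fin 4)),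
      el a b c (idx (σ * (l.map s4Gen).prod)) = el a b c (idx σ) * (l.map ![a, b, c]).prod := by
    intro l
    induction l with
    | nil => intro σ; simp
    | cons x l ih =>
      intro σ
      rw [List.map_cons, List.prod_cons, ← mul_assoc, ih, hgen, List.map_cons, List.prod_cons,
        mul_assoc]
  let φ : Equiv.Perm (Fin 4) →* G := MonoidHom.mk' (fun σ => el a b c (idx σ)) fun σ τ => by
    conv_lhs => rw [← hidx τ, hword]
    rfl
  have hφ : ∀ i, φ (s4Gen i) = ![a, b, c] i := by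
    intro i
    have h := hgen 1 i
    rw [one_mul] at h
    have h1 : φ 1 = 1 := map_one φ
    show el a b c (idx (s4Gen i)) = _
    rw [h]
    show φ 1 * _ = _
    rw [h1, one_mul]
  have h0 : φ (Equiv.swap 0 1) = a := hφ 0
  have h1 : φ (Equiv.swap 1 2) = b := hφ 1
  have h2 : φ (Equiv.swap 2 3) = c := hφ 2
  refine ⟨φ, (injective_iff_map_eq_one φ).2 fun σ hσ => ?_, h0, h1, h2⟩
  rcases s4_three_cycle_or_double σ with h | ⟨ρ, h⟩ | ⟨ρ, h⟩ | ⟨ρ, h⟩ | ⟨ρ, h⟩
  · exact h
  all_goals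
    have hk := congrArg φ h
    simp only [map_mul, hσ, mul_one, map_inv, mul_inv_cancel, h0, h1, h2] at hk
    exfalso
  · exact hac (by rw [← ts_inv hD ha, inv_eq_of_mul_eq_one_right hk.symm])
  · refine hab ?_
    have h3 : a = b := by rw [← ts_inv hD ha, inv_eq_of_mul_eq_one_right hk.symm]
    rw [h3]
  · exact invol_ne_one (hD.1 a ha) hk.symm
  · exact hac (by rw [← ts_inv hD ha, inv_eq_of_mul_eq_one_right hk.symm])

end

end CfsgLib.ThreeTransp
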