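import Mathlib
import Cfsg.Agent.Lib.ThreeTransp.S4
import Cfsg.Agent.Lib.Base.Cores
import Cfsg.Agent.S0200

/-!
Transpositions with the same commuting set.
-/

set_option autoImplicit false
set_option linter.style.haveILetI false

namespace CfsgLib.ThreeTransp

open Cfsg CfsgLib.Involutions

variable {G : Type*} [Group G] {D : Set G}

/-- `v` commutes with the same members of `D` as `d`. -/
def SameC (D : Set G) (d v : G) : Prop := v ∈ D ∧ ∀ e ∈ D, Commute v e ↔ Commute d e

theorem sameC_refl {d : G} (hd : d ∈ D) : SameC D d d := ⟨hd, fun _ _ => Iff.rfl⟩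

theorem sameC_commute {d v : G} (hd : d ∈ D) (h : SameC D d v) : Commute d v :=
  ((h.2 d hd).2 (Commute.refl d)).symm

theorem sameC_conj (hconj : ∀ g : G, ∀ d ∈ D, g * d * g⁻¹ ∈ D) {d v : G} (h : SameC D d v) (g : G) :
    SameC D (g * d * g⁻¹) (g * v * g⁻¹) := by
  refine ⟨hconj g v h.1, fun e he => ?_⟩
  have he' : g * (g⁻¹ * e * g⁻¹⁻¹) * g⁻¹ = e := by simp [mul_assoc]
  rw [← he', commute_conj_iff, commute_conj_iff]
  exact h.2 _ (hconj g⁻¹ e he)

theorem sameC_trans {d v w : G} (h : SameC D d v) (h' : SameC D v w) : SameC D d w :=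
  ⟨h'.1, fun e he => (h'.2 e he).trans (h.2 e he)⟩

theorem sameC_symm {d v : G} (hd : d ∈ D) (h : SameC D d v) : SameC D v d :=
  ⟨hd, fun e he => (h.2 e he).symm⟩

/-- An involution whose products with its conjugates are 2-elements lies in `O₂`. -/
theorem mem_pCore_two [Finite G] {x : G} (hx : orderOf x = 2)
    (h : ∀ g : G, ∃ n : ℕ, (x * (g * x * g⁻¹)) ^ 2 ^ n = 1) : x ∈ Cfsg.pCore 2 G := by
  by_contra hnot
  obtain ⟨y, hy1, hyo, hyinv⟩ := Cfsg.Agent.S0200.result x hx fun N hN hNp hxN =>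
    hnot ((haveI := hN; CfsgLib.Base.le_pCore hNp) hxN)
  obtain ⟨n, hn⟩ := h y
  have h1 : x * (y * x * y⁻¹) = (y ^ 2)⁻¹ := by
    rw [← mul_assoc, ← mul_assoc]
    rw [invol_inv hx] at hyinv
    rw [hyinv, pow_two, mul_inv_rev]
  rw [h1, inv_pow, inv_eq_one, ← pow_mul] at hn
  apply hy1
  rw [← orderOf_eq_one_iff]
  refine Nat.eq_one_of_dvd_coprimes ?_ dvd_rfl (orderOf_dvd_of_pow_eq_one hn)
  exact (Nat.Coprime.mul_right (Nat.Coprime.symm ((Nat.prime_two.coprime_iff_not_dvd).2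
    hyo.not_two_dvd_nat)) (Nat.Coprime.pow_right n
      (Nat.Coprime.symm ((Nat.prime_two.coprime_iff_not_dvd).2 hyo.not_two_dvd_nat))))

theorem mem_pCore_of_commute_conj [Finite G] {x : G} (hx : orderOf x = 2)
    (h : ∀ g : G, Commute x (g * x * g⁻¹)) : x ∈ Cfsg.pCore 2 G :=
  mem_pCore_two hx fun g => ⟨1, by
    rw [pow_one, (h g).mul_pow, pow_two, pow_two, invol_mul_self hx,
      invol_mul_self (conj_invol g hx), one_mul]⟩

/-- The S₄ of a block `{d, v}` and a transposition `e` outside it. -/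
theorem sameC_conj_formulas (hD : IsThreeTranspositionSet D) {d v e : G} (hd : d ∈ D) (he : e ∈ D)
    (hv : SameC D d v) (hne : d ≠ v) (hde : ¬ Commute d e) :
    d * v * e * (d * v) = d * e * v * (e * d) ∧
    d * v * e * (d * v) ≠ e ∧
    (e * (d * v * e * (d * v))) * d * (e * (d * v * e * (d * v)))⁻¹ = v ∧
    d * v * (e * (d * v * e * (d * v))) =
      (d * e * d) * (d * v * (d * e * d) * (d * v)) := by
  have hev : ¬ Commute e v := fun h => hde ((hv.2 e he).1 h.symm)
  obtain ⟨φ, hinj, h0, h1, h2⟩ := exists_s4_hom hD hd he hv.1 hne (sameC_commute hd hv) hde hev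
  rw [← h0, ← h1, ← h2]
  simp only [← map_mul, ← map_inv, hinj.eq_iff, ne_eq]
  decide +kernel

theorem pair_invol (hD : IsThreeTranspositionSet D) {d v : G} (hd : d ∈ D) (hv : SameC D d v)
    (hne : d ≠ v) : orderOf (d * v) = 2 := by
  rw [invol_iff]
  refine ⟨?_, fun h => hne ?_⟩
  · have h1 := (invol_commute_iff (hD.1 d hd) (hD.1 v hv.1)).1 (sameC_commute hd hv)
    rwa [pow_two] at h1
  · rw [eq_inv_of_mul_eq_one_left h, ts_inv hD hv.1]

/-- The conjugate of `e` by `d v` is in the block of `e`. -/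
theorem sameC_translate (hD : IsThreeTranspositionSet D)
    (hconj : ∀ g : G, ∀ d ∈ D, g * d * g⁻¹ ∈ D) {d v e : G} (hd : d ∈ D) (he : e ∈ D)
    (hv : SameC D d v) (hne : d ≠ v) (hde : ¬ Commute d e) :
    SameC D e (d * v * e * (d * v)) := by
  rw [(sameC_conj_formulas hD hd he hv hne hde).1]
  have h := sameC_conj hconj hv (d * e)
  rw [mul_inv_rev, ts_inv hD hd, ts_inv hD he] at h
  have h3 : d * e * d * (e * d) = e := by
    rw [ts_braid hD hd he hde]
    simp only [mul_assoc]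
    rw [← mul_assoc e e, ts_mul_self hD he, one_mul, ts_mul_self hD hd, mul_one]
  rwa [h3] at h

/-- `d v` lies in `O₂(G)` for a pair with the same commuting set. -/
theorem sameC_mul_mem_pCore [Finite G] (hD : IsThreeTranspositionSet D)
    (hconj : ∀ g : G, ∀ d ∈ D, g * d * g⁻¹ ∈ D) {d v : G} (hd : d ∈ D) (hv : SameC D d v) :
    d * v ∈ Cfsg.pCore 2 G := by
  by_cases hne : d = v
  · subst hne; rw [ts_mul_self hD hd]; exact one_mem _
  have ht := pair_invol hD hd hv hne
  refine mem_pCore_two ht fun g => ?_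
  have hd' : g * d * g⁻¹ ∈ D := hconj g d hd
  have hv' := sameC_conj hconj hv g
  have hprod : g * (d * v) * g⁻¹ = g * d * g⁻¹ * (g * v * g⁻¹) := by simp [mul_assoc]
  rw [hprod]
  generalize g * d * g⁻¹ = d' at hd' hv'
  generalize g * v * g⁻¹ = v' at hv'
  by_cases hc : Commute d d'
  · have h1 : ∀ x ∈ D, (SameC D d x) → Commute x d' ∧ Commute x v' := fun x _ hx =>
      ⟨(hx.2 d' hd').2 hc, (hx.2 v' hv'.1).2 ((hv'.2 d hd).2 hc.symm).symm⟩
    obtain ⟨a1, a2⟩ := h1 d hd (sameC_refl hd)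
    obtain ⟨b1, b2⟩ := h1 v hv.1 hv
    refine ⟨1, ?_⟩
    rw [pow_one, ((a1.mul_right a2).mul_left (b1.mul_right b2)).mul_pow,
      (sameC_commute hd hv).mul_pow, (sameC_commute hd' hv').mul_pow, pow_two, pow_two, pow_two,
      pow_two, ts_mul_self hD hd, ts_mul_self hD hv.1, ts_mul_self hD hd', ts_mul_self hD hv'.1,
      one_mul, one_mul]
  · -- four pairwise commuting involutions
    have h2 := sameC_translate hD hconj hd hd' hv hne hc
    have hti : (d * v)⁻¹ = d * v := invol_inv ht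
    have hw := sameC_conj hconj hv' (d * v)
    rw [hti] at hw
    set v'' := d * v * d' * (d * v) with hv''
    set w := d * v * v' * (d * v) with hw'
    have hwS : SameC D d' w := sameC_trans h2 hw
    refine ⟨2, ?_⟩
    have hsq : (d * v * (d' * v')) ^ 2 = v'' * w * (d' * v') := by
      have e1 : d * v * (d' * v') * (d * v) = v'' * w := by
        rw [hv'', hw']
        simp only [mul_assoc]
        rw [show d * (v * (d * (v * (v' * (d * v))))) = (d * v) * (d * v) * (v' * (d * v)) by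
          simp [mul_assoc], invol_mul_self ht, one_mul]
      rw [pow_two, ← e1]; simp [mul_assoc]
    have hcomm : ∀ {x y : G}, SameC D d' x → SameC D d' y → Commute x y := fun hx hy =>
      sameC_commute hx.1 (sameC_trans (sameC_symm hd' hx) hy)
    have hsd := sameC_refl (D := D) hd'
    have hi : ∀ {x : G}, SameC D d' x → x ^ 2 = 1 := fun hx => by
      rw [pow_two, ts_mul_self hD hx.1]
    rw [show (2 : ℕ) ^ 2 = 2 * 2 from rfl, pow_mul, hsq,
      (((hcomm h2 hsd).mul_right (hcomm h2 hv')).mul_left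
        ((hcomm hwS hsd).mul_right (hcomm hwS hv'))).mul_pow,
      (hcomm h2 hwS).mul_pow, (hcomm hsd hv').mul_pow, hi h2, hi hwS, hi hsd, hi hv',
      one_mul, one_mul]

theorem sameC_of_mul_mem_pCore [Finite G] (hD : IsThreeTranspositionSet D) {d v : G} (hd : d ∈ D)
    (hv : v ∈ D) (h : d * v ∈ Cfsg.pCore 2 G) : SameC D d v := by
  have key : ∀ {d v : G}, d ∈ D → v ∈ D → d * v ∈ Cfsg.pCore 2 G →
      ∀ e ∈ D, Commute d e → Commute v e := by
    intro d v hd hv h e he hc
    have h1 : (QuotientGroup.mk d : G ⧸ Cfsg.pCore 2 G) = QuotientGroup.mk v := by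
      rw [QuotientGroup.eq, ts_inv hD hd]; exact h
    have h2 : (v * e) ^ 2 ∈ Cfsg.pCore 2 G := by
      rw [← QuotientGroup.eq_one_iff, QuotientGroup.mk_pow, QuotientGroup.mk_mul, ← h1,
        ← QuotientGroup.mk_mul, ← QuotientGroup.mk_pow,
        (invol_commute_iff (hD.1 d hd) (hD.1 e he)).1 hc, QuotientGroup.mk_one]
    obtain ⟨n, hn⟩ := CfsgLib.Base.isPGroup_pCore 2 G ⟨_, h2⟩
    refine ts_commute_of_twoPow hD hv he (n := n + 1) ?_
    have h3 : ((v * e) ^ 2) ^ 2 ^ n = 1 := by simpa using congrArg Subtype.val hn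
    rw [pow_succ, mul_comm, pow_mul]; exact h3
  have h' : v * d ∈ Cfsg.pCore 2 G := by
    have := inv_mem h
    rwa [mul_inv_rev, ts_inv hD hd, ts_inv hD hv] at this
  exact ⟨hv, fun e he => ⟨key hv hd h' e he, key hd hv h e he⟩⟩

theorem exists_not_commute {D : Set G} (hD : IsThreeTranspositionClass D)
    (h2 : ∃ a ∈ D, ∃ b ∈ D, a ≠ b) {d : G} (hd : d ∈ D) : ∃ e ∈ D, ¬ Commute d e := by
  obtain ⟨-, ⟨d₀, -, hD₀⟩, hgen⟩ := hD
  by_contra hcon
  push Not at hcon
  have hle : (⊤ : Subgroup G) ≤ Subgroup.centralizer ({d} : Set G) := by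
    rw [← hgen, Subgroup.closure_le]
    exact fun e he => Subgroup.mem_centralizer_singleton_iff.2 (hcon e he).eq.symm
  have hcen : ∀ g : G, g * d = d * g := fun g =>
    Subgroup.mem_centralizer_singleton_iff.1 (hle (Subgroup.mem_top g))
  obtain ⟨a, ha, b, hb, hab⟩ := h2
  rw [hD₀] at hd ha hb
  have key : ∀ x ∈ conjugatesOf d₀, x = d := by
    intro x hx
    obtain ⟨g, rfl⟩ := isConj_iff.1 (IsConj.trans (IsConj.symm (show IsConj d₀ d from hd)) hx)
    rw [hcen, mul_inv_cancel_right]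
  exact hab ((key a ha).trans (key b hb).symm)

theorem class_conj_mem {D : Set G} (hD : IsThreeTranspositionClass D) :
    ∀ g : G, ∀ d ∈ D, g * d * g⁻¹ ∈ D := by
  obtain ⟨-, ⟨d₀, -, hD₀⟩, -⟩ := hD
  intro g d hd
  rw [hD₀] at hd ⊢
  exact IsConj.trans hd (isConj_iff.2 ⟨g, rfl⟩)

theorem class_conjugate {D : Set G} (hD : IsThreeTranspositionClass D) {a b : G} (ha : a ∈ D)
    (hb : b ∈ D) : ∃ g : G, g * a * g⁻¹ = b := by
  obtain ⟨-, ⟨d₀, -, hD₀⟩, -⟩ := hD
  rw [hD₀] at ha hb
  exact isConj_iff.1 (IsConj.trans (IsConj.symm (show IsConj d₀ a from ha)) hb)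

/-- `V_d = D ∩ d O₂(G)` is the `O₂(G)`-orbit of `d`. -/
theorem sameC_set_eq [Finite G] (hD : IsThreeTranspositionClass D)
    (h2 : ∃ a ∈ D, ∃ b ∈ D, a ≠ b) {d : G} (hd : d ∈ D) :
    {v | SameC D d v} = {v | v ∈ D ∧ d⁻¹ * v ∈ Cfsg.pCore 2 G} ∧
      {v | SameC D d v} = {v | ∃ g ∈ Cfsg.pCore 2 G, v = g * d * g⁻¹} := by
  have hset := hD.1
  have hconj := class_conj_mem hD
  refine ⟨?_, ?_⟩
  · ext v
    simp only [Set.mem_ofPred_eq, ts_inv hset hd]
    exact ⟨fun h => ⟨h.1, sameC_mul_mem_pCore hset hconj hd h⟩,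
      fun h => sameC_of_mul_mem_pCore hset hd h.1 h.2⟩
  · ext v
    constructor
    · intro h
      by_cases hne : d = v
      · exact ⟨1, one_mem _, by simp [hne]⟩
      obtain ⟨e, he, hde⟩ := exists_not_commute hD h2 hd
      obtain ⟨-, -, h3, -⟩ := sameC_conj_formulas hset hd he h hne hde
      exact ⟨_, sameC_mul_mem_pCore hset hconj he (sameC_translate hset hconj hd he h hne hde),
        h3.symm⟩
    · rintro ⟨g, hg, rfl⟩
      refine sameC_of_mul_mem_pCore hset hd (hconj g d hd) ?_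
      have := mul_mem ((Cfsg.pCore_normal 2 G).conj_mem g hg d) (inv_mem hg)
      rw [ts_inv hset hd] at this
      simpa [mul_assoc] using this

/-- The case of commuting sets of two elements: `S₄`. -/
theorem nonempty_s4_of_two [Finite G] (hD : IsThreeTranspositionClass D)
    (h2 : ∃ a ∈ D, ∃ b ∈ D, a ≠ b) {d : G} (hd : d ∈ D)
    (hV : {y : G | y ∈ D ∧ Commute d y} = {v : G | SameC D d v})
    (hm : {y : G | y ∈ D ∧ Commute d y}.ncard = 2) : Nonempty (G ≃* Equiv.Perm (Fin 4)) := by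
  have hset := hD.1
  have hconj := class_conj_mem hD
  -- every member has exactly one partner
  have htwo : ∀ f ∈ D, ∃ f', f' ≠ f ∧ SameC D f f' ∧ ∀ y ∈ D, Commute f y → y = f ∨ y = f' := by
    intro f hf
    obtain ⟨g, rfl⟩ := class_conjugate hD hd hf
    obtain ⟨x, y, hxy, hset2⟩ := Set.ncard_eq_two.1 hm
    have hd2 : d ∈ ({x, y} : Set G) := hset2 ▸ ⟨hd, Commute.refl d⟩
    obtain ⟨d', hd'ne, hd'⟩ : ∃ d', d' ≠ d ∧ {y : G | y ∈ D ∧ Commute d y} = {d, d'} := by
      rcases hd2 with h | h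
      · exact ⟨y, fun h' => hxy (h.symm.trans h'.symm), by rw [hset2, h]⟩
      · rw [Set.mem_singleton_iff] at h
        exact ⟨x, fun h' => hxy (h'.trans h), by rw [hset2, h, Set.pair_comm]⟩
    have hd'S : SameC D d d' := by
      have h' : d' ∈ {y : G | y ∈ D ∧ Commute d y} := by rw [hd']; exact Or.inr rfl
      rw [hV] at h'; exact h'
    refine ⟨g * d' * g⁻¹, by simpa using hd'ne, sameC_conj hconj hd'S g, fun y hy hc => ?_⟩
    have he : g * (g⁻¹ * y * g⁻¹⁻¹) * g⁻¹ = y := by simp [mul_assoc]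
    rw [← he] at hc
    rw [commute_conj_iff] at hc
    have h' : g⁻¹ * y * g⁻¹⁻¹ ∈ ({d, d'} : Set G) := hd' ▸ ⟨hconj _ y hy, hc⟩
    rcases h' with h' | h'
    · left; rw [← he, h']
    · right; rw [← he, Set.mem_singleton_iff.1 h']
  obtain ⟨v, hvne, hvS, hdonly⟩ := htwo d hd
  obtain ⟨e, he, hde⟩ := exists_not_commute hD h2 hd
  have hev : ¬ Commute e v := fun h => hde ((hvS.2 e he).1 h.symm)
  obtain ⟨φ, hinj, h0, h1, h2'⟩ :=
    exists_s4_hom hset hd he hvS.1 (Ne.symm hvne) (sameC_commute hd hvS) hde hev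
  refine ⟨(MulEquiv.ofBijective φ ⟨hinj, MonoidHom.range_eq_top.1 ?_⟩).symm⟩
  rw [eq_top_iff, ← hD.2.2, Subgroup.closure_le]
  intro f hf
  rw [SetLike.mem_coe]
  by_contra hfr
  have mem : ∀ σ, φ σ ∈ φ.range := fun σ => ⟨σ, rfl⟩
  have hdm : d ∈ φ.range := h0 ▸ mem _
  have hem : e ∈ φ.range := h1 ▸ mem _
  have hvm : v ∈ φ.range := h2' ▸ mem _
  obtain ⟨f', hf'ne, hf'S, honly⟩ := htwo f hf
  -- a pair inside the range moves `f` to its partner
  have move : ∀ a b : G, a ∈ φ.range → b ∈ φ.range → a ∈ D → SameC D a b → a ≠ b →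
      a * b * f * (a * b) = f' ∧ a * b * f' * (a * b) = f := by
    intro a b ham hbm ha hab hne
    obtain ⟨a', ha'ne, -, haonly⟩ := htwo a ha
    have hab' : a' = b := ((haonly b hab.1 (sameC_commute ha hab)).resolve_left (Ne.symm hne)).symm
    have hnc : ¬ Commute a f := fun hc => by
      rcases haonly f hf hc with h | h
      · exact hfr (h ▸ ham)
      · exact hfr (h ▸ hab' ▸ hbm)
    have hS := sameC_translate hset hconj ha hf hab hne hnc
    have hneq := (sameC_conj_formulas hset ha hf hab hne hnc).2.1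
    have h := (honly _ hS.1 (sameC_commute hf hS)).resolve_left hneq
    refine ⟨h, ?_⟩
    rw [← h]
    have ht := invol_mul_self (pair_invol hset ha hab hne)
    calc a * b * (a * b * f * (a * b)) * (a * b) = (a * b * (a * b)) * f * (a * b * (a * b)) := by
          simp [mul_assoc]
      _ = f := by rw [ht, one_mul, mul_one]
  obtain ⟨-, -, -, hfour⟩ := sameC_conj_formulas hset hd he hvS (Ne.symm hvne) hde
  have hep := sameC_translate hset hconj hd he hvS (Ne.symm hvne) hde
  have hene := (sameC_conj_formulas hset hd he hvS (Ne.symm hvne) hde).2.1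
  have hded : d * e * d ∈ D := by
    have := hconj d e he; rwa [ts_inv hset hd] at this
  have hdde : ¬ Commute d (d * e * d) := by
    intro h
    apply hde
    have h1 := (commute_conj_iff (x := d) (y := d * e * d) d).2 h
    rwa [ts_inv hset hd, ts_mul_self hset hd, one_mul, ← mul_assoc, ← mul_assoc,
      ts_mul_self hset hd, one_mul, mul_assoc, ts_mul_self hset hd, mul_one] at h1
  have hdp := sameC_translate hset hconj hd hded hvS (Ne.symm hvne) hdde
  have hdne := (sameC_conj_formulas hset hd hded hvS (Ne.symm hvne) hdde).2.1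
  obtain ⟨m1, m1'⟩ := move d v hdm hvm hd hvS (Ne.symm hvne)
  obtain ⟨m2, -⟩ := move e _ hem (mul_mem (mul_mem (mul_mem hdm hvm) hem) (mul_mem hdm hvm)) he hep
    (Ne.symm hene)
  obtain ⟨m3, -⟩ := move (d * e * d) _ (mul_mem (mul_mem hdm hem) hdm)
    (mul_mem (mul_mem (mul_mem hdm hvm) (mul_mem (mul_mem hdm hem) hdm)) (mul_mem hdm hvm)) hded hdp
    (Ne.symm hdne)
  apply hf'ne
  have hi2 := invol_inv (pair_invol hset he hep (Ne.symm hene))
  have hi3 := invol_inv (pair_invol hset hded hdp (Ne.symm hdne))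
  set t := d * v with ht
  set t' := e * (t * e * t) with ht'
  set t'' := d * e * d * (t * (d * e * d) * t) with ht''
  have hti : t⁻¹ = t := invol_inv (pair_invol hset hd hvS (Ne.symm hvne))
  calc f' = t'' * f * t'' := m3.symm
    _ = t * t' * f * (t * t')⁻¹ := by
      rw [show t * t' = t'' from hfour, hi3]
    _ = t * (t' * f * t') * t := by rw [mul_inv_rev, hti, hi2]; simp [mul_assoc]
    _ = f := by rw [m2, m1']

end CfsgLib.ThreeTransp
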