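import Cfsg.Agent.Lib.ThreeTransp.Neighbours
import Cfsg.Agent.Lib.ThreeTransp.ZStarOdd
import Cfsg.Agent.Lib.ThreeTransp.Blocks

/-!
Fischer's hypotheses (no solvable normal subgroup, perfect derived group) imply primitivity.
-/

set_option autoImplicit false
set_option linter.style.haveILetI false

namespace CfsgLib.ThreeTransp

open Cfsg CfsgLib.Involutions
open scoped commutatorElement

universe u

variable {G : Type u} [Group G] [Finite G] {D : Set G}

omit [Finite G] in
theorem commutator_self_of_solvable {A : Type*} [Group A] [Group.IsSolvable A] {P : Subgroup A}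
    (h : ⁅P, P⁆ = P) : P = ⊥ := by
  obtain ⟨n, hn⟩ := (Group.isSolvable_def A).1 inferInstance
  have : ∀ k, P ≤ derivedSeries A k := by
    intro k
    induction k with
    | zero => exact le_top
    | succ k ih => rw [← h]; exact Subgroup.commutator_mono ih ih
  exact le_bot_iff.1 (hn ▸ this n)

/-- Fischer's hypotheses give a primitive class. -/
theorem TClass.primitive_of_fischer (hC : TClass D)
    (hsol : ∀ N : Subgroup G, N.Normal → Group.IsSolvable ↥N → N = ⊥)
    (hperf : ⁅commutator G, commutator G⁆ = commutator G) : IsPrimitiveUnderConj D := by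
  haveI : Fact (Nat.Prime 2) := ⟨Nat.prime_two⟩
  haveI : Fact (Nat.Prime 3) := ⟨Nat.prime_three⟩
  have hcore : ∀ p : ℕ, p.Prime → pCore p G ≤ Subgroup.center G := by
    intro p hp
    haveI : Fact p.Prime := ⟨hp⟩
    haveI : Group.IsNilpotent (pCore p G) := (Base.isPGroup_pCore p G).isNilpotent
    rw [hsol (pCore p G) inferInstance inferInstance]
    exact bot_le
  have h2 := hcore 2 Nat.prime_two
  have h3 := hcore 3 Nat.prime_three
  obtain ⟨L, hLn, hL, hF⟩ := hC.exists_layer h2 h3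
  refine hC.primitive_of_index h2 h3 hL hF ?_
  haveI := hLn
  obtain ⟨d, hd, -⟩ := hC.two
  suffices hsame : ∀ e ∈ D, d * e ∈ L by
    have htop : L ⊔ Subgroup.zpowers d = ⊤ := by
      refine top_unique (hC.gen ▸ (Subgroup.closure_le _).2 fun e he => ?_)
      have e1 : e = d * (d * e) := by rw [← mul_assoc, ts_mul_self hC.ts hd, one_mul]
      rw [SetLike.mem_coe, e1]
      exact mul_mem (Subgroup.mem_sup_right (Subgroup.mem_zpowers d))
        (Subgroup.mem_sup_left (hsame e he))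
    have hsurj : Function.Surjective
        ((QuotientGroup.mk' L).comp (Subgroup.zpowers d).subtype) := by
      intro q
      induction q using QuotientGroup.induction_on with
      | H g =>
        obtain ⟨z, hz, y, hy, rfl⟩ := Subgroup.mem_sup_of_normal_left.1 (htop ▸ Subgroup.mem_top g)
        refine ⟨⟨y, hy⟩, ?_⟩
        show (y : G ⧸ L) = ((z * y : G) : G ⧸ L)
        rw [QuotientGroup.mk_mul, (QuotientGroup.eq_one_iff z).2 hz, one_mul]
    have := Nat.card_le_card_of_surjective _ hsurj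
    rwa [Nat.card_zpowers, ts_invol hC.ts hd] at this
  by_cases hdL : d ∈ L
  · intro e he
    obtain ⟨g, rfl⟩ := hC.trans d hd e he
    exact mul_mem hdL (hLn.conj_mem d hdL g)
  set π := QuotientGroup.mk' L with hπ
  have hinv : ∀ e ∈ D, orderOf (π e) = 2 := by
    intro e he
    refine orderOf_eq_prime (by rw [← map_pow, pow_two, ts_mul_self hC.ts he, map_one]) fun h => hdL ?_
    obtain ⟨g, rfl⟩ := hC.trans e he d hd
    exact hLn.conj_mem e ((QuotientGroup.eq_one_iff e).1 h) g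
  have hD' : IsThreeTranspositionGroup (π '' D) := by
    refine ⟨⟨?_, ?_⟩, ?_, ?_⟩
    · rintro _ ⟨e, he, rfl⟩; exact hinv e he
    · rintro _ ⟨a, ha, rfl⟩ _ ⟨b, hb, rfl⟩
      rcases hC.ts.2 a ha b hb with h | h
      · left; rw [← map_mul, ← map_pow, h, map_one]
      · right; rw [← map_mul, ← map_pow, h, map_one]
    · rintro q _ ⟨e, he, rfl⟩
      obtain ⟨g, rfl⟩ := QuotientGroup.mk'_surjective L q
      exact ⟨g * e * g⁻¹, hC.conj g e he, by simp [map_mul, map_inv, π]⟩
    · rw [← MonoidHom.map_closure, hC.gen, Subgroup.map_top_of_surjective _ (QuotientGroup.mk'_surjective L)]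
  have heq : ∀ a ∈ D, ∀ b ∈ D, Commute (π a) (π b) → π a = π b := by
    intro a ha b hb hc
    have h : a * b * a⁻¹ * b⁻¹ ∈ L := by
      rw [← QuotientGroup.eq_one_iff]
      show π (a * b * a⁻¹ * b⁻¹) = 1
      rw [map_mul, map_mul, map_mul, map_inv, map_inv, hc.eq]
      group
    exact QuotientGroup.eq.2 (hC.inv_mul_mem_of_commutator hL ha hb h)
  have hw : commutingWidth (π '' D) = 1 := by
    refine IsGreatest.csSup_eq ⟨⟨{π d}, Set.singleton_subset_iff.2 ⟨d, hd, rfl⟩,
      Set.finite_singleton _, by rintro _ rfl _ rfl; exact Commute.refl _,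
      Set.ncard_singleton _⟩, ?_⟩
    rintro n ⟨E, hE, -, hEc, rfl⟩
    refine (Set.ncard_le_one_iff (Set.toFinite E)).2 fun {x y} hx hy => ?_
    obtain ⟨a, ha, rfl⟩ := hE hx
    obtain ⟨b, hb, rfl⟩ := hE hy
    exact heq a ha b hb (hEc _ hx _ hy)
  have htop := (commutingWidth_eq_one_iff hD' ⟨d, hd, rfl⟩).1 hw
  haveI : Group.IsNilpotent (pCore 3 (G ⧸ L)) := (Base.isPGroup_pCore 3 (G ⧸ L)).isNilpotent
  haveI : Group.IsSolvable (G ⧸ L) := solvable_of_quotient_cyclic (N := pCore 3 (G ⧸ L)) inferInstance htop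
  have hab : (commutator G).map π = ⊥ := commutator_self_of_solvable (by
    rw [← Subgroup.map_commutator, hperf])
  intro e he
  obtain ⟨g, rfl⟩ := hC.trans d hd e he
  rw [← QuotientGroup.eq_one_iff]
  show π (d * (g * d * g⁻¹)) = 1
  have h1 : π ⁅g, d⁆ = 1 := by
    rw [← Subgroup.mem_bot, ← hab]
    exact ⟨_, Subgroup.commutator_mem_commutator (Subgroup.mem_top g) (Subgroup.mem_top d), rfl⟩
  have e1 : d * (g * d * g⁻¹) = d * ⁅g, d⁆ * d := by rw [commutatorElement_def]; group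
  rw [e1, map_mul, map_mul, h1, mul_one, ← map_mul, ts_mul_self hC.ts hd, map_one]

/-- Transitivity on the neighbours under Fischer's hypotheses. -/
theorem neighbours_transitive (hsol : ∀ N : Subgroup G, N.Normal → Group.IsSolvable ↥N → N = ⊥)
    (hperf : ⁅commutator G, commutator G⁆ = commutator G) (hD : IsThreeTranspositionClass D) {x y y' : G}
    (hx : x ∈ D) (hy : y ∈ nb D x) (hy' : y' ∈ nb D x) : y' ∈ orb (nb D x) y := by
  have hC := tclass_of_class hD ⟨y, hy.1, x, hx, hy.2.1⟩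
  exact hC.orb_nb (hC.primitive_of_fischer hsol hperf) hx hy hy'

omit [Finite G] in
theorem isPGroup_two_closure (hT : IsThreeTranspositionSet D) {E : Set G} (hE : E ⊆ D)
    (hc : ∀ a ∈ E, ∀ b ∈ E, Commute a b) : IsPGroup 2 (Subgroup.closure E) := by
  haveI := Subgroup.isMulCommutative_closure (k := E) fun a ha b hb => (hc a ha b hb).eq
  rintro ⟨x, hx⟩
  refine ⟨1, Subtype.ext ?_⟩
  show x ^ 2 ^ 1 = 1
  rw [pow_one, pow_two]
  refine Subgroup.closure_induction (fun y hy => ts_mul_self hT (hE hy)) (by simp) ?_ ?_ hx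
  · intro u v hu hv h1 h2
    have hcuv : u * v = v * u := congrArg Subtype.val
      (mul_comm' (⟨u, hu⟩ : Subgroup.closure E) ⟨v, hv⟩)
    calc u * v * (u * v) = u * (v * u) * v := by simp [mul_assoc]
      _ = u * u * (v * v) := by rw [← hcuv]; simp [mul_assoc]
      _ = 1 := by rw [h1, h2, one_mul]
  · intro u _ h1
    rw [← mul_inv_rev, h1, inv_one]

/-- A largest commuting set is the set of members in a Sylow 2-subgroup, and is doubly transitive. -/
theorem max_commuting_normalizer (hsol : ∀ N : Subgroup G, N.Normal → Group.IsSolvable ↥N → N = ⊥)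
    (hperf : ⁅commutator G, commutator G⁆ = commutator G) (hD : IsThreeTranspositionClass D)
    {E : Set G} (hE : E ⊆ D) (hc : ∀ a ∈ E, ∀ b ∈ E, Commute a b)
    (hmax : ∀ E' : Set G, E' ⊆ D → (∀ a ∈ E', ∀ b ∈ E', Commute a b) → E'.ncard ≤ E.ncard) :
    (∃ P : Sylow 2 G, (P : Subgroup G) ≤ Subgroup.normalizer E) ∧
      ∀ a ∈ E, ∀ b ∈ E, ∀ c ∈ E, ∀ d ∈ E, a ≠ b → c ≠ d →
        ∃ g ∈ Subgroup.normalizer E, g * a * g⁻¹ = c ∧ g * b * g⁻¹ = d := by
  classical
  have hT := hD.1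
  have hconj := class_conj_mem hD
  have hsat : ∀ (H : Subgroup G), IsPGroup 2 H → (∀ e ∈ E, e ∈ H) → ∀ x ∈ D, x ∈ H → x ∈ E := by
    intro H hH hEH x hx hxH
    have hsub : E ⊆ {y | y ∈ D ∧ y ∈ H} := fun e he => ⟨hE he, hEH e he⟩
    have := Set.eq_of_subset_of_ncard_le hsub (hmax _ (fun y hy => hy.1) fun a ha b hb =>
      ts_commute_of_mem_pgroup hT ha.1 hb.1 hH ha.2 hb.2) (Set.toFinite _)
    exact this.symm ▸ ⟨hx, hxH⟩
  have hnorm : ∀ g : G, (∀ e ∈ E, g * e * g⁻¹ ∈ E) → g ∈ Subgroup.normalizer E := by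
    intro g hg
    have himg : (fun e => g * e * g⁻¹) '' E = E := Set.eq_of_subset_of_ncard_le
      (Set.image_subset_iff.2 hg) (le_of_eq (Set.ncard_image_of_injective _ fun a b h =>
        mul_left_cancel (mul_right_cancel h)).symm) (Set.toFinite _)
    exact Subgroup.mem_normalizer_iff_conj_image_eq.2 himg
  obtain ⟨T, hT2⟩ := (isPGroup_two_closure hT hE hc).exists_le_sylow
  refine ⟨⟨T, fun t ht => hnorm t fun e he => hsat T T.isPGroup'
    (fun e' he' => hT2 (Subgroup.subset_closure he')) _ (hconj t e (hE he))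
    (mul_mem (mul_mem ht (hT2 (Subgroup.subset_closure he))) (inv_mem ht))⟩, ?_⟩
  intro a ha b hb c hc' d hd hab hcd
  obtain ⟨g₁, hg₁⟩ := class_conjugate hD (hE ha) (hE hc')
  have hb1 : g₁ * b * g₁⁻¹ ∈ nb D c := by
    refine ⟨hconj g₁ b (hE hb), fun h => hab ?_, ?_⟩
    · rw [← hg₁] at h; exact (mul_left_cancel (mul_right_cancel h)).symm
    · rw [← hg₁]; exact (commute_conj_iff g₁).2 (hc a ha b hb)
  obtain ⟨h, hh, hhd⟩ := neighbours_transitive hsol hperf hD (hE hc') hb1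
    ⟨hE hd, hcd.symm, hc c hc' d hd⟩
  set g := h * g₁ with hgdef
  have hga : g * a * g⁻¹ = c := by
    rw [hgdef, show h * g₁ * a * (h * g₁)⁻¹ = h * (g₁ * a * g₁⁻¹) * h⁻¹ by group, hg₁,
      (commute_closure_nb hh).eq, mul_inv_cancel_right]
  have hgb : g * b * g⁻¹ = d := by
    rw [hgdef, show h * g₁ * b * (h * g₁)⁻¹ = h * (g₁ * b * g₁⁻¹) * h⁻¹ by group, hhd]
  let C : Subgroup G := Subgroup.centralizer ({c, d} : Set G)
  have hEC : ∀ e ∈ E, e ∈ C := by
    intro e he
    refine Subgroup.mem_centralizer_iff.2 ?_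
    rintro y (rfl | rfl)
    · exact (hc y hc' e he).eq
    · exact (hc y hd e he).eq
  let E' : Set G := (fun e => g * e * g⁻¹) '' E
  have hE' : E' ⊆ D := by rintro _ ⟨e, he, rfl⟩; exact hconj g e (hE he)
  have hc2 : ∀ u ∈ E', ∀ v ∈ E', Commute u v := by
    rintro _ ⟨u, hu, rfl⟩ _ ⟨v, hv, rfl⟩; exact (commute_conj_iff g).2 (hc u hu v hv)
  have hEC' : ∀ e ∈ E', e ∈ C := by
    intro e he
    refine Subgroup.mem_centralizer_iff.2 ?_
    rintro y (rfl | rfl)
    · exact (hc2 y ⟨a, ha, hga⟩ e he).eq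
    · exact (hc2 y ⟨b, hb, hgb⟩ e he).eq
  obtain ⟨S, hS⟩ := ((isPGroup_two_closure hT hE hc).comap_of_injective C.subtype
    C.subtype_injective).exists_le_sylow
  obtain ⟨S', hS'⟩ := ((isPGroup_two_closure hT hE' hc2).comap_of_injective C.subtype
    C.subtype_injective).exists_le_sylow
  obtain ⟨k, hk⟩ := MulAction.exists_smul_eq C S' S
  refine ⟨(k : G) * g, hnorm _ fun e he => ?_, ?_, ?_⟩
  · rw [show (k : G) * g * e * ((k : G) * g)⁻¹ = (k : G) * (g * e * g⁻¹) * (k : G)⁻¹ by group]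
    have he' : g * e * g⁻¹ ∈ E' := ⟨e, he, rfl⟩
    refine hsat ((S : Subgroup C).map C.subtype) (S.isPGroup'.map _)
      (fun e0 he0 => ⟨⟨e0, hEC e0 he0⟩, hS (show C.subtype ⟨e0, hEC e0 he0⟩ ∈ _ from
        Subgroup.subset_closure he0), rfl⟩) _ (hconj k _ (hE' he')) ?_
    rw [← hk]
    exact ⟨k * ⟨_, hEC' _ he'⟩ * k⁻¹, ⟨⟨_, hEC' _ he'⟩, hS' (show C.subtype ⟨_, hEC' _ he'⟩ ∈ _ from
      Subgroup.subset_closure he'), rfl⟩, rfl⟩
  · rw [show (k : G) * g * a * ((k : G) * g)⁻¹ = (k : G) * (g * a * g⁻¹) * (k : G)⁻¹ by group, hga,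
      ← Subgroup.mem_centralizer_iff.1 k.2 c (Or.inl rfl), mul_inv_cancel_right]
  · rw [show (k : G) * g * b * ((k : G) * g)⁻¹ = (k : G) * (g * b * g⁻¹) * (k : G)⁻¹ by group, hgb,
      ← Subgroup.mem_centralizer_iff.1 k.2 d (Or.inr rfl), mul_inv_cancel_right]

end CfsgLib.ThreeTransp
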