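import Mathlib
import Cfsg.Prelude.Def_RootSubgroups
import Cfsg.Agent.Lib.ThreeTransp.Blocks

/-!
Root involutions: the graph of odd products and its isolated vertices.
-/

set_option autoImplicit false

namespace CfsgLib.ThreeTransp

open Cfsg CfsgLib.Involutions

variable {G : Type*} [Group G] {D : Set G}

/-- The isolated vertices of the odd product graph. -/
abbrev oddIsolated (D : Set G) : Set G := {w | IsIsolatedElem (OddAdj D) D w}

theorem oddAdj_symm (hD : IsRootInvolutionSet D) {a b : G} (h : OddAdj D a b) : OddAdj D b a := by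
  obtain ⟨ha, hb, hne, ho⟩ := h
  refine ⟨hb, ha, hne.symm, ?_⟩
  have : b * a = (a * b)⁻¹ := by
    rw [mul_inv_rev, invol_inv (hD.orderOf_eq a ha), invol_inv (hD.orderOf_eq b hb)]
  rwa [this, orderOf_inv]

theorem oddAdj_conj (hD : IsRootInvolutionSet D) {a b : G} (h : OddAdj D a b) (g : G) :
    OddAdj D (g * a * g⁻¹) (g * b * g⁻¹) := by
  obtain ⟨ha, hb, hne, ho⟩ := h
  refine ⟨hD.conj_mem a ha g, hD.conj_mem b hb g, fun e => hne (by simpa using e), ?_⟩
  rwa [show g * a * g⁻¹ * (g * b * g⁻¹) = g * (a * b) * g⁻¹ by simp [mul_assoc], orderOf_conj_eq]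

theorem oddReach_symm (hD : IsRootInvolutionSet D) {a b : G}
    (h : Relation.ReflTransGen (OddAdj D) a b) : Relation.ReflTransGen (OddAdj D) b a := by
  induction h with
  | refl => exact Relation.ReflTransGen.refl
  | tail _ h2 ih => exact Relation.ReflTransGen.head (oddAdj_symm hD h2) ih

theorem oddComponent_eq (hD : IsRootInvolutionSet D) {a b : G}
    (h : b ∈ elemComponentOf (OddAdj D) D a) :
    elemComponentOf (OddAdj D) D a = elemComponentOf (OddAdj D) D b := by
  ext c
  exact ⟨fun hc => ⟨hc.1, (oddReach_symm hD h.2).trans hc.2⟩, fun hc => ⟨hc.1, h.2.trans hc.2⟩⟩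

theorem exists_adj_of_component {a : G}
    (h : ∃ a' ∈ elemComponentOf (OddAdj D) D a, a' ≠ a) : ∃ e, OddAdj D a e := by
  obtain ⟨a', ⟨-, hr⟩, hne⟩ := h
  obtain rfl | ⟨c, hc, -⟩ := hr.cases_head
  · exact absurd rfl hne
  · exact ⟨c, hc⟩

theorem oddIsolated_conj (hD : IsRootInvolutionSet D) {w : G} (hw : w ∈ oddIsolated D) (g : G) :
    g * w * g⁻¹ ∈ oddIsolated D := by
  refine ⟨hD.conj_mem w hw.1 g, fun b => ?_⟩
  have key : ¬ OddAdj D (g * w * g⁻¹) b := fun h => by
    have := oddAdj_conj hD h g⁻¹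
    rw [show g⁻¹ * (g * w * g⁻¹) * g⁻¹⁻¹ = w by simp [mul_assoc]] at this
    exact (hw.2 _).1 this
  exact ⟨key, fun h => key (oddAdj_symm hD h)⟩

theorem adj_of_not_isolated (hD : IsRootInvolutionSet D) {x : G} (hx : x ∈ D)
    (h : x ∉ oddIsolated D) : ∃ f, OddAdj D x f := by
  by_contra hne
  push Not at hne
  exact h ⟨hx, fun b => ⟨hne b, fun hb => hne b (oddAdj_symm hD hb)⟩⟩

theorem pow_four_of_not_adj (hD : IsRootInvolutionSet D) {a b : G} (ha : a ∈ D) (hb : b ∈ D)
    (h : ¬ OddAdj D a b) : (a * b) ^ 4 = 1 := by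
  have h2 : a * b = b * a → (a * b) ^ 4 = 1 := fun hc => by
    rw [pow_mul (a * b) 2 2, (show Commute a b from hc).mul_pow, pow_two a, pow_two b,
      invol_mul_self (hD.orderOf_eq a ha), invol_mul_self (hD.orderOf_eq b hb), one_mul, one_pow]
  rcases hD.pair a ha b hb with hc | ho | ⟨h4, -⟩
  · exact h2 hc
  · by_cases hab : a = b
    · exact h2 (by rw [hab])
    · exact absurd ⟨ha, hb, hab, ho⟩ h
  · rw [← h4]; exact pow_orderOf_eq_one _

theorem oddIsolated_pow_four (hD : IsRootInvolutionSet D) {v w : G} (hv : v ∈ oddIsolated D)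
    (hw : w ∈ D) : (v * w) ^ 4 = 1 :=
  pow_four_of_not_adj hD hv.1 hw (hv.2 w).1

theorem oddIsolated_isPGroup [Finite G] (hD : IsRootInvolutionSet D) :
    IsPGroup 2 ↥(Subgroup.closure (oddIsolated D)) := by
  have hle : Subgroup.closure (oddIsolated D) ≤ pCore 2 G := by
    rw [Subgroup.closure_le]
    exact fun w hw => mem_pCore_two (hD.orderOf_eq w hw.1) fun g =>
      ⟨2, oddIsolated_pow_four hD hw (hD.conj_mem w hw.1 g)⟩
  exact (CfsgLib.Base.isPGroup_pCore 2 G).to_le hle

theorem oddIsolated_normal (hD : IsRootInvolutionSet D) :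
    (Subgroup.closure (oddIsolated D)).Normal := by
  have hset : Group.conjugatesOfSet (oddIsolated D) = oddIsolated D := by
    refine Set.Subset.antisymm ?_ Group.subset_conjugatesOfSet
    intro x hx
    obtain ⟨a, ha, h⟩ := Group.mem_conjugatesOfSet_iff.1 hx
    obtain ⟨c, rfl⟩ := isConj_iff.1 h
    exact oddIsolated_conj hD ha c
  rw [← hset]; exact Subgroup.normalClosure_normal

theorem oddIsolated_inter [Finite G] (hD : IsRootInvolutionSet D) :
    (Subgroup.closure (oddIsolated D) : Set G) ∩ D = oddIsolated D := by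
  refine Set.Subset.antisymm ?_ fun w hw => ⟨Subgroup.subset_closure hw, hw.1⟩
  rintro d ⟨hdW, hd⟩
  by_contra hiso
  obtain ⟨e, -, he, hne, ho⟩ := adj_of_not_isolated hD hd hiso
  obtain ⟨g, hg⟩ := isConj_iff.1
    (isConj_of_odd_prod (hD.orderOf_eq d hd) (hD.orderOf_eq e he) ho)
  have heW : e ∈ Subgroup.closure (oddIsolated D) := hg ▸ (oddIsolated_normal hD).conj_mem d hdW g
  obtain ⟨n, hn⟩ := oddIsolated_isPGroup hD ⟨d * e, mul_mem hdW heW⟩
  have h1 : orderOf (d * e) ∣ 2 ^ n := orderOf_dvd_of_pow_eq_one (congrArg Subtype.val hn)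
  have h2 : orderOf (d * e) = 1 :=
    Nat.eq_one_of_dvd_coprimes (Nat.Coprime.pow_left n (Nat.coprime_two_left.2 ho)) h1 dvd_rfl
  rw [orderOf_eq_one_iff, mul_eq_one_iff_eq_inv, invol_inv (hD.orderOf_eq e he)] at h2
  exact hne h2

/-- If `a`, `x`, `a x` are commuting members and `e` is a neighbour of `a`, then `e` is a neighbour of
`a x` unless `x` lies in the component of `a`. -/
theorem adj_mul_of_adj (hD : IsRootInvolutionSet D) {a x e : G} (hx : x ∈ D)
    (hax : a * x = x * a) (haxD : a * x ∈ D) (he : OddAdj D a e)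
    (hK : ∀ f, Relation.ReflTransGen (OddAdj D) a f → ¬ OddAdj D f x) : OddAdj D e (a * x) := by
  obtain ⟨ha, heD, hne, ho⟩ := he
  have ia := hD.orderOf_eq a ha
  have ie := hD.orderOf_eq e heD
  have ix := hD.orderOf_eq x hx
  -- the rotations
  set r := e * a with hr
  have hr' : r = (a * e)⁻¹ := by rw [hr, mul_inv_rev, invol_inv ia, invol_inv ie]
  have hcomm : ∀ n : ℕ, Commute x (r ^ n * x * (r ^ n)⁻¹) := by
    intro n
    set e' := a * (a * e) ^ (n : ℤ) with he'
    have he'D : e' ∈ D := refl_mem (fun g d hd => hD.conj_mem d hd g) ha heD ia ie n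
    have hre : r ^ n = e' * a := by
      rw [he', zpow_natCast, hr']
      have h1 : ∀ m : ℕ, a * (a * e) ^ m * a = ((a * e)⁻¹) ^ m := by
        intro m
        induction m with
        | zero => simp [invol_mul_self ia]
        | succ m ih =>
          rw [pow_succ, pow_succ, ← ih, mul_inv_rev, invol_inv ia, invol_inv ie]
          simp [mul_assoc]
      exact (h1 n).symm
    have hiv := hD.orderOf_eq e' he'D
    have hreach : Relation.ReflTransGen (OddAdj D) a e' := by
      by_cases hea : a = e'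
      · rw [← hea]
      · refine Relation.ReflTransGen.single ⟨ha, he'D, hea, ?_⟩
        rw [he', ← mul_assoc, invol_mul_self ia, one_mul, zpow_natCast]
        exact Odd.of_dvd_nat ho (orderOf_pow_dvd n)
    clear_value e'
    have hconj : r ^ n * x * (r ^ n)⁻¹ = e' * x * e' := by
      rw [hre, mul_inv_rev, invol_inv ia, invol_inv hiv, mul_assoc e' a x, hax]
      simp only [mul_assoc]
      rw [← mul_assoc a a, invol_mul_self ia, one_mul]
    rw [hconj]
    have h4 := pow_four_of_not_adj hD he'D hx (hK e' hreach)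
    have h5 : (x * (e' * x * e')) * (x * (e' * x * e')) = 1 := by
      have h6 : x * (e' * x) ^ 4 * x⁻¹ = 1 := by rw [h4, mul_one, mul_inv_cancel]
      rw [← h6]
      simp [pow_succ, mul_assoc]
    have h7 : (x * (e' * x * e'))⁻¹ = x * (e' * x * e') := inv_eq_of_mul_eq_one_right h5
    rw [mul_inv_rev, mul_inv_rev, mul_inv_rev, invol_inv ix, invol_inv hiv] at h7
    show x * (e' * x * e') = e' * x * e' * x
    rw [← h7]; simp [mul_assoc]
  -- the conjugates of `x` commute pairwise
  have hpair : ∀ i j : ℕ, i ≤ j → Commute (r ^ i * x * (r ^ i)⁻¹) (r ^ j * x * (r ^ j)⁻¹) := by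
    intro i j hij
    obtain ⟨k, rfl⟩ := Nat.exists_eq_add_of_le hij
    rw [show r ^ (i + k) * x * (r ^ (i + k))⁻¹ = r ^ i * (r ^ k * x * (r ^ k)⁻¹) * (r ^ i)⁻¹ by
      simp [pow_add, mul_assoc]]
    exact (commute_conj_iff (r ^ i)).2 (hcomm k)
  have hsq : ∀ i : ℕ, (r ^ i * x * (r ^ i)⁻¹) ^ 2 = 1 := fun i => by
    rw [conj_pow, pow_two x, invol_mul_self ix, mul_one, mul_inv_cancel]
  have hne4 : ¬ (e * (a * x)) ^ 4 = 1 := by
    intro h4
    rw [← mul_assoc, ← hr] at h4
    have hexp : (r * x) ^ 4 = (r ^ 1 * x * (r ^ 1)⁻¹) * (r ^ 2 * x * (r ^ 2)⁻¹) *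
        (r ^ 3 * x * (r ^ 3)⁻¹) * (r ^ 4 * x * (r ^ 4)⁻¹) * r ^ 4 := by
      simp [pow_succ, mul_assoc]
    rw [hexp] at h4
    set p := (r ^ 1 * x * (r ^ 1)⁻¹) * (r ^ 2 * x * (r ^ 2)⁻¹) *
        (r ^ 3 * x * (r ^ 3)⁻¹) * (r ^ 4 * x * (r ^ 4)⁻¹) with hp
    have hp2 : p ^ 2 = 1 := by
      rw [hp, Commute.mul_pow (((hpair 1 4 (by norm_num)).mul_left (hpair 2 4 (by norm_num))).mul_left
        (hpair 3 4 (by norm_num))), Commute.mul_pow ((hpair 1 3 (by norm_num)).mul_left
        (hpair 2 3 (by norm_num))), Commute.mul_pow (hpair 1 2 (by norm_num)), hsq, hsq, hsq, hsq,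
        one_mul, one_mul, one_mul]
    have hr8 : r ^ 8 = 1 := by
      have h1 : r ^ 4 = p⁻¹ := eq_inv_of_mul_eq_one_right h4
      rw [pow_mul r 4 2, h1, inv_pow, hp2, inv_one]
    have hrodd : Odd (orderOf r) := by rw [hr', orderOf_inv]; exact ho
    have hr1 : orderOf r = 1 := Nat.eq_one_of_dvd_coprimes
      (Nat.Coprime.pow_left 3 (Nat.coprime_two_left.2 hrodd)) (orderOf_dvd_of_pow_eq_one hr8) dvd_rfl
    rw [orderOf_eq_one_iff, hr, mul_eq_one_iff_eq_inv, invol_inv ia] at hr1
    exact hne hr1.symm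
  by_contra hna
  exact hne4 (pow_four_of_not_adj hD heD haxD hna)

theorem productPartners_subset (hD : IsRootInvolutionSet D) {a : G} (ha : a ∈ D)
    (h : ∃ a' ∈ elemComponentOf (OddAdj D) D a, a' ≠ a) :
    productPartners D a ⊆ elemComponentOf (OddAdj D) D a ∪ oddIsolated D := by
  rintro x ⟨⟨hx, hxa, -⟩, hxaD⟩
  by_contra hne
  simp only [Set.mem_union, not_or] at hne
  obtain ⟨hK, hW⟩ := hne
  obtain ⟨e, he⟩ := exists_adj_of_component h
  obtain ⟨f, hf⟩ := adj_of_not_isolated hD hx hW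
  have hno : ¬ Relation.ReflTransGen (OddAdj D) a x := fun hr => hK ⟨hx, hr⟩
  have h1 := adj_mul_of_adj hD hx hxa.symm (hxa ▸ hxaD) he
    fun g hg hgx => hno (hg.tail hgx)
  have h2 := adj_mul_of_adj hD ha hxa hxaD hf
    fun g hg hga => hno (oddReach_symm hD (hg.tail hga))
  rw [← hxa] at h1
  refine hno ?_
  exact ((Relation.ReflTransGen.single he).tail h1).trans
    (oddReach_symm hD ((Relation.ReflTransGen.single hf).tail h2))

theorem rootInvolutions_isolated [Finite G] (hD : IsRootInvolutionSet D) :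
    (∀ w ∈ oddIsolated D, ∀ g : G, g * w * g⁻¹ ∈ oddIsolated D) ∧
    (Subgroup.closure (oddIsolated D)).Normal ∧
    IsPGroup 2 ↥(Subgroup.closure (oddIsolated D)) ∧
    (Subgroup.closure (oddIsolated D) : Set G) ∩ D = oddIsolated D ∧
    (∀ a ∈ D, ∀ b ∈ D, (∃ a' ∈ elemComponentOf (OddAdj D) D a, a' ≠ a) →
      (∃ b' ∈ elemComponentOf (OddAdj D) D b, b' ≠ b) →
      elemComponentOf (OddAdj D) D a ≠ elemComponentOf (OddAdj D) D b →
        a * b * a⁻¹ * b⁻¹ ∈ Subgroup.closure (oddIsolated D)) ∧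
    (∀ a ∈ D, (∃ a' ∈ elemComponentOf (OddAdj D) D a, a' ≠ a) →
      productPartners D a ⊆ elemComponentOf (OddAdj D) D a ∪ oddIsolated D) := by
  refine ⟨fun w hw g => oddIsolated_conj hD hw g, oddIsolated_normal hD, oddIsolated_isPGroup hD,
    oddIsolated_inter hD, fun a ha b hb hKa hKb hne => ?_, fun a ha h => productPartners_subset hD ha h⟩
  have ia := hD.orderOf_eq a ha
  have ib := hD.orderOf_eq b hb
  have hab : a ≠ b := fun e => hne (by rw [e])
  rw [invol_inv ia, invol_inv ib]
  rcases hD.pair a ha b hb with hc | ho | ⟨h4, hcD⟩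
  · rw [hc, mul_assoc b a a, invol_mul_self ia, mul_one, invol_mul_self ib]
    exact one_mem _
  · exact absurd (oddComponent_eq hD
      ⟨hb, Relation.ReflTransGen.single ⟨ha, hb, hab, ho⟩⟩) hne
  · have hsq : a * b * a * b = (a * b) ^ 2 := by simp [pow_two, mul_assoc]
    rw [hsq]
    set c := (a * b) ^ 2 with hc
    have hc4 : c * c = 1 := by rw [hc, ← pow_add]; simpa [h4] using pow_orderOf_eq_one (a * b)
    have hcinv : c⁻¹ = c := inv_eq_of_mul_eq_one_right hc4
    have hcb : c * b = a * b * a := by rw [← hsq, mul_assoc _ b b, invol_mul_self ib, mul_one]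
    have hac : a * c = b * a * b := by
      rw [← hsq, ← mul_assoc, ← mul_assoc, ← mul_assoc, invol_mul_self ia, one_mul]
    have hca : c * a = a * c := by
      rw [hac]
      calc c * a = c⁻¹ * a := by rw [hcinv]
        _ = b * a * b := by
          rw [← hsq, mul_inv_rev, mul_inv_rev, mul_inv_rev, invol_inv ia, invol_inv ib]
          simp [mul_assoc, invol_mul_self ia]
    have hbc : c * b = b * c := by
      rw [hcb]
      calc a * b * a = b * (b * a * b * a) := by simp [← mul_assoc, invol_mul_self ib]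
        _ = b * c⁻¹ := by
          rw [← hsq, mul_inv_rev, mul_inv_rev, mul_inv_rev, invol_inv ia, invol_inv ib]
          simp [mul_assoc]
        _ = b * c := by rw [hcinv]
    have hca' : c ≠ a := fun e => by
      have := hca ▸ (show c * a = 1 by rw [e]; exact invol_mul_self ia)
      rw [hac] at this
      have h5 : a = 1 := by
        calc a = b * (b * a * b) * b := by
              simp [← mul_assoc, invol_mul_self ib, mul_assoc a b b]
          _ = 1 := by rw [this, mul_one, invol_mul_self ib]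
      exact invol_ne_one ia h5
    have hcb' : c ≠ b := fun e => by
      have h5 : a * b * a = 1 := by rw [← hcb, e, invol_mul_self ib]
      exact invol_ne_one ib (by
        calc b = a * (a * b * a) * a := by
              simp [← mul_assoc, invol_mul_self ia, mul_assoc b a a]
          _ = 1 := by rw [h5, mul_one, invol_mul_self ia])
    have hconj : ∀ g d : G, d ∈ D → g * d * g⁻¹ ∈ D := fun g d hd => hD.conj_mem d hd g
    have m1 : c ∈ productPartners D a := ⟨⟨hcD, hca, hca'⟩, by
      rw [hca, hac]; have := hconj b a ha; rwa [invol_inv ib] at this⟩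
    have m2 : c ∈ productPartners D b := ⟨⟨hcD, hbc, hcb'⟩, by
      rw [hcb]; have := hconj a b hb; rwa [invol_inv ia] at this⟩
    rcases productPartners_subset hD ha hKa m1 with h1 | h1
    · rcases productPartners_subset hD hb hKb m2 with h2 | h2
      · exact absurd ((oddComponent_eq hD h1).trans (oddComponent_eq hD h2).symm) hne
      · exact Subgroup.subset_closure h2
    · exact Subgroup.subset_closure h1

end CfsgLib.ThreeTransp
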