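import Cfsg.Agent.Lib.ThreeTransp.TransvSL
import Cfsg.Agent.Lib.ThreeTransp.RootInvolutions

/-!
The transvection groups of SL(n + 3, k) as a class of k-root subgroups; in characteristic 2 the transvections
as root involutions.
-/

set_option autoImplicit false

namespace CfsgLib.ThreeTransp

open Cfsg Matrix CfsgLib.Involutions
open scoped commutatorElement

theorem rop_not_rcc {G : Type*} [Group G] {S : Set (Subgroup G)} (hS : IsRootSubgroupSet S) {A B : Subgroup G}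
    (hB : B ∈ S) (h : IsRankOnePair A B) : ¬ RootCommutatorCase S A B := by
  intro hc
  obtain ⟨e, he, he1⟩ := rop_exists_ne_one h
  have hU := rop_right_mem_unipotent h
  refine rop_not_commute_pair
    (rop_of_mem_mem h (conjBy_mem_unipotent hU ((le_sup_left : A ≤ A ⊔ B) he)) hU
      fun hh => he1 (rop_eq_one_of_normalizes h he hh)).1 ?_
  exact fun x hx y hy => rcc_conj_commutes hS hB hc he hx hy

namespace TransvSL

variable {k : Type*} [Field k] {n : ℕ}

/-- All root groups. -/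
def rgSet (N : ℕ) (k : Type*) [Field k] : Set (Subgroup (Matrix.SpecialLinearGroup (Fin N) k)) :=
  {A | ∃ a φ, ∃ i : Inc a φ, A = rg a φ i.dot}

theorem inc_std {i j : Fin (n + 3)} (h : i ≠ j) : Inc (E i : Fin (n + 3) → k) (E j) :=
  ⟨by simp [h], single_ne, single_ne⟩

theorem transvection_eq (c : k) {i j : Fin (n + 3)} :
    Matrix.transvection i j c = 1 + vecMulVec (c • E i) (E j) := by
  ext u v
  simp [Matrix.transvection, vecMulVec_apply, Pi.single_apply, Matrix.single_apply]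
  split_ifs <;> simp_all

theorem zero_ne_one' : (0 : Fin (n + 3)) ≠ 1 := by
  intro h; simpa using congrArg Fin.val h

theorem base_eq : Subgroup.closure {t : Matrix.SpecialLinearGroup (Fin (n + 3)) k |
      ∃ c : k, (t : Matrix (Fin (n + 3)) (Fin (n + 3)) k) = Matrix.transvection 0 1 c} =
    rg (E 0) (E 1) (inc_std zero_ne_one').dot := by
  have h : {t : Matrix.SpecialLinearGroup (Fin (n + 3)) k |
      ∃ c : k, (t : Matrix (Fin (n + 3)) (Fin (n + 3)) k) = Matrix.transvection 0 1 c} =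
      ((rg (E (0 : Fin (n + 3))) (E 1) (inc_std (k := k) zero_ne_one').dot :
        Subgroup (Matrix.SpecialLinearGroup (Fin (n + 3)) k)) : Set (Matrix.SpecialLinearGroup (Fin (n + 3)) k)) := by
    ext t
    refine exists_congr fun c => ⟨fun h => slExt (by rw [h, transvection_eq, st_val]), fun h => ?_⟩
    rw [h, transvection_eq, st_val]
  rw [h, Subgroup.closure_eq]

theorem rgSet_eq : {A : Subgroup (Matrix.SpecialLinearGroup (Fin (n + 3)) k) |
      ∃ g : Matrix.SpecialLinearGroup (Fin (n + 3)) k, A = Cfsg.conjBy (Subgroup.closure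
        {t : Matrix.SpecialLinearGroup (Fin (n + 3)) k |
          ∃ c : k, (t : Matrix (Fin (n + 3)) (Fin (n + 3)) k) = Matrix.transvection 0 1 c}) g} =
    rgSet (n + 3) k := by
  ext A
  rw [Set.mem_ofPred_eq, base_eq]
  constructor
  · rintro ⟨g, rfl⟩
    exact ⟨_, _, (inc_std zero_ne_one').conj g, rg_conj g _⟩
  · rintro ⟨a, φ, i, rfl⟩
    obtain ⟨g, h1, h2⟩ := transitive i (zero_ne_one' (n := n)) (by omega)
    refine ⟨g⁻¹, ?_⟩
    have h3 : conjBy (rg a φ i.dot) g = rg (E 0) (E 1) (inc_std zero_ne_one').dot := by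
      rw [rg_conj]; simp only [h1, h2]
    rw [← h3, conjBy_inv_conjBy]

theorem rgSet_pair {N : ℕ} {A B : Subgroup (Matrix.SpecialLinearGroup (Fin N) k)} (hA : A ∈ rgSet N k)
    (hB : B ∈ rgSet N k) :
    ⁅A, B⁆ = ⊥ ∨ (IsRankOnePair A B ∧ IsPSL2PairOver k A B) ∨ RootCommutatorCase (rgSet N k) A B := by
  obtain ⟨a, φ, i, rfl⟩ := hA
  obtain ⟨b, ψ, j, rfl⟩ := hB
  by_cases hx : φ ⬝ᵥ b = 0 <;> by_cases hy : ψ ⬝ᵥ a = 0
  · exact Or.inl (pair_none i.dot j.dot hx hy)
  · exact Or.inr (Or.inr (rcc_symm (pair_one j.dot i.dot hy hx ⟨b, φ, ⟨hx, j.vec, i.cov⟩, rfl⟩)))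
  · exact Or.inr (Or.inr (pair_one i.dot j.dot hx hy ⟨a, ψ, ⟨hy, i.vec, j.cov⟩, rfl⟩))
  · exact Or.inr (Or.inl (pair_both i.dot j.dot hx hy))

theorem rgSet_root (N : ℕ) : IsRootSubgroupSet (rgSet N k) where
  commutative := by rintro _ ⟨a, φ, i, rfl⟩; exact rg_comm i.dot
  ne_bot := by rintro _ ⟨a, φ, i, rfl⟩; exact rg_ne_bot i
  generates := by
    rw [eq_top_iff, ← generated, Subgroup.closure_le]
    rintro _ ⟨a, φ, i, rfl⟩
    exact Subgroup.mem_iSup_of_mem (rg a φ i.dot) (Subgroup.mem_iSup_of_mem ⟨a, φ, i, rfl⟩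
      (mem_rg.2 ⟨1, st_congr (by rw [one_smul])⟩))
  conj_mem := by rintro _ ⟨a, φ, i, rfl⟩ g; exact ⟨_, _, i.conj g, rg_conj g _⟩
  pair := fun _ hA _ hB => (rgSet_pair hA hB).imp_right (Or.imp_left And.left)

theorem rgSet_main (k : Type*) [Field k] (n : ℕ) :
    IsRootSubgroupClass (rgSet (n + 3) k) ∧ IsNondegenerateRootSet (rgSet (n + 3) k) ∧
      IsKRootSubgroupSet k (rgSet (n + 3) k) ∧ IsConnectedFamily (FAdj (rgSet (n + 3) k)) (rgSet (n + 3) k) := by
  have hS := rgSet_root (k := k) (n + 3)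
  have h01 : (0 : Fin (n + 3)) ≠ 1 := zero_ne_one'
  have h02 : (0 : Fin (n + 3)) ≠ 2 := fun h => by simpa [Fin.ext_iff, Nat.mod_eq_of_lt] using h
  have h12 : (1 : Fin (n + 3)) ≠ 2 := fun h => by simpa [Fin.ext_iff, Nat.mod_eq_of_lt] using h
  have hmem : ∀ {i j : Fin (n + 3)} (h : i ≠ j), rg (E i) (E j) (inc_std (k := k) h).dot ∈ rgSet (n + 3) k :=
    fun h => ⟨_, _, inc_std h, rfl⟩
  have hcl : IsConjClassOfSubgroups (rgSet (n + 3) k) := by
    refine ⟨⟨_, hmem h01⟩, ?_⟩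
    intro A hA B hB
    rw [← rgSet_eq] at hA hB
    obtain ⟨g, rfl⟩ := hA
    obtain ⟨g', rfl⟩ := hB
    exact ⟨g' * g⁻¹, by rw [← conjBy_mul, inv_mul_cancel_right]⟩
  have hr := pair_both (inc_std (k := k) h01).dot (inc_std (k := k) h01.symm).dot (by simp) (by simp)
  refine ⟨⟨hS, hcl⟩, ⟨?_, ⟨_, hmem h01, _, hmem h01.symm, hr.1⟩, ?_⟩, ⟨hS, ?_⟩, ?_⟩
  · refine ⟨_, hmem h01, _, hmem h02, fun he => ?_,
      pair_none _ _ (by simp [h01]) (by simp [h02])⟩
    have h : st ((1 : k) • E (0 : Fin (n + 3))) (E 2) (smul_dot (inc_std h02).dot 1) ∈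
        rg (E (0 : Fin (n + 3)) : Fin (n + 3) → k) (E 1) (inc_std h01).dot := he.symm ▸ ⟨1, rfl⟩
    obtain ⟨c, hc⟩ := h
    have := congrArg (fun t : Matrix.SpecialLinearGroup (Fin (n + 3)) k =>
      (t : Matrix (Fin (n + 3)) (Fin (n + 3)) k) 0 2) hc
    simp [st_val, vecMulVec_apply, h12, h12.symm, h02] at this
  · exact ⟨_, hmem h01, _, hmem h12, pair_one _ _ (by simp) (by simp [h02])
      ⟨_, _, ⟨by simp [h02], single_ne, single_ne⟩, rfl⟩⟩
  · intro A hA B hB h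
    rcases rgSet_pair hA hB with hb | ⟨-, hp⟩ | hc
    · exact absurd hb (rop_commutator_ne_bot h)
    · exact hp
    · exact absurd hc (rop_not_rcc hS hB h)
  · exact rs_connected_of_class hS hcl ⟨_, hmem h01,
      fun hi => (hi.2 _).1 ⟨hmem h01, hmem h01.symm, hr.1⟩⟩

/-! ### Characteristic two -/

variable [CharP k 2]

theorem sl2_odd_order [Finite k] {M : Matrix.SpecialLinearGroup (Fin 2) k}
    (ht : (M : Matrix (Fin 2) (Fin 2) k) 0 0 + (M : Matrix (Fin 2) (Fin 2) k) 1 1 ≠ 0) : Odd (orderOf M) := by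
  haveI : Finite (Matrix.SpecialLinearGroup (Fin 2) k) := inferInstance
  rw [← Nat.not_even_iff_odd]
  rintro ⟨j, hj⟩
  have hpos := orderOf_pos M
  obtain ⟨h, hh⟩ : ∃ h, h = M ^ j := ⟨_, rfl⟩
  have h2 : h * h = 1 := by rw [hh, ← pow_add, ← hj, pow_orderOf_eq_one]
  have h1 : h ≠ 1 := fun e => pow_ne_one_of_lt_orderOf (by omega) (by omega) (hh ▸ e)
  have hc : M * h = h * M := hh ▸ ((Commute.refl M).pow_right j).eq
  have hd := h.2
  rw [Matrix.det_fin_two] at hd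
  have e := congrArg (fun t : Matrix.SpecialLinearGroup (Fin 2) k => (t : Matrix (Fin 2) (Fin 2) k)) h2
  have e' := congrArg (fun t : Matrix.SpecialLinearGroup (Fin 2) k => (t : Matrix (Fin 2) (Fin 2) k)) hc
  simp only [Matrix.SpecialLinearGroup.coe_mul, Matrix.SpecialLinearGroup.coe_one] at e e'
  have e00 := congrFun (congrFun e 0) 0
  have e01 := congrFun (congrFun e 0) 1
  have e10 := congrFun (congrFun e 1) 0
  have c01 := congrFun (congrFun e' 0) 1
  have c10 := congrFun (congrFun e' 1) 0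
  simp [Matrix.mul_apply, Fin.sum_univ_two] at e00 e01 e10 c01 c10
  set a := (h : Matrix (Fin 2) (Fin 2) k) 0 0 with ha
  set b := (h : Matrix (Fin 2) (Fin 2) k) 0 1 with hb
  set c := (h : Matrix (Fin 2) (Fin 2) k) 1 0 with hc'
  set d := (h : Matrix (Fin 2) (Fin 2) k) 1 1 with hd'
  have htwo : (2 : k) = 0 := CharTwo.two_eq_zero
  have had : a = d := by
    by_contra hne
    have hs : a + d ≠ 0 := fun hs => hne (by linear_combination hs - d * htwo)
    have hb0 : b = 0 := (mul_eq_zero.1 (show b * (a + d) = 0 by linear_combination e01)).resolve_right hs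
    have hc0 : c = 0 := (mul_eq_zero.1 (show c * (a + d) = 0 by linear_combination e10)).resolve_right hs
    have ha1 : a = 1 := by
      have h5 : (a - 1) ^ 2 = 0 := by linear_combination e00 - c * hb0 + (1 - a) * htwo
      exact sub_eq_zero.1 (pow_eq_zero_iff (by norm_num) |>.1 h5)
    rw [hb0, ha1] at hd
    exact hne (by linear_combination ha1 - hd)
  set T := (M : Matrix (Fin 2) (Fin 2) k) 0 0 + (M : Matrix (Fin 2) (Fin 2) k) 1 1 with hT
  have hb0 : b = 0 := (mul_eq_zero.1 (show b * T = 0 by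
    linear_combination c01 + b * (M : Matrix (Fin 2) (Fin 2) k) 1 1 * htwo
      + (M : Matrix (Fin 2) (Fin 2) k) 0 1 * had)).resolve_right ht
  have hc0 : c = 0 := (mul_eq_zero.1 (show c * T = 0 by
    linear_combination c10 + c * (M : Matrix (Fin 2) (Fin 2) k) 0 0 * htwo
      - (M : Matrix (Fin 2) (Fin 2) k) 1 0 * had)).resolve_right ht
  have ha1 : a = 1 := by
    have h5 : (a - 1) ^ 2 = 0 := by linear_combination e00 - c * hb0 + (1 - a) * htwo
    exact sub_eq_zero.1 (pow_eq_zero_iff (by norm_num) |>.1 h5)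
  refine h1 (slExt ?_)
  rw [Matrix.SpecialLinearGroup.coe_one, Matrix.eta_fin_two (h : Matrix (Fin 2) (Fin 2) k)]
  simp only [← ha, ← hb, ← hc', ← hd']
  rw [hb0, hc0, ← had, ha1, Matrix.one_fin_two]

theorem st_orderOf {N : ℕ} {a φ : Fin N → k} (i : Inc a φ) : orderOf (st a φ i.dot) = 2 := by
  refine invol_iff.2 ⟨?_, fun h => ?_⟩
  · rw [st_mul]
    refine slExt ?_
    rw [st_val, Matrix.SpecialLinearGroup.coe_one, show a + a = 0 from funext fun j => CharTwo.add_self_eq_zero _,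
      zero_vecMulVec, add_zero]
  · have h2 := congrArg (fun t : Matrix.SpecialLinearGroup (Fin N) k => (t : Matrix (Fin N) (Fin N) k)) h
    rw [st_val, Matrix.SpecialLinearGroup.coe_one, add_eq_left] at h2
    exact vecMulVec_ne_zero i.vec i.cov h2

theorem st_pair_one {N : ℕ} {a φ b ψ : Fin N → k} (i : Inc a φ) (j : Inc b ψ) (hx : φ ⬝ᵥ b ≠ 0)
    (hy : ψ ⬝ᵥ a = 0) : orderOf (st a φ i.dot * st b ψ j.dot) = 4 ∧
      ∃ c, ∃ l : Inc c ψ, (st a φ i.dot * st b ψ j.dot) ^ 2 = st c ψ l.dot := by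
  have l : Inc ((φ ⬝ᵥ b) • a) ψ := ⟨smul_dot hy _, smul_ne_zero hx i.vec, j.cov⟩
  have hsq : (st a φ i.dot * st b ψ j.dot) ^ 2 = st ((φ ⬝ᵥ b) • a) ψ l.dot := by
    have h1 := st_commutator i.dot j.dot hy 1 1
    rw [st_congr (h' := i.dot) (show vecMulVec ((1 : k) • a) φ = vecMulVec a φ by rw [one_smul]),
      st_congr (h' := j.dot) (show vecMulVec ((1 : k) • b) ψ = vecMulVec b ψ by rw [one_smul]),
      invol_inv (st_orderOf i), invol_inv (st_orderOf j)] at h1
    rw [pow_two, ← mul_assoc, h1]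
    exact st_congr (by rw [one_mul, one_mul])
  refine ⟨?_, _, l, hsq⟩
  have hne := invol_ne_one (st_orderOf l)
  haveI : Fact (Nat.Prime 2) := ⟨Nat.prime_two⟩
  refine orderOf_eq_prime_pow (p := 2) (n := 1) ?_ ?_
  · rw [pow_one, hsq]; exact hne
  · rw [show (2 : ℕ) ^ (1 + 1) = 2 * 2 by norm_num, pow_mul, hsq, pow_two, invol_mul_self (st_orderOf l)]

theorem st_pair_both {N : ℕ} {a φ b ψ : Fin N → k} (i : Inc a φ) (j : Inc b ψ) (hx : φ ⬝ᵥ b ≠ 0)
    (hy : ψ ⬝ᵥ a ≠ 0) : orderOf (st a φ i.dot * st b ψ j.dot) =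
      orderOf (sl2U k ((φ ⬝ᵥ b) * (ψ ⬝ᵥ a)) * sl2L k 1) := by
  set x := φ ⬝ᵥ b with hxd
  set y := ψ ⬝ᵥ a with hyd
  have e1 : ψ ⬝ᵥ (y⁻¹ • a) = 1 := by rw [dotProduct_smul, smul_eq_mul, ← hyd, inv_mul_cancel₀ hy]
  have e2 : (x⁻¹ • φ) ⬝ᵥ (y⁻¹ • a) = 0 := by rw [dotProduct_smul, smul_dotProduct, i.dot, smul_zero, smul_zero]
  have e3 : (x⁻¹ • φ) ⬝ᵥ b = 1 := by rw [smul_dotProduct, smul_eq_mul, ← hxd, inv_mul_cancel₀ hx]
  set f := frame (y⁻¹ • a) b (x⁻¹ • φ) ψ e1 j.dot e2 e3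
  have hU : f (sl2U k (x * y)) = st a φ i.dot := slExt (by
    rw [frame_apply, st_val, sl2U_val]
    simp [smul_vecMulVec, vecMulVec_smul, smul_smul, hx, hy]
    rw [show x * y * (x⁻¹ * y⁻¹) = 1 by field_simp, one_smul])
  have hL : f (sl2L k 1) = st b ψ j.dot := slExt (by
    rw [frame_apply, st_val, sl2L_val]
    simp)
  rw [← hU, ← hL, ← map_mul, orderOf_injective f (frame_injective ..)]

theorem transvections_eq : {t : Matrix.SpecialLinearGroup (Fin (n + 3)) k | ∃ c : k, c ≠ 0 ∧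
      ∃ g : Matrix.SpecialLinearGroup (Fin (n + 3)) k, ((g⁻¹ * t * g : Matrix.SpecialLinearGroup (Fin (n + 3)) k) :
        Matrix (Fin (n + 3)) (Fin (n + 3)) k) = Matrix.transvection 0 1 c} =
    {t | ∃ a φ, ∃ i : Inc a φ, t = st a φ i.dot} := by
  ext t
  constructor
  · rintro ⟨c, hc, g, hg⟩
    have i : Inc (c • E (0 : Fin (n + 3)) : Fin (n + 3) → k) (E 1) :=
      ⟨smul_dot (inc_std zero_ne_one').dot c, smul_ne_zero hc single_ne, single_ne⟩
    have h1 : g⁻¹ * t * g = st (c • E 0) (E 1) i.dot := slExt (by rw [hg, st_val, transvection_eq])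
    refine ⟨_, _, i.conj g, ?_⟩
    rw [← st_conj g _ _ i.dot, ← h1]
    simp [mul_assoc]
  · rintro ⟨a, φ, i, rfl⟩
    obtain ⟨g, h1, h2⟩ := transitive i (zero_ne_one' (n := n)) (by omega)
    refine ⟨1, one_ne_zero, g⁻¹, ?_⟩
    rw [inv_inv, st_conj g a φ i.dot (i.conj g).dot, st_val, transvection_eq, one_smul, h1, h2]

theorem transvections_root [Finite k] :
    let D : Set (Matrix.SpecialLinearGroup (Fin (n + 3)) k) := {t | ∃ a φ, ∃ i : Inc a φ, t = st a φ i.dot}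
    IsRootInvolutionClass D ∧ (Nat.card k = 2 → IsThreeFourPlusTranspositionSet D) := by
  intro D
  have h01 : (0 : Fin (n + 3)) ≠ 1 := zero_ne_one'
  have hclass : ∀ {a φ : Fin (n + 3) → k} (i : Inc a φ), ∃ g, g * st a φ i.dot * g⁻¹ = st (E 0) (E 1) (inc_std h01).dot := by
    intro a φ i
    obtain ⟨g, h1, h2⟩ := transitive i h01 (by omega)
    exact ⟨g, by rw [st_conj g a φ i.dot (i.conj g).dot]; exact st_congr (by rw [h1, h2])⟩
  have hpair : ∀ {a φ b ψ : Fin (n + 3) → k} (i : Inc a φ) (j : Inc b ψ),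
      (Commute (st a φ i.dot) (st b ψ j.dot)) ∨
      ((orderOf (st a φ i.dot * st b ψ j.dot) = 4) ∧ (st a φ i.dot * st b ψ j.dot) ^ 2 ∈ D) ∨
      (φ ⬝ᵥ b ≠ 0 ∧ ψ ⬝ᵥ a ≠ 0) := by
    intro a φ b ψ i j
    by_cases hx : φ ⬝ᵥ b = 0 <;> by_cases hy : ψ ⬝ᵥ a = 0
    · left
      exact comm_of_bot (pair_none i.dot j.dot hx hy) ⟨1, st_congr (by rw [one_smul])⟩ ⟨1, st_congr (by rw [one_smul])⟩
    · obtain ⟨h4, c, l, hc⟩ := st_pair_one j i hy hx
      refine Or.inr (Or.inl ?_)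
      have he : st a φ i.dot * st b ψ j.dot = (st b ψ j.dot * st a φ i.dot)⁻¹ := by
        rw [_root_.mul_inv_rev, invol_inv (st_orderOf i), invol_inv (st_orderOf j)]
      rw [he, orderOf_inv, inv_pow, hc, invol_inv (st_orderOf l)]
      exact ⟨h4, _, _, l, rfl⟩
    · obtain ⟨h4, c, l, hc⟩ := st_pair_one i j hx hy
      exact Or.inr (Or.inl ⟨h4, _, _, l, hc⟩)
    · exact Or.inr (Or.inr ⟨hx, hy⟩)
  have hD : IsRootInvolutionSet D := by
    refine ⟨?_, generated, ?_, ?_⟩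
    · rintro _ ⟨a, φ, i, rfl⟩; exact st_orderOf i
    · rintro _ ⟨a, φ, i, rfl⟩ g
      exact ⟨_, _, i.conj g, st_conj g a φ i.dot _⟩
    · rintro _ ⟨a, φ, i, rfl⟩ _ ⟨b, ψ, j, rfl⟩
      rcases hpair i j with h | h | ⟨hx, hy⟩
      · exact Or.inl h
      · exact Or.inr (Or.inr h)
      · refine Or.inr (Or.inl ?_)
        rw [st_pair_both i j hx hy]
        refine sl2_odd_order ?_
        rw [Matrix.SpecialLinearGroup.coe_mul, sl2U_val, sl2L_val]
        simp only [Matrix.mul_apply, Fin.sum_univ_two]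
        have h2 : (2 : k) = 0 := CharTwo.two_eq_zero
        intro h
        simp at h
        exact mul_ne_zero hx hy (by linear_combination h - h2)
  refine ⟨⟨hD, ⟨_, _, _, inc_std h01, rfl⟩, ?_⟩, fun hk => ⟨hD, ?_⟩⟩
  · rintro _ ⟨a, φ, i, rfl⟩ _ ⟨b, ψ, j, rfl⟩
    obtain ⟨g, hg⟩ := hclass i
    obtain ⟨g', hg'⟩ := hclass j
    refine ⟨g'⁻¹ * g, ?_⟩
    rw [show g'⁻¹ * g * st a φ i.dot * (g'⁻¹ * g)⁻¹ = g'⁻¹ * (g * st a φ i.dot * g⁻¹) * g' by simp [mul_assoc],
      hg, ← hg']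
    simp [mul_assoc]
  · rintro _ ⟨a, φ, i, rfl⟩ _ ⟨b, ψ, j, rfl⟩ ho
    rcases hpair i j with h | ⟨h, -⟩ | ⟨hx, hy⟩
    · left
      have h2 : (st a φ i.dot * st b ψ j.dot) ^ 2 = 1 := by
        rw [h.mul_pow, pow_two, pow_two, invol_mul_self (st_orderOf i), invol_mul_self (st_orderOf j), one_mul]
      exact Nat.eq_one_of_dvd_coprimes (Nat.coprime_two_left.2 ho) (orderOf_dvd_of_pow_eq_one h2) dvd_rfl
    · rw [h] at ho; exact absurd ho (by decide)
    · rw [st_pair_both i j hx hy] at ho ⊢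
      have hq : (φ ⬝ᵥ b) * (ψ ⬝ᵥ a) = 1 := by
        have h2 := mul_ne_zero hx hy
        obtain ⟨x, y, hxy, hu⟩ := Nat.card_eq_two_iff.1 hk
        have hall : ∀ t : k, t = 0 ∨ t = 1 := by
          intro t
          have ht : t ∈ ({x, y} : Set k) := hu.symm ▸ trivial
          have h0 : (0 : k) ∈ ({x, y} : Set k) := hu.symm ▸ trivial
          have h1 : (1 : k) ∈ ({x, y} : Set k) := hu.symm ▸ trivial
          simp only [Set.mem_insert_iff, Set.mem_singleton_iff] at ht h0 h1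
          rcases h0 with h0 | h0 <;> rcases h1 with h1 | h1 <;> rcases ht with ht | ht <;> subst ht <;>
            first
              | (left; exact h0.symm) | (right; exact h1.symm) | exact absurd (h0.trans h1.symm) zero_ne_one
        exact (hall _).resolve_left h2
      rw [hq]
      have h3 : (sl2U k 1 * sl2L k 1) ^ 3 = 1 := by
        refine slExt ?_
        have h2 : (2 : k) = 0 := CharTwo.two_eq_zero
        rw [pow_succ, pow_two]
        simp only [Matrix.SpecialLinearGroup.coe_mul, Matrix.SpecialLinearGroup.coe_one, sl2U_val, sl2L_val,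
          Matrix.mul_fin_two, Matrix.one_fin_two]
        ext u v
        fin_cases u <;> fin_cases v <;> norm_num <;>
          first | linear_combination 6 * h2 | linear_combination 4 * h2 | linear_combination 2 * h2
      exact (Nat.dvd_prime Nat.prime_three).1 (orderOf_dvd_of_pow_eq_one h3)

end TransvSL

end CfsgLib.ThreeTransp
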