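import Cfsg.Agent.Lib.ThreeTransp.SL2
import Cfsg.Agent.Lib.ThreeTransp.RootRestrict
import Cfsg.Agent.Lib.ThreeTransp.RootSet
import Cfsg.Agent.Lib.ThreeTransp.RootGraph
import Cfsg.Agent.Lib.ThreeTransp.TransvSLClass
import Cfsg.Agent.Lib.Classical.UnitaryTransv
import Cfsg.Agent.Lib.Classical.SU2
import Cfsg.Agent.Lib.Classical.UnitaryFrame
import Cfsg.Agent.Lib.Geometry.Hermitian

/-!
The unitary transvection groups as a degenerate class of root subgroups of the group they generate.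
-/

set_option autoImplicit false

namespace CfsgLib.ThreeTransp.TransvSU

open Cfsg Matrix CfsgLib.Classical CfsgLib.Classical.Unitary

variable {F : Type*} [Field F] {σ : F →+* F} {q n : ℕ}

/-- The fixed field. -/
abbrev fixF (σ : F →+* F) : Subfield F := σ.eqLocusField (RingHom.id F)

theorem fixF_eq (a : fixF σ) : σ a.1 = a.1 := a.2

/-- The transvection group of an isotropic vector. -/
def tu (h : UFrob σ q) (p : Fin n → F) (hp : uh σ p p = 0) : Subgroup (Cfsg.SU n F q) where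
  carrier := {g | ∃ c hc, g = utv h p c hp hc}
  mul_mem' := by
    rintro _ _ ⟨c, hc, rfl⟩ ⟨d, hd, rfl⟩
    exact ⟨c + d, add_skew hc hd, utv_mul h p hp hc hd⟩
  one_mem' := ⟨0, by simp, su_ext fun x => by simp⟩
  inv_mem' := by
    rintro _ ⟨c, hc, rfl⟩
    have hn : -c + σ (-c) = 0 := by rw [map_neg]; linear_combination -hc
    refine ⟨-c, hn, inv_eq_of_mul_eq_one_right ?_⟩
    rw [utv_mul]
    exact su_ext fun x => by simp

variable (h : UFrob σ q)

theorem mem_tu {p : Fin n → F} {hp : uh σ p p = 0} {g : Cfsg.SU n F q} :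
    g ∈ tu h p hp ↔ ∃ c hc, g = utv h p c hp hc := Iff.rfl

theorem stated_group (p : Fin n → F) (hp : p ≠ 0) (hpp : uh σ p p = 0) :
    Subgroup.closure {g : ↥(Cfsg.SU n F q) | (∀ v : Fin n → F, ∃ c : F,
      ((g : Matrix.SpecialLinearGroup (Fin n) F) : Matrix (Fin n) (Fin n) F) *ᵥ v = v + c • p) ∧
      ∀ v : Fin n → F, Cfsg.hermForm n F q v p = 0 →
        ((g : Matrix.SpecialLinearGroup (Fin n) F) : Matrix (Fin n) (Fin n) F) *ᵥ v = v} = tu h p hpp := by
  refine (congrArg Subgroup.closure ?_).trans (Subgroup.closure_eq _)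
  ext g
  simp only [h.hermForm_eq]
  constructor
  · rintro ⟨h1, h2⟩
    obtain ⟨x, hx⟩ := exists_uh_eq_one h hp
    obtain ⟨a, ha⟩ := h1 x
    have hg : ∀ v, g.1.1 *ᵥ v = v + (a * uh σ v p) • p := fun v => by
      have h3 := h2 (v - uh σ v p • x) (by rw [uh_sub_left, uh_smul_left, hx, mul_one, sub_self])
      rw [mulVec_sub, mulVec_smul, ha, sub_eq_iff_eq_add] at h3
      rw [h3]; module
    have hc : a + σ a = 0 := (tMat_preserves_iff h hp hpp a).1 fun u v => by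
      rw [tMat_mulVec, tMat_mulVec, ← hg, ← hg]; exact su_uh h g u v
    exact ⟨a, hc, su_ext fun v => by rw [hg, utv_mulVec]⟩
  · rintro ⟨c, hc, rfl⟩
    exact ⟨fun v => ⟨_, utv_mulVec h p c hpp hc v⟩, fun v hv => by rw [utv_mulVec, hv, mul_zero, zero_smul, add_zero]⟩

theorem tu_comm {p : Fin n → F} (hp : uh σ p p = 0) : IsMulCommutative (tu h p hp) := by
  refine ⟨⟨fun x y => Subtype.ext ?_⟩⟩
  obtain ⟨c, hc, he⟩ := x.2
  obtain ⟨d, hd, he'⟩ := y.2
  show (x : Cfsg.SU n F q) * y = y * x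
  rw [he, he', utv_mul, utv_mul]
  exact su_ext fun z => by rw [utv_mulVec, utv_mulVec, add_comm c d]

theorem tu_ne_bot {p : Fin n → F} (hp0 : p ≠ 0) (hp : uh σ p p = 0) : tu h p hp ≠ ⊥ := by
  intro he
  obtain ⟨c, hc0, hc⟩ := exists_skew h
  have h1 : utv h p c hp hc ∈ tu h p hp := ⟨c, hc, rfl⟩
  rw [he, Subgroup.mem_bot] at h1
  obtain ⟨x, hx⟩ := exists_uh_eq_one h hp0
  have h2 := congrArg (fun g : Cfsg.SU n F q => g.1.1 *ᵥ x) h1
  simp only [utv_mulVec, su_one_mulVec, hx, mul_one, add_eq_left, smul_eq_zero] at h2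
  exact h2.elim hc0 hp0

theorem utv_conj (g : Cfsg.SU n F q) {p w : Fin n → F} (hp : uh σ p p = 0) (hw : uh σ w w = 0)
    (e : g.1.1 *ᵥ p = w) (c : F) (hc : c + σ c = 0) :
    g * utv h p c hp hc * g⁻¹ = utv h w c hw hc := by
  refine su_ext fun x => ?_
  rw [su_mul_mulVec, su_mul_mulVec, utv_mulVec, utv_mulVec, mulVec_add, mulVec_smul, su_mulVec_inv, e]
  congr 3
  rw [← su_uh h g ((g⁻¹).1.1 *ᵥ x) p, su_mulVec_inv, e]

theorem tu_conj (g : Cfsg.SU n F q) {p w : Fin n → F} (hp : uh σ p p = 0) (hw : uh σ w w = 0)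
    (e : g.1.1 *ᵥ p = w) : conjBy (tu h p hp) g = tu h w hw := by
  ext x
  constructor
  · rintro ⟨_, ⟨c, hc, rfl⟩, rfl⟩; exact ⟨c, hc, utv_conj h g hp hw e c hc⟩
  · rintro ⟨c, hc, rfl⟩; exact ⟨utv h p c hp hc, ⟨c, hc, rfl⟩, utv_conj h g hp hw e c hc⟩

theorem tu_le_smul {p : Fin n → F} {a : F} (hp : uh σ p p = 0) (hap : uh σ (a • p) (a • p) = 0) :
    tu h (a • p) hap ≤ tu h p hp := by
  rintro _ ⟨c, hc, rfl⟩
  refine ⟨a * σ a * c, by rw [map_mul, map_mul, h.invol]; linear_combination (a * σ a) * hc,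
    su_ext fun x => ?_⟩
  rw [utv_mulVec, utv_mulVec, uh_smul_right, smul_smul]
  congr 2
  ring

theorem tu_congr {p w : Fin n → F} (e : p = w) (hp : uh σ p p = 0) (hw : uh σ w w = 0) :
    tu h p hp = tu h w hw := by
  subst e; rfl

theorem tu_smul {p : Fin n → F} {a : F} (ha : a ≠ 0) (hp : uh σ p p = 0)
    (hap : uh σ (a • p) (a • p) = 0) : tu h (a • p) hap = tu h p hp := by
  refine le_antisymm (tu_le_smul h hp hap) ?_
  have e : a⁻¹ • a • p = p := inv_smul_smul₀ ha p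
  rw [← tu_congr h e (e.symm ▸ hp) hp]
  exact tu_le_smul h hap _

/-- The action of `SL₂` on a hyperbolic plane. -/
def act (σ : F →+* F) (u v : Fin n → F) (δ : F) (M : Matrix (Fin 2) (Fin 2) F) (z : Fin n → F) :
    Fin n → F :=
  z + (((M 0 0 - 1) * (uh σ z v / δ) - M 0 1 * (uh σ z u / δ)) • u +
    (M 1 0 * (uh σ z v / δ) - (M 1 1 - 1) * (uh σ z u / δ)) • v)

theorem act_mul {u v : Fin n → F} {δ : F} (hu : uh σ u u = 0) (hv : uh σ v v = 0) (huv : uh σ u v = δ)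
    (hvu : uh σ v u = -δ) (hδ : δ ≠ 0) (M M' : Matrix (Fin 2) (Fin 2) F) (z : Fin n → F) :
    act σ u v δ (M * M') z = act σ u v δ M (act σ u v δ M' z) := by
  simp only [act, uh_add_left, uh_smul_left, hu, hv, huv, hvu, Matrix.mul_apply, Fin.sum_univ_two]
  match_scalars <;> field_simp <;> ring

theorem act_one {u v : Fin n → F} {δ : F} (z : Fin n → F) : act σ u v δ 1 z = z := by
  simp [act]

/-- The image of `M ∈ SL₂(K)` over `F`. -/
abbrev up (M : Matrix.SpecialLinearGroup (Fin 2) (fixF σ)) : Matrix (Fin 2) (Fin 2) F :=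
  (M : Matrix (Fin 2) (Fin 2) (fixF σ)).map (fixF σ).subtype

theorem act_exists {u v : Fin n → F} {δ : F} (hu : uh σ u u = 0) (hv : uh σ v v = 0) (huv : uh σ u v = δ)
    (hδ : δ ≠ 0) (hδσ : δ + σ δ = 0) :
    ∃ f : Matrix.SpecialLinearGroup (Fin 2) (fixF σ) →* Cfsg.SU n F q,
      Function.Injective f ∧ (upperUnipotentSL2 (fixF σ)).map f = tu h u hu ∧
      (lowerUnipotentSL2 (fixF σ)).map f = tu h v hv := by
  have hvu : uh σ v u = -δ := by rw [← h.symm u v, huv]; linear_combination hδσ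
  have hneg : σ δ = -δ := by linear_combination hδσ
  have hskU : ∀ t : fixF σ, -(t : F) / δ + σ (-(t : F) / δ) = 0 := fun t => by
    rw [map_div₀, map_neg, fixF_eq, hneg]; field_simp; ring
  have hskL : ∀ t : fixF σ, (t : F) / δ + σ ((t : F) / δ) = 0 := fun t => by
    rw [map_div₀, fixF_eq, hneg]; field_simp; ring
  have hU : ∀ t z, (utv h u (-(t : fixF σ) / δ : F) hu (hskU t)).1.1 *ᵥ z =
      act σ u v δ (up (sl2U (fixF σ) t)) z := fun t z => by
    simp only [utv_mulVec, act, up, sl2U_val, Matrix.map_apply]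
    simp
    module
  have hL : ∀ t z, (utv h v ((t : fixF σ) / δ : F) hv (hskL t)).1.1 *ᵥ z =
      act σ u v δ (up (sl2L (fixF σ) t)) z := fun t z => by
    simp only [utv_mulVec, act, up, sl2L_val, Matrix.map_apply]
    simp
    ring_nf
  have hmul : ∀ M M' : Matrix.SpecialLinearGroup (Fin 2) (fixF σ), up (M * M') = up M * up M' :=
    fun M M' => by
      simp only [up, Matrix.SpecialLinearGroup.coe_mul, Matrix.map_mul]
  have hone : up (1 : Matrix.SpecialLinearGroup (Fin 2) (fixF σ)) = 1 := by simp [up]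
  have hex : ∀ M : Matrix.SpecialLinearGroup (Fin 2) (fixF σ), ∃ g : Cfsg.SU n F q,
      ∀ z, g.1.1 *ᵥ z = act σ u v δ (up M) z := by
    intro M
    have hM : M ∈ Subgroup.closure
        ((lowerUnipotentSL2 (fixF σ) : Set _) ∪ (upperUnipotentSL2 (fixF σ) : Set _)) := by
      rw [Subgroup.closure_union, Subgroup.closure_eq, Subgroup.closure_eq, sl2_gen]; trivial
    induction hM using Subgroup.closure_induction with
    | mem x hx =>
      rcases hx with hx | hx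
      · obtain ⟨t, rfl⟩ := (mem_lowerUnipotentSL2 _).1 hx
        exact ⟨_, hL t⟩
      · obtain ⟨t, rfl⟩ := (mem_upperUnipotentSL2 _).1 hx
        exact ⟨_, hU t⟩
    | one => exact ⟨1, fun z => by rw [su_one_mulVec, hone, act_one]⟩
    | mul x y _ _ hx hy =>
      obtain ⟨g, hg⟩ := hx
      obtain ⟨g', hg'⟩ := hy
      exact ⟨g * g', fun z => by rw [su_mul_mulVec, hg', hg, hmul, act_mul hu hv huv hvu hδ]⟩
    | inv x _ hx =>
      obtain ⟨g, hg⟩ := hx
      refine ⟨g⁻¹, fun z => ?_⟩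
      have h1 : g.1.1 *ᵥ (act σ u v δ (up x⁻¹) z) = z := by
        rw [hg, ← act_mul hu hv huv hvu hδ, ← hmul, mul_inv_cancel, hone, act_one]
      conv_lhs => rw [← h1, su_inv_mulVec]
  choose f hf using hex
  let φ : Matrix.SpecialLinearGroup (Fin 2) (fixF σ) →* Cfsg.SU n F q := MonoidHom.mk' f fun M M' =>
    su_ext fun z => by rw [su_mul_mulVec, hf, hf, hf, hmul, act_mul hu hv huv hvu hδ]
  have hφ : ∀ M z, (φ M).1.1 *ᵥ z = act σ u v δ (up M) z := hf
  refine ⟨φ, fun M M' he => ?_, ?_, ?_⟩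
  · have hact : ∀ z, act σ u v δ (up M) z = act σ u v δ (up M') z := fun z => by rw [← hφ, ← hφ, he]
    have a1 := congrArg (fun w => uh σ w v) (hact u)
    have a2 := congrArg (fun w => uh σ w u) (hact u)
    have a3 := congrArg (fun w => uh σ w v) (hact v)
    have a4 := congrArg (fun w => uh σ w u) (hact v)
    simp [act, uh_add_left, uh_smul_left, hu, hv, huv, hvu, hδ, up] at a1 a2 a3 a4
    refine Subtype.ext ?_
    ext i j
    fin_cases i <;> fin_cases j <;> simp_all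
  · ext x
    constructor
    · rintro ⟨M, hM, rfl⟩
      obtain ⟨t, rfl⟩ := (mem_upperUnipotentSL2 _).1 hM
      exact ⟨_, hskU t, su_ext fun z => by rw [hφ, hU]⟩
    · rintro ⟨c, hc, rfl⟩
      have ht : σ (-(c * δ)) = -(c * δ) := by
        rw [map_neg, map_mul, hneg]; linear_combination δ * hc
      refine ⟨sl2U _ ⟨-(c * δ), ht⟩, (mem_upperUnipotentSL2 _).2 ⟨_, rfl⟩, su_ext fun z => ?_⟩
      rw [hφ, ← hU, utv_mulVec, utv_mulVec]
      congr 3
      field_simp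
  · ext x
    constructor
    · rintro ⟨M, hM, rfl⟩
      obtain ⟨t, rfl⟩ := (mem_lowerUnipotentSL2 _).1 hM
      exact ⟨_, hskL t, su_ext fun z => by rw [hφ, hL]⟩
    · rintro ⟨c, hc, rfl⟩
      have ht : σ (c * δ) = c * δ := by
        rw [map_mul, hneg]; linear_combination -δ * hc
      refine ⟨sl2L _ ⟨c * δ, ht⟩, (mem_lowerUnipotentSL2 _).2 ⟨_, rfl⟩, su_ext fun z => ?_⟩
      rw [hφ, ← hL, utv_mulVec, utv_mulVec]
      congr 3
      field_simp

theorem tu_pair {u w : Fin n → F} (hu : uh σ u u = 0) (hw : uh σ w w = 0) :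
    (uh σ u w = 0 ∧ ⁅tu h u hu, tu h w hw⁆ = ⊥) ∨
    (uh σ u w ≠ 0 ∧ IsRankOnePair (tu h u hu) (tu h w hw) ∧
      ∃ f : Matrix.SpecialLinearGroup (Fin 2) (fixF σ) →* Cfsg.SU n F q, Function.Injective f ∧
        (upperUnipotentSL2 (fixF σ)).map f = tu h u hu ∧
        (lowerUnipotentSL2 (fixF σ)).map f = tu h w hw) := by
  by_cases hs : uh σ u w = 0
  · refine Or.inl ⟨hs, bot_of_comm ?_⟩
    rintro _ ⟨c, hc, rfl⟩ _ ⟨d, hd, rfl⟩
    refine su_ext fun x => ?_
    simp only [su_mul_mulVec, utv_mulVec, uh_add_left, uh_smul_left, hs, h.swap_zero hs, mul_zero, add_zero]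
    module
  · obtain ⟨δ, hδ, hδσ⟩ := exists_skew h
    obtain ⟨a, ha⟩ : ∃ a, a = σ (δ / uh σ u w) := ⟨_, rfl⟩
    have ha0 : a ≠ 0 := ha ▸ (map_ne_zero σ).2 (div_ne_zero hδ hs)
    have haw : uh σ (a • w) (a • w) = 0 := by rw [uh_smul_left, uh_smul_right, hw, mul_zero, mul_zero]
    have huv : uh σ u (a • w) = δ := by rw [uh_smul_right, ha, h.invol, div_mul_cancel₀ _ hs]
    obtain ⟨f, hf, hU, hL⟩ := act_exists h hu haw huv hδ hδσ
    rw [tu_smul h ha0 hw haw] at hL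
    exact Or.inr ⟨hs, hU ▸ hL ▸ rop_symm (rop_map (sl2_rankOnePair (fixF σ)).1 f hf), f, hf, hU, hL⟩

include h in
theorem exists_common {u w : Fin n → F} (hu : u ≠ 0) (huu : uh σ u u = 0)
    (huw : uh σ u w = 0) (hind : ∀ a : F, w ≠ a • u) :
    ∃ z, uh σ z z = 0 ∧ uh σ z u = 1 ∧ uh σ z w = 1 := by
  obtain ⟨x, hx⟩ := exists_uh_eq_one h hu
  set s := uh σ x w with hs
  have hne : w - σ s • u ≠ 0 := sub_ne_zero.2 (hind _)
  obtain ⟨y, hy⟩ := exists_uh_eq_one h hne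
  rw [uh_sub_right, uh_smul_right, h.invol] at hy
  obtain ⟨x', hx'u, hx'w⟩ : ∃ x', uh σ x' u = 1 ∧ uh σ x' w = 1 := by
    refine ⟨x + (1 - s) • (y - uh σ y u • x), ?_, ?_⟩
    · simp only [uh_add_left, uh_sub_left, uh_smul_left, hx]; ring
    · simp only [uh_add_left, uh_sub_left, uh_smul_left, ← hs]; linear_combination (1 - s) * hy
  obtain ⟨θ, hθ⟩ := Geometry.exists_trace_one h.ne h.invol
  have hxx := h.symm x' x'
  refine ⟨x' + (-(uh σ x' x') * θ) • u, ?_, ?_, ?_⟩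
  · have hux : uh σ u x' = 1 := by rw [← h.symm x' u, hx'u, map_one]
    simp only [uh_add_left, uh_add_right, uh_smul_left, uh_smul_right, hx'u, hux, huu, map_mul, map_neg, hxx]
    linear_combination -(uh σ x' x') * hθ
  · simp only [uh_add_left, uh_smul_left, huu, hx'u]; ring
  · simp only [uh_add_left, uh_smul_left, huw, hx'w]; ring

include h in
theorem exists_iso [Finite F] (hF : Nat.card F = q ^ 2) (hn : 2 ≤ n) :
    ∃ u : Fin n → F, u ≠ 0 ∧ uh σ u u = 0 := by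
  obtain ⟨t, ht⟩ := exists_pow_succ_eq hF (c := -1) (by rw [← h.pow, map_neg, map_one])
  rw [pow_succ', ← h.pow] at ht
  refine ⟨Pi.single ⟨0, by omega⟩ 1 + Pi.single ⟨1, by omega⟩ t, fun h0 => ?_, ?_⟩
  · simpa [Pi.single_apply, Fin.ext_iff] using congrFun h0 ⟨0, by omega⟩
  · simp [uh_add_left, uh_single_left]
    linear_combination ht

theorem psl2_restrict {X : Type*} [Group X] {K L : Type*} [Field K] [Field L] (e : L ≃+* K)
    (f : Matrix.SpecialLinearGroup (Fin 2) K →* X) (hf : Function.Injective f) {A B H : Subgroup X}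
    (hA : A ≤ H) (hB : B ≤ H) (hU : (upperUnipotentSL2 K).map f = A) (hL : (lowerUnipotentSL2 K).map f = B) :
    IsPSL2PairOver L (A.subgroupOf H) (B.subgroupOf H) := by
  let E : Matrix.SpecialLinearGroup (Fin 2) L →* Matrix.SpecialLinearGroup (Fin 2) K :=
    Matrix.SpecialLinearGroup.map e.toRingHom
  have hEU : (upperUnipotentSL2 L).map E = upperUnipotentSL2 K := by
    ext x
    constructor
    · rintro ⟨M, hM, rfl⟩
      obtain ⟨t, rfl⟩ := (mem_upperUnipotentSL2 L).1 hM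
      refine (mem_upperUnipotentSL2 K).2 ⟨e t, Subtype.ext ?_⟩
      ext i j
      fin_cases i <;> fin_cases j <;> simp [E, sl2U_val]
    · intro hx
      obtain ⟨t, rfl⟩ := (mem_upperUnipotentSL2 K).1 hx
      refine ⟨sl2U L (e.symm t), (mem_upperUnipotentSL2 L).2 ⟨_, rfl⟩, Subtype.ext ?_⟩
      ext i j
      fin_cases i <;> fin_cases j <;> simp [E, sl2U_val]
  have hEL : (lowerUnipotentSL2 L).map E = lowerUnipotentSL2 K := by
    ext x
    constructor
    · rintro ⟨M, hM, rfl⟩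
      obtain ⟨t, rfl⟩ := (mem_lowerUnipotentSL2 L).1 hM
      refine (mem_lowerUnipotentSL2 K).2 ⟨e t, Subtype.ext ?_⟩
      ext i j
      fin_cases i <;> fin_cases j <;> simp [E, sl2L_val]
    · intro hx
      obtain ⟨t, rfl⟩ := (mem_lowerUnipotentSL2 K).1 hx
      refine ⟨sl2L L (e.symm t), (mem_lowerUnipotentSL2 L).2 ⟨_, rfl⟩, Subtype.ext ?_⟩
      ext i j
      fin_cases i <;> fin_cases j <;> simp [E, sl2L_val]
  have hU' : (upperUnipotentSL2 L).map (f.comp E) = A := by rw [← Subgroup.map_map, hEU, hU]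
  have hL' : (lowerUnipotentSL2 L).map (f.comp E) = B := by rw [← Subgroup.map_map, hEL, hL]
  have hsup : (upperUnipotentSL2 L ⊔ lowerUnipotentSL2 L).map (f.comp E) = A ⊔ B := by
    rw [Subgroup.map_sup, hU', hL']
  rw [sup_comm, sl2_gen] at hsup
  have hle : ∀ M, f (E M) ∈ H := fun M => sup_le hA hB (hsup ▸ ⟨M, Subgroup.mem_top M, rfl⟩)
  refine ⟨(f.comp E).codRestrict H hle, ?_, ?_, ?_, ?_⟩
  · refine Subgroup.map_injective H.subtype_injective ?_
    rw [MonoidHom.range_eq_map, Subgroup.map_map, show H.subtype.comp ((f.comp E).codRestrict H hle) = f.comp E from rfl, hsup, Subgroup.map_sup,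
      subgroupOf_map_subtype_eq hA, subgroupOf_map_subtype_eq hB]
  · intro M hM
    rw [MonoidHom.mem_ker] at hM
    have h1 : f (E M) = 1 := congrArg Subtype.val hM
    rw [← f.map_one] at h1
    have h2 := hf h1
    have h3 : M = 1 := by
      refine Subtype.ext ?_
      ext i j
      have h4 := congrArg (fun N : Matrix.SpecialLinearGroup (Fin 2) K => e.symm (N.1 i j)) h2
      fin_cases i <;> fin_cases j <;> simpa [E] using h4
    rw [h3]; exact one_mem _
  · refine Subgroup.map_injective H.subtype_injective ?_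
    rw [Subgroup.map_map, show H.subtype.comp ((f.comp E).codRestrict H hle) = f.comp E from rfl, hU', subgroupOf_map_subtype_eq hA]
  · refine Subgroup.map_injective H.subtype_injective ?_
    rw [Subgroup.map_map, show H.subtype.comp ((f.comp E).codRestrict H hle) = f.comp E from rfl, hL', subgroupOf_map_subtype_eq hB]

/-- The set of transvection groups. -/
def tuSet (h : UFrob σ q) (n : ℕ) : Set (Subgroup (Cfsg.SU n F q)) :=
  {A | ∃ p : Fin n → F, p ≠ 0 ∧ ∃ hp : uh σ p p = 0, A = tu h p hp}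

theorem tu_main [Finite F] (hF : Nat.card F = q ^ 2) (hn : 2 ≤ n)
    (S : Set (Subgroup ↥(⨆ B ∈ tuSet h n, B)))
    (hS : S = (fun A : Subgroup (Cfsg.SU n F q) => A.subgroupOf (⨆ B ∈ tuSet h n, B)) '' tuSet h n) :
    IsRootSubgroupClass S ∧ IsDegenerateRootSet S ∧
      (∃ (L : Type) (_ : Field L) (_ : Fintype L), Fintype.card L = q ∧ IsKRootSubgroupSet L S) ∧
      IsConnectedFamily (FAdj S) S := by
  subst hS
  generalize hS : (fun A : Subgroup (Cfsg.SU n F q) => A.subgroupOf (⨆ B ∈ tuSet h n, B)) '' tuSet h n = S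
  let H := ⨆ B ∈ tuSet h n, B
  have hle : ∀ A ∈ tuSet h n, A ≤ H := fun A hA => le_iSup₂_of_le A hA le_rfl
  have hne : ∀ A ∈ tuSet h n, A ≠ ⊥ := by
    rintro _ ⟨p, hp0, hp, rfl⟩; exact tu_ne_bot h hp0 hp
  have hroot : IsRootSubgroupSet S := by
    rw [← hS]
    refine rootSet_restrict _ ?_ hne ?_ ?_
    · rintro _ ⟨p, -, hp, rfl⟩; exact tu_comm h hp
    · rintro _ ⟨p, hp0, hp, rfl⟩ g -
      refine ⟨g.1.1 *ᵥ p, fun e => hp0 ?_, by rw [su_uh h, hp], tu_conj h g hp _ rfl⟩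
      rw [← su_inv_mulVec g p, e, mulVec_zero]
    · rintro _ ⟨p, -, hp, rfl⟩ _ ⟨w, -, hw, rfl⟩
      rcases tu_pair h hp hw with ⟨-, h1⟩ | ⟨-, h1, -⟩
      exacts [Or.inl h1, Or.inr (Or.inl h1)]
  have hpair : ∀ A ∈ S, ∀ B ∈ S, ⁅A, B⁆ = ⊥ ∨ IsRankOnePair A B := by
    rw [← hS]
    rintro _ ⟨_, ⟨p, hp0, hp, rfl⟩, rfl⟩ _ ⟨_, ⟨w, hw0, hw, rfl⟩, rfl⟩
    have hpm := hle _ ⟨p, hp0, hp, rfl⟩
    have hwm := hle _ ⟨w, hw0, hw, rfl⟩
    rcases tu_pair h hp hw with ⟨-, h1⟩ | ⟨-, h1, -⟩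
    · left
      refine Subgroup.map_injective H.subtype_injective ?_
      rw [Subgroup.map_commutator, subgroupOf_map_subtype_eq hpm, subgroupOf_map_subtype_eq hwm, h1,
        Subgroup.map_bot]
    · right
      exact rop_of_map H.subtype_injective
        (by rw [subgroupOf_map_subtype_eq hpm, subgroupOf_map_subtype_eq hwm]; exact h1)
  have hadj : ∀ {p w : Fin n → F} (hp0 : p ≠ 0) (hw0 : w ≠ 0) (hp : uh σ p p = 0) (hw : uh σ w w = 0),
      uh σ p w ≠ 0 → FAdj S ((tu h p hp).subgroupOf H) ((tu h w hw).subgroupOf H) := by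
    intro p w hp0 hw0 hp hw hs
    refine ⟨hS ▸ ⟨_, ⟨p, hp0, hp, rfl⟩, rfl⟩, hS ▸ ⟨_, ⟨w, hw0, hw, rfl⟩, rfl⟩, ?_⟩
    rcases tu_pair h hp hw with ⟨h0, -⟩ | ⟨-, h1, -⟩
    · exact absurd h0 hs
    · exact rop_of_map H.subtype_injective (by
        rw [subgroupOf_map_subtype_eq (hle _ ⟨p, hp0, hp, rfl⟩),
          subgroupOf_map_subtype_eq (hle _ ⟨w, hw0, hw, rfl⟩)]; exact h1)
  have hcon : IsConnectedFamily (FAdj S) S := by
    intro A hA B hB
    have hA' := hA
    have hB' := hB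
    rw [← hS] at hA' hB'
    obtain ⟨_, ⟨p, hp0, hp, rfl⟩, rfl⟩ := hA'
    obtain ⟨_, ⟨w, hw0, hw, rfl⟩, rfl⟩ := hB'
    by_cases hs : uh σ p w = 0
    swap
    · exact .single (hadj hp0 hw0 hp hw hs)
    by_cases hind : ∀ a : F, w ≠ a • p
    · obtain ⟨z, hz, hzp, hzw⟩ := exists_common h hp0 hp hs hind
      have hz0 : z ≠ 0 := fun e => by simp [e, uh_zero_left] at hzp
      have h1 := hadj hp0 hz0 hp hz (by rw [← h.symm z p, hzp, map_one]; exact one_ne_zero)
      exact (Relation.ReflTransGen.single h1).tail (hadj hz0 hw0 hz hw (by rw [hzw]; exact one_ne_zero))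
    · push Not at hind
      obtain ⟨a, rfl⟩ := hind
      dsimp only
      rw [tu_smul h (fun e => hw0 (by rw [e, zero_smul])) hp hw]
  have hcl : IsConjClassOfSubgroups S := by
    obtain ⟨u, hu0, hu⟩ := exists_iso h hF hn
    refine ⟨⟨(tu h u hu).subgroupOf H, hS ▸ ⟨_, ⟨u, hu0, hu, rfl⟩, rfl⟩⟩, fun A hA B hB => ?_⟩
    induction hcon A hA B hB with
    | refl => exact ⟨1, (conjBy_one A).symm⟩
    | tail _ hst ih =>
      obtain ⟨g, hg⟩ := ih hst.1
      obtain ⟨x, -, hx⟩ := rop_right_mem_unipotent hst.2.2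
      exact ⟨x * g, by rw [conjBy_mul, ← hg, hx]⟩
  refine ⟨⟨hroot, hcl⟩, fun A hA B hB hc => ?_, ?_, hcon⟩
  · rcases hpair A hA B hB with h1 | h1
    · exact rcc_not_commute hroot hc h1
    · exact rop_not_rcc hroot hB h1 hc
  · haveI : Finite (fixF σ) := inferInstance
    haveI : Fintype (Shrink.{0} (fixF σ)) := Fintype.ofFinite _
    refine ⟨Shrink.{0} (fixF σ), inferInstance, inferInstance, ?_, hroot, ?_⟩
    · rw [← Nat.card_eq_fintype_card, ← Nat.card_congr (equivShrink.{0} (fixF σ))]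
      exact fixed_card_eq hF h.pow
    · rw [← hS]
      rintro _ ⟨_, ⟨p, hp0, hp, rfl⟩, rfl⟩ _ ⟨_, ⟨w, hw0, hw, rfl⟩, rfl⟩ hr
      have hpm := hle _ ⟨p, hp0, hp, rfl⟩
      have hwm := hle _ ⟨w, hw0, hw, rfl⟩
      rcases tu_pair h hp hw with ⟨-, h1⟩ | ⟨-, -, f, hf, hU, hL⟩
      · exfalso
        refine rop_commutator_ne_bot hr (Subgroup.map_injective H.subtype_injective ?_)
        rw [Subgroup.map_commutator, subgroupOf_map_subtype_eq hpm, subgroupOf_map_subtype_eq hwm, h1,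
          Subgroup.map_bot]
      · exact psl2_restrict (Shrink.ringEquiv.{0} (fixF σ)) f hf hpm hwm hU hL

theorem tuSet_eq :
    {A : Subgroup ↥(Cfsg.SU n F q) | ∃ p : Fin n → F, p ≠ 0 ∧ Cfsg.hermForm n F q p p = 0 ∧
      A = Subgroup.closure {g : ↥(Cfsg.SU n F q) | (∀ v : Fin n → F, ∃ c : F,
      ((g : Matrix.SpecialLinearGroup (Fin n) F) : Matrix (Fin n) (Fin n) F) *ᵥ v = v + c • p) ∧
      ∀ v : Fin n → F, Cfsg.hermForm n F q v p = 0 →
        ((g : Matrix.SpecialLinearGroup (Fin n) F) : Matrix (Fin n) (Fin n) F) *ᵥ v = v}} = tuSet h n := by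
  ext A
  constructor
  · rintro ⟨p, hp0, hp, rfl⟩
    rw [h.hermForm_eq] at hp
    exact ⟨p, hp0, hp, stated_group h p hp0 hp⟩
  · rintro ⟨p, hp0, hp, rfl⟩
    exact ⟨p, hp0, by rw [h.hermForm_eq, hp], (stated_group h p hp0 hp).symm⟩

theorem tu_main_of_eq [Finite F] (hF : Nat.card F = q ^ 2) (hn : 2 ≤ n)
    (T : Set (Subgroup (Cfsg.SU n F q))) (hT : T = tuSet h n) :
    let S := (fun A : Subgroup (Cfsg.SU n F q) => A.subgroupOf (⨆ B ∈ T, B)) '' T
    IsRootSubgroupClass S ∧ IsDegenerateRootSet S ∧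
      (∃ (L : Type) (_ : Field L) (_ : Fintype L), Fintype.card L = q ∧ IsKRootSubgroupSet L S) ∧
      IsConnectedFamily (FAdj S) S := by
  subst hT
  exact tu_main h hF hn _ rfl

end CfsgLib.ThreeTransp.TransvSU
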