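import Cfsg.Prelude.Def_SporadicB
import Cfsg.Agent.Lib.Classical.SympBasic
import Cfsg.Agent.Lib.Classical.UnitaryGen
import Cfsg.Agent.Lib.ThreeTransp.TransvSU
import Cfsg.Agent.Lib.Geometry.OrthMatrix
import Cfsg.Agent.Lib.Geometry.StdForms

/-!
Classical transvection classes over small fields as classes of three-transpositions.
-/

set_option autoImplicit false

namespace CfsgLib.ThreeTransp.Models

open Matrix

/-- Braided pairs connect a generating set of involutions to one class. -/
theorem class_of_linked {G : Type*} [Group G] {D : Set G} (hne : D.Nonempty)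
    (hinv : ∀ d ∈ D, orderOf d = 2) (hconj : ∀ g : G, ∀ d ∈ D, g * d * g⁻¹ ∈ D)
    (hpair : ∀ d ∈ D, ∀ e ∈ D, d * e = e * d ∨ d * e * d = e * d * e)
    (hlink : ∀ d ∈ D, ∀ e ∈ D, d = e ∨ d * e * d = e * d * e ∨
      ∃ f ∈ D, d * f * d = f * d * f ∧ f * e * f = e * f * e)
    (hgen : Subgroup.closure D = ⊤) : Cfsg.IsThreeTranspositionClass D := by
  have hsq : ∀ d ∈ D, d * d = 1 := fun d hd => by
    rw [← pow_two, ← hinv d hd]; exact pow_orderOf_eq_one d
  refine ⟨⟨hinv, fun d hd e he => ?_⟩, ?_, hgen⟩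
  · rcases hpair d hd e he with h | h
    · left
      rw [pow_two]
      calc d * e * (d * e) = d * e * (e * d) := by rw [h]
        _ = d * (e * e) * d := by group
        _ = 1 := by rw [hsq e he, mul_one, hsq d hd]
    · right
      calc (d * e) ^ 3 = (d * e * d) * (e * d * e) := by simp only [pow_succ, pow_zero, one_mul, mul_assoc]
        _ = (d * e * d) * (d * e * d) := by rw [h]
        _ = d * e * (d * d) * e * d := by group
        _ = d * (e * e) * d := by rw [hsq d hd, mul_one]; group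
        _ = 1 := by rw [hsq e he, mul_one, hsq d hd]
  · obtain ⟨d₀, hd₀⟩ := hne
    refine ⟨d₀, hd₀, Set.ext fun e => ⟨fun he => ?_, fun he => ?_⟩⟩
    · have key : ∀ a b : G, a * b * a = b * a * b → IsConj a b := fun a b h => by
        refine isConj_iff.2 ⟨a * b, ?_⟩
        rw [h]; group
      rcases hlink d₀ hd₀ e he with h | h | ⟨f, -, h1, h2⟩
      · rw [← h]; exact mem_conjugatesOf_self
      · exact key _ _ h
      · exact (key _ _ h1).trans (key _ _ h2)
    · obtain ⟨g, hg⟩ := isConj_iff.1 (he : IsConj d₀ e)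
      rw [← hg]; exact hconj g d₀ hd₀

theorem order_two {G : Type*} [Group G] {g : G} (h : g * g = 1) (h' : g ≠ 1) : orderOf g = 2 :=
  orderOf_eq_prime (by rw [pow_two, h]) h'

/-- A matrix of rank one is a product of a vector and a functional. -/
theorem rank_one_decomp {ι F : Type*} [Fintype ι] [Field F] {A : Matrix ι ι F} (h : A.rank = 1) :
    ∃ (w : ι → F) (f : (ι → F) →ₗ[F] F), w ≠ 0 ∧ (∃ x, f x ≠ 0) ∧ ∀ x, A *ᵥ x = f x • w := by
  rw [Matrix.rank] at h
  obtain ⟨⟨w, hw⟩, hw0, hspan⟩ := finrank_eq_one_iff'.1 h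
  have hw0' : w ≠ 0 := fun e => hw0 (Subtype.ext e)
  choose f hf using fun x => hspan ⟨A.mulVecLin x, x, rfl⟩
  have hf' : ∀ x, f x • w = A *ᵥ x := fun x => congrArg Subtype.val (hf x)
  have hinj := smul_left_injective F hw0'
  refine ⟨w, { toFun := f
               map_add' := fun x y => hinj (show f (x + y) • w = (f x + f y) • w by
                 rw [add_smul, hf', hf', hf', mulVec_add])
               map_smul' := fun c x => hinj (show f (c • x) • w = (c • f x) • w by
                 rw [smul_assoc, hf', hf', mulVec_smul]) }, hw0', ?_, fun x => (hf' x).symm⟩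
  by_contra hn
  push Not at hn
  obtain ⟨x, hx⟩ := hw
  refine hw0' ?_
  rw [← hx]
  show A *ᵥ x = 0
  rw [← hf' x, show f x = 0 from hn x, zero_smul]

theorem rank_one_of {ι F : Type*} [Fintype ι] [Field F] {A : Matrix ι ι F} {w : ι → F} (f : (ι → F) → F)
    (hA : ∀ x, A *ᵥ x = f x • w) {x₀ : ι → F} (hx : A *ᵥ x₀ ≠ 0) : A.rank = 1 := by
  have hw : w ≠ 0 := fun e => hx (by rw [hA, e, smul_zero])
  rw [Matrix.rank, show LinearMap.range A.mulVecLin = Submodule.span F {w} from ?_, finrank_span_singleton hw]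
  refine le_antisymm ?_ ((Submodule.span_singleton_le_iff_mem _ _).2 ?_)
  · rintro _ ⟨x, rfl⟩
    exact Submodule.mem_span_singleton.2 ⟨f x, (hA x).symm⟩
  · have h0 : f x₀ ≠ 0 := fun e => hx (by rw [hA, e, zero_smul])
    exact ⟨(f x₀)⁻¹ • x₀, by rw [mulVecLin_apply, mulVec_smul, hA, inv_smul_smul₀ h0]⟩

theorem z2_cases : ∀ x : ZMod 2, x = 0 ∨ x = 1 := by decide

theorem z2_ne : ∀ x : ZMod 2, x ≠ 0 → x = 1 := by decide

/-! ### Symplectic groups over two elements -/

section Sp

open CfsgLib.Classical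

variable {n : ℕ}

/-- The transvection class. -/
def spCls (n : ℕ) : Set (Matrix.symplecticGroup (Fin n) (ZMod 2)) :=
  {g | ((g : Matrix (Fin n ⊕ Fin n) (Fin n ⊕ Fin n) (ZMod 2)) - 1).rank = 1}

theorem mem_spCls {g : Matrix.symplecticGroup (Fin n) (ZMod 2)} :
    g ∈ spCls n ↔ ∃ v, v ≠ 0 ∧ g = stv 1 v := by
  constructor
  · intro hg
    obtain ⟨w, f, hw, ⟨x₁, hx₁⟩, hA⟩ := rank_one_decomp hg
    have hgx : ∀ x, g.1 *ᵥ x = x + f x • w := fun x => by
      rw [← hA x, sub_mulVec, one_mulVec, add_sub_cancel]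
    refine ⟨w, hw, sp_ext fun x => ?_⟩
    rw [hgx, stv_mulVec, one_mul]
    congr 2
    have hpres : ∀ x y, f y * sbil x w + f x * sbil w y = 0 := fun x y => by
      have h := sbil_mulVec g x y
      rw [hgx, hgx, sbil_add_left, sbil_add_right, sbil_add_right, sbil_smul_left, sbil_smul_left,
        sbil_smul_right, sbil_smul_right, sbil_self, mul_zero, mul_zero, add_zero] at h
      linear_combination h
    obtain ⟨z, hz⟩ := exists_sbil_eq_one hw
    have e1 := hpres x z
    rw [hz, mul_one, sbil_swap w x] at e1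
    rcases z2_cases (f z) with hfz | hfz
    · exfalso
      have e2 := hpres x₁ z
      rw [hfz, zero_mul, zero_add, hz, mul_one] at e2
      exact hx₁ e2
    · rw [hfz, one_mul] at e1
      linear_combination e1
  · rintro ⟨v, hv, rfl⟩
    obtain ⟨z, hz⟩ := exists_sbil_eq_one hv
    refine rank_one_of (fun x => sbil v x) (fun x => by
      rw [sub_mulVec, one_mulVec, stv_mulVec, one_mul, add_sub_cancel_left]) (x₀ := z) ?_
    rw [sub_mulVec, one_mulVec, stv_mulVec, hz, one_mul, one_smul, add_sub_cancel_left]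
    exact hv

theorem sp_class (hn : 1 ≤ n) : Cfsg.IsThreeTranspositionClass (spCls n) := by
  have hmul : ∀ u v : Fin n ⊕ Fin n → ZMod 2,
      stv (1 : ZMod 2) u * stv 1 v * stv 1 u = stv 1 (v + sbil u v • u) := fun u v => by
    conv_lhs => arg 2; rw [show stv (1 : ZMod 2) u = (stv (1 : ZMod 2) u)⁻¹ by rw [stv_inv]; rfl]
    rw [stv_conj, stv_mulVec, one_mul]
  have hswap : ∀ u v : Fin n ⊕ Fin n → ZMod 2, sbil u v = sbil v u := fun u v => by
    rw [sbil_swap v u]; exact ZMod.neg_eq_self_mod_two _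
  have hbraid : ∀ u v : Fin n ⊕ Fin n → ZMod 2, sbil u v = 1 →
      stv (1 : ZMod 2) u * stv 1 v * stv 1 u = stv 1 v * stv 1 u * stv 1 v := fun u v h => by
    rw [hmul, hmul, hswap v u, h, one_smul, one_smul, add_comm]
  refine class_of_linked ?_ ?_ ?_ ?_ ?_ ?_
  · exact ⟨_, mem_spCls.2 ⟨Pi.single (.inl ⟨0, hn⟩) 1, by simp, rfl⟩⟩
  · intro d hd
    obtain ⟨v, hv, rfl⟩ := mem_spCls.1 hd
    refine order_two (by rw [stv_mul]; exact stv_zero v) fun e => ?_
    obtain ⟨z, hz⟩ := exists_sbil_eq_one hv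
    have h1 := congrArg (fun g : Matrix.symplecticGroup (Fin n) (ZMod 2) => g.1 *ᵥ z) e
    simp only [stv_mulVec, sp_one_mulVec, hz, one_mul, one_smul, add_eq_left] at h1
    exact hv h1
  · intro g d hd
    obtain ⟨v, hv, rfl⟩ := mem_spCls.1 hd
    exact mem_spCls.2 ⟨_, sp_mulVec_ne_zero g hv, stv_conj g 1 v⟩
  · intro d hd e he
    obtain ⟨u, hu, rfl⟩ := mem_spCls.1 hd
    obtain ⟨v, hv, rfl⟩ := mem_spCls.1 he
    rcases z2_cases (sbil u v) with h | h
    · left
      refine sp_ext fun x => ?_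
      simp only [sp_mul_mulVec, stv_mulVec, sbil_add_right, sbil_smul_right, h, hswap v u]
      module
    · exact Or.inr (hbraid u v h)
  · intro d hd e he
    obtain ⟨u, hu, rfl⟩ := mem_spCls.1 hd
    obtain ⟨v, hv, rfl⟩ := mem_spCls.1 he
    rcases z2_cases (sbil u v) with h | h
    · obtain ⟨z, -, hzu, hzv⟩ := exists_sbil_ne_zero_both (snondeg_top u trivial hu) (snondeg_top v trivial hv)
      have hz0 : z ≠ 0 := fun e => hzu (by rw [e, sbil_zero_right])
      exact Or.inr (Or.inr ⟨_, mem_spCls.2 ⟨z, hz0, rfl⟩, hbraid u z (z2_ne _ hzu),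
        hbraid z v (by rw [hswap]; exact z2_ne _ hzv)⟩)
    · exact Or.inr (Or.inl (hbraid u v h))
  · refine sp_eq_top_of_stv_mem _ fun a v => ?_
    rcases z2_cases a with rfl | rfl
    · rw [stv_zero]; exact one_mem _
    · by_cases hv : v = 0
      · rw [show stv (1 : ZMod 2) v = 1 from sp_ext fun x => by simp [hv]]; exact one_mem _
      · exact Subgroup.subset_closure (mem_spCls.2 ⟨v, hv, rfl⟩)

end Sp

/-! ### Unitary groups over four elements -/

section SU

open CfsgLib.Classical.Unitary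

variable {F : Type} [Field F] [Finite F] {σ : F →+* F} {n : ℕ}

theorem four_facts (hF : Nat.card F = 4) (h : UFrob σ 2) :
    (∀ c : F, c + σ c = 0 → c = 0 ∨ c = 1) ∧ (∀ s : F, s ≠ 0 → s * σ s = 1) ∧ (1 : F) + 1 = 0 := by
  haveI := Fintype.ofFinite F
  have hcard : Fintype.card F = 4 := by rw [← Nat.card_eq_fintype_card, hF]
  have h3 : ∀ s : F, s ≠ 0 → s ^ 3 = 1 := fun s hs => by
    have := FiniteField.pow_card_sub_one_eq_one s hs
    rwa [hcard] at this
  have h4 : ((4 : ℕ) : F) = 0 := by rw [← hcard]; exact FiniteField.cast_card_eq_zero F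
  have h2 : (1 : F) + 1 = 0 := by
    have h5 : ((1 : F) + 1) * (1 + 1) = 0 := by push_cast at h4; linear_combination h4
    exact mul_self_eq_zero.1 h5
  refine ⟨fun c hc => ?_, fun s hs => by rw [h.pow, ← pow_succ']; exact h3 s hs, h2⟩
  rw [h.pow] at hc
  rcases mul_eq_zero.1 (show c * (c - 1) = 0 by linear_combination hc - c * h2) with e | e
  · exact Or.inl e
  · exact Or.inr (sub_eq_zero.1 e)

theorem skew_one (h2 : (1 : F) + 1 = 0) : (1 : F) + σ 1 = 0 := by rw [map_one, h2]

theorem mem_suCls (hF : Nat.card F = 4) (h : UFrob σ 2) (h2 : (1 : F) + 1 = 0) {g : Cfsg.SU n F 2} :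
    (g.1.1 - 1).rank = 1 ↔
      ∃ (v : Fin n → F) (hv : uh σ v v = 0), v ≠ 0 ∧ g = utv h v 1 hv (skew_one h2) := by
  obtain ⟨hskew, hnorm, -⟩ := four_facts hF h
  constructor
  · intro hg
    obtain ⟨w, f, hw, ⟨x₁, hx₁⟩, hA⟩ := rank_one_decomp hg
    have hgx : ∀ x, g.1.1 *ᵥ x = x + f x • w := fun x => by
      rw [← hA x, sub_mulVec, one_mulVec, add_sub_cancel]
    have hfw : f w = 0 := by
      classical
      have he : (g.1.1 : Matrix (Fin n) (Fin n) F) = 1 + vecMulVec w (fun i => f (Pi.single i 1)) := by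
        refine Matrix.ext_iff_mulVec.2 fun x => ?_
        rw [hgx, add_mulVec, one_mulVec, vecMulVec_mulVec, op_smul_eq_smul]
        congr 2
        conv_lhs => rw [← Finset.univ_sum_single x, map_sum]
        refine Finset.sum_congr rfl fun i _ => ?_
        rw [show Pi.single i (x i) = x i • (Pi.single i 1 : Fin n → F) by simp [← Pi.single_smul],
          map_smul, smul_eq_mul, mul_comm]
      have hd : (g.1.1 : Matrix (Fin n) (Fin n) F).det = 1 := g.1.2
      rw [he, vecMulVec_eq Unit, det_one_add_replicateCol_mul_replicateRow, add_eq_left] at hd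
      rw [← Finset.univ_sum_single w, map_sum]
      refine Eq.trans ?_ hd
      refine Finset.sum_congr rfl fun i _ => ?_
      rw [show Pi.single i (w i) = w i • (Pi.single i 1 : Fin n → F) by simp [← Pi.single_smul],
        map_smul, smul_eq_mul, mul_comm]
    have hpres : ∀ x y, σ (f y) * uh σ x w + f x * uh σ w y + f x * σ (f y) * uh σ w w = 0 := fun x y => by
      have e := su_uh h g x y
      rw [hgx, hgx] at e
      simp only [uh_add_left, uh_add_right, uh_smul_left, uh_smul_right] at e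
      linear_combination e
    have hwy : ∀ y, f y = 0 → uh σ w y = 0 := fun y hy => by
      have e := hpres x₁ y
      rw [hy, map_zero, zero_mul, zero_add, mul_zero, zero_mul, add_zero] at e
      exact (mul_eq_zero.1 e).resolve_left hx₁
    have hww : uh σ w w = 0 := hwy w hfw
    obtain ⟨x₀, hx₀⟩ := exists_uh_eq_one h hw
    have hf : ∀ y, f y = f x₀ * uh σ y w := fun y => by
      by_cases hfy : f x₀ = 0
      · exfalso
        have e := hpres x₀ x₁
        rw [hx₀, hfy, zero_mul, zero_mul, zero_mul, add_zero, add_zero, mul_one] at e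
        exact hx₁ ((map_eq_zero σ).1 e)
      have hz : f (y - (f y / f x₀) • x₀) = 0 := by
        rw [map_sub, map_smul, smul_eq_mul, div_mul_cancel₀ _ hfy, sub_self]
      have e := h.swap_zero (hwy _ hz)
      rw [uh_sub_left, uh_smul_left, hx₀, mul_one, sub_eq_zero] at e
      rw [e]; field_simp
    have hc : f x₀ = 1 := by
      have e := hpres x₀ x₀
      rw [hww, mul_zero, add_zero, hx₀, mul_one,
        show uh σ w x₀ = 1 by rw [← h.symm x₀ w, hx₀, map_one], mul_one, add_comm] at e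
      refine (hskew _ e).resolve_left fun h0 => hx₁ ?_
      rw [hf, h0, zero_mul]
    refine ⟨w, hww, hw, su_ext fun x => ?_⟩
    rw [hgx, utv_mulVec, hf, hc]
  · rintro ⟨v, hv, hv0, rfl⟩
    obtain ⟨z, hz⟩ := exists_uh_eq_one h hv0
    refine rank_one_of (fun x => 1 * uh σ x v) (fun x => by
      rw [sub_mulVec, one_mulVec, utv_mulVec, add_sub_cancel_left]) (x₀ := z) ?_
    rw [sub_mulVec, one_mulVec, utv_mulVec, hz, mul_one, one_smul, add_sub_cancel_left]
    exact hv0

theorem su_class (hF : Nat.card F = 4) (h : UFrob σ 2) (hn : 4 ≤ n) :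
    Cfsg.IsThreeTranspositionClass {g : Cfsg.SU n F 2 | (g.1.1 - 1).rank = 1} := by
  obtain ⟨hskew, hnorm, h2⟩ := four_facts hF h
  have hF' : Nat.card F = 2 ^ 2 := by rw [hF]; rfl
  have hm : ∀ {g : Cfsg.SU n F 2}, g ∈ {g : Cfsg.SU n F 2 | (g.1.1 - 1).rank = 1} ↔
      ∃ (v : Fin n → F) (hv : uh σ v v = 0), v ≠ 0 ∧ g = utv h v 1 hv (skew_one h2) :=
    fun {g} => mem_suCls hF h h2
  have hsq : ∀ (v : Fin n → F) hv, utv h v 1 hv (skew_one h2) * utv h v 1 hv (skew_one h2) = 1 := fun v hv =>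
    su_ext fun x => by
      simp only [su_mul_mulVec, utv_mulVec, uh_add_left, uh_smul_left, hv, su_one_mulVec]
      rw [add_assoc, ← add_smul, mul_zero, add_zero, ← add_mul, h2, zero_mul, zero_smul, add_zero]
  have hbraid : ∀ (u v : Fin n → F) hu hv, uh σ u v ≠ 0 →
      utv h u 1 hu (skew_one h2) * utv h v 1 hv (skew_one h2) * utv h u 1 hu (skew_one h2) =
        utv h v 1 hv (skew_one h2) * utv h u 1 hu (skew_one h2) * utv h v 1 hv (skew_one h2) := by
    intro u v hu hv hs
    have hinv : ∀ (w : Fin n → F) hw, (utv h w 1 hw (skew_one h2))⁻¹ = utv h w 1 hw (skew_one h2) :=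
      fun w hw => inv_eq_of_mul_eq_one_right (hsq w hw)
    conv_lhs => arg 2; rw [← hinv u hu]
    conv_rhs => arg 2; rw [← hinv v hv]
    have hiso : ∀ (p q : Fin n → F) (hp : uh σ p p = 0), uh σ q q = 0 →
        uh σ ((utv h p 1 hp (skew_one h2)).1.1 *ᵥ q) ((utv h p 1 hp (skew_one h2)).1.1 *ᵥ q) = 0 :=
      fun p q hp hq => by rw [su_uh h]; exact hq
    rw [TransvSU.utv_conj h _ hv (hiso u v hu hv) rfl, TransvSU.utv_conj h _ hu (hiso v u hv hu) rfl]
    refine su_ext fun x => ?_
    simp only [utv_mulVec, one_mul]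
    have e : v + uh σ v u • u = σ (uh σ u v) • (u + uh σ u v • v) := by
      rw [smul_add, smul_smul, mul_comm, hnorm _ hs, one_smul, h.symm, add_comm]
    rw [e, uh_smul_right, h.invol, smul_smul, mul_comm (uh σ u v), mul_assoc, hnorm _ hs, mul_one]
  refine class_of_linked ?_ ?_ ?_ ?_ ?_ ?_
  · obtain ⟨u, hu0, hu⟩ := TransvSU.exists_iso h hF' (by omega : 2 ≤ n)
    exact ⟨_, hm.2 ⟨u, hu, hu0, rfl⟩⟩
  · intro d hd
    obtain ⟨v, hv, hv0, rfl⟩ := hm.1 hd
    refine order_two (hsq v hv) fun e => ?_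
    obtain ⟨z, hz⟩ := exists_uh_eq_one h hv0
    have h1 := congrArg (fun g : Cfsg.SU n F 2 => g.1.1 *ᵥ z) e
    simp only [utv_mulVec, su_one_mulVec, hz, mul_one, one_smul, add_eq_left] at h1
    exact hv0 h1
  · intro g d hd
    obtain ⟨v, hv, hv0, rfl⟩ := hm.1 hd
    refine hm.2 ⟨g.1.1 *ᵥ v, by rw [su_uh h, hv], fun e => hv0 ?_, TransvSU.utv_conj h g hv _ rfl _ _⟩
    rw [← su_inv_mulVec g v, e, mulVec_zero]
  · intro d hd e he
    obtain ⟨u, hu, -, rfl⟩ := hm.1 hd
    obtain ⟨v, hv, -, rfl⟩ := hm.1 he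
    by_cases hs : uh σ u v = 0
    · left
      refine su_ext fun x => ?_
      simp only [su_mul_mulVec, utv_mulVec, uh_add_left, uh_smul_left, hs, h.swap_zero hs]
      module
    · exact Or.inr (hbraid u v hu hv hs)
  · intro d hd e he
    obtain ⟨u, hu, hu0, rfl⟩ := hm.1 hd
    obtain ⟨v, hv, hv0, rfl⟩ := hm.1 he
    by_cases hs : uh σ u v = 0
    swap
    · exact Or.inr (Or.inl (hbraid u v hu hv hs))
    by_cases hind : ∀ a : F, v ≠ a • u
    · obtain ⟨z, hz, hzu, hzv⟩ := TransvSU.exists_common h hu0 hu hs hind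
      exact Or.inr (Or.inr ⟨_, hm.2 ⟨z, hz, fun e => by simp [e, uh_zero_left] at hzu, rfl⟩,
        hbraid u z hu hz (by rw [← h.symm z u, hzu, map_one]; exact one_ne_zero),
        hbraid z v hz hv (by rw [hzv]; exact one_ne_zero)⟩)
    · push Not at hind
      obtain ⟨a, rfl⟩ := hind
      left
      refine su_ext fun x => ?_
      have ha : a ≠ 0 := fun e => hv0 (by rw [e, zero_smul])
      rw [utv_mulVec, utv_mulVec, uh_smul_right, one_mul, one_mul, smul_smul, mul_comm (σ a), mul_assoc,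
        mul_comm (σ a), hnorm a ha, mul_one]
  · rw [eq_top_iff, ← transvGroup_eq_top hF' h n (by omega) (by omega)]
    refine mem_of_eq_utv h fun v c hv hc => ?_
    by_cases hv0 : v = 0
    · rw [show utv h v c hv hc = 1 from su_ext fun x => by
        rw [utv_mulVec, hv0, smul_zero, add_zero, su_one_mulVec]]
      exact one_mem _
    rcases hskew c hc with rfl | rfl
    · rw [show utv h v (0 : F) hv hc = 1 from su_ext fun x => by
        rw [utv_mulVec, zero_mul, zero_smul, add_zero, su_one_mulVec]]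
      exact one_mem _
    · exact Subgroup.subset_closure (hm.2 ⟨v, hv, hv0, rfl⟩)

end SU

/-! ### Orthogonal groups over two elements -/

section Orth

open CfsgLib.Geometry QuadraticMap

variable [Fact (Nat.Prime 2)] {ι : Type} [Fintype ι] [DecidableEq ι]

theorem orth_class (Q : QuadraticForm (ZMod 2) (ι → ZMod 2)) (hQ : (polarBilin Q).Nondegenerate)
    (hdim : 6 ≤ Fintype.card ι) :
    Cfsg.IsThreeTranspositionClass {g : ↥(Cfsg.isometryGroup (ZMod 2) ⇑Q) |
      (((g : GL ι (ZMod 2)) : Matrix ι ι (ZMod 2)) - 1).rank = 1} := by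
  have hfr : Module.finrank (ZMod 2) (ι → ZMod 2) = Fintype.card ι := Module.finrank_fintype_fun_eq_card _
  have hrefl : ∀ (a : ι → ZMod 2) (ha : Q a ≠ 0) x, refl Q a ha x = x + polar Q x a • a := fun a ha x => by
    rw [refl_apply, z2_ne _ ha, inv_one, one_mul, sub_eq_add_neg, ← neg_smul, ZMod.neg_eq_self_mod_two]
  have hswap : ∀ u v : ι → ZMod 2, polar Q u v = polar Q v u := polar_comm Q
  have hadd : ∀ a b : ι → ZMod 2, Q (a + b) = Q a + Q b + polar Q a b := fun a b => by rw [polar]; ring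
  have hself : ∀ v : ι → ZMod 2, polar Q v v = 0 := fun v => by
    rw [polar_self', two_mul]; exact ZModModule.add_self _
  have hm : ∀ g : ↥(Cfsg.isometryGroup (ZMod 2) ⇑Q),
      (((g : GL ι (ZMod 2)) : Matrix ι ι (ZMod 2)) - 1).rank = 1 ↔
        ∃ (v : ι → ZMod 2) (hv : Q v ≠ 0), (isomEquiv Q g).1 = refl Q v hv := by
    intro g
    constructor
    · intro hg
      obtain ⟨w, f, hw, ⟨x₁, hx₁⟩, hA⟩ := rank_one_decomp hg
      have hgx : ∀ x, ((g : GL ι (ZMod 2)) : Matrix ι ι (ZMod 2)) *ᵥ x = x + f x • w := fun x => by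
        rw [← hA x, sub_mulVec, one_mulVec, add_sub_cancel]
      have hone : ∀ x, f x = 1 → Q w + polar Q x w = 0 := fun x hx => by
        have e : Q (((g : GL ι (ZMod 2)) : Matrix ι ι (ZMod 2)) *ᵥ x) = Q x := g.2 x x
        rw [hgx, hx, one_smul, hadd] at e
        linear_combination e
      have hker : ∀ y, f y = 0 → polar Q y w = 0 := fun y hy => by
        have h1 := hone x₁ (z2_ne _ hx₁)
        have h3 := hone (x₁ + y) (by rw [map_add, hy, add_zero]; exact z2_ne _ hx₁)
        rw [polar_add_left] at h3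
        linear_combination h3 - h1
      have hf : ∀ x, polar Q x w = f x * polar Q x₁ w := fun x => by
        rcases z2_cases (f x) with hx | hx
        · rw [hx, zero_mul, hker x hx]
        · have h1 := hone x₁ (z2_ne _ hx₁)
          have h3 := hone x hx
          rw [hx, one_mul]
          linear_combination h3 - h1
      have h1 : polar Q x₁ w = 1 := z2_ne _ fun e => hw (hQ.1 w fun x => by
        rw [polarBilin_apply_apply, hswap, hf, e, mul_zero])
      have hQw : Q w ≠ 0 := fun e => by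
        have h3 := hone x₁ (z2_ne _ hx₁)
        rw [e, h1, zero_add] at h3
        exact one_ne_zero h3
      refine ⟨w, hQw, LinearEquiv.ext fun x => ?_⟩
      rw [isomEquiv_apply, hrefl, hgx, hf, h1, mul_one]
    · rintro ⟨v, hv, hg⟩
      have hgx : ∀ x, ((g : GL ι (ZMod 2)) : Matrix ι ι (ZMod 2)) *ᵥ x = x + polar Q x v • v := fun x => by
        rw [← isomEquiv_apply, hg, hrefl]
      have hv0 : v ≠ 0 := fun e => hv (by rw [e, map_zero])
      obtain ⟨z, hz⟩ : ∃ z, polar Q z v ≠ 0 := by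
        by_contra hn
        push Not at hn
        exact hv0 (hQ.1 v fun x => by rw [polarBilin_apply_apply, hswap]; exact hn x)
      refine rank_one_of (fun x => polar Q x v) (fun x => by
        rw [sub_mulVec, one_mulVec, hgx, add_sub_cancel_left]) (x₀ := z) ?_
      rw [sub_mulVec, one_mulVec, hgx, add_sub_cancel_left]
      exact smul_ne_zero hz hv0
  have hsq : ∀ (v : ι → ZMod 2) hv, (refl Q v hv)⁻¹ = refl Q v hv := fun v hv =>
    inv_eq_of_mul_eq_one_right (refl_mul_self Q v hv)
  have hbraid : ∀ (u v : ι → ZMod 2) hu hv, polar Q u v = 1 →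
      refl Q u hu * refl Q v hv * refl Q u hu = refl Q v hv * refl Q u hu * refl Q v hv := by
    intro u v hu hv h
    conv_lhs => arg 2; rw [← hsq u hu]
    conv_rhs => arg 2; rw [← hsq v hv]
    rw [refl_conj Q (refl_mem_orth Q u hu), refl_conj Q (refl_mem_orth Q v hv)]
    refine LinearEquiv.ext fun x => ?_
    simp only [hrefl, h, hswap v u, one_smul, add_comm v u]
  have hT : ∀ (g g' : ↥(Cfsg.isometryGroup (ZMod 2) ⇑Q)) (e e' : (ι → ZMod 2) ≃ₗ[ZMod 2] (ι → ZMod 2)),
      (isomEquiv Q g).1 = e → (isomEquiv Q g').1 = e' → e * e' * e = e' * e * e' →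
        g * g' * g = g' * g * g' := fun g g' e e' h h' hb => (isomEquiv Q).injective (Subtype.ext (by
    simp only [map_mul, Subgroup.coe_mul, h, h', hb]))
  refine class_of_linked ?_ ?_ ?_ ?_ ?_ ?_
  · obtain ⟨v, hv⟩ : ∃ v, Q v ≠ 0 := by
      by_contra hn
      push Not at hn
      obtain ⟨i⟩ : Nonempty ι := Fintype.card_pos_iff.1 (by omega)
      have h1 : (Pi.single i 1 : ι → ZMod 2) = 0 := hQ.1 _ fun x => by
        rw [polarBilin_apply_apply, polar, hn, hn, hn, sub_zero, sub_zero]
      simpa using h1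
    exact ⟨(isomEquiv Q).symm ⟨_, refl_mem_orth Q v hv⟩, (hm _).2 ⟨v, hv, by rw [MulEquiv.apply_symm_apply]⟩⟩
  · intro d hd
    obtain ⟨v, hv, hdv⟩ := (hm d).1 hd
    refine order_two ((isomEquiv Q).injective (Subtype.ext ?_)) fun e => ?_
    · rw [map_mul, Subgroup.coe_mul, hdv, map_one, Subgroup.coe_one]; exact refl_mul_self Q v hv
    · rw [e, map_one] at hdv
      have hv0 : v ≠ 0 := fun e' => hv (by rw [e', map_zero])
      refine hv0 (hQ.1 v fun x => ?_)
      have h1 := LinearEquiv.congr_fun hdv x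
      rw [hrefl, Subgroup.coe_one] at h1
      rw [polarBilin_apply_apply, hswap]
      exact (smul_eq_zero.1 (left_eq_add.1 h1)).resolve_right hv0
  · intro g d hd
    obtain ⟨v, hv, hdv⟩ := (hm d).1 hd
    refine (hm _).2 ⟨(isomEquiv Q g).1 v, by rw [mem_orth.1 (isomEquiv Q g).2]; exact hv, ?_⟩
    rw [map_mul, map_mul, map_inv, Subgroup.coe_mul, Subgroup.coe_mul, Subgroup.coe_inv, hdv,
      refl_conj Q (isomEquiv Q g).2]
  · intro d hd e he
    obtain ⟨u, hu, hdu⟩ := (hm d).1 hd
    obtain ⟨v, hv, hev⟩ := (hm e).1 he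
    rcases z2_cases (polar Q u v) with h | h
    · refine Or.inl ((isomEquiv Q).injective (Subtype.ext (LinearEquiv.ext fun x => ?_)))
      simp only [map_mul, Subgroup.coe_mul, hdu, hev, LinearEquiv.mul_apply, hrefl, polar_add_left,
        polar_smul_left, h, hswap v u, smul_eq_mul]
      module
    · exact Or.inr (hT _ _ _ _ hdu hev (hbraid u v hu hv h))
  · intro d hd e he
    obtain ⟨u, hu, hdu⟩ := (hm d).1 hd
    obtain ⟨v, hv, hev⟩ := (hm e).1 he
    rcases z2_cases (polar Q u v) with h | h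
    swap
    · exact Or.inr (Or.inl (hT _ _ _ _ hdu hev (hbraid u v hu hv h)))
    by_cases huv : u = v
    · subst huv
      exact Or.inl ((isomEquiv Q).injective (Subtype.ext (hdu.trans hev.symm)))
    obtain ⟨z, hzu, hzv, hQz⟩ : ∃ z, polar Q u z = 1 ∧ polar Q v z = 1 ∧ Q z = 1 := by
      let L : (ι → ZMod 2) →ₗ[ZMod 2] (Fin 2 → ZMod 2) := LinearMap.pi ![polarBilin Q u, polarBilin Q v]
      obtain ⟨z₀, hz0u, hz0v⟩ : ∃ z, polar Q u z = 1 ∧ polar Q v z = 1 := by
        have hu0 : u ≠ 0 := fun e => hu (by rw [e, map_zero])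
        have hv0 : v ≠ 0 := fun e => hv (by rw [e, map_zero])
        have hex : ∀ w : ι → ZMod 2, w ≠ 0 → ∃ z, polar Q w z = 1 := fun w hw => by
          by_contra hn
          push Not at hn
          exact hw (hQ.1 w fun x => by
            rw [polarBilin_apply_apply]
            exact (z2_cases _).resolve_right (hn x))
        obtain ⟨z1, h1⟩ := hex u hu0
        rcases z2_cases (polar Q v z1) with h3 | h3
        · obtain ⟨z2, h4⟩ := hex v hv0
          rcases z2_cases (polar Q u z2) with h5 | h5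
          · exact ⟨z1 + z2, by rw [polar_add_right, h1, h5, add_zero], by rw [polar_add_right, h3, h4, zero_add]⟩
          · exact ⟨z2, h5, h4⟩
        · exact ⟨z1, h1, h3⟩
      let W := LinearMap.ker L
      have hmW : ∀ y, y ∈ W ↔ polar Q u y = 0 ∧ polar Q v y = 0 := fun y => by
        simp [W, L, LinearMap.mem_ker, funext_iff, Fin.forall_fin_two]
      by_contra hn
      push Not at hn
      have hall : ∀ y ∈ W, Q (z₀ + y) = 0 := fun y hy => by
        obtain ⟨h1, h3⟩ := (hmW y).1 hy
        exact (z2_cases _).resolve_right (hn _ (by rw [polar_add_right, hz0u, h1, add_zero])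
          (by rw [polar_add_right, hz0v, h3, add_zero]))
      have hperp : ∀ y ∈ W, ∀ y' ∈ W, polar Q y y' = 0 := fun y hy y' hy' => by
        have h1 := hall _ (W.add_mem hy hy')
        have h3 := hall y hy
        have h4 := hall y' hy'
        have h5 := hall 0 W.zero_mem
        rw [add_zero] at h5
        rw [hadd, hadd y y', polar_add_right, h5] at h1
        rw [hadd, h5] at h3 h4
        linear_combination h1 - h3 - h4
      have hsub : W.map (polarBilin Q) ≤ Submodule.span (ZMod 2) (Set.range ![polarBilin Q u, polarBilin Q v]) := by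
        rintro _ ⟨y, hy, rfl⟩
        refine mem_span_of_iInf_ker_le_ker fun x hx => ?_
        rw [Submodule.mem_iInf] at hx
        exact hperp y hy x ((hmW x).2 ⟨hx 0, hx 1⟩)
      have hinj : Function.Injective (polarBilin Q) := by
        rw [injective_iff_map_eq_zero]
        exact fun y hy => hQ.1 y fun x => by rw [hy]; rfl
      have h1 := (Submodule.finrank_mono hsub).trans (finrank_range_le_card (R := ZMod 2) ![polarBilin Q u, polarBilin Q v])
      rw [← (Submodule.equivMapOfInjective _ hinj W).finrank_eq, Fintype.card_fin] at h1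
      change Module.finrank (ZMod 2) ↥(LinearMap.ker L) ≤ 2 at h1
      have h3 := LinearMap.finrank_range_add_finrank_ker L
      have h4 := Submodule.finrank_le (LinearMap.range L)
      rw [Module.finrank_fintype_fun_eq_card, Fintype.card_fin] at h4
      rw [hfr] at h3
      omega
    have hQz' : Q z ≠ 0 := by rw [hQz]; exact one_ne_zero
    refine Or.inr (Or.inr ⟨(isomEquiv Q).symm ⟨_, refl_mem_orth Q z hQz'⟩,
      (hm _).2 ⟨z, hQz', by rw [MulEquiv.apply_symm_apply]⟩, ?_, ?_⟩)
    · exact hT _ _ _ _ hdu (by rw [MulEquiv.apply_symm_apply]) (hbraid u z hu hQz' hzu)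
    · exact hT _ _ _ _ (by rw [MulEquiv.apply_symm_apply]) hev (hbraid z v hQz' hv (by rw [hswap]; exact hzv))
  · rw [← Subgroup.comap_top (isomEquiv Q).toMonoidHom]
    refine Subgroup.map_injective (f := (isomEquiv Q).toMonoidHom) (isomEquiv Q).injective ?_
    rw [MonoidHom.map_closure, Subgroup.map_comap_eq_self_of_surjective (isomEquiv Q).surjective]
    refine Subgroup.map_injective (orth Q).subtype_injective ?_
    rw [MonoidHom.map_closure, ← MonoidHom.range_eq_map, Subgroup.range_subtype]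
    refine Eq.trans ?_ (reflGroup_eq_orth hQ (Or.inl (by rw [hfr]; omega)))
    rw [reflGroup]
    congr 1
    ext e
    constructor
    · rintro ⟨_, ⟨g, hg, rfl⟩, rfl⟩
      obtain ⟨v, hv, hgv⟩ := (hm g).1 hg
      exact ⟨v, hv, hgv⟩
    · rintro ⟨v, hv, rfl⟩
      exact ⟨⟨_, refl_mem_orth Q v hv⟩, ⟨(isomEquiv Q).symm ⟨_, refl_mem_orth Q v hv⟩,
        (hm _).2 ⟨v, hv, by rw [MulEquiv.apply_symm_apply]⟩, MulEquiv.apply_symm_apply _ _⟩, rfl⟩

end Orth

end CfsgLib.ThreeTransp.Models
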