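import Cfsg.Agent.Lib.ThreeTransp.WeakTS
import Cfsg.Agent.Lib.Classical.UnitarySimple

/-!
Sets of 3-transpositions in PSU(6,2): they consist of the images of the transvections.
-/

set_option autoImplicit false

namespace CfsgLib.ThreeTransp.USix

open Cfsg CfsgLib.Classical.Unitary
open Matrix

variable {F : Type} [Field F] {σ : F →+* F}

/-- The space. -/
abbrev V (F : Type) : Type := Fin 6 → F

/-- Pairing with a fixed vector. -/
def uhL (σ : F →+* F) (u : V F) : V F →ₗ[F] F where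
  toFun x := uh σ x u
  map_add' x y := uh_add_left x y u
  map_smul' c x := uh_smul_left c x u

@[simp] theorem uhL_apply (u x : V F) : uhL σ u x = uh σ x u := rfl

theorem span_of_vanish (h : UFrob σ 2) {k : ℕ} (u : Fin k → V F) (w : V F)
    (hv : ∀ x, (∀ i, uh σ x (u i) = 0) → uh σ x w = 0) :
    ∃ a : Fin k → F, w = ∑ i, a i • u i := by
  have hmem : uhL σ w ∈ Submodule.span F (Set.range fun i => uhL σ (u i)) :=
    mem_span_of_iInf_ker_le_ker (L := fun i => uhL σ (u i)) fun x hx => by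
      rw [Submodule.mem_iInf] at hx
      exact hv x hx
  obtain ⟨c, hc⟩ := (Submodule.mem_span_range_iff_exists_fun F).1 hmem
  refine ⟨fun i => σ (c i), uh_ext h fun x => ?_⟩
  have hx := LinearMap.congr_fun hc x
  simp only [LinearMap.sum_apply, LinearMap.smul_apply, uhL_apply, smul_eq_mul] at hx
  rw [← hx]
  clear hx hc hmem hv
  induction k with
  | zero => simp [uh_zero_right]
  | succ k ih =>
    rw [Fin.sum_univ_succ, Fin.sum_univ_succ, uh_add_right, uh_smul_right, h.invol]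
    exact congrArg _ (ih (fun i => u i.succ) (fun i => c i.succ))

theorem exists_dual_two (h : UFrob σ 2) {u v : V F} (hu : ∀ a : F, u ≠ a • v) :
    ∃ x, uh σ x u = 1 ∧ uh σ x v = 0 := by
  obtain ⟨x, hx, hxu⟩ : ∃ x, uh σ x v = 0 ∧ uh σ x u ≠ 0 := by
    by_contra hc
    push Not at hc
    obtain ⟨a, ha⟩ := span_of_vanish h ![v] u fun x hx => hc x (hx 0)
    exact hu (a 0) (by simpa using ha)
  exact ⟨(uh σ x u)⁻¹ • x, by rw [uh_smul_left, inv_mul_cancel₀ hxu],
    by rw [uh_smul_left, hx, mul_zero]⟩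

theorem exists_dual_three (h : UFrob σ 2) {u v w : V F} (hu : ∀ a b : F, u ≠ a • v + b • w) :
    ∃ x, uh σ x u = 1 ∧ uh σ x v = 0 ∧ uh σ x w = 0 := by
  obtain ⟨x, hx, hxu⟩ : ∃ x, (∀ i, uh σ x (![v, w] i) = 0) ∧ uh σ x u ≠ 0 := by
    by_contra hc
    push Not at hc
    obtain ⟨a, ha⟩ := span_of_vanish h ![v, w] u fun x hx => hc x hx
    exact hu (a 0) (a 1) (by simpa [Fin.sum_univ_two] using ha)
  exact ⟨(uh σ x u)⁻¹ • x, by rw [uh_smul_left, inv_mul_cancel₀ hxu],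
    by rw [uh_smul_left, show uh σ x v = 0 from hx 0, mul_zero],
    by rw [uh_smul_left, show uh σ x w = 0 from hx 1, mul_zero]⟩

variable (hF : Nat.card F = 2 ^ 2) (h : UFrob σ 2)

include hF in
theorem two_zero : (2 : F) = 0 := by
  have : Finite F := Nat.finite_of_card_ne_zero (by rw [hF]; norm_num)
  exact two_eq_zero_of_q_two hF rfl

include hF in
theorem add_self (x : F) : x + x = 0 := by linear_combination x * two_zero hF

include hF in
theorem vadd_self (x : V F) : x + x = 0 := funext fun i => add_self hF (x i)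

include hF h in
theorem norm_one {x : F} (hx : x ≠ 0) : x * σ x = 1 := by
  have : Finite F := Nat.finite_of_card_ne_zero (by rw [hF]; norm_num)
  have := Fintype.ofFinite F
  have h1 := FiniteField.pow_card_sub_one_eq_one x hx
  rw [← Nat.card_eq_fintype_card, hF] at h1
  rw [h.pow, ← h1]
  ring

include h in
theorem fixed_cases {x : F} (hx : σ x = x) : x = 0 ∨ x = 1 := by
  rw [h.pow, pow_two] at hx
  rcases eq_or_ne x 0 with h0 | h0
  · exact Or.inl h0
  · exact Or.inr (mul_left_cancel₀ h0 (by rw [hx, mul_one]))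

include h in
theorem self_cases (x : V F) : uh σ x x = 0 ∨ uh σ x x = 1 := fixed_cases h (h.symm x x)

include hF in
theorem skew_one : (1 : F) + σ 1 = 0 := by rw [map_one]; exact add_self hF 1

/-- The transvection at an isotropic vector. -/
def tr (u : V F) (hu : uh σ u u = 0) : SU 6 F 2 := utv h u 1 hu (skew_one hF)

theorem tr_mulVec (u : V F) (hu : uh σ u u = 0) (x : V F) :
    (tr hF h u hu).1.1 *ᵥ x = x + uh σ x u • u := by
  rw [tr, utv_mulVec, one_mul]

theorem tr_fix (u : V F) (hu : uh σ u u = 0) {x : V F} (hx : uh σ x u = 0) :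
    (tr hF h u hu).1.1 *ᵥ x = x := by rw [tr_mulVec, hx, zero_smul, add_zero]

theorem tr_sq (u : V F) (hu : uh σ u u = 0) : tr hF h u hu * tr hF h u hu = 1 := by
  refine su_ext fun x => ?_
  rw [su_mul_mulVec, su_one_mulVec, tr_mulVec, tr_mulVec, uh_add_left, uh_smul_left, hu, mul_zero,
    add_zero, add_assoc, vadd_self hF, add_zero]

theorem tr_comm {u v : V F} (hu : uh σ u u = 0) (hv : uh σ v v = 0) (huv : uh σ u v = 0) :
    Commute (tr hF h u hu) (tr hF h v hv) := by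
  refine su_ext fun x => ?_
  rw [su_mul_mulVec, su_mul_mulVec, tr_mulVec, tr_mulVec, tr_mulVec, tr_mulVec, uh_add_left,
    uh_add_left, uh_smul_left, uh_smul_left, huv, h.swap_zero huv, mul_zero, mul_zero, add_zero,
    add_zero]
  abel

theorem conj_tr (g : SU 6 F 2) {u w : V F} (hu : uh σ u u = 0) (hw : uh σ w w = 0)
    (he : g.1.1 *ᵥ u = w) : g * tr hF h u hu * g⁻¹ = tr hF h w hw := by
  refine mul_inv_eq_iff_eq_mul.2 (su_ext fun x => ?_)
  rw [su_mul_mulVec, su_mul_mulVec, tr_mulVec, tr_mulVec, mulVec_add, mulVec_smul, he, ← he, su_uh h]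

theorem tr_smul {u : V F} (hu : uh σ u u = 0) {c : F} (hc : c ≠ 0) (hcu : uh σ (c • u) (c • u) = 0) :
    tr hF h (c • u) hcu = tr hF h u hu := by
  refine su_ext fun x => ?_
  rw [tr_mulVec, tr_mulVec, uh_smul_right, smul_smul]
  congr 2
  linear_combination uh σ x u * norm_one hF h hc

theorem tr_conj_nonorth {u v : V F} (hu : uh σ u u = 0) (hv : uh σ v v = 0) (huv : uh σ u v ≠ 0) :
    tr hF h u hu * tr hF h v hv * tr hF h u hu * (tr hF h u hu * tr hF h v hv)⁻¹ = tr hF h v hv := by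
  have hcv : uh σ (uh σ u v • v) (uh σ u v • v) = 0 := by
    rw [uh_smul_left, uh_smul_right, hv, mul_zero, mul_zero]
  rw [conj_tr hF h _ hu hcv ?_, tr_smul hF h hv huv]
  rw [su_mul_mulVec, tr_mulVec hF h v hv, tr_mulVec, uh_add_left, uh_smul_left, hu, zero_add,
    ← h.symm u v, norm_one hF h huv, one_smul]
  calc u + uh σ u v • v + u = (u + u) + uh σ u v • v := by abel
    _ = _ := by rw [vadd_self hF, zero_add]

/-- The image in the projective group. -/
def pt (u : V F) (hu : uh σ u u = 0) : PSU 6 F 2 := QuotientGroup.mk (tr hF h u hu)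

theorem pt_congr {u v : V F} (e : u = v) (hu : uh σ u u = 0) (hv : uh σ v v = 0) :
    pt hF h u hu = pt hF h v hv := by subst e; rfl

include hF h in
theorem eq_of_mk {g k : SU 6 F 2}
    (he : (QuotientGroup.mk g : PSU 6 F 2) = QuotientGroup.mk k) {z : V F} (hz : z ≠ 0)
    (hgz : g.1.1 *ᵥ z = z) (hkz : k.1.1 *ᵥ z = z) : g = k := by
  have : Finite F := Nat.finite_of_card_ne_zero (by rw [hF]; norm_num)
  obtain ⟨c, -, -, hc⟩ := CfsgLib.Classical.SU_center_scalar hF (by norm_num) (QuotientGroup.eq.1 he)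
  have hk : ∀ x, k.1.1 *ᵥ x = c • (g.1.1 *ᵥ x) := by
    intro x
    have h1 : k = g * (g⁻¹ * k) := (mul_inv_cancel_left g k).symm
    rw [h1, su_mul_mulVec]
    have h2 : (g⁻¹ * k).1.1 *ᵥ x = c • x := by
      rw [hc]; ext i; simp [mulVec_diagonal]
    rw [h2, mulVec_smul]
  have h3 := hk z
  rw [hgz, hkz] at h3
  have hc1 : c = 1 := by
    obtain ⟨i, hi⟩ := Function.ne_iff.1 hz
    have := congrFun h3 i
    simp only [Pi.smul_apply, smul_eq_mul, Pi.zero_apply] at this hi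
    exact mul_right_cancel₀ hi (by rw [one_mul]; exact this.symm)
  exact su_ext fun x => by rw [hk, hc1, one_smul]

include h in
theorem exists_perp (u v : V F) : ∃ z : V F, z ≠ 0 ∧ uh σ z u = 0 ∧ uh σ z v = 0 :=
  exists_perp_two h (by norm_num) u v

theorem pt_eq_iff {u v : V F} (hu : uh σ u u = 0) (hv : uh σ v v = 0) (hu0 : u ≠ 0) :
    pt hF h u hu = pt hF h v hv → ∃ a : F, u = a • v := by
  intro he
  obtain ⟨z, hz, hzu, hzv⟩ := exists_perp h u v
  have := eq_of_mk hF h he hz (tr_fix hF h u hu hzu) (tr_fix hF h v hv hzv)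
  obtain ⟨x, hx⟩ := exists_uh_eq_one h hu0
  refine ⟨uh σ x v, ?_⟩
  have h1 : (tr hF h u hu).1.1 *ᵥ x = (tr hF h v hv).1.1 *ᵥ x := by rw [this]
  rw [tr_mulVec, tr_mulVec, hx, one_smul] at h1
  exact add_left_cancel h1

theorem pt_ne_one {u : V F} (hu : uh σ u u = 0) (hu0 : u ≠ 0) : pt hF h u hu ≠ 1 := by
  intro he
  obtain ⟨z, hz, hzu, -⟩ := exists_perp h u u
  have := eq_of_mk hF h (k := 1) he hz (tr_fix hF h u hu hzu) (su_one_mulVec z)
  obtain ⟨x, hx⟩ := exists_uh_eq_one h hu0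
  have h1 : (tr hF h u hu).1.1 *ᵥ x = (1 : SU 6 F 2).1.1 *ᵥ x := by rw [this]
  rw [tr_mulVec, su_one_mulVec, hx, one_smul] at h1
  exact hu0 (left_eq_add.1 h1.symm)

theorem pt_commute_iff {u v : V F} (hu : uh σ u u = 0) (hv : uh σ v v = 0) :
    Commute (pt hF h u hu) (pt hF h v hv) ↔ uh σ u v = 0 := by
  refine ⟨fun hc => ?_, fun huv => (tr_comm hF h hu hv huv).map (QuotientGroup.mk' _)⟩
  by_contra huv
  obtain ⟨z, hz, hzu, hzv⟩ := exists_perp h u v
  have hc' : (QuotientGroup.mk (tr hF h u hu * tr hF h v hv) : PSU 6 F 2) =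
      QuotientGroup.mk (tr hF h v hv * tr hF h u hu) := hc
  have := eq_of_mk hF h hc' hz
    (by rw [su_mul_mulVec, tr_fix hF h v hv hzv, tr_fix hF h u hu hzu])
    (by rw [su_mul_mulVec, tr_fix hF h u hu hzu, tr_fix hF h v hv hzv])
  have h1 : (tr hF h u hu * tr hF h v hv).1.1 *ᵥ u = (tr hF h v hv * tr hF h u hu).1.1 *ᵥ u := by
    rw [this]
  rw [su_mul_mulVec, su_mul_mulVec, tr_fix hF h u hu hu, tr_mulVec hF h v hv, tr_mulVec, uh_add_left,
    uh_smul_left, hu, zero_add, ← h.symm u v, norm_one hF h huv, one_smul] at h1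
  have hu0 : u = 0 := add_eq_left.1 h1
  exact huv (by rw [hu0, uh_zero_left])

include hF h in
theorem iso_shift {x u : V F} (hu : uh σ u u = 0) (hxu : uh σ x u = 1) :
    ∃ c : F, uh σ (x + c • u) (x + c • u) = 0 := by
  have : Finite F := Nat.finite_of_card_ne_zero (by rw [hF]; norm_num)
  obtain ⟨θ, hθ⟩ := exists_trace h
  refine ⟨uh σ x x * θ, ?_⟩
  have hux : uh σ u x = 1 := by rw [← h.symm, hxu, map_one]
  rw [uh_add_left, uh_add_right, uh_smul_left, uh_add_right, uh_smul_right, uh_smul_right, hu,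
    hxu, hux, map_mul, h.symm]
  linear_combination add_self hF (uh σ x x) + uh σ x x * hθ

include hF h in
theorem exists_both_nonorth {u v : V F} (hu : uh σ u u = 0) (hv : uh σ v v = 0) (hu0 : u ≠ 0)
    (hv0 : v ≠ 0) : ∃ z, uh σ z z = 0 ∧ uh σ z u ≠ 0 ∧ uh σ z v ≠ 0 := by
  by_cases huv : uh σ u v = 0
  · obtain ⟨x, hxu, hxv⟩ : ∃ x, uh σ x u = 1 ∧ uh σ x v ≠ 0 := by
      obtain ⟨x, hx⟩ := exists_uh_eq_one h hu0
      by_cases hxv : uh σ x v = 0
      · obtain ⟨y, hy1, hy2⟩ := exists_dual_two h (u := v) (v := u) fun a e => by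
          have hd : uh σ x v = σ a := by rw [e, uh_smul_right, hx, mul_one]
          rw [hxv] at hd
          exact hv0 (by rw [e, show a = 0 from (map_eq_zero σ).1 hd.symm, zero_smul])
        exact ⟨x + y, by rw [uh_add_left, hx, hy2, add_zero],
          by rw [uh_add_left, hxv, hy1, zero_add]; exact one_ne_zero⟩
      · exact ⟨x, hx, hxv⟩
    obtain ⟨c, hc⟩ := iso_shift hF h hu hxu
    exact ⟨x + c • u, hc, by rw [uh_add_left, uh_smul_left, hu, hxu]; simp,
      by rwa [uh_add_left, uh_smul_left, huv, mul_zero, add_zero]⟩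
  · have hvu : uh σ v u ≠ 0 := fun e => huv (h.swap_zero e)
    refine ⟨u + (uh σ v u)⁻¹ • v, ?_, ?_, ?_⟩
    · rw [uh_add_left, uh_add_right, uh_smul_left, uh_add_right, uh_smul_right, uh_smul_right, hu,
        hv, mul_zero, zero_add, add_zero, map_inv₀, h.symm, inv_mul_cancel₀ huv,
        inv_mul_cancel₀ hvu]
      exact add_self hF 1
    · rw [uh_add_left, uh_smul_left, hu, zero_add, inv_mul_cancel₀ hvu]; exact one_ne_zero
    · rwa [uh_add_left, uh_smul_left, hv, mul_zero, add_zero]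

include hF h in
theorem exists_iso_in_kernel (a b c d : V F) : ∃ z : V F, z ≠ 0 ∧ uh σ z z = 0 ∧
    uh σ z a = 0 ∧ uh σ z b = 0 ∧ uh σ z c = 0 ∧ uh σ z d = 0 := by
  have key : ∀ {k : ℕ} (l : Fin k → V F), k < 6 → ∃ z : V F, z ≠ 0 ∧ ∀ i, uh σ z (l i) = 0 := by
    intro k l hk
    have : LinearMap.ker (LinearMap.pi fun i => uhL σ (l i)) ≠ ⊥ :=
      LinearMap.ker_ne_bot_of_finrank_lt (by simp; omega)
    obtain ⟨z, hz, hz0⟩ := Submodule.exists_mem_ne_zero_of_ne_bot this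
    exact ⟨z, hz0, fun i => congrFun (LinearMap.mem_ker.1 hz) i⟩
  obtain ⟨z, hz, hz'⟩ := key ![a, b, c, d] (by norm_num)
  rcases self_cases h z with hzz | hzz
  · exact ⟨z, hz, hzz, hz' 0, hz' 1, hz' 2, hz' 3⟩
  obtain ⟨w, hw, hw'⟩ := key ![a, b, c, d, z] (by norm_num)
  rcases self_cases h w with hww | hww
  · exact ⟨w, hw, hww, hw' 0, hw' 1, hw' 2, hw' 3⟩
  have hwz : uh σ w z = 0 := hw' 4
  refine ⟨z + w, fun e => ?_, ?_, ?_, ?_, ?_, ?_⟩
  · have h1 : w = z := by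
      calc w = (z + z) + w := by rw [vadd_self hF, zero_add]
        _ = z := by rw [add_assoc, e, add_zero]
    rw [h1, hzz] at hwz; exact one_ne_zero hwz
  · rw [uh_add_left, uh_add_right, uh_add_right, hzz, hww, hwz, h.swap_zero hwz, add_zero, zero_add]
    exact add_self hF 1
  all_goals rw [uh_add_left]
  · rw [show uh σ z a = 0 from hz' 0, show uh σ w a = 0 from hw' 0, add_zero]
  · rw [show uh σ z b = 0 from hz' 1, show uh σ w b = 0 from hw' 1, add_zero]
  · rw [show uh σ z c = 0 from hz' 2, show uh σ w c = 0 from hw' 2, add_zero]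
  · rw [show uh σ z d = 0 from hz' 3, show uh σ w d = 0 from hw' 3, add_zero]

/-! ### Involutions are products of commuting transvections -/

include hF h in
/-- A vector moved by an involution with value one. -/
theorem exists_pivot {g : SU 6 F 2} (hg : g * g = 1) (hg1 : g ≠ 1) :
    ∃ x, uh σ x (g.1.1 *ᵥ x + x) = 1 := by
  have : Finite F := Nat.finite_of_card_ne_zero (by rw [hF]; norm_num)
  have hgg : ∀ x, g.1.1 *ᵥ (g.1.1 *ᵥ x) = x := fun x => by
    rw [← su_mul_mulVec, hg, su_one_mulVec]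
  set β : V F → V F → F := fun x y => uh σ x (g.1.1 *ᵥ y + y) with hβ
  have hsym : ∀ x y, σ (β x y) = β y x := fun x y => by
    simp only [β]
    rw [h.symm, uh_add_left, uh_add_right]
    congr 1
    rw [← su_uh h g (g.1.1 *ᵥ y) x, hgg]
  by_contra hc
  push Not at hc
  have hdiag : ∀ x, β x x = 0 := fun x =>
    (fixed_cases h (hsym x x)).resolve_right (hc x)
  have hadd : ∀ x y, β x y + σ (β x y) = 0 := fun x y => by
    have := hdiag (x + y)
    simp only [β, mulVec_add] at this hdiag ⊢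
    rw [show g.1.1 *ᵥ x + g.1.1 *ᵥ y + (x + y) = (g.1.1 *ᵥ x + x) + (g.1.1 *ᵥ y + y) by abel] at this
    have hs := hsym x y
    have hx := hdiag x
    have hy := hdiag y
    simp only [β] at hs
    generalize g.1.1 *ᵥ x + x = p at this hs hx
    generalize g.1.1 *ᵥ y + y = r at this hs hy ⊢
    rw [uh_add_left, uh_add_right, uh_add_right, hx, hy, zero_add, add_zero] at this
    rw [hs]; exact this
  refine hg1 (su_ext fun y => ?_)
  have hz : g.1.1 *ᵥ y + y = 0 := uh_ext h fun x => by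
    rw [uh_zero_right]
    by_contra h0
    obtain ⟨θ, hθ⟩ := exists_trace h
    have h1 := hadd ((θ * (uh σ x (g.1.1 *ᵥ y + y))⁻¹) • x) y
    simp only [β, uh_smul_left] at h1
    rw [mul_assoc, inv_mul_cancel₀ h0, mul_one, hθ] at h1
    exact one_ne_zero h1
  rw [su_one_mulVec]
  calc g.1.1 *ᵥ y = g.1.1 *ᵥ y + (y + y) := by rw [vadd_self hF, add_zero]
    _ = y := by rw [← add_assoc, hz, zero_add]

theorem step {g : SU 6 F 2} (hg : g * g = 1) (hg1 : g ≠ 1) :
    ∃ (x u : V F) (hu : uh σ u u = 0), uh σ x u = 1 ∧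
      (g * tr hF h u hu) * (g * tr hF h u hu) = 1 ∧
      (g * tr hF h u hu).1.1 *ᵥ x = x ∧ (g * tr hF h u hu).1.1 *ᵥ u = u ∧
      ∀ y, g.1.1 *ᵥ y = y → (g * tr hF h u hu).1.1 *ᵥ y = y ∧ uh σ y u = 0 := by
  obtain ⟨x, hx⟩ := exists_pivot hF h hg hg1
  set u := g.1.1 *ᵥ x + x with hudef
  have hgg : ∀ z, g.1.1 *ᵥ (g.1.1 *ᵥ z) = z := fun z => by
    rw [← su_mul_mulVec, hg, su_one_mulVec]
  have hgu : g.1.1 *ᵥ u = u := by rw [hudef, mulVec_add, hgg, add_comm]
  have horth : ∀ y, g.1.1 *ᵥ y = y → uh σ y u = 0 := fun y hy => by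
    rw [hudef, uh_add_right]
    conv_lhs => arg 1; rw [← hy, su_uh h]
    exact add_self hF _
  have hu : uh σ u u = 0 := horth u hgu
  have hcomm : Commute g (tr hF h u hu) := mul_inv_eq_iff_eq_mul.1 (conj_tr hF h g hu hu hgu)
  refine ⟨x, u, hu, hx, ?_, ?_, ?_, fun y hy => ⟨?_, horth y hy⟩⟩
  · rw [← pow_two, hcomm.mul_pow, pow_two, pow_two, hg, tr_sq, one_mul]
  · rw [su_mul_mulVec, tr_mulVec, hx, one_smul, mulVec_add, hgu]
    rw [hudef, ← add_assoc, vadd_self hF, zero_add]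
  · rw [su_mul_mulVec, tr_fix hF h u hu hu, hgu]
  · rw [su_mul_mulVec, tr_fix hF h u hu (horth y hy), hy]

theorem decompose {g : SU 6 F 2} (hg : g * g = 1) (hg1 : g ≠ 1) :
    (∃ (u : V F) (hu : uh σ u u = 0), u ≠ 0 ∧ g = tr hF h u hu) ∨
    (∃ (u v : V F) (hu : uh σ u u = 0) (hv : uh σ v v = 0), uh σ u v = 0 ∧ u ≠ 0 ∧
      (∀ a : F, v ≠ a • u) ∧ g = tr hF h u hu * tr hF h v hv) ∨
    (∃ (u v w : V F) (hu : uh σ u u = 0) (hv : uh σ v v = 0) (hw : uh σ w w = 0),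
      uh σ u v = 0 ∧ uh σ u w = 0 ∧ uh σ v w = 0 ∧ u ≠ 0 ∧ (∀ a : F, v ≠ a • u) ∧
      (∀ a b : F, w ≠ a • u + b • v) ∧
      g = tr hF h u hu * tr hF h v hv * tr hF h w hw) := by
  have hne : ∀ {x u : V F}, uh σ x u = 1 → u ≠ 0 := fun hx e => by
    rw [e, uh_zero_right] at hx; exact zero_ne_one hx
  have hback : ∀ (k : SU 6 F 2) (u : V F) (hu : uh σ u u = 0),
      k = k * tr hF h u hu * tr hF h u hu := fun k u hu => by rw [mul_assoc, tr_sq, mul_one]
  obtain ⟨x₁, u₁, hu₁, e₁, g₁sq, f₁x, f₁u, f₁⟩ := step hF h hg hg1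
  set g₁ := g * tr hF h u₁ hu₁
  by_cases h₁ : g₁ = 1
  · refine Or.inl ⟨u₁, hu₁, hne e₁, ?_⟩
    rw [hback g u₁ hu₁, show g * tr hF h u₁ hu₁ = 1 from h₁, one_mul]
  obtain ⟨x₂, u₂, hu₂, e₂, g₂sq, f₂x, f₂u, f₂⟩ := step hF h g₁sq h₁
  set g₂ := g₁ * tr hF h u₂ hu₂
  have o12 : uh σ u₁ u₂ = 0 := (f₂ u₁ f₁u).2
  have x12 : uh σ x₁ u₂ = 0 := (f₂ x₁ f₁x).2
  have i12 : ∀ a : F, u₂ ≠ a • u₁ := fun a e => by
    have h0 := x12
    rw [e, uh_smul_right, e₁, mul_one] at h0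
    exact hne e₂ (by rw [e, (map_eq_zero σ).1 h0, zero_smul])
  by_cases h₂ : g₂ = 1
  · refine Or.inr (Or.inl ⟨u₁, u₂, hu₁, hu₂, o12, hne e₁, i12, ?_⟩)
    rw [hback g u₁ hu₁, show g * tr hF h u₁ hu₁ = g₁ from rfl, hback g₁ u₂ hu₂,
      show g₁ * tr hF h u₂ hu₂ = 1 from h₂, one_mul]
    exact (tr_comm hF h hu₁ hu₂ o12).symm.eq
  obtain ⟨x₃, u₃, hu₃, e₃, g₃sq, f₃x, f₃u, f₃⟩ := step hF h g₂sq h₂
  set g₃ := g₂ * tr hF h u₃ hu₃
  have o13 : uh σ u₁ u₃ = 0 := (f₃ u₁ (f₂ u₁ f₁u).1).2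
  have o23 : uh σ u₂ u₃ = 0 := (f₃ u₂ f₂u).2
  have x13 : uh σ x₁ u₃ = 0 := (f₃ x₁ (f₂ x₁ f₁x).1).2
  have x23 : uh σ x₂ u₃ = 0 := (f₃ x₂ f₂x).2
  have h₃ : g₃ = 1 := by
    by_contra h₃
    obtain ⟨x₄, u₄, hu₄, e₄, -, -, -, f₄⟩ := step hF h g₃sq h₃
    have o14 := (f₄ u₁ (f₃ u₁ (f₂ u₁ f₁u).1).1).2
    have o24 := (f₄ u₂ (f₃ u₂ f₂u).1).2
    have o34 := (f₄ u₃ f₃u).2
    have x14 := (f₄ x₁ (f₃ x₁ (f₂ x₁ f₁x).1).1).2
    have x24 := (f₄ x₂ (f₃ x₂ f₂x).1).2
    have x34 := (f₄ x₃ f₃x).2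
    -- eight independent vectors
    have hli : LinearIndependent F ![u₁, u₂, u₃, u₄, x₁, x₂, x₃, x₄] := by
      rw [Fintype.linearIndependent_iff]
      intro c hc
      simp [Fin.sum_univ_succ] at hc
      have hr : ∀ w, uh σ (c 0 • u₁ + (c 1 • u₂ + (c 2 • u₃ + (c 3 • u₄ + (c 4 • x₁ + (c 5 • x₂ +
          (c 6 • x₃ + c 7 • x₄))))))) w = 0 := fun w => by rw [hc, uh_zero_left]
      have hl : ∀ w, uh σ w (c 0 • u₁ + (c 1 • u₂ + (c 2 • u₃ + (c 3 • u₄ + (c 4 • x₁ + (c 5 • x₂ +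
          (c 6 • x₃ + c 7 • x₄))))))) = 0 := fun w => by rw [hc, uh_zero_right]
      simp only [uh_add_left, uh_smul_left] at hr
      simp only [uh_add_right, uh_smul_right] at hl
      have a4 := hr u₄
      rw [o14, o24, o34, hu₄, x14, x24, x34, e₄] at a4
      have c7 : c 7 = 0 := by simpa using a4
      have a3 := hr u₃
      rw [o13, o23, hu₃, h.swap_zero o34, x13, x23, e₃, c7] at a3
      have c6 : c 6 = 0 := by simpa using a3
      have a2 := hr u₂
      rw [o12, hu₂, h.swap_zero o23, h.swap_zero o24, x12, e₂, c6, c7] at a2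
      have c5 : c 5 = 0 := by simpa using a2
      have a1 := hr u₁
      rw [hu₁, h.swap_zero o12, h.swap_zero o13, h.swap_zero o14, e₁, c5, c6, c7] at a1
      have c4 : c 4 = 0 := by simpa using a1
      have b1 := hl x₁
      rw [x12, x13, x14, e₁, c4, c5, c6, c7] at b1
      have c0 : c 0 = 0 := by simpa using b1
      have b2 := hl x₂
      rw [x23, x24, e₂, c0, c4, c5, c6, c7] at b2
      have c1 : c 1 = 0 := by simpa using b2
      have b3 := hl x₃
      rw [x34, e₃, c0, c1, c4, c5, c6, c7] at b3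
      have c2 : c 2 = 0 := by simpa using b3
      have b4 := hl x₄
      rw [e₄, c0, c1, c2, c4, c5, c6, c7] at b4
      have c3 : c 3 = 0 := by simpa using b4
      intro i
      fin_cases i <;> assumption
    have := hli.fintype_card_le_finrank
    simp at this
  refine Or.inr (Or.inr ⟨u₁, u₂, u₃, hu₁, hu₂, hu₃, o12, o13, o23, hne e₁, i12, fun a b e => ?_, ?_⟩)
  · have h0 := x13
    rw [e, uh_add_right, uh_smul_right, uh_smul_right, e₁, x12, mul_one, mul_zero, add_zero] at h0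
    have h0' := x23
    rw [e, (map_eq_zero σ).1 h0, zero_smul, zero_add, uh_smul_right, e₂, mul_one] at h0'
    exact hne e₃ (by rw [e, (map_eq_zero σ).1 h0, (map_eq_zero σ).1 h0', zero_smul, zero_smul,
      add_zero])
  · rw [hback g u₁ hu₁, show g * tr hF h u₁ hu₁ = g₁ from rfl, hback g₁ u₂ hu₂,
      show g₁ * tr hF h u₂ hu₂ = g₂ from rfl, hback g₂ u₃ hu₃,
      show g₂ * tr hF h u₃ hu₃ = 1 from h₃, one_mul]
    have c12 := tr_comm hF h hu₁ hu₂ o12
    have c13 := tr_comm hF h hu₁ hu₃ o13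
    have c23 := tr_comm hF h hu₂ hu₃ o23
    rw [mul_assoc, c12.symm.eq]
    exact (c13.mul_left c23).symm.eq

end CfsgLib.ThreeTransp.USix
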