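import Cfsg.Agent.Lib.ThreeTransp.SixLines

/-!
In an extension of PSU(6,2) by a central group of exponent 2 involutions lift to involutions: lifts of
commuting transvections commute and square to one, by the relation of the five points of a singular line.
-/

set_option autoImplicit false

namespace CfsgLib.ThreeTransp.USix

open Cfsg CfsgLib.Classical.Unitary
open Matrix

variable {F : Type} [Field F] {σ : F →+* F}

/-- A singular vector perpendicular to `u` and to neither of two others. -/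
theorem exists_perp_nonorth (hF : Nat.card F = 2 ^ 2) (h : UFrob σ 2) {u v v' : V F}
    (hu : uh σ u u = 0) (hv : uh σ v v = 0) (hv' : uh σ v' v' = 0)
    (hvu : uh σ v u = 0) (hv'u : uh σ v' u = 0) (nv : ∀ a : F, v ≠ a • u) (nv' : ∀ a : F, v' ≠ a • u) :
    ∃ z, uh σ z z = 0 ∧ uh σ z u = 0 ∧ uh σ z v ≠ 0 ∧ uh σ z v' ≠ 0 := by
  by_cases hvv : uh σ v v' = 0
  · obtain ⟨x, x1, x0, x'⟩ : ∃ x, uh σ x v = 1 ∧ uh σ x u = 0 ∧ uh σ x v' ≠ 0 := by
      obtain ⟨x, x1, x0⟩ := exists_dual_two h nv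
      by_cases hx : uh σ x v' = 0
      · obtain ⟨y, y1, y0⟩ := exists_dual_two h nv'
        by_cases hy : uh σ y v = 0
        · exact ⟨x + y, by rw [uh_add_left, x1, hy, add_zero],
            by rw [uh_add_left, x0, y0, add_zero],
            by rw [uh_add_left, hx, y1, zero_add]; exact one_ne_zero⟩
        · exact ⟨(uh σ y v)⁻¹ • y, by rw [uh_smul_left, inv_mul_cancel₀ hy],
            by rw [uh_smul_left, y0, mul_zero],
            by rw [uh_smul_left, y1, mul_one]; exact inv_ne_zero hy⟩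
      · exact ⟨x, x1, x0, hx⟩
    obtain ⟨c, hc⟩ := iso_shift hF h hv x1
    exact ⟨x + c • v, hc, by rw [uh_add_left, uh_smul_left, x0, hvu, mul_zero, add_zero],
      by rw [uh_add_left, uh_smul_left, x1, hv, mul_zero, add_zero]; exact one_ne_zero,
      by rwa [uh_add_left, uh_smul_left, hvv, mul_zero, add_zero]⟩
  · have hv'v : uh σ v' v ≠ 0 := fun e => hvv (h.swap_zero e)
    refine ⟨v + (uh σ v' v)⁻¹ • v', ?_, ?_, ?_, ?_⟩
    · rw [uh_add_left, uh_add_right, uh_smul_left, uh_add_right, uh_smul_right, uh_smul_right, hv,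
        hv', mul_zero, zero_add, add_zero, map_inv₀, h.symm, inv_mul_cancel₀ hvv,
        inv_mul_cancel₀ hv'v]
      exact add_self hF 1
    · rw [uh_add_left, uh_smul_left, hvu, hv'u, mul_zero, add_zero]
    · rw [uh_add_left, uh_smul_left, hv, zero_add, inv_mul_cancel₀ hv'v]; exact one_ne_zero
    · rwa [uh_add_left, uh_smul_left, hv', mul_zero, add_zero]

include σ in
theorem pt_conj (hF : Nat.card F = 2 ^ 2) (h : UFrob σ 2) {p r : V F} (hp : uh σ p p = 0)
    (hr : uh σ r r = 0) (hpr : uh σ p r ≠ 0) :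
    ∃ g : PSU 6 F 2, g * pt hF h p hp * g⁻¹ = pt hF h r hr ∧
      ∀ (y : V F) (hy : uh σ y y = 0), uh σ p y = 0 → uh σ r y = 0 →
        g * pt hF h y hy * g⁻¹ = pt hF h y hy := by
  refine ⟨QuotientGroup.mk (tr hF h p hp * tr hF h r hr), ?_, fun y hy h1 h2 => ?_⟩
  · have e := congrArg (QuotientGroup.mk (s := Subgroup.center (SU 6 F 2)))
      (show tr hF h p hp * tr hF h r hr * tr hF h p hp * (tr hF h p hp * tr hF h r hr)⁻¹ =
        tr hF h r hr from tr_conj_nonorth hF h hp hr hpr)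
    rwa [QuotientGroup.mk_mul, QuotientGroup.mk_inv, QuotientGroup.mk_mul] at e
  · have c : Commute (tr hF h p hp * tr hF h r hr) (tr hF h y hy) :=
      (tr_comm hF h hp hy h1).mul_left (tr_comm hF h hr hy h2)
    exact (c.map (QuotientGroup.mk' (Subgroup.center (SU 6 F 2)))).mul_inv_cancel

section Cover

variable {C P : Type*} [Group C] [Group P] (π : C →* P)

/-- Commutator of lifts. -/
noncomputable def liftComm (hπ : Function.Surjective π) (a b : P) : C :=
  Function.surjInv hπ a * Function.surjInv hπ b * (Function.surjInv hπ a)⁻¹ *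
    (Function.surjInv hπ b)⁻¹

/-- Square of a lift. -/
noncomputable def liftSq (hπ : Function.Surjective π) (a : P) : C :=
  Function.surjInv hπ a * Function.surjInv hπ a

variable {π} (hπ : Function.Surjective π) (hz : ∀ x, π x = 1 → x * x = 1 ∧ ∀ y, Commute x y)

include hz in
theorem liftComm_eq {a b : P} {x y : C} (hx : π x = a) (hy : π y = b) :
    liftComm π hπ a b = x * y * x⁻¹ * y⁻¹ := by
  obtain ⟨zx, hzx, rfl⟩ : ∃ z, π z = 1 ∧ x = Function.surjInv hπ a * z :=
    ⟨(Function.surjInv hπ a)⁻¹ * x,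
      by rw [map_mul, map_inv, Function.surjInv_eq hπ, hx, inv_mul_cancel], by group⟩
  obtain ⟨zy, hzy, rfl⟩ : ∃ z, π z = 1 ∧ y = Function.surjInv hπ b * z :=
    ⟨(Function.surjInv hπ b)⁻¹ * y,
      by rw [map_mul, map_inv, Function.surjInv_eq hπ, hy, inv_mul_cancel], by group⟩
  set A := Function.surjInv hπ a
  set B := Function.surjInv hπ b
  have c1 : ∀ w, zx * w = w * zx := (hz zx hzx).2
  have c2 : ∀ w, zy * w = w * zy := (hz zy hzy).2
  show A * B * A⁻¹ * B⁻¹ = _
  calc A * B * A⁻¹ * B⁻¹ = A * B * (zy * A⁻¹) * zy⁻¹ * B⁻¹ := by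
        rw [c2 A⁻¹]; group
    _ = A * (zx * (B * zy) * zx⁻¹) * A⁻¹ * zy⁻¹ * B⁻¹ := by
        rw [c1 (B * zy), mul_inv_cancel_right]; group
    _ = _ := by group

include hz in
theorem liftSq_eq {a : P} {x : C} (hx : π x = a) : liftSq π hπ a = x * x := by
  obtain ⟨z, hz1, rfl⟩ : ∃ z, π z = 1 ∧ x = Function.surjInv hπ a * z :=
    ⟨(Function.surjInv hπ a)⁻¹ * x,
      by rw [map_mul, map_inv, Function.surjInv_eq hπ, hx, inv_mul_cancel], by group⟩
  show Function.surjInv hπ a * Function.surjInv hπ a = _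
  rw [mul_assoc (Function.surjInv hπ a) z, ← mul_assoc z, (hz z hz1).2 (Function.surjInv hπ a),
    mul_assoc _ z z, (hz z hz1).1, mul_one]

include hz in
theorem liftComm_conj {a b : P} (hab : Commute a b) (g : P) :
    liftComm π hπ (g * a * g⁻¹) (g * b * g⁻¹) = liftComm π hπ a b := by
  obtain ⟨w, rfl⟩ := hπ g
  obtain ⟨x, rfl⟩ := hπ a
  obtain ⟨y, rfl⟩ := hπ b
  rw [liftComm_eq hπ hz (x := w * x * w⁻¹) (y := w * y * w⁻¹) (by simp) (by simp),
    liftComm_eq hπ hz (x := x) (y := y) rfl rfl]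
  have hc : Commute (x * y * x⁻¹ * y⁻¹) w := by
    refine (hz _ ?_).2 w
    rw [map_mul, map_mul, map_mul, map_inv, map_inv, hab.eq]; group
  calc _ = w * (x * y * x⁻¹ * y⁻¹) * w⁻¹ := by group
    _ = _ := by rw [← hc.eq, mul_inv_cancel_right]

include hz in
theorem liftComm_mul {a b b' : P} (hb : Commute a b') :
    liftComm π hπ a (b * b') = liftComm π hπ a b * liftComm π hπ a b' := by
  obtain ⟨x, rfl⟩ := hπ a
  obtain ⟨y, rfl⟩ := hπ b
  obtain ⟨y', rfl⟩ := hπ b'
  rw [liftComm_eq hπ hz (x := x) (y := y * y') rfl (map_mul π y y'),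
    liftComm_eq hπ hz (x := x) (y := y) rfl rfl, liftComm_eq hπ hz (x := x) (y := y') rfl rfl]
  have hc : Commute (x * y' * x⁻¹ * y'⁻¹) y := by
    refine (hz _ ?_).2 y
    rw [map_mul, map_mul, map_mul, map_inv, map_inv, hb.eq]; group
  calc x * (y * y') * x⁻¹ * (y * y')⁻¹ = x * y * x⁻¹ * ((x * y' * x⁻¹ * y'⁻¹) * y⁻¹) := by group
    _ = _ := by rw [hc.inv_right.eq]; group

include hz in
theorem liftComm_sq {a b : P} (hab : Commute a b) : liftComm π hπ a b * liftComm π hπ a b = 1 := by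
  refine (hz _ ?_).1
  rw [liftComm, map_mul, map_mul, map_mul, map_inv, map_inv, Function.surjInv_eq hπ,
    Function.surjInv_eq hπ, hab.eq]
  group

omit hz in
theorem liftComm_self (a : P) : liftComm π hπ a a = 1 := by
  rw [liftComm]; group

include hz in
theorem liftSq_conj {a : P} (ha : a * a = 1) (g : P) :
    liftSq π hπ (g * a * g⁻¹) = liftSq π hπ a := by
  obtain ⟨w, rfl⟩ := hπ g
  obtain ⟨x, rfl⟩ := hπ a
  rw [liftSq_eq hπ hz (x := w * x * w⁻¹) (by simp), liftSq_eq hπ hz (x := x) rfl]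
  have hc : Commute (x * x) w := (hz _ (by rw [map_mul, ha])).2 w
  calc _ = w * (x * x) * w⁻¹ := by group
    _ = _ := by rw [← hc.eq, mul_inv_cancel_right]

theorem pow_five_eq {c : C} (h2 : c * c = 1) (h5 : c * (c * (c * (c * c))) = 1) : c = 1 := by
  rw [h2, mul_one, h2, mul_one] at h5
  exact h5

end Cover

variable (hF : Nat.card F = 2 ^ 2) (h : UFrob σ 2) {C : Type*} [Group C] {π : C →* PSU 6 F 2}
  (hπ : Function.Surjective π) (hz : ∀ x, π x = 1 → x * x = 1 ∧ ∀ y, Commute x y)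

include hz in
theorem liftComm_const {u v v' : V F} (hu : uh σ u u = 0) (hv : uh σ v v = 0) (hv' : uh σ v' v' = 0)
    (huv : uh σ u v = 0) (huv' : uh σ u v' = 0) (nv : ∀ a : F, v ≠ a • u) (nv' : ∀ a : F, v' ≠ a • u) :
    liftComm π hπ (pt hF h u hu) (pt hF h v' hv') = liftComm π hπ (pt hF h u hu) (pt hF h v hv) := by
  obtain ⟨z, hzz, hzu, hzv, hzv'⟩ := exists_perp_nonorth hF h hu hv hv' (h.swap_zero huv)
    (h.swap_zero huv') nv nv'
  obtain ⟨g, hg, hgf⟩ := pt_conj hF h hv hzz fun e => hzv (h.swap_zero e)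
  obtain ⟨k, hk, hkf⟩ := pt_conj hF h hzz hv' hzv'
  have h1 := liftComm_conj hπ hz ((pt_commute_iff hF h hu hv).2 huv) g
  rw [hg, hgf u hu (h.swap_zero huv) hzu] at h1
  have h2 := liftComm_conj hπ hz ((pt_commute_iff hF h hu hzz).2 (h.swap_zero hzu)) k
  rw [hk, hkf u hu hzu (h.swap_zero huv')] at h2
  rw [h2, h1]

include hz in
theorem liftComm_pt {u v : V F} (hu : uh σ u u = 0) (hv : uh σ v v = 0) (huv : uh σ u v = 0)
    (hu0 : u ≠ 0) (nv : ∀ a : F, v ≠ a • u) :
    liftComm π hπ (pt hF h u hu) (pt hF h v hv) = 1 := by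
  have : Finite F := Nat.finite_of_card_ne_zero (by rw [hF]; norm_num)
  have hvu := h.swap_zero huv
  have nu : ∀ a : F, u ≠ a • v := fun a e => by
    rcases eq_or_ne a 0 with rfl | ha
    · exact hu0 (by rw [e, zero_smul])
    · exact nv a⁻¹ (by rw [e, smul_smul, inv_mul_cancel₀ ha, one_smul])
  obtain ⟨x₁, x1u, x1v⟩ := exists_dual_two h nu
  obtain ⟨x₂, x2v, x2u⟩ := exists_dual_two h nv
  obtain ⟨w, hw0, hw, hwu, hwv, hwx1, hwx2⟩ := exists_iso_in_kernel hF h u v x₁ x₂
  have hn : ∀ a b : F, w ≠ a • u + b • v := fun a b e => by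
    have h1 := hwx1
    have h2 := hwx2
    rw [e, uh_add_left, uh_smul_left, uh_smul_left, ← h.symm x₁ u, x1u, map_one,
      h.swap_zero x1v, mul_one, mul_zero, add_zero] at h1
    rw [e, uh_add_left, uh_smul_left, uh_smul_left, h.swap_zero x2u, ← h.symm x₂ v, x2v, map_one,
      mul_one, mul_zero, zero_add] at h2
    exact hw0 (by rw [e, h1, h2, zero_smul, zero_smul, add_zero])
  have huw := h.swap_zero hwu
  have hvw := h.swap_zero hwv
  obtain ⟨ω, hω, hω3, hσω⟩ := exists_omega hF h rfl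
  have hiso : ∀ a : F, uh σ (v + a • w) (v + a • w) = 0 := fun a => by
    rw [uh_add_left, uh_add_right, uh_smul_left, uh_add_right, uh_smul_right, uh_smul_right, hv, hw,
      hvw, hwv]; simp
  have hperp : ∀ a : F, uh σ u (v + a • w) = 0 := fun a => by
    rw [uh_add_right, uh_smul_right, huv, huw]; simp
  have nw : ∀ a : F, w ≠ a • u := fun a e => hn a 0 (by rw [e, zero_smul, add_zero])
  have nl : ∀ a b : F, v + a • w ≠ b • u := fun a b e => by
    rcases eq_or_ne a 0 with rfl | ha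
    · rw [zero_smul, add_zero] at e; exact nv b e
    · have h1 : a • w = b • u - v := eq_sub_of_add_eq' e
      exact hn (a⁻¹ * b) (-a⁻¹) (by
        rw [← smul_smul, neg_smul, ← sub_eq_add_neg, ← smul_sub, ← h1, smul_smul,
          inv_mul_cancel₀ ha, one_smul])
  set c := liftComm π hπ (pt hF h u hu) (pt hF h v hv)
  have cw : liftComm π hπ (pt hF h u hu) (pt hF h w hw) = c :=
    liftComm_const hF h hπ hz hu hv hw huv huw nv nw
  have ca : ∀ a : F, liftComm π hπ (pt hF h u hu) (pt hF h (v + a • w) (hiso a)) = c := fun a =>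
    liftComm_const hF h hπ hz hu hv (hiso a) huv (hperp a) nv (nl a)
  have kw : Commute (pt hF h u hu) (pt hF h w hw) := (pt_commute_iff hF h hu hw).2 huw
  have ka : ∀ a : F, Commute (pt hF h u hu) (pt hF h (v + a • w) (hiso a)) := fun a =>
    (pt_commute_iff hF h hu (hiso a)).2 (hperp a)
  have hl := congrArg (liftComm π hπ (pt hF h u hu))
    (line_prod hF h hv hw hvw hω hω3 hσω (hiso 1) (hiso ω) (hiso (ω ^ 2)))
  rw [liftComm_mul hπ hz (kw.mul_right ((ka 1).mul_right ((ka ω).mul_right (ka _)))),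
    liftComm_mul hπ hz ((ka 1).mul_right ((ka ω).mul_right (ka _))),
    liftComm_mul hπ hz ((ka ω).mul_right (ka _)), liftComm_mul hπ hz (ka _), cw, ca, ca, ca,
    liftComm_eq hπ hz (x := Function.surjInv hπ (pt hF h u hu)) (y := 1) (Function.surjInv_eq hπ _)
      (map_one π)] at hl
  refine pow_five_eq (liftComm_sq hπ hz ((pt_commute_iff hF h hu hv).2 huv)) (hl.trans ?_)
  group

include hπ hz in
theorem lift_commute {u v : V F} (hu : uh σ u u = 0) (hv : uh σ v v = 0) (huv : uh σ u v = 0)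
    (hu0 : u ≠ 0) (nv : ∀ a : F, v ≠ a • u) {x y : C}
    (hx : π x = pt hF h u hu) (hy : π y = pt hF h v hv) : Commute x y := by
  have h1 := liftComm_pt hF h hπ hz hu hv huv hu0 nv
  rw [liftComm_eq hπ hz hx hy, mul_inv_eq_one, mul_inv_eq_iff_eq_mul] at h1
  exact h1

include hπ hz in
theorem lift_sq {u : V F} (hu : uh σ u u = 0) (hu0 : u ≠ 0) {x : C} (hx : π x = pt hF h u hu) :
    x * x = 1 := by
  have : Finite F := Nat.finite_of_card_ne_zero (by rw [hF]; norm_num)
  have hsq : ∀ (y : V F) (hy : uh σ y y = 0), pt hF h y hy * pt hF h y hy = 1 := fun y hy =>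
    (congrArg QuotientGroup.mk (tr_sq hF h y hy)).trans (QuotientGroup.mk_one _)
  have hconst : ∀ (y : V F) (hy : uh σ y y = 0), y ≠ 0 →
      liftSq π hπ (pt hF h y hy) = liftSq π hπ (pt hF h u hu) := by
    intro y hy hy0
    obtain ⟨z, hzz, hzu, hzy⟩ := exists_both_nonorth hF h hu hy hu0 hy0
    obtain ⟨g, hg, -⟩ := pt_conj hF h hu hzz fun e => hzu (h.swap_zero e)
    obtain ⟨k, hk, -⟩ := pt_conj hF h hzz hy hzy
    have h1 := liftSq_conj hπ hz (hsq z hzz) k
    have h2 := liftSq_conj hπ hz (hsq u hu) g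
    rw [hk] at h1; rw [hg] at h2
    rw [h1, h2]
  obtain ⟨x₁, x1u⟩ := exists_uh_eq_one h hu0
  obtain ⟨v, hv0, hv, hvu, hvx, -, -⟩ := exists_iso_in_kernel hF h u x₁ u u
  have huv := h.swap_zero hvu
  have nv : ∀ a : F, v ≠ a • u := fun a e => by
    have h1 := hvx
    rw [e, uh_smul_left, ← h.symm x₁ u, x1u, map_one, mul_one] at h1
    exact hv0 (by rw [e, h1, zero_smul])
  obtain ⟨ω, hω, hω3, hσω⟩ := exists_omega hF h rfl
  have hω0 : ω ≠ 0 := fun e => by simp [e] at hω3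
  have hω1 : ω ≠ 1 := fun e => by
    rw [e] at hω; exact one_ne_zero (by linear_combination hω - two_zero hF : (1 : F) = 0)
  have hiso : ∀ a : F, uh σ (u + a • v) (u + a • v) = 0 := fun a => by
    rw [uh_add_left, uh_add_right, uh_smul_left, uh_add_right, uh_smul_right, uh_smul_right, hu, hv,
      huv, hvu]; simp
  have hwu : ∀ a : F, uh σ u (u + a • v) = 0 := fun a => by
    rw [uh_add_right, uh_smul_right, hu, huv]; simp
  have hwv : ∀ a : F, uh σ v (u + a • v) = 0 := fun a => by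
    rw [uh_add_right, uh_smul_right, hv, hvu]; simp
  have hww : ∀ a b : F, uh σ (u + a • v) (u + b • v) = 0 := fun a b => by
    rw [uh_add_left, uh_smul_left, hwu, hwv]; simp
  have nw : ∀ a : F, a ≠ 0 → ∀ b : F, u + a • v ≠ b • u := fun a ha b e => by
    have h1 : a • v = (b - 1) • u := by rw [sub_smul, one_smul]; exact eq_sub_of_add_eq' e
    exact nv (a⁻¹ * (b - 1)) (by rw [← smul_smul, ← h1, smul_smul, inv_mul_cancel₀ ha, one_smul])
  have nu : ∀ a : F, u ≠ a • v := fun a e => by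
    rcases eq_or_ne a 0 with rfl | ha
    · exact hu0 (by rw [e, zero_smul])
    · exact nv a⁻¹ (by rw [e, smul_smul, inv_mul_cancel₀ ha, one_smul])
  have nwv : ∀ a b : F, u + a • v ≠ b • v := fun a b e =>
    nu (b - a) (by rw [sub_smul]; exact eq_sub_of_add_eq e)
  have nww : ∀ a b : F, a ≠ b → ∀ c : F, u + b • v ≠ c • (u + a • v) := fun a b hab c e => by
    rw [smul_add, smul_smul] at e
    rcases eq_or_ne c 1 with rfl | hc
    · rw [one_smul, one_mul] at e
      exact hab (smul_left_injective F hv0 (add_left_cancel e)).symm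
    · have h2 : (1 - c) • u = (c * a - b) • v := by
        rw [sub_smul, sub_smul, one_smul, sub_eq_sub_iff_add_eq_add, e, add_comm]
      exact nu ((1 - c)⁻¹ * (c * a - b)) (by
        rw [← smul_smul, ← h2, smul_smul, inv_mul_cancel₀ (sub_ne_zero.2 (Ne.symm hc)), one_smul])
  have hw0 : ∀ a : F, u + a • v ≠ 0 := fun a e => nwv a 0 (by rw [e, zero_smul])
  have h2 : ω ^ 2 ≠ 1 := fun e => hω1 (by
    calc ω = ω * ω ^ 2 := by rw [e, mul_one]
      _ = 1 := by rw [← hω3]; ring)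
  have h3 : ω ≠ ω ^ 2 := fun e => hω1 (mul_left_cancel₀ hω0 (by rw [mul_one, ← pow_two, ← e]))
  set L := fun (y : V F) (hy : uh σ y y = 0) => Function.surjInv hπ (pt hF h y hy)
  have hL : ∀ (y : V F) (hy : uh σ y y = 0), π (L y hy) = pt hF h y hy := fun y hy =>
    Function.surjInv_eq hπ _
  set q := liftSq π hπ (pt hF h u hu) with hq
  have hLq : ∀ (y : V F) (hy : uh σ y y = 0), y ≠ 0 → L y hy * L y hy = q := fun y hy hy0 =>
    hconst y hy hy0
  set a := L u hu
  set b := L v hv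
  set c₁ := L (u + (1 : F) • v) (hiso 1)
  set c₂ := L (u + ω • v) (hiso ω)
  set c₃ := L (u + ω ^ 2 • v) (hiso _)
  have lc := fun {y z : V F} (hy : uh σ y y = 0) (hzz : uh σ z z = 0) (hyz : uh σ y z = 0)
    (hy0 : y ≠ 0) (n : ∀ a : F, z ≠ a • y) =>
      lift_commute hF h hπ hz hy hzz hyz hy0 n (hL y hy) (hL z hzz)
  have e1 : Commute a (b * (c₁ * (c₂ * c₃))) := (lc hu hv huv hu0 nv).mul_right
    ((lc hu (hiso _) (hwu _) hu0 (nw _ one_ne_zero)).mul_right
    ((lc hu (hiso _) (hwu _) hu0 (nw _ hω0)).mul_right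
     (lc hu (hiso _) (hwu _) hu0 (nw _ (pow_ne_zero 2 hω0)))))
  have e2 : Commute b (c₁ * (c₂ * c₃)) := (lc hv (hiso _) (hwv _) hv0 (nwv _)).mul_right
    ((lc hv (hiso _) (hwv _) hv0 (nwv _)).mul_right (lc hv (hiso _) (hwv _) hv0 (nwv _)))
  have e3 : Commute c₁ (c₂ * c₃) :=
    (lc (hiso _) (hiso _) (hww _ _) (hw0 _) (nww _ _ (Ne.symm hω1))).mul_right
      (lc (hiso _) (hiso _) (hww _ _) (hw0 _) (nww _ _ (Ne.symm h2)))
  have e4 : Commute c₂ c₃ := lc (hiso _) (hiso _) (hww _ _) (hw0 _) (nww _ _ h3)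
  have hprod := hz (a * (b * (c₁ * (c₂ * c₃)))) (by
    rw [map_mul, map_mul, map_mul, map_mul, hL, hL, hL, hL, hL,
      line_prod hF h hu hv huv hω hω3 hσω (hiso 1) (hiso ω) (hiso (ω ^ 2))])
  have h5 := hprod.1
  rw [← pow_two, e1.mul_pow, e2.mul_pow, e3.mul_pow, e4.mul_pow, pow_two, pow_two, pow_two, pow_two,
    pow_two, hLq u hu hu0, hLq v hv hv0, hLq _ _ (hw0 _), hLq _ _ (hw0 _), hLq _ _ (hw0 _)] at h5
  have hqq : q * q = 1 := (hz q (by
    rw [hq, liftSq, map_mul, Function.surjInv_eq hπ, hsq])).1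
  rw [← liftSq_eq hπ hz hx, ← hq]
  exact pow_five_eq hqq h5

include hF h hπ hz in
/-- Involutions lift to involutions. -/
theorem lift_involution {t : PSU 6 F 2} (ht : t * t = 1) : ∃ x : C, x * x = 1 ∧ π x = t := by
  rcases eq_or_ne t 1 with rfl | ht1
  · exact ⟨1, mul_one 1, map_one π⟩
  obtain ⟨g, hg, rfl⟩ := exists_lift hF h ht
  have hg1 : g ≠ 1 := fun e => ht1 (by rw [e, QuotientGroup.mk_one])
  set L := fun (y : V F) (hy : uh σ y y = 0) => Function.surjInv hπ (pt hF h y hy)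
  have hL : ∀ (y : V F) (hy : uh σ y y = 0), π (L y hy) = pt hF h y hy := fun y hy =>
    Function.surjInv_eq hπ _
  rcases decompose hF h hg hg1 with ⟨u, hu, hu0, rfl⟩ | ⟨u, v, hu, hv, huv, hu0, hvu, rfl⟩ |
    ⟨u, v, w, hu, hv, hw, huv, huw, hvw, hu0, hvu, hwuv, rfl⟩
  · exact ⟨L u hu, lift_sq hF h hπ hz hu hu0 (hL u hu), hL u hu⟩
  · have hv0 : v ≠ 0 := fun e => hvu 0 (by rw [e, zero_smul])
    have c := lift_commute hF h hπ hz hu hv huv hu0 hvu (hL u hu) (hL v hv)
    refine ⟨L u hu * L v hv, ?_, by rw [map_mul, hL, hL]; rfl⟩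
    rw [← pow_two, c.mul_pow, pow_two, pow_two, lift_sq hF h hπ hz hu hu0 (hL u hu),
      lift_sq hF h hπ hz hv hv0 (hL v hv), one_mul]
  · have hv0 : v ≠ 0 := fun e => hvu 0 (by rw [e, zero_smul])
    have hw0 : w ≠ 0 := fun e => hwuv 0 0 (by simp [e])
    have nwu : ∀ a : F, w ≠ a • u := fun a e => hwuv a 0 (by rw [e, zero_smul, add_zero])
    have nwv : ∀ a : F, w ≠ a • v := fun a e => hwuv 0 a (by rw [e, zero_smul, zero_add])
    have c := lift_commute hF h hπ hz hu hv huv hu0 hvu (hL u hu) (hL v hv)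
    have c' : Commute (L u hu * L v hv) (L w hw) :=
      (lift_commute hF h hπ hz hu hw huw hu0 nwu (hL u hu) (hL w hw)).mul_left
        (lift_commute hF h hπ hz hv hw hvw hv0 nwv (hL v hv) (hL w hw))
    refine ⟨L u hu * L v hv * L w hw, ?_, by rw [map_mul, map_mul, hL, hL, hL]; rfl⟩
    rw [← pow_two, c'.mul_pow, c.mul_pow, pow_two, pow_two, pow_two,
      lift_sq hF h hπ hz hu hu0 (hL u hu), lift_sq hF h hπ hz hv hv0 (hL v hv),
      lift_sq hF h hπ hz hw hw0 (hL w hw), one_mul, one_mul]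

end CfsgLib.ThreeTransp.USix
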