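import Mathlib.FieldTheory.Finite.GaloisField
import Cfsg.Agent.Lib.KnownB.PrimeOrderClasses

/-!
Matrices of prime order `r` when the `r`th cyclotomic polynomial stays irreducible: the class is given by the trace,
and the centraliser of an element without fixed vectors has every determinant.
-/

set_option autoImplicit false

namespace CfsgLib.ThreeTransp.CycloClass

open Polynomial Matrix

variable {F : Type*} [Field F] [Fintype F] {r n : ℕ} [Fact r.Prime]

/-- The `r`th cyclotomic polynomial. -/
noncomputable def Phi (F : Type*) [Field F] (r : ℕ) : F[X] := ∑ i ∈ Finset.range r, X ^ i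

theorem Phi_natDegree : (Phi F r).natDegree = r - 1 := by
  rw [Phi, ← cyclotomic_prime F r, natDegree_cyclotomic, Nat.totient_prime Fact.out]

theorem Phi_monic : (Phi F r).Monic := by
  rw [Phi, ← cyclotomic_prime F r]
  exact cyclotomic.monic r F

theorem Phi_mul : (X - 1) * Phi F r = X ^ r - 1 := by
  rw [Phi, mul_comm, geom_sum_mul]

theorem Phi_nextCoeff : (Phi F r).nextCoeff = 1 := by
  have h2 := (Fact.out : r.Prime).two_le
  rw [nextCoeff_of_natDegree_pos (by rw [Phi_natDegree]; omega), Phi_natDegree, Phi, finsetSum_coeff,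
    Finset.sum_eq_single (r - 1 - 1) (fun i _ hi => by rw [coeff_X_pow, if_neg (Ne.symm hi)])
      (fun h => absurd (Finset.mem_range.2 (by omega)) h), coeff_X_pow, if_pos rfl]

theorem Phi_irreducible (hr : (r : F) ≠ 0) (ho : orderOf ((Fintype.card F : ℕ) : ZMod r) = r - 1) :
    Irreducible (Phi F r) := by
  have h2 := (Fact.out : r.Prime).two_le
  obtain ⟨q, hqi, hqd⟩ := WfDvdMonoid.exists_irreducible_factor
    (not_isUnit_of_natDegree_pos (Phi F r) (by rw [Phi_natDegree]; omega)) Phi_monic.ne_zero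
  classical
  have hm : (normalize q).Monic := monic_normalize hqi.ne_zero
  have hqi' : Irreducible (normalize q) := (associated_normalize q).irreducible hqi
  have hdv : normalize q ∣ Phi F r := normalize_dvd_iff.2 hqd
  have hne : normalize q ≠ X - 1 := by
    intro h
    rw [h] at hdv
    have h1 : (Phi F r).IsRoot 1 := dvd_iff_isRoot.1 (by simpa using hdv)
    rw [IsRoot, Phi, eval_finsetSum] at h1
    simp only [eval_pow, eval_X, one_pow, Finset.sum_const, Finset.card_range, nsmul_eq_mul, mul_one] at h1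
    exact hr h1
  have hd := CfsgLib.KnownB.PrimeOrder.natDegree_eq_orderOf hr hqi' hm
    (hdv.trans (Dvd.intro_left _ Phi_mul)) hne
  rw [ho, ← Phi_natDegree (F := F)] at hd
  exact eq_of_monic_of_dvd_of_natDegree_le hm Phi_monic hdv hd.symm.le ▸ hqi'

theorem exists_count (hr : (r : F) ≠ 0) (ho : orderOf ((Fintype.card F : ℕ) : ZMod r) = r - 1)
    {x : Matrix (Fin n) (Fin n) F} (hx : x ^ r = 1) :
    ∃ a b : ℕ, a + (r - 1) * b = n ∧ x.charpoly = (X - 1) ^ a * Phi F r ^ b ∧ x.trace = (a : F) - b := by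
  classical
  have hP := Phi_irreducible hr ho
  have hL : Irreducible (X - 1 : F[X]) := by simpa using irreducible_X_sub_C (1 : F)
  have hLm : (X - 1 : F[X]).Monic := by simpa using monic_X_sub_C (1 : F)
  let S := UniqueFactorizationMonoid.normalizedFactors x.charpoly
  have hmem : ∀ Q ∈ S, Q = X - 1 ∨ Q = Phi F r := fun Q hQ => by
    have hQi := UniqueFactorizationMonoid.irreducible_of_normalized_factor Q hQ
    have hdv : Q ∣ (X - 1) * Phi F r := by
      rw [Phi_mul]
      refine (CfsgLib.KnownB.Semisimple.dvd_minpoly_of_dvd_charpoly (Matrix.toLin' x) hQi (by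
        rw [Matrix.charpoly_toLin']; exact UniqueFactorizationMonoid.dvd_of_mem_normalizedFactors hQ)).trans
        (minpoly.dvd F _ ?_)
      rw [show Matrix.toLin' x = Matrix.toLinAlgEquiv' x from rfl, aeval_algHom_apply, map_sub, map_pow, aeval_X,
        map_one, hx, sub_self, map_zero]
    rcases hQi.prime.dvd_or_dvd hdv with h | h
    · exact Or.inl (eq_of_monic_of_associated (CfsgLib.KnownB.PrimeOrder.monic_of_mem_nf hQ) hLm
        (hQi.associated_of_dvd hL h))
    · exact Or.inr (eq_of_monic_of_associated (CfsgLib.KnownB.PrimeOrder.monic_of_mem_nf hQ) Phi_monic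
        (hQi.associated_of_dvd hP h))
  have hne : ∀ Q ∈ S, ¬ Q = X - 1 → Q = Phi F r := fun Q hQ h => (hmem Q hQ).resolve_left h
  refine ⟨Multiset.card (S.filter (· = X - 1)), Multiset.card (S.filter (¬ · = X - 1)), ?_⟩
  have hchar : x.charpoly = (X - 1) ^ Multiset.card (S.filter (· = X - 1)) *
      Phi F r ^ Multiset.card (S.filter (¬ · = X - 1)) := by
    rw [← Multiset.prod_replicate, ← Multiset.prod_replicate,
      ← Multiset.eq_replicate_of_mem (fun Q hQ => (Multiset.mem_filter.1 hQ).2),
      ← Multiset.eq_replicate_of_mem (fun Q hQ => hne Q (Multiset.mem_filter.1 hQ).1 (Multiset.mem_filter.1 hQ).2),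
      ← Multiset.prod_add, Multiset.filter_add_not]
    exact (CfsgLib.KnownB.PrimeOrder.monic_prod_normalizedFactors (Matrix.charpoly_monic _)).symm
  refine ⟨?_, hchar, ?_⟩
  · have h := congrArg natDegree hchar
    rw [Matrix.charpoly_natDegree_eq_dim, Fintype.card_fin, (hLm.pow _).natDegree_mul (Phi_monic.pow _), natDegree_pow,
      natDegree_pow, Phi_natDegree, show (X - 1 : F[X]) = X - C 1 by simp, natDegree_X_sub_C, mul_one,
      mul_comm _ (r - 1)] at h
    exact h.symm
  · rw [trace_eq_neg_charpoly_nextCoeff, hchar, (hLm.pow _).nextCoeff_mul (Phi_monic.pow _), hLm.nextCoeff_pow,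
      Phi_monic.nextCoeff_pow, Phi_nextCoeff, show (X - 1 : F[X]) = X - C 1 by simp, nextCoeff_X_sub_C, nsmul_eq_mul,
      nsmul_eq_mul]
    ring

theorem semisimple (hr : (r : F) ≠ 0) {x : Matrix (Fin n) (Fin n) F} (hx : x ^ r = 1) :
    Module.End.IsSemisimple (Matrix.toLin' x) := by
  refine Module.End.isSemisimple_of_squarefree_aeval_eq_zero (p := X ^ r - C (1 : F))
    (separable_X_pow_sub_C _ hr one_ne_zero).squarefree ?_
  rw [show Matrix.toLin' x = Matrix.toLinAlgEquiv' x from rfl, aeval_algHom_apply, map_sub, map_pow, aeval_X,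
    map_one, map_one, hx, sub_self, map_zero]

/-- The trace determines the class. -/
theorem isConj_of_trace (p : ℕ) [CharP F p] (hnp : n < p) (hr : (r : F) ≠ 0)
    (ho : orderOf ((Fintype.card F : ℕ) : ZMod r) = r - 1) {x y : GL (Fin n) F}
    (hx : (x : Matrix (Fin n) (Fin n) F) ^ r = 1) (hy : (y : Matrix (Fin n) (Fin n) F) ^ r = 1)
    (ht : (x : Matrix (Fin n) (Fin n) F).trace = (y : Matrix (Fin n) (Fin n) F).trace) : IsConj x y := by
  obtain ⟨a, b, hab, hcx, htx⟩ := exists_count hr ho hx
  obtain ⟨a', b', hab', hcy, hty⟩ := exists_count hr ho hy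
  obtain ⟨k, hk⟩ : ∃ k, r = k + 1 := ⟨r - 1, by have := (Fact.out : r.Prime).two_le; omega⟩
  subst hk
  simp only [Nat.add_sub_cancel] at hab hab'
  have hk0 : 1 ≤ k := by have := (Fact.out : (k + 1).Prime).two_le; omega
  have hb : b ≤ n := by nlinarith
  have hb' : b' ≤ n := by nlinarith
  have h1 : ((k + 1 : ℕ) : F) * b = ((k + 1 : ℕ) : F) * b' := by
    have e1 : (a : F) + k * b = n := by rw [← hab]; push_cast; ring
    have e2 : (a' : F) + k * b' = n := by rw [← hab']; push_cast; ring
    rw [htx, hty] at ht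
    push_cast
    linear_combination e1 - e2 - ht
  have hbb : b = b' :=
    CharP.natCast_injOn_Iio F p (Set.mem_Iio.2 (by omega)) (Set.mem_Iio.2 (by omega)) (mul_left_cancel₀ hr h1)
  have haa : a = a' := by subst hbb; omega
  exact CfsgLib.KnownB.Semisimple.isConj_of_charpoly (semisimple hr hx) (semisimple hr hy) (by rw [hcx, hcy, hbb, haa])

/-- The centraliser of an element with an irreducible minimal polynomial of full degree has every determinant. -/
theorem exists_det {x : Matrix (Fin n) (Fin n) F} {Q : F[X]} (hQ : Irreducible Q) (hd : Q.natDegree = n)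
    (hx : aeval x Q = 0) (t : F) : ∃ h : Matrix (Fin n) (Fin n) F, h * x = x * h ∧ h.det = t := by
  classical
  haveI := Fact.mk hQ
  haveI : Module.Finite F (AdjoinRoot Q) := (AdjoinRoot.powerBasis hQ.ne_zero).finite
  haveI : Finite (AdjoinRoot Q) := Module.finite_of_finite F
  haveI : Nonempty (Fin n) := ⟨⟨0, hd ▸ hQ.natDegree_pos⟩⟩
  let L : AdjoinRoot Q →ₐ[F] Matrix (Fin n) (Fin n) F :=
    Ideal.Quotient.liftₐ (Ideal.span {Q}) (aeval x) (fun a ha => by
      obtain ⟨w, rfl⟩ := Ideal.mem_span_singleton'.1 ha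
      rw [map_mul, hx, mul_zero])
  let e₀ : Fin n → F := Pi.single (Classical.arbitrary _) 1
  let φ : AdjoinRoot Q →ₗ[F] (Fin n → F) :=
    { toFun := fun k => L k *ᵥ e₀
      map_add' := fun a b => by rw [map_add, add_mulVec]
      map_smul' := fun c a => by rw [map_smul, smul_mulVec]; rfl }
  have hφ : Function.Injective φ := by
    rw [injective_iff_map_eq_zero]
    intro k hk
    by_contra h0
    have h1 : L k⁻¹ *ᵥ (L k *ᵥ e₀) = e₀ := by
      rw [mulVec_mulVec, ← map_mul, inv_mul_cancel₀ h0, map_one, one_mulVec]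
    rw [show L k *ᵥ e₀ = 0 from hk, mulVec_zero] at h1
    simpa [e₀] using congrFun h1.symm (Classical.arbitrary _)
  have hfr : Module.finrank F (AdjoinRoot Q) = Module.finrank F (Fin n → F) := by
    rw [(AdjoinRoot.powerBasis hQ.ne_zero).finrank, AdjoinRoot.powerBasis_dim, hd, Module.finrank_fin_fun]
  let ψ := LinearEquiv.ofBijective φ ⟨hφ, (LinearMap.injective_iff_surjective_of_finrank_eq_finrank hfr).1 hφ⟩
  obtain ⟨k, hk⟩ := FiniteField.norm_surjective F (AdjoinRoot Q) t
  refine ⟨L k, ?_, ?_⟩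
  · rw [← show L (AdjoinRoot.root Q) = x from aeval_X x, ← map_mul, ← map_mul, mul_comm]
  · have hconj : Matrix.toLin' (L k) =
        (ψ : AdjoinRoot Q →ₗ[F] (Fin n → F)) ∘ₗ LinearMap.mulLeft F k ∘ₗ (ψ.symm : (Fin n → F) →ₗ[F] AdjoinRoot Q) := by
      refine LinearMap.ext fun v => ?_
      obtain ⟨a, rfl⟩ := ψ.surjective v
      simp only [LinearMap.comp_apply, LinearEquiv.coe_coe, LinearEquiv.symm_apply_apply, LinearMap.mulLeft_apply]
      show L k *ᵥ (L a *ᵥ e₀) = L (k * a) *ᵥ e₀
      rw [map_mul, mulVec_mulVec]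
    rw [← LinearMap.det_toLin', hconj, LinearMap.det_conj, ← hk, Algebra.norm_apply]
    rfl

end CfsgLib.ThreeTransp.CycloClass
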