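import Cfsg.Agent.Lib.ThreeTransp.LargePair

/-!
# The group generated by two extraspecial subgroups modulo `R` is `S₃`
-/

set_option autoImplicit false
set_option linter.unusedSectionVars false
set_option linter.style.haveILetI false

namespace CfsgLib.ThreeTransp

open Cfsg CfsgLib.Involutions
open scoped commutatorElement

/-- two involutions satisfying the braid relation generate six elements -/
theorem mem_six_of_braid {Γ : Type*} [Group Γ] {a b : Γ} (ha : a * a = 1) (hb : b * b = 1)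
    (hab : a * b * a = b * a * b) {y : Γ} (hy : y ∈ Subgroup.closure ({a, b} : Set Γ)) :
    y = 1 ∨ y = a ∨ y = b ∨ y = a * b ∨ y = b * a ∨ y = a * b * a := by
  have e1 : ∀ t, a * (a * t) = t := fun t => by rw [← mul_assoc, ha, one_mul]
  have e2 : ∀ t, b * (b * t) = t := fun t => by rw [← mul_assoc, hb, one_mul]
  have i1 := inv_eq_of_mul_eq_one_right ha
  have i2 := inv_eq_of_mul_eq_one_right hb
  have hmul : ∀ t : Γ, ∀ u, (t = a ∨ t = b) →
      (u = 1 ∨ u = a ∨ u = b ∨ u = a * b ∨ u = b * a ∨ u = a * b * a) →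
      (t * u = 1 ∨ t * u = a ∨ t * u = b ∨ t * u = a * b ∨ t * u = b * a ∨ t * u = a * b * a) := by
    have e3 : b * (a * (b * a)) = a * b := by
      rw [← mul_assoc a, hab]; simp [mul_assoc, e2]
    have e4 : b * (a * b) = a * (b * a) := by rw [← mul_assoc, ← hab, mul_assoc]
    rintro t u (rfl | rfl) (rfl | rfl | rfl | rfl | rfl | rfl) <;>
      simp [mul_assoc, ha, hb, e1, e2, e3, e4]
  induction hy using Subgroup.closure_induction_left with
  | one => exact Or.inl rfl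
  | mul_left t ht u _ hu => exact hmul t u ht hu
  | inv_mul_cancel t ht u _ hu =>
    have ht' : t⁻¹ = t := by rcases ht with rfl | rfl <;> assumption
    rw [ht']
    exact hmul t u ht hu

set_option maxRecDepth 100000 in
/-- the symmetric group of degree three has no non-trivial normal 2-subgroup -/
theorem perm_three_sq (σ : Equiv.Perm (Fin 3)) :
    σ * σ = 1 → (∀ τ : Equiv.Perm (Fin 3), (σ * (τ * σ * τ⁻¹)) * (σ * (τ * σ * τ⁻¹)) = 1) →
      σ = 1 := by
  revert σ; decide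

variable {G : Type*} [Group G] [Finite G]

namespace TwoPair

variable {Q Q' : Subgroup G} {z x : G} (P : TwoPair Q Q' z x)
include P

theorem le_normalizer_four : Q ⊔ Q' ≤
    Subgroup.normalizer ((Subgroup.closure ({z, x} : Set G) : Subgroup G) : Set G) := by
  intro t ht
  have hV : ∀ u ∈ Q ⊔ Q', ∀ v ∈ Subgroup.closure ({z, x} : Set G),
      u * v * u⁻¹ ∈ Subgroup.closure ({z, x} : Set G) := fun u hu v hv => by
    simpa [commutatorElement_def] using
      mul_mem (P.commutator_X_inter (Subgroup.commutator_mem_commutator hu (P.four_le_inter hv))) hv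
  rw [Subgroup.mem_normalizer_iff]
  intro v
  refine ⟨hV t ht v, fun hv => ?_⟩
  simpa [mul_assoc] using hV t⁻¹ (inv_mem ht) _ hv

/-- the two generators of `X` modulo `R` and the braid relation between them -/
theorem exists_braid : ∃ p ∈ Q, ∃ p' ∈ Q', p * x * p⁻¹ = z * x ∧ p' * z * p'⁻¹ = z * x ∧
    (p * p' * p⁻¹)⁻¹ * (p' * p * p'⁻¹) ∈ (Q' ⊓ Subgroup.centralizer ({z} : Set G)) ⊔
      (Q ⊓ Subgroup.centralizer ({x} : Set G)) := by
  obtain ⟨p, hp, hpx⟩ := P.moves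
  obtain ⟨p', hp', hpz⟩ := P.symm.moves
  rw [P.comm_xz.symm] at hpz
  refine ⟨p, hp, p', hp', hpx, hpz, ?_⟩
  have hzp : p * z * p⁻¹ = z := mul_inv_eq_iff_eq_mul.2 (P.hQ.comm p hp)
  have hxp : p' * x * p'⁻¹ = x := mul_inv_eq_iff_eq_mul.2 (P.hQ'.comm p' hp')
  obtain ⟨u', hu', he'⟩ := (P.hconj p p' (hpx.trans hpz.symm) (p * p' * p⁻¹)).1 ⟨p', hp', by simp⟩
  obtain ⟨u, hu⟩ : ∃ u, u = p'⁻¹ * ((p * p' * p⁻¹)⁻¹ * (p' * p * p'⁻¹)) * p' := ⟨_, rfl⟩
  have hu'' : p' * u' * p'⁻¹ = p * p' * p⁻¹ := by simpa using he'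
  have huQ : u ∈ Q := by
    rw [hu, ← hu'']
    simpa [mul_assoc] using mul_mem (inv_mem hu') hp
  -- both elements move `z` to `x`
  have hpzx : p * (z * x) * p⁻¹ = x := by
    rw [show p * (z * x) * p⁻¹ = p * z * p⁻¹ * (p * x * p⁻¹) by simp [mul_assoc], hzp, hpx,
      ← mul_assoc, P.hQ.inv, one_mul]
  have h1 : p * p' * p⁻¹ * z * (p * p' * p⁻¹)⁻¹ = x := by
    calc p * p' * p⁻¹ * z * (p * p' * p⁻¹)⁻¹ = p * (p' * (p⁻¹ * z * p) * p'⁻¹) * p⁻¹ := by
          simp [mul_assoc]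
      _ = x := by rw [mul_assoc p⁻¹ z p, ← P.hQ.comm p hp, inv_mul_cancel_left, hpz, hpzx]
  have hq1 : p'⁻¹ * z * p' = x * z := by
    have := P.hQ'.commEl p'⁻¹ (inv_mem hp') z P.hz
    rw [inv_inv] at this
    refine this.resolve_left fun h => ?_
    have h2 : z = p' * z * p'⁻¹ := by
      conv_rhs => rw [← h]
      simp [mul_assoc]
    rw [hpz] at h2
    exact P.hQ'.ne_one (left_eq_mul.1 h2)
  have h2 : p' * p * p'⁻¹ * z * (p' * p * p'⁻¹)⁻¹ = x := by
    calc p' * p * p'⁻¹ * z * (p' * p * p'⁻¹)⁻¹ = p' * (p * (p'⁻¹ * z * p') * p⁻¹) * p'⁻¹ := by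
          simp [mul_assoc]
      _ = x := by rw [hq1, ← P.comm_xz, hpzx, hxp]
  have hcz : Commute ((p * p' * p⁻¹)⁻¹ * (p' * p * p'⁻¹)) z := by
    revert h1 h2
    generalize p * p' * p⁻¹ = t
    generalize p' * p * p'⁻¹ = s
    intro h1 h2
    refine mul_inv_eq_iff_eq_mul.1 ?_
    calc t⁻¹ * s * z * (t⁻¹ * s)⁻¹ = t⁻¹ * (s * z * s⁻¹) * t := by simp [mul_assoc]
      _ = t⁻¹ * (t * z * t⁻¹) * t := by rw [h2, h1]
      _ = z := by simp [mul_assoc]
  have huxz : Commute u (x * z) := by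
    rw [← hq1, hu]
    have := hcz.eq
    simp only [Commute, SemiconjBy]
    calc p'⁻¹ * ((p * p' * p⁻¹)⁻¹ * (p' * p * p'⁻¹)) * p' * (p'⁻¹ * z * p')
        = p'⁻¹ * ((p * p' * p⁻¹)⁻¹ * (p' * p * p'⁻¹) * z) * p' := by simp [mul_assoc]
      _ = _ := by rw [this]; simp [mul_assoc]
  have hux : Commute u x := by
    have := huxz.mul_right (show Commute u z from P.hQ.comm u huQ)
    rwa [mul_assoc, P.hQ.inv, mul_one] at this
  have huB : u ∈ Q ⊓ Subgroup.centralizer ({x} : Set G) :=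
    ⟨huQ, Subgroup.mem_centralizer_singleton_iff.2 hux⟩
  have := (Subgroup.mem_normalizer_iff.1 (P.sup_le_normalizer (Subgroup.mem_sup_right hp')) u).1
    (Subgroup.mem_sup_right huB)
  rw [hu] at this
  simpa [mul_assoc] using this

theorem R_le : (Q' ⊓ Subgroup.centralizer ({z} : Set G)) ⊔
      (Q ⊓ Subgroup.centralizer ({x} : Set G)) ≤ Q ⊔ Q' :=
  sup_le (inf_le_left.trans le_sup_right) (inf_le_left.trans le_sup_left)

theorem R_isPGroup : IsPGroup 2 ↥((Q' ⊓ Subgroup.centralizer ({z} : Set G)) ⊔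
      (Q ⊓ Subgroup.centralizer ({x} : Set G)) : Subgroup G) :=
  (P.hp'.to_le inf_le_left).to_sup_of_normal_right' (P.hp.to_le inf_le_left) fun a ha => by
    rw [Subgroup.mem_normalizer_iff]
    intro b
    refine ⟨fun hb => P.conj_left (P.right_commute ha).1 (P.right_commute ha).2 hb, fun hb => ?_⟩
    simpa [mul_assoc] using
      P.conj_left (P.right_commute (inv_mem ha)).1 (P.right_commute (inv_mem ha)).2 hb

theorem centralizer_inf : (Q ⊔ Q') ⊓ Subgroup.centralizer (Subgroup.closure ({z, x} : Set G) : Set G)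
    = (Q' ⊓ Subgroup.centralizer ({z} : Set G)) ⊔ (Q ⊓ Subgroup.centralizer ({x} : Set G)) := by
  refine le_antisymm ?_ fun r hr => ⟨P.R_le hr, P.R_centralizes hr⟩
  set R := (Q' ⊓ Subgroup.centralizer ({z} : Set G)) ⊔ (Q ⊓ Subgroup.centralizer ({x} : Set G))
    with hR
  obtain ⟨p, hp, p', hp', hpx, hpz, hbr⟩ := P.exists_braid
  have hzp : p * z * p⁻¹ = z := mul_inv_eq_iff_eq_mul.2 (P.hQ.comm p hp)
  have hxp : p' * x * p'⁻¹ = x := mul_inv_eq_iff_eq_mul.2 (P.hQ'.comm p' hp')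
  set N := Subgroup.normalizer (R : Set G)
  have hXN : Q ⊔ Q' ≤ N := P.sup_le_normalizer
  have hRN : R ≤ N := Subgroup.le_normalizer
  let π := QuotientGroup.mk' (R.subgroupOf N)
  have hπ : ∀ (y : G) (hy : y ∈ N), π ⟨y, hy⟩ = 1 ↔ y ∈ R := fun y hy =>
    QuotientGroup.eq_one_iff _
  set a := π ⟨p, hXN (Subgroup.mem_sup_left hp)⟩
  set b := π ⟨p', hXN (Subgroup.mem_sup_right hp')⟩
  have hxR : x ∈ R := Subgroup.mem_sup_right ⟨P.hx, Subgroup.mem_centralizer_singleton_iff.2 rfl⟩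
  have hzR : z ∈ R := Subgroup.mem_sup_left ⟨P.hz, Subgroup.mem_centralizer_singleton_iff.2 rfl⟩
  have ha : a * a = 1 := by
    rw [← map_mul]
    refine (hπ _ _).2 ?_
    show p * p ∈ R
    rcases P.hQ.sq p hp with h | h <;> rw [h]
    exacts [one_mem _, hzR]
  have hb : b * b = 1 := by
    rw [← map_mul]
    refine (hπ _ _).2 ?_
    show p' * p' ∈ R
    rcases P.hQ'.sq p' hp' with h | h <;> rw [h]
    exacts [one_mem _, hxR]
  have hab : a * b * a = b * a * b := by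
    have h1 : (a * b * a⁻¹)⁻¹ * (b * a * b⁻¹) = 1 := by
      simp only [a, b, ← map_mul, ← map_inv]
      exact (hπ _ _).2 hbr
    rwa [inv_mul_eq_one, inv_eq_of_mul_eq_one_right ha, inv_eq_of_mul_eq_one_right hb] at h1
  have hle : Q ⊔ Q' ≤ ((Subgroup.closure ({a, b} : Set _)).comap π).map N.subtype := by
    have key : ∀ q (hqN : q ∈ N), q ∈ R → π ⟨q, hqN⟩ ∈ Subgroup.closure ({a, b} : Set _) :=
      fun q hqN hq => by rw [(hπ q hqN).2 hq]; exact one_mem _
    refine sup_le (fun q hq => ?_) (fun q hq => ?_)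
    · have hqN : q ∈ N := hXN (Subgroup.mem_sup_left hq)
      refine ⟨⟨q, hqN⟩, ?_, rfl⟩
      rcases P.hQ.commEl q hq x P.hx with h | h
      · exact key q hqN (Subgroup.mem_sup_right ⟨hq, Subgroup.mem_centralizer_singleton_iff.2
          (mul_inv_eq_iff_eq_mul.1 h)⟩)
      · have hm : (p⁻¹ * q) * x = x * (p⁻¹ * q) := by
          rw [← hpx] at h
          simpa [mul_assoc] using congrArg (fun t => p⁻¹ * t * q) h
        have hqe : (⟨q, hqN⟩ : N) = ⟨p, hXN (Subgroup.mem_sup_left hp)⟩ *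
            ⟨p⁻¹ * q, mul_mem (inv_mem (hXN (Subgroup.mem_sup_left hp))) hqN⟩ :=
          Subtype.ext (mul_inv_cancel_left p q).symm
        show π ⟨q, hqN⟩ ∈ Subgroup.closure ({a, b} : Set _)
        rw [hqe, map_mul]
        exact mul_mem (Subgroup.subset_closure (Or.inl rfl)) (key _ _ (Subgroup.mem_sup_right
          ⟨show p⁻¹ * q ∈ Q from mul_mem (inv_mem hp) hq, Subgroup.mem_centralizer_singleton_iff.2 hm⟩))
    · have hqN : q ∈ N := hXN (Subgroup.mem_sup_right hq)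
      refine ⟨⟨q, hqN⟩, ?_, rfl⟩
      rcases P.hQ'.commEl q hq z P.hz with h | h
      · exact key q hqN (Subgroup.mem_sup_left ⟨hq, Subgroup.mem_centralizer_singleton_iff.2
          (mul_inv_eq_iff_eq_mul.1 h)⟩)
      · have hm : (p'⁻¹ * q) * z = z * (p'⁻¹ * q) := by
          rw [← P.comm_xz, ← hpz] at h
          simpa [mul_assoc] using congrArg (fun t => p'⁻¹ * t * q) h
        have hqe : (⟨q, hqN⟩ : N) = ⟨p', hXN (Subgroup.mem_sup_right hp')⟩ *
            ⟨p'⁻¹ * q, mul_mem (inv_mem (hXN (Subgroup.mem_sup_right hp'))) hqN⟩ :=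
          Subtype.ext (mul_inv_cancel_left p' q).symm
        show π ⟨q, hqN⟩ ∈ Subgroup.closure ({a, b} : Set _)
        rw [hqe, map_mul]
        exact mul_mem (Subgroup.subset_closure (Or.inr rfl)) (key _ _ (Subgroup.mem_sup_left
          ⟨show p'⁻¹ * q ∈ Q' from mul_mem (inv_mem hp') hq, Subgroup.mem_centralizer_singleton_iff.2 hm⟩))
  rintro y ⟨hyX, hyV⟩
  obtain ⟨⟨y', hy'⟩, hmem, rfl⟩ := hle hyX
  change ∀ v ∈ _, v * y' = y' * v at hyV
  have hfix : y' * z * y'⁻¹ = z ∧ y' * x * y'⁻¹ = x :=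
    ⟨mul_inv_eq_iff_eq_mul.2 (hyV z (Subgroup.subset_closure (Or.inl rfl))).symm,
      mul_inv_eq_iff_eq_mul.2 (hyV x (Subgroup.subset_closure (Or.inr rfl))).symm⟩
  have hword : ∀ w, π ⟨y', hy'⟩ = π w →
      (w : G) * z * (w : G)⁻¹ = z ∧ (w : G) * x * (w : G)⁻¹ = x := by
    intro w hw
    have hr : (w : G)⁻¹ * y' ∈ R :=
      (hπ _ (mul_mem (inv_mem w.2) hy')).1 (by
        rw [show (⟨(w : G)⁻¹ * y', mul_mem (inv_mem w.2) hy'⟩ : N) = w⁻¹ * ⟨y', hy'⟩ from rfl,
          map_mul, map_inv, hw, inv_mul_cancel])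
    obtain ⟨hrz, hrx⟩ := P.R_commute hr
    constructor
    · calc (w : G) * z * (w : G)⁻¹
          = (w : G) * ((w : G)⁻¹ * y' * z * ((w : G)⁻¹ * y')⁻¹) * (w : G)⁻¹ := by
            rw [mul_inv_eq_iff_eq_mul.2 hrz.eq]
        _ = y' * z * y'⁻¹ := by simp [mul_assoc]
        _ = z := hfix.1
    · calc (w : G) * x * (w : G)⁻¹
          = (w : G) * ((w : G)⁻¹ * y' * x * ((w : G)⁻¹ * y')⁻¹) * (w : G)⁻¹ := by
            rw [mul_inv_eq_iff_eq_mul.2 hrx.eq]
        _ = y' * x * y'⁻¹ := by simp [mul_assoc]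
        _ = x := hfix.2
  have hx1 : ¬ (z * x = x) := fun h => P.hQ.ne_one (mul_eq_right.1 h)
  have hz1 : ¬ (z * x = z) := fun h => P.hQ'.ne_one (mul_eq_left.1 h)
  have hpzx : p * (z * x) * p⁻¹ = x := by
    rw [show p * (z * x) * p⁻¹ = p * z * p⁻¹ * (p * x * p⁻¹) by simp [mul_assoc], hzp, hpx,
      ← mul_assoc, P.hQ.inv, one_mul]
  rcases mem_six_of_braid ha hb hab hmem with h | h | h | h | h | h
  · exact (hπ _ _).1 h
  · exact absurd (hpx.symm.trans (hword _ h).2) hx1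
  · exact absurd (hpz.symm.trans (hword _ h).1) hz1
  · have := (hword _ (h.trans (map_mul π _ _).symm)).1
    exfalso
    refine P.hne ?_
    calc x = p * (p' * z * p'⁻¹) * p⁻¹ := by rw [hpz, hpzx]
      _ = z := by simpa [mul_assoc] using this
  · have := (hword _ (h.trans (map_mul π _ _).symm)).1
    refine absurd ?_ hz1
    calc z * x = p' * (p * z * p⁻¹) * p'⁻¹ := by rw [hzp, hpz]
      _ = z := by simpa [mul_assoc] using this
  · have := (hword _ (h.trans (by rw [map_mul, map_mul] :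
      a * b * a = π (⟨p, hXN (Subgroup.mem_sup_left hp)⟩ * ⟨p', hXN (Subgroup.mem_sup_right hp')⟩ *
        ⟨p, hXN (Subgroup.mem_sup_left hp)⟩)))).1
    exfalso
    refine P.hne ?_
    calc x = p * (p' * (p * z * p⁻¹) * p'⁻¹) * p⁻¹ := by rw [hzp, hpz, hpzx]
      _ = z := by simpa [mul_assoc] using this

/-- the action on the three involutions of the four-group -/
theorem exists_hom : ∃ φ : ↥(Subgroup.normalizer
      ((Subgroup.closure ({z, x} : Set G) : Subgroup G) : Set G)) →* Equiv.Perm (Fin 3),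
    φ.ker = (Subgroup.centralizer (Subgroup.closure ({z, x} : Set G) : Set G)).subgroupOf _ ∧
    ∀ σ, ∃ (y : G) (hy : y ∈ Q ⊔ Q'), φ ⟨y, P.le_normalizer_four hy⟩ = σ := by
  set E := Subgroup.closure ({z, x} : Set G) with hE
  set N := Subgroup.normalizer (E : Set G) with hN
  let S := {t : G // t ∈ E ∧ t ≠ 1}
  have hmemS : ∀ t, (t ∈ E ∧ t ≠ 1) ↔ t = z ∨ t = x ∨ t = z * x := by
    intro t
    rw [hE, P.mem_four]
    constructor
    · rintro ⟨rfl | h, h1⟩
      exacts [absurd rfl h1, h]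
    · intro h
      refine ⟨Or.inr h, ?_⟩
      rcases h with rfl | rfl | rfl
      exacts [P.hQ.ne_one, P.hQ'.ne_one, fun h => P.hne (by
        rw [← inv_eq_of_mul_eq_one_right P.hQ.inv, eq_inv_of_mul_eq_one_right h])]
  have hcz : z ≠ z * x := fun h => P.hQ'.ne_one (left_eq_mul.1 h)
  have hcx : x ≠ z * x := fun h => P.hQ.ne_one (right_eq_mul.1 h)
  have hcardS : Nat.card S = 3 := by
    rw [show Nat.card S = Nat.card {t : G | t ∈ E ∧ t ≠ 1} from rfl]
    rw [show {t : G | t ∈ E ∧ t ≠ 1} = {z, x, z * x} by ext t; simp [hmemS], Nat.card_coe_set_eq]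
    exact Set.ncard_eq_three.2 ⟨z, x, z * x, fun h => P.hne h.symm, hcz, hcx, rfl⟩
  let ψ : ↥N →* Equiv.Perm S :=
    { toFun := fun n => (MulAut.conj (n : G)).toEquiv.subtypeEquiv fun t => by
        show (t ∈ E ∧ t ≠ 1) ↔ _ ∧ (n : G) * t * (n : G)⁻¹ ≠ 1
        exact and_congr (Subgroup.mem_normalizer_iff.1 n.2 t) (by simp)
      map_one' := by ext t; simp
      map_mul' := fun a b => by ext t; simp }
  have hψ : ∀ (n : ↥N) (t : S), (ψ n t : G) = (n : G) * t * (n : G)⁻¹ := fun _ _ => rfl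
  have hker : ψ.ker = (Subgroup.centralizer (E : Set G)).subgroupOf N := by
    ext n
    rw [MonoidHom.mem_ker, Subgroup.mem_subgroupOf, Subgroup.mem_centralizer_iff]
    constructor
    · intro h t ht
      by_cases h1 : t = 1
      · subst h1; simp
      have := congrArg (fun σ : Equiv.Perm S => (σ ⟨t, ht, h1⟩ : G)) h
      simp only [hψ, Equiv.Perm.coe_one, id_eq] at this
      exact (mul_inv_eq_iff_eq_mul.1 this).symm
    · intro h
      ext t
      rw [hψ, Equiv.Perm.coe_one, id_eq, mul_inv_eq_iff_eq_mul]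
      exact (h t t.2.1).symm
  haveI : Finite S := Nat.finite_of_card_ne_zero (by omega)
  let e : S ≃ Fin 3 := Finite.equivFinOfCardEq hcardS
  let θ : Equiv.Perm S ≃* Equiv.Perm (Fin 3) :=
    { e.permCongr with map_mul' := fun f g => by ext i; simp [Equiv.permCongr_apply] }
  refine ⟨θ.toMonoidHom.comp ψ, (MonoidHom.ker_mulEquiv_comp ψ θ).trans hker, ?_⟩
  let ι : ↥(Q ⊔ Q') →* ↥N := Subgroup.inclusion P.le_normalizer_four
  suffices hsurj : ((θ.toMonoidHom.comp ψ).comp ι).range = ⊤ by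
    intro σ
    obtain ⟨y, hy⟩ : σ ∈ ((θ.toMonoidHom.comp ψ).comp ι).range := hsurj ▸ Subgroup.mem_top σ
    exact ⟨y, y.2, hy⟩
  obtain ⟨p, hp, p', hp', hpx, hpz, -⟩ := P.exists_braid
  have hzp : p * z * p⁻¹ = z := mul_inv_eq_iff_eq_mul.2 (P.hQ.comm p hp)
  set Φ := (θ.toMonoidHom.comp ψ).comp ι with hΦ
  have happ : ∀ (u v : ↥(Q ⊔ Q')) (t : S), Φ u = Φ v →
      (u : G) * t * (u : G)⁻¹ = (v : G) * t * (v : G)⁻¹ := by
    intro u v t h
    have h1 : ψ (ι u) = ψ (ι v) := θ.injective h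
    exact congrArg (fun σ : Equiv.Perm S => (σ t : G)) h1
  set u : ↥(Q ⊔ Q') := ⟨p, Subgroup.mem_sup_left hp⟩
  set v : ↥(Q ⊔ Q') := ⟨p', Subgroup.mem_sup_right hp'⟩
  have hxS : x ∈ E ∧ x ≠ 1 := (hmemS x).2 (Or.inr (Or.inl rfl))
  have hzS : z ∈ E ∧ z ≠ 1 := (hmemS z).2 (Or.inl rfl)
  have h1 : Φ u ≠ 1 := fun h => by
    have := happ u 1 ⟨x, hxS⟩ (h.trans (map_one Φ).symm)
    simp only [u, OneMemClass.coe_one, hpx, one_mul, inv_one, mul_one] at this
    exact hcx this.symm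
  have h2 : Φ v ≠ 1 := fun h => by
    have := happ v 1 ⟨z, hzS⟩ (h.trans (map_one Φ).symm)
    simp only [v, OneMemClass.coe_one, hpz, one_mul, inv_one, mul_one] at this
    exact hcz this.symm
  have h3 : Φ u ≠ Φ v := fun h => by
    have := happ u v ⟨z, hzS⟩ h
    simp only [u, v, hpz, hzp] at this
    exact hcz this
  have hsq : Φ u ^ 2 = 1 := by
    rw [← map_pow]
    have : u ^ 2 ∈ Φ.ker := by
      rw [hΦ, ← MonoidHom.comap_ker, show (θ.toMonoidHom.comp ψ).ker = _ from (MonoidHom.ker_mulEquiv_comp ψ θ).trans hker]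
      show ((u ^ 2 : ↥(Q ⊔ Q')) : G) ∈ Subgroup.centralizer (E : Set G)
      rw [SubgroupClass.coe_pow, pow_two]
      rcases P.hQ.sq p hp with h | h
      · show p * p ∈ _; rw [h]; exact one_mem _
      · show p * p ∈ _; rw [h]
        exact P.R_centralizes
          (Subgroup.mem_sup_left ⟨P.hz, Subgroup.mem_centralizer_singleton_iff.2 rfl⟩)
    exact MonoidHom.mem_ker.1 this
  refine Subgroup.eq_top_of_card_eq _ ?_
  have hperm : Nat.card (Equiv.Perm (Fin 3)) = 6 := by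
    rw [Nat.card_perm, Nat.card_fin]; rfl
  rw [hperm]
  have hdvd : Nat.card Φ.range ∣ 6 := hperm ▸ Subgroup.card_subgroup_dvd_card _
  have h2dvd : 2 ∣ Nat.card Φ.range := by
    haveI : Fact (Nat.Prime 2) := ⟨Nat.prime_two⟩
    have ho : orderOf (⟨Φ u, MonoidHom.mem_range.2 ⟨_, rfl⟩⟩ : Φ.range) = 2 := by
      rw [Subgroup.orderOf_mk]; exact orderOf_eq_prime hsq h1
    exact ho ▸ orderOf_dvd_natCard _
  have h3le : 3 ≤ Nat.card Φ.range := by
    have hsub : ({1, Φ u, Φ v} : Set (Equiv.Perm (Fin 3))) ⊆ Φ.range := by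
      rintro σ (rfl | rfl | rfl)
      exacts [one_mem _, ⟨_, rfl⟩, ⟨_, rfl⟩]
    have := Set.ncard_le_ncard hsub (Set.toFinite _)
    rw [Set.ncard_eq_three.2 ⟨_, _, _, h1.symm, h2.symm, h3, rfl⟩,
      ← Nat.card_coe_set_eq] at this
    exact this
  have hle := Nat.le_of_dvd (by norm_num) hdvd
  rcases (by omega : Nat.card Φ.range = 4 ∨ Nat.card Φ.range = 6 ∨ Nat.card Φ.range = 3 ∨
      Nat.card Φ.range = 5) with h | h | h | h <;> rw [h] at hdvd h2dvd ⊢ <;> omega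

theorem quotient_perm :
    (Q' ⊓ Subgroup.centralizer ({z} : Set G)) ⊔ (Q ⊓ Subgroup.centralizer ({x} : Set G)) =
      (Cfsg.pCore 2 ↥(Q ⊔ Q' : Subgroup G)).map (Q ⊔ Q' : Subgroup G).subtype ∧
    ∃ h : (((Q' ⊓ Subgroup.centralizer ({z} : Set G)) ⊔
      (Q ⊓ Subgroup.centralizer ({x} : Set G))).subgroupOf (Q ⊔ Q')).Normal,
      Nonempty (↥(Q ⊔ Q' : Subgroup G) ⧸ ((Q' ⊓ Subgroup.centralizer ({z} : Set G)) ⊔
        (Q ⊓ Subgroup.centralizer ({x} : Set G))).subgroupOf (Q ⊔ Q') ≃* Equiv.Perm (Fin 3)) := by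
  obtain ⟨φ, hker, hsurj⟩ := P.exists_hom
  set R := (Q' ⊓ Subgroup.centralizer ({z} : Set G)) ⊔ (Q ⊓ Subgroup.centralizer ({x} : Set G))
    with hR
  haveI hn : (R.subgroupOf (Q ⊔ Q')).Normal :=
    Subgroup.normal_subgroupOf_of_le_normalizer P.sup_le_normalizer
  let ψ : ↥(Q ⊔ Q') →* Equiv.Perm (Fin 3) := φ.comp (Subgroup.inclusion P.le_normalizer_four)
  have hψs : Function.Surjective ψ := fun σ => by
    obtain ⟨y, hy, h⟩ := hsurj σ
    exact ⟨⟨y, hy⟩, h⟩
  have hψk : ψ.ker = R.subgroupOf (Q ⊔ Q') := by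
    rw [← MonoidHom.comap_ker, hker]
    ext y
    show (y : G) ∈ Subgroup.centralizer _ ↔ (y : G) ∈ R
    rw [hR, ← P.centralizer_inf]
    exact ⟨fun h => ⟨y.2, h⟩, fun h => h.2⟩
  refine ⟨le_antisymm (CfsgLib.Base.le_map_pCore P.R_le P.sup_le_normalizer P.R_isPGroup) ?_, hn,
    ⟨(QuotientGroup.quotientMulEquivOfEq hψk.symm).trans
      (QuotientGroup.quotientKerEquivOfSurjective ψ hψs)⟩⟩
  rintro _ ⟨y, hy, rfl⟩
  suffices h : ψ y = 1 by
    have : y ∈ ψ.ker := h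
    rw [hψk] at this
    exact this
  set M := (Cfsg.pCore 2 ↥(Q ⊔ Q' : Subgroup G)).map ψ with hM
  have hyM : ψ y ∈ M := ⟨y, hy, rfl⟩
  haveI : M.Normal := (Cfsg.pCore_normal 2 ↥(Q ⊔ Q' : Subgroup G)).map ψ hψs
  have hpM : IsPGroup 2 M := (CfsgLib.Base.isPGroup_pCore 2 _).map ψ
  have hsq : ∀ σ ∈ M, σ * σ = 1 := by
    intro σ hσ
    obtain ⟨k, hk⟩ := hpM ⟨σ, hσ⟩
    have hk' : σ ^ 2 ^ k = 1 := by simpa using congrArg Subtype.val hk
    have h6 : orderOf σ ∣ 6 := by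
      have := orderOf_dvd_natCard σ
      rwa [Nat.card_perm, Nat.card_fin] at this
    obtain ⟨j, -, hj⟩ := (Nat.dvd_prime_pow Nat.prime_two).1 (orderOf_dvd_of_pow_eq_one hk')
    rw [← pow_two]
    refine orderOf_dvd_iff_pow_eq_one.1 ?_
    rw [hj] at h6 ⊢
    rcases j with _ | _ | j
    · simp
    · simp
    · exact absurd ((pow_dvd_pow 2 (by omega : 2 ≤ j + 1 + 1)).trans h6) (by norm_num)
  exact perm_three_sq _ (hsq _ hyM) fun τ => hsq _ (mul_mem hyM
    (Subgroup.Normal.conj_mem inferInstance _ hyM τ))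

theorem normalizer_four :
    Subgroup.normalizer ((Subgroup.closure ({z, x} : Set G) : Subgroup G) : Set G) =
      (Q ⊔ Q') ⊔ Subgroup.centralizer (Subgroup.closure ({z, x} : Set G) : Set G) ∧
    ∀ y ∈ Subgroup.normalizer ((Subgroup.closure ({z, x} : Set G) : Subgroup G) : Set G),
      ∀ t ∈ Q ⊔ Q', y * t * y⁻¹ ∈ Q ⊔ Q' := by
  obtain ⟨φ, hker, hsurj⟩ := P.exists_hom
  have hsup : Subgroup.normalizer ((Subgroup.closure ({z, x} : Set G) : Subgroup G) : Set G) =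
      (Q ⊔ Q') ⊔ Subgroup.centralizer (Subgroup.closure ({z, x} : Set G) : Set G) := by
    refine le_antisymm (fun n hn => ?_)
      (sup_le P.le_normalizer_four (Subgroup.centralizer_le_normalizer _))
    obtain ⟨y, hy, h⟩ := hsurj (φ ⟨n, hn⟩)
    have hk : (⟨y, P.le_normalizer_four hy⟩ : ↥(Subgroup.normalizer
        ((Subgroup.closure ({z, x} : Set G) : Subgroup G) : Set G)))⁻¹ * ⟨n, hn⟩ ∈ φ.ker := by
      rw [MonoidHom.mem_ker, map_mul, map_inv, h, inv_mul_cancel]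
    rw [hker] at hk
    have hk' : y⁻¹ * n ∈ Subgroup.centralizer (Subgroup.closure ({z, x} : Set G) : Set G) := hk
    have := mul_mem (Subgroup.mem_sup_left (T := Subgroup.centralizer
      (Subgroup.closure ({z, x} : Set G) : Set G)) hy) (Subgroup.mem_sup_right hk')
    simpa using this
  refine ⟨hsup, ?_⟩
  have hle : Subgroup.normalizer ((Subgroup.closure ({z, x} : Set G) : Subgroup G) : Set G) ≤
      Subgroup.normalizer ((Q ⊔ Q' : Subgroup G) : Set G) := by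
    rw [hsup]
    refine sup_le Subgroup.le_normalizer fun c hc => ?_
    have hcz : ∀ w, w ∈ ({z, x} : Set G) → Commute c w := fun w hw =>
      (Subgroup.mem_centralizer_iff.1 hc w (Subgroup.subset_closure hw)).symm
    have h1 : (Q ⊔ Q').map (MulAut.conj c).toMonoidHom ≤ Q ⊔ Q' := by
      rw [Subgroup.map_sup]
      refine sup_le_sup ?_ ?_
      · rintro _ ⟨q, hq, rfl⟩
        exact P.hQ.norm c (hcz z (Or.inl rfl)).eq q hq
      · rintro _ ⟨q, hq, rfl⟩
        exact P.hQ'.norm c (hcz x (Or.inr rfl)).eq q hq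
    have h2 := Subgroup.eq_of_le_of_card_ge h1
      (by rw [Subgroup.card_map_of_injective (MulAut.conj c).injective])
    rw [Subgroup.mem_normalizer_iff]
    intro t
    conv_rhs => rw [← h2, Subgroup.mem_map_equiv, MulAut.conj_symm_apply]
    simp [mul_assoc]
  exact fun y hy t ht => (Subgroup.mem_normalizer_iff.1 (hle hy) t).1 ht

theorem commutator_mem_R {t c : G} (ht : t ∈ Q ⊔ Q')
    (hc : c ∈ Subgroup.centralizer (Subgroup.closure ({z, x} : Set G) : Set G)) :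
    t * c * t⁻¹ * c⁻¹ ∈ (Q' ⊓ Subgroup.centralizer ({z} : Set G)) ⊔
      (Q ⊓ Subgroup.centralizer ({x} : Set G)) := by
  rw [← P.centralizer_inf]
  refine Subgroup.mem_inf.2 ⟨?_, ?_⟩
  · have := P.normalizer_four.2 c (Subgroup.centralizer_le_normalizer _ hc) _ (inv_mem ht)
    rw [show t * c * t⁻¹ * c⁻¹ = t * (c * t⁻¹ * c⁻¹) by simp [mul_assoc]]
    exact mul_mem ht this
  · refine mul_mem ?_ (inv_mem hc)
    rw [Subgroup.mem_centralizer_iff]
    intro v hv
    have hv' : t⁻¹ * v * t ∈ Subgroup.closure ({z, x} : Set G) := by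
      have := (Subgroup.mem_normalizer_iff.1 (inv_mem (P.le_normalizer_four ht)) v).1 hv
      simpa using this
    have h := congrArg (fun s => t * s * t⁻¹) (Subgroup.mem_centralizer_iff.1 hc _ hv')
    simpa [mul_assoc] using h

end TwoPair

end CfsgLib.ThreeTransp
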