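import Mathlib
import Cfsg.Prelude.Def_Sporadic_a
import Cfsg.Agent.Lib.Spor.Steiner

/-!
Arcs and hyperovals in a projective plane of order four.
-/

set_option autoImplicit false

namespace CfsgLib.ThreeTransp.PlaneFour

open Cfsg

variable {α : Type*} [Fintype α] [DecidableEq α]

/-- A plane of order four. -/
structure IsPlane (B : Set (Finset α)) : Prop where
  card : Fintype.card α = 21
  steiner : IsSteinerSystem 2 5 B

/-- An arc. -/
def IsArc (B : Set (Finset α)) (S : Finset α) : Prop := ∀ l ∈ B, (l ∩ S).card ≤ 2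

variable {B : Set (Finset α)}

theorem IsPlane.eq_of_two (P : IsPlane B) {l m : Finset α} {a b : α} (hl : l ∈ B) (hm : m ∈ B) (hab : a ≠ b)
    (hal : a ∈ l) (hbl : b ∈ l) (ham : a ∈ m) (hbm : b ∈ m) : l = m :=
  (P.steiner.2 {a, b} (Finset.card_pair hab)).unique
    ⟨hl, Finset.insert_subset_iff.2 ⟨hal, Finset.singleton_subset_iff.2 hbl⟩⟩
    ⟨hm, Finset.insert_subset_iff.2 ⟨ham, Finset.singleton_subset_iff.2 hbm⟩⟩

/-- The line through two points. -/
noncomputable def line (B : Set (Finset α)) (a b : α) : Finset α :=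
  Classical.epsilon fun l => l ∈ B ∧ a ∈ l ∧ b ∈ l

theorem IsPlane.line_spec (P : IsPlane B) {a b : α} (hab : a ≠ b) :
    line B a b ∈ B ∧ a ∈ line B a b ∧ b ∈ line B a b := by
  obtain ⟨l, ⟨hl, hs⟩, -⟩ := P.steiner.2 {a, b} (Finset.card_pair hab)
  refine Classical.epsilon_spec (p := fun l => l ∈ B ∧ a ∈ l ∧ b ∈ l) ⟨l, hl, hs ?_, hs ?_⟩ <;> simp

theorem IsPlane.line_eq (P : IsPlane B) {a b : α} {l : Finset α} (hl : l ∈ B) (hab : a ≠ b) (ha : a ∈ l) (hb : b ∈ l) :
    line B a b = l := P.eq_of_two (P.line_spec hab).1 hl hab (P.line_spec hab).2.1 (P.line_spec hab).2.2 ha hb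

theorem line_comm (a b : α) : line B a b = line B b a := by
  simp only [line, and_comm (a := a ∈ _)]

/-- The lines through a point. -/
noncomputable def pencil (B : Set (Finset α)) (x : α) : Finset (Finset α) := Spor.blocksThrough B {x}

theorem mem_pencil {x : α} {l : Finset α} : l ∈ pencil B x ↔ l ∈ B ∧ x ∈ l := by
  simp [pencil, Spor.mem_blocksThrough]

theorem IsPlane.card_pencil (P : IsPlane B) (x : α) : (pencil B x).card = 5 :=
  Spor.card_blocksThrough_eq P.steiner {x} (Finset.card_singleton x) (by norm_num) (by decide +kernel)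
    (by rw [P.card]; decide +kernel)

theorem IsPlane.meet (P : IsPlane B) {l m : Finset α} (hl : l ∈ B) (hm : m ∈ B) : ∃ x, x ∈ l ∧ x ∈ m := by
  by_contra h
  push Not at h
  have hm0 : m.Nonempty := Finset.card_pos.1 (by rw [P.steiner.1 m hm]; norm_num)
  obtain ⟨y, hy⟩ := hm0
  have hyl : y ∉ l := fun hyl => h y hyl hy
  have hinj : Set.InjOn (fun p => line B y p) (l : Set α) := by
    intro p hp p' hp' he
    by_contra hne
    have h1 := P.line_spec (a := y) (b := p) (fun e => hyl (e ▸ hp))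
    have h2 := P.line_spec (a := y) (b := p') (fun e => hyl (e ▸ hp'))
    simp only at he
    exact hyl (P.eq_of_two h1.1 hl hne h1.2.2 (he ▸ h2.2.2) hp hp' ▸ h1.2.1)
  have hsub : l.image (fun p => line B y p) ⊆ (pencil B y).erase m := by
    intro n hn
    obtain ⟨p, hp, rfl⟩ := Finset.mem_image.1 hn
    have h1 := P.line_spec (a := y) (b := p) (fun e => hyl (e ▸ hp))
    exact Finset.mem_erase.2 ⟨fun e => h p hp (e ▸ h1.2.2), mem_pencil.2 ⟨h1.1, h1.2.1⟩⟩
  have := Finset.card_le_card hsub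
  rw [Finset.card_image_of_injOn hinj, P.steiner.1 l hl, Finset.card_erase_of_mem (mem_pencil.2 ⟨hm, hy⟩),
    P.card_pencil] at this
  omega

theorem IsArc.mono {S T : Finset α} (h : IsArc B T) (hS : S ⊆ T) : IsArc B S := fun l hl =>
  (Finset.card_le_card (Finset.inter_subset_inter_left hS)).trans (h l hl)

theorem IsPlane.arc_insert (P : IsPlane B) {S : Finset α} {x : α} (hx : x ∉ S) :
    IsArc B (insert x S) ↔ IsArc B S ∧ ∀ a ∈ S, ∀ b ∈ S, a ≠ b → x ∉ line B a b := by
  constructor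
  · intro h
    refine ⟨h.mono (Finset.subset_insert _ _), fun a ha b hb hab hxl => ?_⟩
    obtain ⟨h1, h2, h3⟩ := P.line_spec hab
    have h4 : ({x, a, b} : Finset α) ⊆ line B a b ∩ insert x S := by
      intro y hy
      simp only [Finset.mem_insert, Finset.mem_singleton] at hy
      rcases hy with rfl | rfl | rfl <;> simp_all
    have h5 : ({x, a, b} : Finset α).card = 3 := by
      rw [Finset.card_insert_of_notMem, Finset.card_pair hab]
      simp only [Finset.mem_insert, Finset.mem_singleton]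
      rintro (rfl | rfl) <;> exact hx (by assumption)
    have := (Finset.card_le_card h4).trans (h _ h1)
    omega
  · rintro ⟨h, h'⟩ l hl
    by_cases hxl : x ∈ l
    · rw [Finset.inter_insert_of_mem hxl]
      refine (Finset.card_insert_le _ _).trans (Nat.succ_le_succ (Finset.card_le_one.2 fun a ha b hb => ?_))
      by_contra hab
      rw [Finset.mem_inter] at ha hb
      exact h' a ha.2 b hb.2 hab (P.line_eq hl hab ha.1 hb.1 ▸ hxl)
    · rw [Finset.inter_insert_of_notMem hxl]; exact h l hl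

open Classical in
/-- Points extending an arc. -/
noncomputable def ext (B : Set (Finset α)) (S : Finset α) : Finset α :=
  Finset.univ.filter fun x => x ∉ S ∧ ∀ a ∈ S, ∀ b ∈ S, a ≠ b → x ∉ line B a b

theorem mem_ext {S : Finset α} {x : α} :
    x ∈ ext B S ↔ x ∉ S ∧ ∀ a ∈ S, ∀ b ∈ S, a ≠ b → x ∉ line B a b := by simp [ext]

theorem IsPlane.arc_pair (P : IsPlane B) {S : Finset α} (hS : S.card ≤ 2) : IsArc B S := fun _ _ =>
  (Finset.card_le_card Finset.inter_subset_right).trans hS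

theorem IsPlane.ext_pair (P : IsPlane B) {S : Finset α} (hS : S.card = 2) : (ext B S).card = 16 := by
  obtain ⟨a, b, hab, rfl⟩ := Finset.card_eq_two.1 hS
  obtain ⟨h1, h2, h3⟩ := P.line_spec hab
  have : ext B {a, b} = (line B a b)ᶜ := by
    ext x
    rw [mem_ext, Finset.mem_compl]
    constructor
    · exact fun h => h.2 a (by simp) b (by simp) hab
    · intro h
      refine ⟨?_, fun p hp q hq hpq => ?_⟩
      · simp only [Finset.mem_insert, Finset.mem_singleton]; rintro (rfl | rfl) <;> contradiction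
      · simp only [Finset.mem_insert, Finset.mem_singleton] at hp hq
        rcases hp with rfl | rfl <;> rcases hq with rfl | rfl <;>
          first | exact absurd rfl hpq | exact h | (rw [line_comm]; exact h)
  rw [this, Finset.card_compl, P.card, P.steiner.1 _ h1]

theorem IsPlane.not_mem_line (P : IsPlane B) {S : Finset α} (hS : IsArc B S) {a b c : α} (ha : a ∈ S)
    (hb : b ∈ S) (hc : c ∈ S) (hab : a ≠ b) (hca : c ≠ a) (hcb : c ≠ b) : c ∉ line B a b := by
  have h1 : insert c (S.erase c) = S := Finset.insert_erase hc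
  rw [← h1] at hS
  exact ((P.arc_insert (Finset.notMem_erase c S)).1 hS).2 a (Finset.mem_erase.2 ⟨hca.symm, ha⟩) b
    (Finset.mem_erase.2 ⟨hcb.symm, hb⟩) hab

theorem IsPlane.ext_triangle (P : IsPlane B) {S : Finset α} (hS : S.card = 3) (hA : IsArc B S) :
    (ext B S).card = 9 := by
  obtain ⟨a, b, c, hab, hac, hbc, rfl⟩ := Finset.card_eq_three.1 hS
  obtain ⟨l1, a1, b1⟩ := P.line_spec hab
  obtain ⟨l2, a2, c2⟩ := P.line_spec hac
  obtain ⟨l3, b3, c3⟩ := P.line_spec hbc
  have : ext B {a, b, c} = (line B a b ∪ line B a c ∪ line B b c)ᶜ := by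
    ext x
    simp only [mem_ext, Finset.mem_compl, Finset.mem_union, not_or]
    constructor
    · intro h
      exact ⟨⟨h.2 a (by simp) b (by simp) hab, h.2 a (by simp) c (by simp) hac⟩, h.2 b (by simp) c (by simp) hbc⟩
    · rintro ⟨⟨x1, x2⟩, x3⟩
      refine ⟨?_, fun p hp q hq hpq => ?_⟩
      · simp only [Finset.mem_insert, Finset.mem_singleton]; rintro (rfl | rfl | rfl) <;> contradiction
      · simp only [Finset.mem_insert, Finset.mem_singleton] at hp hq
        rcases hp with rfl | rfl | rfl <;> rcases hq with rfl | rfl | rfl <;>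
          first | exact absurd rfl hpq | assumption | (rw [line_comm]; assumption)
  rw [this, Finset.card_compl, P.card]
  have i12 : line B a b ∩ line B a c = {a} := by
    refine Finset.eq_singleton_iff_unique_mem.2 ⟨Finset.mem_inter.2 ⟨a1, a2⟩, fun x hx => ?_⟩
    by_contra hxa
    rw [Finset.mem_inter] at hx
    exact P.not_mem_line hA (by simp) (by simp) (show c ∈ _ by simp) hab hac.symm hbc.symm
      (P.eq_of_two l2 l1 hxa hx.2 a2 hx.1 a1 ▸ c2)
  have i3 : (line B a b ∪ line B a c) ∩ line B b c = {b, c} := by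
    ext x
    simp only [Finset.mem_inter, Finset.mem_union, Finset.mem_insert, Finset.mem_singleton]
    constructor
    · rintro ⟨h1 | h1, h3⟩
      · left; by_contra hxb
        exact P.not_mem_line hA (show a ∈ _ by simp) (by simp) (show c ∈ _ by simp) hab hac.symm hbc.symm
          (P.eq_of_two l3 l1 hxb h3 b3 h1 b1 ▸ c3)
      · right; by_contra hxc
        exact P.not_mem_line hA (show a ∈ _ by simp) (show c ∈ _ by simp) (show b ∈ _ by simp) hac hab.symm hbc
          (P.eq_of_two l3 l2 hxc h3 c3 h1 c2 ▸ b3)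
    · rintro (rfl | rfl)
      · exact ⟨Or.inl b1, b3⟩
      · exact ⟨Or.inr c2, c3⟩
  have u1 := Finset.card_union_add_card_inter (line B a b) (line B a c)
  have u2 := Finset.card_union_add_card_inter (line B a b ∪ line B a c) (line B b c)
  rw [i12, Finset.card_singleton, P.steiner.1 _ l1, P.steiner.1 _ l2] at u1
  rw [i3, Finset.card_pair hbc, P.steiner.1 _ l3] at u2
  omega

theorem IsPlane.secant_other (P : IsPlane B) {S : Finset α} {x a : α} (hxS : x ∉ S) (ha : a ∈ S)
    {b : α} (hb : b ∈ S) (hab : a ≠ b) (hx : x ∈ line B a b) : b ∈ line B a x := by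
  obtain ⟨h1, h2, h3⟩ := P.line_spec hab
  rw [P.line_eq h1 (fun e : a = x => hxS (e ▸ ha)) h2 hx]
  exact h3

theorem IsPlane.tangent_free (P : IsPlane B) {S : Finset α} (hS : S.card = 4) (hA : IsArc B S) {a : α}
    (ha : a ∈ S) {t : Finset α} (ht : t ∈ B) (hat : a ∈ t) (htS : ∀ b ∈ S, b ∈ t → b = a) :
    ∃! x, x ∈ t ∧ x ∈ ext B S := by
  obtain ⟨b, c, d, hbc, hbd, hcd, he⟩ := Finset.card_eq_three.1
    (show (S.erase a).card = 3 by rw [Finset.card_erase_of_mem ha, hS])
  have hb : b ∈ S ∧ b ≠ a := by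
    have : b ∈ S.erase a := by rw [he]; simp
    exact ⟨Finset.mem_of_mem_erase this, Finset.ne_of_mem_erase this⟩
  have hc : c ∈ S ∧ c ≠ a := by
    have : c ∈ S.erase a := by rw [he]; simp
    exact ⟨Finset.mem_of_mem_erase this, Finset.ne_of_mem_erase this⟩
  have hd : d ∈ S ∧ d ≠ a := by
    have : d ∈ S.erase a := by rw [he]; simp
    exact ⟨Finset.mem_of_mem_erase this, Finset.ne_of_mem_erase this⟩
  have mk : ∀ p ∈ S, ∀ q ∈ S, p ≠ q → p ≠ a → q ≠ a →
      ∃ x, (x ∈ t ∧ x ∈ line B p q) ∧ x ≠ a ∧ x ∉ S ∧ ∀ y ∈ t, y ∈ line B p q → y = x := by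
    intro p hp q hq hpq hpa hqa
    obtain ⟨h1, h2, h3⟩ := P.line_spec hpq
    obtain ⟨x, hx, hx'⟩ := P.meet ht h1
    have hxa : x ≠ a := fun e => P.not_mem_line hA hp hq ha hpq hpa.symm hqa.symm (e ▸ hx')
    refine ⟨x, ⟨hx, hx'⟩, hxa, fun hxS => hxa (htS x hxS hx), fun y hy hy' => ?_⟩
    by_contra hyx
    exact P.not_mem_line hA hp hq ha hpq hpa.symm hqa.symm (P.eq_of_two ht h1 hyx hy hx hy' hx' ▸ hat)
  obtain ⟨x1, ⟨t1, m1⟩, a1, s1, u1⟩ := mk b hb.1 c hc.1 hbc hb.2 hc.2
  obtain ⟨x2, ⟨t2, m2⟩, a2, s2, u2⟩ := mk b hb.1 d hd.1 hbd hb.2 hd.2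
  obtain ⟨x3, ⟨t3, m3⟩, a3, s3, u3⟩ := mk c hc.1 d hd.1 hcd hc.2 hd.2
  have h12 : x1 ≠ x2 := by
    rintro rfl
    exact P.not_mem_line hA hb.1 hc.1 hd.1 hbc hbd.symm hcd.symm
      (P.eq_of_two (P.line_spec hbd).1 (P.line_spec hbc).1 (fun e : x1 = b => s1 (e ▸ hb.1)) m2
        (P.line_spec hbd).2.1 m1 (P.line_spec hbc).2.1 ▸ (P.line_spec hbd).2.2)
  have h13 : x1 ≠ x3 := by
    rintro rfl
    exact P.not_mem_line hA hb.1 hc.1 hd.1 hbc hbd.symm hcd.symm
      (P.eq_of_two (P.line_spec hcd).1 (P.line_spec hbc).1 (fun e : x1 = c => s1 (e ▸ hc.1)) m3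
        (P.line_spec hcd).2.1 m1 (P.line_spec hbc).2.2 ▸ (P.line_spec hcd).2.2)
  have h23 : x2 ≠ x3 := by
    rintro rfl
    exact P.not_mem_line hA hb.1 hd.1 hc.1 hbd hbc.symm hcd
      (P.eq_of_two (P.line_spec hcd).1 (P.line_spec hbd).1 (fun e : x2 = d => s2 (e ▸ hd.1)) m3
        (P.line_spec hcd).2.2 m2 (P.line_spec hbd).2.2 ▸ (P.line_spec hcd).2.1)
  have hfree : ∀ x, x ∈ t ∧ x ∈ ext B S ↔ x ∈ t \ {a, x1, x2, x3} := by
    intro x
    simp only [mem_ext, Finset.mem_sdiff, Finset.mem_insert, Finset.mem_singleton, not_or]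
    constructor
    · rintro ⟨hx, hxS, h⟩
      refine ⟨hx, fun e => hxS (e ▸ ha), ?_, ?_, ?_⟩
      · rintro rfl; exact h b hb.1 c hc.1 hbc m1
      · rintro rfl; exact h b hb.1 d hd.1 hbd m2
      · rintro rfl; exact h c hc.1 d hd.1 hcd m3
    · rintro ⟨hx, hxa, n1, n2, n3⟩
      have hxS : x ∉ S := fun hxS => hxa (htS x hxS hx)
      refine ⟨hx, hxS, fun p hp q hq hpq hxl => ?_⟩
      have hta : ∀ q ∈ S, a ≠ q → x ∉ line B a q := fun q hq haq hxl => by
        have hq' := P.secant_other hxS ha hq haq hxl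
        rw [P.line_eq ht (Ne.symm hxa) hat hx] at hq'
        exact haq (htS q hq hq').symm
      by_cases hpa : p = a
      · subst hpa; exact hta q hq hpq hxl
      by_cases hqa : q = a
      · subst hqa; rw [line_comm] at hxl; exact hta p hp (Ne.symm hpq) hxl
      have hp' : p ∈ S.erase a := Finset.mem_erase.2 ⟨hpa, hp⟩
      have hq' : q ∈ S.erase a := Finset.mem_erase.2 ⟨hqa, hq⟩
      rw [he] at hp' hq'
      simp only [Finset.mem_insert, Finset.mem_singleton] at hp' hq'
      rcases hp' with rfl | rfl | rfl <;> rcases hq' with rfl | rfl | rfl <;>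
        first
          | exact absurd rfl hpq
          | exact n1 (u1 x hx hxl)
          | exact n2 (u2 x hx hxl)
          | exact n3 (u3 x hx hxl)
          | exact n1 (u1 x hx (by rwa [line_comm]))
          | exact n2 (u2 x hx (by rwa [line_comm]))
          | exact n3 (u3 x hx (by rwa [line_comm]))
  have hsub : ({a, x1, x2, x3} : Finset α) ⊆ t := by
    simp [Finset.insert_subset_iff, hat, t1, t2, t3]
  have hc1 : (t \ {a, x1, x2, x3}).card = 1 := by
    rw [Finset.card_sdiff_of_subset hsub, P.steiner.1 t ht,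
      Finset.card_eq_four.2 ⟨a, x1, x2, x3, a1.symm, a2.symm, a3.symm, h12, h13, h23, rfl⟩]
  obtain ⟨x, hx⟩ := Finset.card_eq_one.1 hc1
  refine ⟨x, (hfree x).2 (by rw [hx]; simp), fun y hy => ?_⟩
  have := (hfree y).1 hy
  rwa [hx, Finset.mem_singleton] at this

theorem IsPlane.ext_quad (P : IsPlane B) {S : Finset α} (hS : S.card = 4) (hA : IsArc B S) :
    (ext B S).card = 2 ∧ IsArc B (S ∪ ext B S) := by
  classical
  have tangents : ∀ a ∈ S, ((pencil B a).filter fun t => ∀ b ∈ S, b ∈ t → b = a).card = 2 := by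
    intro a ha
    have h1 : (pencil B a).filter (fun t => ¬ ∀ b ∈ S, b ∈ t → b = a) = (S.erase a).image (line B a) := by
      ext t
      simp only [Finset.mem_filter, mem_pencil, Finset.mem_image, Finset.mem_erase, not_forall, exists_prop]
      constructor
      · rintro ⟨⟨ht, hat⟩, b, hb, hbt, hba⟩
        exact ⟨b, ⟨hba, hb⟩, P.line_eq ht (Ne.symm hba) hat hbt⟩
      · rintro ⟨b, ⟨hba, hb⟩, rfl⟩
        obtain ⟨h1, h2, h3⟩ := P.line_spec (Ne.symm hba)
        exact ⟨⟨h1, h2⟩, b, hb, h3, hba⟩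
    have h2 : Set.InjOn (line B a) (S.erase a : Set α) := by
      intro b hb c hc he
      simp only [Finset.coe_erase, Set.mem_diff, Finset.mem_coe, Set.mem_singleton_iff] at hb hc
      by_contra hbc
      exact P.not_mem_line hA ha hb.1 hc.1 (Ne.symm hb.2) hc.2 (Ne.symm hbc)
        (he ▸ (P.line_spec (Ne.symm hc.2)).2.2)
    have h3 := Finset.card_filter_add_card_filter_not (s := pencil B a) (fun t => ∀ b ∈ S, b ∈ t → b = a)
    rw [h1, Finset.card_image_of_injOn h2, Finset.card_erase_of_mem ha, hS, P.card_pencil] at h3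
    omega
  have key : ∀ a ∈ S, ∀ x ∈ ext B S, line B a x ∈ (pencil B a).filter (fun t => ∀ b ∈ S, b ∈ t → b = a) := by
    intro a ha x hx
    rw [mem_ext] at hx
    have hax : a ≠ x := fun e => hx.1 (e ▸ ha)
    obtain ⟨h1, h2, h3⟩ := P.line_spec hax
    refine Finset.mem_filter.2 ⟨mem_pencil.2 ⟨h1, h2⟩, fun b hb hbl => ?_⟩
    by_contra hba
    exact hx.2 a ha b hb (Ne.symm hba) (by rw [P.line_eq h1 (Ne.symm hba) h2 hbl]; exact h3)
  have hinj : ∀ a ∈ S, Set.InjOn (line B a) (ext B S : Set α) := by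
    intro a ha x hx y hy he
    have h1 := key a ha x hx
    simp only [Finset.mem_filter, mem_pencil] at h1
    have hax : a ≠ x := fun e => (mem_ext.1 hx).1 (e ▸ ha)
    have hay : a ≠ y := fun e => (mem_ext.1 hy).1 (e ▸ ha)
    exact (P.tangent_free hS hA ha h1.1.1 h1.1.2 h1.2).unique ⟨(P.line_spec hax).2.2, hx⟩
      ⟨he ▸ (P.line_spec hay).2.2, hy⟩
  obtain ⟨a0, ha0⟩ : S.Nonempty := Finset.card_pos.1 (by omega)
  have hcard : (ext B S).card = 2 := by
    rw [← tangents a0 ha0, ← Finset.card_image_of_injOn (hinj a0 ha0)]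
    congr 1
    refine Finset.Subset.antisymm (fun t ht => ?_) fun t ht => ?_
    · obtain ⟨x, hx, rfl⟩ := Finset.mem_image.1 ht
      exact key a0 ha0 x hx
    · simp only [Finset.mem_filter, mem_pencil] at ht
      obtain ⟨x, ⟨hxt, hx⟩, -⟩ := P.tangent_free hS hA ha0 ht.1.1 ht.1.2 ht.2
      exact Finset.mem_image.2 ⟨x, hx, P.line_eq ht.1.1 (fun e => (mem_ext.1 hx).1 (e ▸ ha0)) ht.1.2 hxt⟩
  refine ⟨hcard, ?_⟩
  obtain ⟨e, f, hef, hE⟩ := Finset.card_eq_two.1 hcard
  have he : e ∈ ext B S := by rw [hE]; simp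
  have hf : f ∈ ext B S := by rw [hE]; simp
  rw [hE, show S ∪ {e, f} = insert f (insert e S) by ext; simp; tauto]
  have heS := (mem_ext.1 he)
  have hfS := (mem_ext.1 hf)
  rw [P.arc_insert (by simp [hef.symm, hfS.1]), P.arc_insert heS.1]
  refine ⟨⟨hA, heS.2⟩, ?_⟩
  have main : ∀ a ∈ S, f ∉ line B e a := fun a ha hfl => by
    have hae : a ≠ e := fun h => heS.1 (h ▸ ha)
    have haf : a ≠ f := fun h => hfS.1 (h ▸ ha)
    rw [line_comm] at hfl
    obtain ⟨h1, h2, h3⟩ := P.line_spec hae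
    exact hef (hinj a ha he hf (P.line_eq h1 haf h2 hfl).symm)
  intro p hp q hq hpq
  rw [Finset.mem_insert] at hp hq
  rcases hp with rfl | hp <;> rcases hq with rfl | hq
  · exact absurd rfl hpq
  · exact main q hq
  · rw [line_comm]; exact main p hp
  · exact hfS.2 p hp q hq hpq

open Classical in
/-- Arcs of given size. -/
noncomputable def arcs (B : Set (Finset α)) (k : ℕ) : Finset (Finset α) :=
  ((Finset.univ : Finset α).powersetCard k).filter fun S => IsArc B S

theorem mem_arcs {k : ℕ} {S : Finset α} : S ∈ arcs B k ↔ S.card = k ∧ IsArc B S := by simp [arcs]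

theorem IsPlane.step (P : IsPlane B) {k m : ℕ} (h : ∀ S, S.card = k → IsArc B S → (ext B S).card = m) :
    (arcs B k).card * m = (arcs B (k + 1)).card * (k + 1) := by
  classical
  refine Finset.card_mul_eq_card_mul (fun S T => S ⊆ T) (fun S hS => ?_) (fun T hT => ?_)
  · rw [mem_arcs] at hS
    rw [← h S hS.1 hS.2]
    symm
    refine Finset.card_bij (fun x _ => insert x S) (fun x hx => ?_) (fun x hx y hy he => ?_) (fun T hT => ?_)
    · rw [mem_ext] at hx
      refine Finset.mem_filter.2 ⟨mem_arcs.2 ⟨?_, (P.arc_insert hx.1).2 ⟨hS.2, hx.2⟩⟩, Finset.subset_insert _ _⟩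
      rw [Finset.card_insert_of_notMem hx.1, hS.1]
    · have : x ∈ insert y S := he ▸ Finset.mem_insert_self x S
      rcases Finset.mem_insert.1 this with h | h
      · exact h
      · exact absurd h (mem_ext.1 hx).1
    · simp only [Finset.mem_bipartiteAbove, mem_arcs] at hT
      obtain ⟨x, hx, rfl⟩ := (Finset.covBy_iff_exists_insert).1
        (Finset.covBy_iff_card_sdiff_eq_one.2 ⟨hT.2, by rw [Finset.card_sdiff_of_subset hT.2, hT.1.1, hS.1]; omega⟩)
      exact ⟨x, mem_ext.2 ⟨hx, ((P.arc_insert hx).1 hT.1.2).2⟩, rfl⟩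
  · rw [mem_arcs] at hT
    rw [show (arcs B k).bipartiteBelow (fun S T => S ⊆ T) T = T.powersetCard k from ?_, Finset.card_powersetCard,
      hT.1, Nat.choose_succ_self_right]
    ext S
    simp only [Finset.mem_bipartiteBelow, mem_arcs, Finset.mem_powersetCard]
    exact ⟨fun h => ⟨h.2, h.1.1⟩, fun h => ⟨⟨h.2, hT.2.mono h.1⟩, h.1⟩⟩

theorem IsPlane.unique_six (P : IsPlane B) {S : Finset α} (hS : S.card = 4) (hA : IsArc B S) :
    ∃! H : Finset α, (H.card = 6 ∧ IsArc B H) ∧ S ⊆ H := by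
  obtain ⟨hc, harc⟩ := P.ext_quad hS hA
  have hd : Disjoint S (ext B S) := Finset.disjoint_left.2 fun x hx hx' => (mem_ext.1 hx').1 hx
  refine ⟨S ∪ ext B S, ⟨⟨by rw [Finset.card_union_of_disjoint hd, hS, hc], harc⟩, Finset.subset_union_left⟩, ?_⟩
  rintro H ⟨⟨hH, hHa⟩, hSH⟩
  refine Finset.eq_of_subset_of_card_le (fun x hx => ?_) ?_
  · by_cases hxS : x ∈ S
    · exact Finset.mem_union_left _ hxS
    · refine Finset.mem_union_right _ (mem_ext.2 ⟨hxS, ?_⟩)
      exact ((P.arc_insert hxS).1 (hHa.mono (Finset.insert_subset hx hSH))).2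
  · rw [Finset.card_union_of_disjoint hd, hS, hc, hH]

theorem IsPlane.counts (P : IsPlane B) : (arcs B 4).card = 2520 ∧ (arcs B 6).card = 168 := by
  classical
  have h2 : (arcs B 2).card = 210 := by
    have : arcs B 2 = (Finset.univ : Finset α).powersetCard 2 := by
      ext S
      simp only [mem_arcs, Finset.mem_powersetCard, Finset.subset_univ, true_and]
      exact ⟨fun h => h.1, fun h => ⟨h, P.arc_pair h.le⟩⟩
    rw [this, Finset.card_powersetCard, Finset.card_univ, P.card]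
    decide +kernel
  have h3 : (arcs B 2).card * 16 = (arcs B 3).card * 3 := P.step (k := 2) (m := 16) fun S hS _ => P.ext_pair hS
  have h4 : (arcs B 3).card * 9 = (arcs B 4).card * 4 := P.step (k := 3) (m := 9) fun S hS hA => P.ext_triangle hS hA
  have h6 : (arcs B 4).card * 1 = (arcs B 6).card * 15 := by
    refine Finset.card_mul_eq_card_mul (fun S T => S ⊆ T) (fun S hS => ?_) (fun T hT => ?_)
    · rw [mem_arcs] at hS
      obtain ⟨H, hH, hu⟩ := P.unique_six hS.1 hS.2
      refine Finset.card_eq_one.2 ⟨H, Finset.eq_singleton_iff_unique_mem.2 ⟨?_, fun T hT => hu T ?_⟩⟩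
      · exact Finset.mem_filter.2 ⟨mem_arcs.2 hH.1, hH.2⟩
      · simp only [Finset.mem_bipartiteAbove, mem_arcs] at hT; exact hT
    · rw [mem_arcs] at hT
      rw [show (arcs B 4).bipartiteBelow (fun S T => S ⊆ T) T = T.powersetCard 4 from ?_, Finset.card_powersetCard,
        hT.1]
      · decide +kernel
      ext S
      simp only [Finset.mem_bipartiteBelow, mem_arcs, Finset.mem_powersetCard]
      exact ⟨fun h => ⟨h.2, h.1.1⟩, fun h => ⟨⟨h.2, hT.2.mono h.1⟩, h.1⟩⟩
  omega

end CfsgLib.ThreeTransp.PlaneFour
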