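import Cfsg.Agent.Lib.ThreeTransp.TwistF2

/-!
The two standard cocycles and their ranks.
-/

set_option autoImplicit false

namespace CfsgLib.ThreeTransp.TwistF2

open CfsgLib.LocalEven

variable {m : ℕ}

/-- The cocycle with a parameter twisting the first pair. -/
def beta (m : ℕ) (ε : ZMod 2) : LinearMap.BilinForm (ZMod 2) (Pauli.W (m + 1)) :=
  LinearMap.mk₂ _ (fun z w => Pauli.coc z w + ε * (z (.inl 0) * w (.inl 0) + z (.inr 0) * w (.inr 0)))
    (fun a b c => by simp only [Pauli.coc_add_left, Pi.add_apply]; ring)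
    (fun r a b => by simp only [Pauli.coc_smul_left, Pi.smul_apply, smul_eq_mul]; ring)
    (fun a b c => by simp only [Pauli.coc_add_right, Pi.add_apply]; ring)
    (fun r a b => by simp only [Pauli.coc_smul_right, Pi.smul_apply, smul_eq_mul]; ring)

theorem beta_apply (ε : ZMod 2) (z w : Pauli.W (m + 1)) : beta m ε z w =
    Pauli.coc z w + ε * (z (.inl 0) * w (.inl 0) + z (.inr 0) * w (.inr 0)) := rfl

theorem beta_sym (ε : ZMod 2) (z w : Pauli.W (m + 1)) : beta m ε z w + beta m ε w z = Pauli.form z w := by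
  rw [beta_apply, beta_apply, Pauli.form]
  generalize Pauli.coc z w = p; generalize Pauli.coc w z = r; generalize z (.inl 0) = a; generalize w (.inl 0) = b
  generalize z (.inr 0) = c; generalize w (.inr 0) = d
  revert p r a b c d ε; decide

theorem beta_nondeg (ε : ZMod 2) : Nondeg (beta m ε) := fun v h =>
  Pauli.form_nondeg fun w => by rw [← beta_sym ε]; exact h w

/-- The commutation form as a bilinear form. -/
def bform (m : ℕ) : LinearMap.BilinForm (ZMod 2) (Pauli.W (m + 1)) := beta m 0 + (beta m 0).flip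

theorem bform_apply (z w : Pauli.W (m + 1)) : bform m z w = Pauli.form z w := beta_sym 0 z w

theorem bform_nondeg : (bform m).Nondegenerate := by
  have h : (bform m).flip = bform m := by
    ext z w; simp [bform, add_comm]
  refine ⟨fun z hz => Pauli.form_nondeg fun w => by rw [← bform_apply]; exact hz w, fun z hz => ?_⟩
  refine Pauli.form_nondeg fun w => ?_
  rw [← bform_apply, ← h, LinearMap.BilinForm.flip_apply]; exact hz w

theorem finrank_W : Module.finrank (ZMod 2) (Pauli.W (m + 1)) = 2 * (m + 1) := by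
  rw [Module.finrank_fintype_fun_eq_card]; simp; omega

theorem isotropic_le (S T : Submodule (ZMod 2) (Pauli.W (m + 1))) (h : ∀ x ∈ S, ∀ y ∈ T, Pauli.form x y = 0) :
    Module.finrank (ZMod 2) S + Module.finrank (ZMod 2) T ≤ 2 * (m + 1) := by
  haveI : Fact (Nat.Prime 2) := ⟨Nat.prime_two⟩
  have h1 : T ≤ (bform m).orthogonal S := fun y hy x hx => by
    show bform m x y = 0
    rw [bform_apply]; exact h x hx y hy
  have h2 := Submodule.finrank_mono h1
  have h3 := LinearMap.BilinForm.finrank_orthogonal (bform_nondeg (m := m)) S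
  have h4 := Submodule.finrank_le S
  rw [finrank_W] at h3 h4
  omega

theorem plus_le (W : Submodule (ZMod 2) (Pauli.W (m + 1))) (h : ∀ x ∈ W, ∀ y ∈ W, Pauli.form x y = 0) :
    Module.finrank (ZMod 2) W ≤ m + 1 := by
  have := isotropic_le W W h; omega

theorem aniso : ∀ a b : ZMod 2, b * a + 1 * (a * a + b * b) = 0 → a = 0 ∧ b = 0 := by decide

/-- The first half. -/
def emb (m : ℕ) : (Fin (m + 1) → ZMod 2) × ZMod 2 →ₗ[ZMod 2] Pauli.W (m + 1) where
  toFun p := Sum.elim p.1 (Pi.single 0 p.2)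
  map_add' p q := by
    ext (i | i)
    · rfl
    · simp [Pi.single_apply]; split_ifs <;> simp
  map_smul' r p := by
    ext (i | i)
    · rfl
    · simp [Pi.single_apply]

theorem emb_inj : Function.Injective (emb m) := by
  intro p q h
  refine Prod.ext (funext fun i => congrFun h (.inl i)) ?_
  simpa [emb] using congrFun h (.inr 0)

theorem emb_beta (ε : ZMod 2) (p q : (Fin (m + 1) → ZMod 2) × ZMod 2) :
    beta m ε (emb m p) (emb m q) = q.2 * p.1 0 + ε * (p.1 0 * q.1 0 + p.2 * q.2) := by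
  simp [beta_apply, emb, Pauli.coc, Pi.single_apply]

theorem minus_le (W : Submodule (ZMod 2) (Pauli.W (m + 1))) (hq : ∀ x ∈ W, beta m 1 x x = 0)
    (h : ∀ x ∈ W, ∀ y ∈ W, Pauli.form x y = 0) : Module.finrank (ZMod 2) W ≤ m := by
  haveI : Fact (Nat.Prime 2) := ⟨Nat.prime_two⟩
  have h1 := plus_le W h
  by_contra hlt
  have hW : Module.finrank (ZMod 2) W = m + 1 := by omega
  set U := LinearMap.range (emb m) with hUdef
  have hU : Module.finrank (ZMod 2) U = m + 2 := by
    rw [hUdef, LinearMap.finrank_range_of_inj emb_inj, Module.finrank_prod, Module.finrank_fintype_fun_eq_card,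
      Fintype.card_fin, Module.finrank_self]
  have key : ∀ x ∈ W ⊓ U, ∀ y ∈ W ⊔ U, Pauli.form x y = 0 := by
    rintro x ⟨hxW, p, rfl⟩ y hy
    have hp := hq _ hxW
    rw [emb_beta] at hp
    obtain ⟨ha, hb⟩ : p.1 0 = 0 ∧ p.2 = 0 := by
      exact aniso _ _ hp
    obtain ⟨w, hw, u, ⟨q, rfl⟩, rfl⟩ := Submodule.mem_sup.1 hy
    have h2 : Pauli.form (emb m p) (emb m q) = 0 := by
      rw [← beta_sym 0, emb_beta, emb_beta, ha, hb]; simp
    rw [← beta_sym 0, map_add, map_add, LinearMap.add_apply, add_add_add_comm, beta_sym, beta_sym, h _ hxW _ hw, h2,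
      add_zero]
  have h2 := isotropic_le _ _ key
  have h3 := Submodule.finrank_sup_add_finrank_inf_eq W U
  omega

theorem card_sub (W : Submodule (ZMod 2) (Pauli.W (m + 1))) :
    Nat.card W = 2 ^ Module.finrank (ZMod 2) W := by
  haveI : Fact (Nat.Prime 2) := ⟨Nat.prime_two⟩
  rw [Module.natCard_eq_pow_finrank (K := ZMod 2), Nat.card_zmod]

theorem rank_eq {ε : ZMod 2} {d : ℕ} (W0 : Submodule (ZMod 2) (Pauli.W (m + 1)))
    (hq : ∀ x ∈ W0, beta m ε x x = 0) (hd : Module.finrank (ZMod 2) W0 = d)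
    (hbd : ∀ W : Submodule (ZMod 2) (Pauli.W (m + 1)), (∀ x ∈ W, beta m ε x x = 0) →
      (∀ x ∈ W, ∀ y ∈ W, Pauli.form x y = 0) → Module.finrank (ZMod 2) W ≤ d) :
    sSup {k : ℕ | ∃ A : Subgroup (Tw (beta m ε)), Cfsg.IsElementaryAbelian 2 A ∧ Nat.card A = 2 ^ k} = d + 1 := by
  obtain ⟨A, hA, hAc⟩ := exists_elementary W0 hq
  rw [card_sub, hd, ← pow_succ] at hAc
  have hle : ∀ k ∈ {k : ℕ | ∃ A : Subgroup (Tw (beta m ε)), Cfsg.IsElementaryAbelian 2 A ∧ Nat.card A = 2 ^ k},
      k ≤ d + 1 := by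
    rintro k ⟨B, hB, hBc⟩
    obtain ⟨W, h1, h2, h3⟩ := elementary_bound B hB
    rw [hBc, card_sub, ← pow_succ] at h3
    have := hbd W h1 fun x hx y hy => by rw [← beta_sym ε]; exact h2 x hx y hy
    exact le_trans ((Nat.pow_le_pow_iff_right (le_refl 2)).1 h3) (by omega)
  refine le_antisymm (csSup_le ⟨_, A, hA, hAc⟩ hle) (le_csSup ⟨d + 1, hle⟩ ⟨A, hA, hAc⟩)

theorem both_ranks (m : ℕ) (r : ℕ) (hr : r = m + 1 ∨ r = m + 2) :
    ∃ (E : Type) (_ : Group E) (_ : Finite E), Cfsg.IsExtraspecial 2 E ∧ Nat.card E = 2 ^ (2 * (m + 1) + 1) ∧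
      sSup {k : ℕ | ∃ A : Subgroup E, Cfsg.IsElementaryAbelian 2 A ∧ Nat.card A = 2 ^ k} = r := by
  haveI : Fact (Nat.Prime 2) := ⟨Nat.prime_two⟩
  have hcard : ∀ ε, Nat.card (Tw (beta m ε)) = 2 ^ (2 * (m + 1) + 1) := fun ε => by
    rw [card_eq, Module.natCard_eq_pow_finrank (K := ZMod 2), Nat.card_zmod, finrank_W, pow_succ]
  rcases hr with rfl | rfl
  · refine ⟨Tw (beta m 1), inferInstance, inferInstance, extraspecial (beta_nondeg 1), hcard 1, ?_⟩
    let j : (Fin m → ZMod 2) →ₗ[ZMod 2] (Fin (m + 1) → ZMod 2) × ZMod 2 :=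
      { toFun := fun a => (Fin.cons 0 a, 0)
        map_add' := fun a b => by
          refine Prod.ext ?_ (by simp)
          funext i; induction i using Fin.cases <;> simp
        map_smul' := fun a b => by
          refine Prod.ext ?_ (by simp)
          funext i; induction i using Fin.cases <;> simp }
    refine rank_eq (LinearMap.range (emb m ∘ₗ j)) ?_ ?_ fun W h1 h2 => minus_le W h1 h2
    · rintro _ ⟨a, rfl⟩; simp [emb_beta, j]
    · rw [LinearMap.finrank_range_of_inj, Module.finrank_fintype_fun_eq_card, Fintype.card_fin]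
      exact emb_inj.comp fun a b h => Fin.cons_right_injective (α := fun _ => ZMod 2) 0 (congrArg Prod.fst h)
  · refine ⟨Tw (beta m 0), inferInstance, inferInstance, extraspecial (beta_nondeg 0), hcard 0, ?_⟩
    refine rank_eq (LinearMap.range (emb m ∘ₗ LinearMap.inl (ZMod 2) _ _)) ?_ ?_ fun W _ h2 => plus_le W h2
    · rintro _ ⟨a, rfl⟩; simp [emb_beta]
    · rw [LinearMap.finrank_range_of_inj, Module.finrank_fintype_fun_eq_card, Fintype.card_fin]
      exact emb_inj.comp fun a b h => congrArg Prod.fst h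

end CfsgLib.ThreeTransp.TwistF2
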