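import Cfsg.Prelude.Def_Classical
import Cfsg.Prelude.Def_KGroupFacts
import Cfsg.Agent.Lib.ThreeTransp.TwistF2Rank
import Cfsg.Agent.Lib.PGroups.ExtraspecialBasis

/-!
The outer automorphism group of an extraspecial two-group is the full orthogonal group of its
squaring map.
-/

set_option autoImplicit false

namespace CfsgLib.ThreeTransp.OutExtra

open CfsgLib.ThreeTransp.TwistF2

open scoped commutatorElement

variable {V : Type} [AddCommGroup V] [Module (ZMod 2) V] {β : LinearMap.BilinForm (ZMod 2) V}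

theorem split (a : Tw β) : a = ⟨a.v, 0⟩ * ⟨0, a.s⟩ := by
  refine Tw.ext ?_ ?_
  · rw [mul_v, add_zero]
  · rw [mul_s, map_zero, zero_add, add_zero]

theorem aut_zero (hβ : Nondeg β) (φ : MulAut (Tw β)) (s : ZMod 2) : φ ⟨0, s⟩ = ⟨0, s⟩ := by
  rcases z2_cases s with rfl | rfl
  · exact map_one φ
  have hc : φ ⟨0, 1⟩ ∈ Subgroup.center (Tw β) := by
    rw [Subgroup.mem_center_iff]
    intro g
    obtain ⟨h, rfl⟩ := φ.surjective g
    rw [← map_mul, ← map_mul, Subgroup.mem_center_iff.1 ((mem_center hβ _).2 rfl) h]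
  have hv := (mem_center hβ _).1 hc
  refine Tw.ext hv (z2_ne _ fun hs => ?_)
  have h1 : φ ⟨0, 1⟩ = φ 1 := by rw [map_one]; exact Tw.ext hv hs
  exact one_ne_zero (congrArg Tw.s (φ.injective h1))

theorem aut_v (hβ : Nondeg β) (φ : MulAut (Tw β)) (a : Tw β) : (φ a).v = (φ ⟨a.v, 0⟩).v := by
  conv_lhs => rw [split a, map_mul, aut_zero hβ, mul_v, add_zero]

/-- The linear map induced on the quotient by the centre. -/
def toLin (hβ : Nondeg β) (φ : MulAut (Tw β)) : V →ₗ[ZMod 2] V :=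
  AddMonoidHom.toZModLinearMap 2
    { toFun := fun v => (φ ⟨v, 0⟩).v
      map_zero' := by show (φ 1).v = 0; rw [map_one]; rfl
      map_add' := fun v w => by
        show (φ ⟨v + w, 0⟩).v = (φ ⟨v, 0⟩).v + (φ ⟨w, 0⟩).v
        rw [← mul_v, ← map_mul, aut_v hβ φ (⟨v, 0⟩ * ⟨w, 0⟩)]
        rfl }

theorem toLin_apply (hβ : Nondeg β) (φ : MulAut (Tw β)) (v : V) :
    toLin hβ φ v = (φ ⟨v, 0⟩).v := rfl

theorem toLin_mul (hβ : Nondeg β) (φ ψ : MulAut (Tw β)) :
    toLin hβ (φ * ψ) = toLin hβ φ ∘ₗ toLin hβ ψ := by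
  refine LinearMap.ext fun v => ?_
  show (φ (ψ ⟨v, 0⟩)).v = _
  rw [aut_v hβ φ]
  rfl

theorem toLin_one (hβ : Nondeg β) : toLin hβ (1 : MulAut (Tw β)) = LinearMap.id := rfl

theorem toLin_q (hβ : Nondeg β) (φ : MulAut (Tw β)) (v : V) :
    β (toLin hβ φ v) (toLin hβ φ v) = β v v := by
  have h : φ ((⟨v, 0⟩ : Tw β) ^ 2) = (φ ⟨v, 0⟩) ^ 2 := map_pow φ _ 2
  rw [sq_eq, sq_eq, aut_zero hβ] at h
  exact (congrArg Tw.s h).symm

theorem eq_of_add_zero : ∀ p q : ZMod 2, p + q = 0 → p = q := by decide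

/-- A bilinear form vanishing on the diagonal is a sum of a form and its opposite. -/
theorem exists_half [Finite V] (B : LinearMap.BilinForm (ZMod 2) V) (hB : ∀ v, B v v = 0) :
    ∃ C : LinearMap.BilinForm (ZMod 2) V, ∀ v w, C v w + C w v = B v w := by
  classical
  haveI : Fact (Nat.Prime 2) := ⟨Nat.prime_two⟩
  have hsymm : ∀ v w, B v w = B w v := by
    intro v w
    have h := hB (v + w)
    simp only [map_add, LinearMap.add_apply, hB, zero_add, add_zero] at h
    rw [add_comm] at h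
    exact eq_of_add_zero _ _ h
  haveI : Module.Finite (ZMod 2) V := Module.Finite.of_finite
  let b := Module.finBasis (ZMod 2) V
  let C : LinearMap.BilinForm (ZMod 2) V :=
    Matrix.toBilin b (Matrix.of fun i j => if i < j then B (b i) (b j) else 0)
  refine ⟨C, fun v w => ?_⟩
  have key : C + C.flip = B := by
    refine LinearMap.BilinForm.ext_basis b fun i j => ?_
    have hC : ∀ k l, C (b k) (b l) = if k < l then B (b k) (b l) else 0 := fun k l => by
      have h := BilinForm.toMatrix_apply b C k l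
      simp only [C] at h
      rw [show (Matrix.toBilin b) = (LinearMap.BilinForm.toMatrix b).symm from rfl,
        LinearEquiv.apply_symm_apply, Matrix.of_apply] at h
      simp only [C]
      exact h.symm
    simp only [LinearMap.add_apply, LinearMap.BilinForm.flip_apply, hC]
    rcases lt_trichotomy i j with h | rfl | h
    · rw [if_pos h, if_neg (not_lt.2 h.le), add_zero]
    · rw [if_neg (lt_irrefl _), add_zero, hB]
    · rw [if_neg (not_lt.2 h.le), if_pos h, zero_add, hsymm]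
  rw [← key]
  rfl

theorem exists_aut [Finite V] (g : V ≃ₗ[ZMod 2] V) (hg : ∀ v, β (g v) (g v) = β v v) :
    ∃ φ : MulAut (Tw β), ∀ a, (φ a).v = g a.v := by
  let B : LinearMap.BilinForm (ZMod 2) V :=
    LinearMap.mk₂ _ (fun v w => β (g v) (g w) + β v w)
      (fun a b c => by simp only [map_add, LinearMap.add_apply]; ring)
      (fun r a b => by simp only [map_smul, LinearMap.smul_apply, smul_eq_mul]; ring)
      (fun a b c => by simp only [map_add]; ring)
      (fun r a b => by simp only [map_smul, smul_eq_mul]; ring)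
  obtain ⟨C, hC⟩ := exists_half B fun v => by
    show β (g v) (g v) + β v v = 0
    rw [hg, two_zero]
  refine ⟨{ toFun := fun a => ⟨g a.v, a.s + C a.v a.v⟩
            invFun := fun a => ⟨g.symm a.v, a.s + C (g.symm a.v) (g.symm a.v)⟩
            left_inv := fun a => Tw.ext (g.symm_apply_apply _) (by
              show a.s + C a.v a.v + C (g.symm (g a.v)) (g.symm (g a.v)) = a.s
              rw [g.symm_apply_apply, add_assoc, two_zero, add_zero])
            right_inv := fun a => Tw.ext (g.apply_symm_apply _) (by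
              show a.s + C (g.symm a.v) (g.symm a.v) + C (g.symm a.v) (g.symm a.v) = a.s
              rw [add_assoc, two_zero, add_zero])
            map_mul' := fun a b => Tw.ext ?_ ?_ }, fun a => rfl⟩
  · show g (a * b).v = g a.v + g b.v
    rw [mul_v, map_add]
  · show (a * b).s + C (a * b).v (a * b).v
      = a.s + C a.v a.v + (b.s + C b.v b.v) + β (g a.v) (g b.v)
    rw [mul_v, mul_s]
    have h := hC a.v b.v
    rw [LinearMap.mk₂_apply] at h
    simp only [map_add, LinearMap.add_apply]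
    revert h
    generalize C a.v b.v = p; generalize C b.v a.v = r; generalize β a.v b.v = u
    generalize β (g a.v) (g b.v) = w; generalize C a.v a.v = x; generalize C b.v b.v = y
    generalize a.s = s; generalize b.s = t
    revert p r u w x y s t; decide

theorem inner_of_trivial [Finite V] (hβ : Nondeg β) (φ : MulAut (Tw β))
    (h : toLin hβ φ = LinearMap.id) : φ ∈ Cfsg.Inn (Tw β) := by
  haveI : Fact (Nat.Prime 2) := ⟨Nat.prime_two⟩
  haveI : Module.Finite (ZMod 2) V := Module.Finite.of_finite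
  have hv : ∀ v, (φ ⟨v, 0⟩).v = v := fun v => LinearMap.congr_fun h v
  have hadd : ∀ v w, (φ ⟨v + w, 0⟩).s = (φ ⟨v, 0⟩).s + (φ ⟨w, 0⟩).s := by
    intro v w
    have h1 : φ (⟨v, 0⟩ * ⟨w, 0⟩) = φ ⟨v, 0⟩ * φ ⟨w, 0⟩ := map_mul φ _ _
    rw [show (⟨v, 0⟩ : Tw β) * ⟨w, 0⟩ = ⟨v + w, 0⟩ * ⟨0, β v w⟩ by
      refine Tw.ext ?_ ?_ <;> simp [mul_v, mul_s], map_mul, aut_zero hβ] at h1
    have h2 := congrArg Tw.s h1
    simp only [mul_s, mul_v, map_zero, hv, add_zero, zero_add] at h2
    exact add_right_cancel h2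
  let lam : Module.Dual (ZMod 2) V := AddMonoidHom.toZModLinearMap 2
    (AddMonoidHom.mk' (fun v => (φ ⟨v, 0⟩).s) hadd)
  let P : V →ₗ[ZMod 2] Module.Dual (ZMod 2) V := β + β.flip
  have hP : Function.Injective P := by
    rw [← LinearMap.ker_eq_bot, Submodule.eq_bot_iff]
    exact fun a ha => hβ a fun w => LinearMap.congr_fun (LinearMap.mem_ker.1 ha) w
  obtain ⟨a, ha⟩ := (LinearMap.injective_iff_surjective_of_finrank_eq_finrank
    (Subspace.dual_finrank_eq).symm).1 hP lam
  refine ⟨⟨a, 0⟩, MulEquiv.ext fun b => ?_⟩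
  have hlam : β a b.v + β b.v a = (φ ⟨b.v, 0⟩).s := LinearMap.congr_fun ha b.v
  show (⟨a, 0⟩ : Tw β) * b * (⟨a, 0⟩ : Tw β)⁻¹ = φ b
  rw [show (⟨a, 0⟩ : Tw β) * b * (⟨a, 0⟩ : Tw β)⁻¹ = ⁅(⟨a, 0⟩ : Tw β), b⁆ * b by
    rw [commutatorElement_def]; group, comm_val]
  conv_rhs => rw [split b, map_mul, aut_zero hβ]
  refine Tw.ext ?_ ?_
  · rw [mul_v, mul_v, zero_add, add_zero, hv]
  · rw [mul_s, mul_s, map_zero, LinearMap.zero_apply, add_zero, map_zero, add_zero, hlam]

theorem out_model [Finite V] (hβ : Nondeg β) {ι : Type} [Fintype ι] [DecidableEq ι]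
    (e : V ≃ₗ[ZMod 2] (ι → ZMod 2)) (Q : (ι → ZMod 2) → ZMod 2) (hQ : ∀ v, Q (e v) = β v v) :
    Nonempty (Cfsg.Out (Tw β) ≃* Cfsg.isometryGroup (ZMod 2) Q) := by
  let M : MulAut (Tw β) →* Matrix ι ι (ZMod 2) :=
    { toFun := fun φ => LinearMap.toMatrix' (e.toLinearMap ∘ₗ toLin hβ φ ∘ₗ e.symm.toLinearMap)
      map_one' := by
        rw [toLin_one, LinearMap.id_comp, ← LinearEquiv.coe_trans, LinearEquiv.symm_trans_self]
        exact LinearMap.toMatrix'_id
      map_mul' := fun φ ψ => by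
        rw [← LinearMap.toMatrix'_comp, toLin_mul]
        congr 1
        refine LinearMap.ext fun u => ?_
        simp }
  have hact : ∀ φ u, ((M.toHomUnits φ : GL ι (ZMod 2)) : Matrix ι ι (ZMod 2)).mulVec u
      = e (toLin hβ φ (e.symm u)) := fun φ u =>
    LinearMap.toMatrix'_mulVec _ _
  have hmem : ∀ φ, M.toHomUnits φ ∈ Cfsg.isometryGroup (ZMod 2) Q := fun φ u _ => by
    show Q (((M.toHomUnits φ : GL ι (ZMod 2)) : Matrix ι ι (ZMod 2)).mulVec u) = Q u
    rw [hact, hQ, toLin_q, ← hQ, e.apply_symm_apply]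
  let Φ : MulAut (Tw β) →* Cfsg.isometryGroup (ZMod 2) Q := M.toHomUnits.codRestrict _ hmem
  have hsurj : Function.Surjective Φ := by
    intro g
    let T : (ι → ZMod 2) ≃ₗ[ZMod 2] (ι → ZMod 2) :=
      LinearEquiv.ofBijective (Matrix.toLin' (g.1 : Matrix ι ι (ZMod 2))) (by
        rw [← Module.End.isUnit_iff]
        exact (g.1.isUnit.map Matrix.toLinAlgEquiv'))
    have hT : ∀ u, T u = (g.1 : Matrix ι ι (ZMod 2)).mulVec u := fun u => rfl
    obtain ⟨φ, hφ⟩ := exists_aut (β := β) (e.trans (T.trans e.symm)) fun v => by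
      have hh : (e.trans (T.trans e.symm)) v = e.symm (T (e v)) := rfl
      rw [hh, ← hQ, e.apply_symm_apply, hT, ← hQ v]
      exact g.2 (e v) (e v)
    refine ⟨φ, Subtype.ext (Units.ext (Matrix.toLin'.injective (LinearMap.ext fun u => ?_)))⟩
    show ((M.toHomUnits φ : GL ι (ZMod 2)) : Matrix ι ι (ZMod 2)).mulVec u = _
    rw [hact, toLin_apply, hφ]
    show e (e.symm (T (e (e.symm u)))) = _
    rw [e.apply_symm_apply, e.apply_symm_apply]
    exact hT u
  have hker : Φ.ker = Cfsg.Inn (Tw β) := by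
    refine le_antisymm (fun φ hφ => inner_of_trivial hβ φ (LinearMap.ext fun v => ?_)) ?_
    · have h := hact φ (e v)
      rw [show M.toHomUnits φ = 1 from congrArg Subtype.val (MonoidHom.mem_ker.1 hφ), Units.val_one,
        Matrix.one_mulVec, e.symm_apply_apply] at h
      exact (e.injective h).symm
    · rintro _ ⟨a, rfl⟩
      refine MonoidHom.mem_ker.2 (Subtype.ext (Units.ext (Matrix.toLin'.injective
        (LinearMap.ext fun u => ?_))))
      show ((M.toHomUnits (MulAut.conj a) : GL ι (ZMod 2)) : Matrix ι ι (ZMod 2)).mulVec u = _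
      rw [hact, toLin_apply]
      show e ((a * ⟨e.symm u, 0⟩ * a⁻¹).v) = _
      rw [mul_v, mul_v, show (a⁻¹).v = a.v from rfl, add_comm a.v, add_assoc, vec_two, add_zero,
        e.apply_symm_apply]
      simp
  exact ⟨(QuotientGroup.quotientMulEquivOfEq hker.symm).trans
    (QuotientGroup.quotientKerEquivOfSurjective Φ hsurj)⟩

theorem out_congr {E E' : Type*} [Group E] [Group E'] (e : E ≃* E') :
    Nonempty (Cfsg.Out E ≃* Cfsg.Out E') := by
  refine ⟨QuotientGroup.congr _ _ (MulAut.congr e) ?_⟩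
  ext φ
  constructor
  · rintro ⟨_, ⟨a, rfl⟩, rfl⟩
    exact ⟨e a, MulEquiv.ext fun x => by simp⟩
  · rintro ⟨a, rfl⟩
    exact ⟨MulAut.conj (e.symm a), ⟨_, rfl⟩, MulEquiv.ext fun x => by simp⟩

theorem hasMax_iff {G : Type*} [Group G] [Finite G] (hG : IsPGroup 2 G) (n : ℕ) :
    CfsgLib.PGroups.HasMaxElem G n ↔
      ∃ A : Subgroup G, Cfsg.IsElementaryAbelian 2 A ∧ Nat.card A = 2 ^ (n + 1) := by
  haveI : Fact (Nat.Prime 2) := ⟨Nat.prime_two⟩
  constructor
  · rintro ⟨A, hA, h2, hc⟩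
    obtain ⟨k, hk⟩ := (hG.to_subgroup A).exists_card_eq
    rw [hk, Nat.pow_le_pow_iff_right (le_refl 2)] at hc
    obtain ⟨B, hB, -⟩ := Sylow.exists_subgroup_card_pow_prime_le 2 (G := A) (m := n + 1)
      (by rw [hk]; exact pow_dvd_pow 2 hc) ⊥ (n := 0) (by simp) (Nat.zero_le _)
    refine ⟨B.map A.subtype, ⟨⟨⟨fun a b => ?_⟩⟩, fun a ha => ?_⟩, ?_⟩
    · obtain ⟨⟨x, -, hx⟩, ⟨y, -, hy⟩⟩ := And.intro a.2 b.2
      refine Subtype.ext ?_
      show (a : G) * b = b * a
      rw [← hx, ← hy, ← map_mul, ← map_mul, hA.is_comm.comm]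
    · obtain ⟨x, -, rfl⟩ := ha
      exact h2 x x.2
    · rw [Subgroup.card_map_of_injective A.subtype_injective]
      exact hB
  · rintro ⟨A, hA, hc⟩
    exact ⟨A, hA.1, fun a ha => hA.2 a ha, hc.ge⟩

theorem model_card (m : ℕ) (ε : ZMod 2) : Nat.card (Tw (beta m ε)) = 2 ^ (2 * (m + 1) + 1) := by
  haveI : Fact (Nat.Prime 2) := ⟨Nat.prime_two⟩
  rw [card_eq, Module.natCard_eq_pow_finrank (K := ZMod 2), Nat.card_zmod, finrank_W, pow_succ]

theorem model_plus (m : ℕ) : CfsgLib.PGroups.HasMaxElem (Tw (beta m 0)) (m + 1) := by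
  haveI : Fact (Nat.Prime 2) := ⟨Nat.prime_two⟩
  obtain ⟨A, hA, hc⟩ := exists_elementary (β := beta m 0)
    (LinearMap.range (emb m ∘ₗ LinearMap.inl (ZMod 2) _ _))
    (by rintro _ ⟨a, rfl⟩; simp [emb_beta])
  refine ⟨A, hA.1, fun a ha => hA.2 a ha, ?_⟩
  rw [hc, card_sub, LinearMap.finrank_range_of_inj (f := emb m ∘ₗ LinearMap.inl (ZMod 2) _ _)
      (emb_inj.comp LinearMap.inl_injective),
    Module.finrank_fintype_fun_eq_card, Fintype.card_fin, pow_succ]

theorem model_minus (m : ℕ) : ¬ CfsgLib.PGroups.HasMaxElem (Tw (beta m 1)) (m + 1) := by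
  rintro ⟨A, hA, h2, hc⟩
  obtain ⟨W, h1, h2', h3⟩ := elementary_bound A ⟨hA, h2⟩
  have hb := minus_le W h1 fun x hx y hy => by rw [← beta_sym (1 : ZMod 2)]; exact h2' x hx y hy
  rw [card_sub, ← pow_succ] at h3
  have := (Nat.pow_le_pow_iff_right (le_refl 2)).1 (hc.trans h3)
  omega

theorem iso_model {E : Type*} [Group E] [Finite E] (hE : Cfsg.IsExtraspecial 2 E) {m : ℕ}
    (hcard : Nat.card E = 2 ^ (2 * (m + 1) + 1)) (ε : ZMod 2)
    (hiff : CfsgLib.PGroups.HasMaxElem E (m + 1) ↔ ε = 0) : Nonempty (E ≃* Tw (beta m ε)) := by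
  haveI : Fact (Nat.Prime 2) := ⟨Nat.prime_two⟩
  obtain ⟨z, k, -, S⟩ := CfsgLib.PGroups.exists_isSympGroup hE
  obtain ⟨z', k', -, S'⟩ := CfsgLib.PGroups.exists_isSympGroup (extraspecial (beta_nondeg (m := m) ε))
  have hk : k = m + 1 := by
    have := Nat.pow_right_injective (le_refl 2) (S.card_eq.symm.trans hcard); omega
  have hk' : k' = m + 1 := by
    have := Nat.pow_right_injective (le_refl 2) (S'.card_eq.symm.trans (model_card m ε)); omega
  subst hk hk'
  rcases z2_cases ε with rfl | rfl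
  · obtain ⟨a, b, B⟩ := (S.classify.1 (hiff.2 rfl)).1
    obtain ⟨a', b', B'⟩ := (S'.classify.1 (model_plus m)).1
    exact CfsgLib.PGroups.nonempty_mulEquiv_of_basis S S' B B'
  · obtain ⟨a, b, B⟩ := (S.classify.2 fun h => one_ne_zero (hiff.1 h)).2.1
    obtain ⟨a', b', B'⟩ := (S'.classify.2 (model_minus m)).2.1
    exact CfsgLib.PGroups.nonempty_mulEquiv_of_basis S S' B B'

theorem out_extraspecial {E : Type*} [Group E] [Finite E] (hE : Cfsg.IsExtraspecial 2 E) (n : ℕ)
    (hn : 1 ≤ n) (hcard : Nat.card E = 2 ^ (2 * n + 1)) :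
    ((∃ A : Subgroup E, Cfsg.IsElementaryAbelian 2 A ∧ Nat.card ↥A = 2 ^ (n + 1)) →
      Nonempty (Cfsg.Out E ≃* Cfsg.isometryGroup (ZMod 2) (Cfsg.quadFormPlus n (ZMod 2)))) ∧
    ((¬ ∃ A : Subgroup E, Cfsg.IsElementaryAbelian 2 A ∧ Nat.card ↥A = 2 ^ (n + 1)) →
      Nonempty (Cfsg.Out E ≃*
        Cfsg.isometryGroup (ZMod 2) (Cfsg.quadFormMinus (n - 1) (ZMod 2) 1 1))) := by
  obtain ⟨m, rfl⟩ : ∃ m, n = m + 1 := ⟨n - 1, by omega⟩
  have hP : IsPGroup 2 E := hE.1.1
  constructor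
  · intro h
    obtain ⟨e⟩ := iso_model hE hcard 0 (iff_of_true ((hasMax_iff hP _).2 h) rfl)
    obtain ⟨e1⟩ := out_congr e
    obtain ⟨e2⟩ := out_model (beta_nondeg (m := m) 0) (LinearEquiv.refl _ _)
      (Cfsg.quadFormPlus (m + 1) (ZMod 2)) fun v => by
      simp [Cfsg.quadFormPlus, beta_apply, CfsgLib.LocalEven.Pauli.coc, mul_comm]
    exact ⟨e1.trans e2⟩
  · intro h
    obtain ⟨e⟩ := iso_model hE hcard 1
      (iff_of_false (fun h' => h ((hasMax_iff hP _).1 h')) one_ne_zero)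
    obtain ⟨e1⟩ := out_congr e
    let f : CfsgLib.LocalEven.Pauli.W (m + 1) ≃ₗ[ZMod 2]
        ((Fin m ⊕ Fin m) ⊕ Fin 2 → ZMod 2) :=
      { toFun := fun v => Sum.elim (Sum.elim (fun i => v (.inl i.succ)) fun i => v (.inr i.succ))
          ![v (.inl 0), v (.inr 0)]
        map_add' := fun v w => by
          funext s
          rcases s with (i | i) | i
          · rfl
          · rfl
          · fin_cases i <;> rfl
        map_smul' := fun r v => by
          funext s
          rcases s with (i | i) | i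
          · rfl
          · rfl
          · fin_cases i <;> rfl
        invFun := fun u => Sum.elim (Fin.cons (u (.inr 0)) fun i => u (.inl (.inl i)))
          (Fin.cons (u (.inr 1)) fun i => u (.inl (.inr i)))
        left_inv := fun v => by
          funext s
          rcases s with i | i <;> induction i using Fin.cases <;> rfl
        right_inv := fun u => by
          funext s
          rcases s with (i | i) | i
          · rfl
          · rfl
          · fin_cases i <;> rfl }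
    obtain ⟨e2⟩ := out_model (beta_nondeg (m := m) 1) f
      (Cfsg.quadFormMinus m (ZMod 2) 1 1) fun v => by
      show Cfsg.quadFormMinus m (ZMod 2) 1 1 (f v) = _
      simp only [Cfsg.quadFormMinus, beta_apply, CfsgLib.LocalEven.Pauli.coc, Fin.sum_univ_succ,
        f, LinearEquiv.coe_mk, LinearMap.coe_mk, AddHom.coe_mk, Sum.elim_inl, Sum.elim_inr,
        Matrix.cons_val_zero, Matrix.cons_val_one]
      rw [show ∑ i : Fin m, v (.inr i.succ) * v (.inl i.succ)
        = ∑ i : Fin m, v (.inl i.succ) * v (.inr i.succ) from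
          Finset.sum_congr rfl fun i _ => mul_comm _ _]
      ring
    simpa using (⟨e1.trans e2⟩ : Nonempty _)

end CfsgLib.ThreeTransp.OutExtra
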