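import Mathlib
import Cfsg.Prelude.Def_Spor_Conway

/-!
Reduction of Co₀ modulo an odd prime and the resulting 23-dimensional representation of Co₂.
-/

set_option autoImplicit false

namespace CfsgLib.ThreeTransp.CoReduce

open Cfsg

instance : Fact (Nat.Prime 13) := ⟨by norm_num⟩

abbrev V13 : Type := GolayPt → ZMod 13

theorem single_mem (i : GolayPt) : (Pi.single i 8 : GolayPt → ℤ) ∈ leechLattice := by
  refine AddSubgroup.subset_closure (Spor.mem_leechSet_of_const_mod_four _ 0 0 (by decide) ?_ ?_)
  · intro j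
    by_cases h : j = i
    · subst h; simp [Int.ModEq]
    · simp [Pi.single_eq_of_ne h, Int.ModEq]
  · rw [Finset.sum_pi_single']
    simp [Int.ModEq]

/-- The lattice vector `8 eᵢ`. -/
def bigE (i : GolayPt) : leechLattice := ⟨Pi.single i 8, single_mem i⟩

/-- Reduction modulo 13. -/
def red : leechLattice →+ V13 where
  toFun v := fun j => ((v : GolayPt → ℤ) j : ZMod 13)
  map_zero' := by ext j; simp
  map_add' v w := by ext j; simp

theorem eight_smul (v : leechLattice) :
    (8 : ℤ) • v = ∑ i, ((v : GolayPt → ℤ) i) • bigE i := by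
  apply Subtype.ext
  rw [AddSubgroup.val_finsetSum]
  ext j
  simp only [AddSubgroup.coe_zsmul, Pi.smul_apply, smul_eq_mul, Finset.sum_apply, bigE]
  rw [Finset.sum_eq_single j]
  · simp [mul_comm]
  · intro b _ hb; simp [Pi.single_eq_of_ne (Ne.symm hb)]
  · intro h; exact absurd (Finset.mem_univ j) h

/-- A member of Co₀ as an additive map. -/
def asHom (f : Equiv.Perm leechLattice) (hf : f ∈ Co0) : leechLattice →+ leechLattice :=
  AddMonoidHom.mk' f hf.1

theorem dot_preserved {f : Equiv.Perm leechLattice} (hf : f ∈ Co0) (v w : leechLattice) :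
    ∑ j, ((f v : leechLattice) : GolayPt → ℤ) j * ((f w : leechLattice) : GolayPt → ℤ) j =
      ∑ j, (v : GolayPt → ℤ) j * (w : GolayPt → ℤ) j := by
  have h1 := hf.2 (v + w)
  rw [hf.1] at h1
  have h2 := hf.2 v
  have h3 := hf.2 w
  simp only [sqNorm, AddSubgroup.coe_add, Pi.add_apply, add_sq, Finset.sum_add_distrib] at h1 h2 h3
  simp only [mul_assoc, ← Finset.mul_sum] at h1
  linarith

/-- The linear map of `V13` induced by `f`. -/
noncomputable def redMap (f : Equiv.Perm leechLattice) : V13 →ₗ[ZMod 13] V13 :=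
  Fintype.linearCombination (ZMod 13) fun i => ((8 : ZMod 13)⁻¹) • red (f (bigE i))

theorem redMap_red {f : Equiv.Perm leechLattice} (hf : f ∈ Co0) (v : leechLattice) :
    redMap f (red v) = red (f v) := by
  have h8 : (8 : ZMod 13) ≠ 0 := by decide
  have key : (8 : ℤ) • red (f v) = ∑ i, ((v : GolayPt → ℤ) i) • red (f (bigE i)) := by
    have h := congrArg (fun x => red (asHom f hf x)) (eight_smul v)
    simp only [map_zsmul, map_sum] at h
    exact h
  have key' : red (f v) = (8 : ZMod 13)⁻¹ • ∑ i, ((v : GolayPt → ℤ) i) • red (f (bigE i)) := by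
    rw [← key, ← Int.cast_smul_eq_zsmul (ZMod 13), smul_smul]
    have : ((8 : ℤ) : ZMod 13) = 8 := by norm_num
    rw [this, inv_mul_cancel₀ h8, one_smul]
  rw [key', Finset.smul_sum, redMap, Fintype.linearCombination_apply]
  refine Finset.sum_congr rfl fun i _ => ?_
  rw [← Int.cast_smul_eq_zsmul (ZMod 13) ((v : GolayPt → ℤ) i), smul_comm]
  rfl

theorem red_bigE (i : GolayPt) : red (bigE i) = (8 : ZMod 13) • (Pi.single i 1 : V13) := by
  ext j
  by_cases h : j = i
  · subst h; simp [red, bigE]
  · simp [red, bigE, Pi.single_eq_of_ne h]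

theorem redMap_single (f : Equiv.Perm leechLattice) (i : GolayPt) :
    redMap f (Pi.single i 1) = ((8 : ZMod 13)⁻¹) • red (f (bigE i)) := by
  rw [redMap, Fintype.linearCombination_apply_single, one_smul]

theorem redMap_mul {f g : Equiv.Perm leechLattice} (hf : f ∈ Co0) :
    redMap (f * g) = redMap f * redMap g := by
  apply LinearMap.pi_ext'
  intro i
  apply LinearMap.ext_ring
  simp only [LinearMap.coe_comp, Function.comp_apply, LinearMap.coe_single, Module.End.mul_apply,
    redMap_single, map_smul, redMap_red hf]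
  rfl

theorem redMap_one : redMap 1 = 1 := by
  apply LinearMap.pi_ext'
  intro i
  apply LinearMap.ext_ring
  simp only [LinearMap.coe_comp, Function.comp_apply, LinearMap.coe_single, Module.End.one_apply,
    redMap_single, Equiv.Perm.coe_one, id_eq, red_bigE, smul_smul]
  rw [inv_mul_cancel₀ (by decide : (8 : ZMod 13) ≠ 0), one_smul]

theorem eq_one_of_fixes {f : Equiv.Perm leechLattice} (hf : f ∈ Co0)
    (h : ∀ i, f (bigE i) = bigE i) : f = 1 := by
  ext v j
  have h1 := congrArg (asHom f hf) (eight_smul v)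
  rw [map_zsmul, map_sum] at h1
  simp only [map_zsmul, asHom, AddMonoidHom.mk'_apply, h, ← eight_smul] at h1
  have h2 := congrArg (fun x : leechLattice => (x : GolayPt → ℤ) j) h1
  simp only [AddSubgroup.coe_zsmul, Pi.smul_apply, smul_eq_mul] at h2
  simp only [Equiv.Perm.coe_one, id_eq]
  omega

theorem abs_le_eight {f : Equiv.Perm leechLattice} (hf : f ∈ Co0) (i j : GolayPt) :
    ((f (bigE i) : leechLattice) : GolayPt → ℤ) j ^ 2 ≤ 64 := by
  have h := hf.2 (bigE i)
  unfold sqNorm at h
  have h' : ∑ k, ((bigE i : leechLattice) : GolayPt → ℤ) k ^ 2 = 64 := by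
    simp [bigE, Finset.sum_eq_single i, Pi.single_apply, ite_pow]
  rw [h'] at h
  rw [← h]
  exact Finset.single_le_sum (f := fun k => ((f (bigE i) : leechLattice) : GolayPt → ℤ) k ^ 2)
    (fun k _ => sq_nonneg _) (Finset.mem_univ j)

/-- The two support positions of `vecU`. -/
def uSupp : Finset GolayPt := {none, some 0}

/-- The span of the reduced fixed vector. -/
noncomputable def uLine : Submodule (ZMod 13) V13 :=
  Submodule.span (ZMod 13) {red Spor.leechU}

theorem mem_co0 {f : Equiv.Perm leechLattice} (hf : f ∈ Spor.Co2) : f ∈ Co0 := hf.1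

theorem fix_u {f : Equiv.Perm leechLattice} (hf : f ∈ Spor.Co2) : f Spor.leechU = Spor.leechU :=
  hf.2

theorem uLine_stable {f : Equiv.Perm leechLattice} (hf : f ∈ Spor.Co2) :
    uLine ≤ uLine.comap (redMap f) := by
  rw [uLine, Submodule.span_le, Set.singleton_subset_iff, SetLike.mem_coe, Submodule.mem_comap,
    redMap_red (mem_co0 hf), fix_u hf]
  exact Submodule.subset_span rfl

theorem eq_one_of_trivial {f : Equiv.Perm leechLattice} (hf : f ∈ Spor.Co2)
    (h : ∀ x, redMap f x - x ∈ uLine) : f = 1 := by
  have hf0 := mem_co0 hf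
  refine eq_one_of_fixes hf0 fun i => ?_
  set w : GolayPt → ℤ := ((f (bigE i) : leechLattice) : GolayPt → ℤ) with hw
  obtain ⟨c, hc⟩ := Submodule.mem_span_singleton.1 (h (red (bigE i)))
  rw [redMap_red hf0] at hc
  have hcoord : ∀ j, (w j : ZMod 13) - ((Pi.single i 8 : GolayPt → ℤ) j : ZMod 13)
      = c * ((Spor.vecU j : ℤ) : ZMod 13) := fun j => by
    have := congrFun hc j
    simpa [red, bigE, Spor.leechU, hw] using this.symm
  have hb : ∀ j, -8 ≤ w j ∧ w j ≤ 8 := fun j => by
    have := abs_le_eight hf0 i j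
    constructor <;> nlinarith
  have hsum : ∑ j, w j ^ 2 = 64 := by
    have h' := hf0.2 (bigE i)
    unfold sqNorm at h'
    rw [hw, h']
    simp [bigE, Finset.sum_eq_single i, Pi.single_apply, ite_pow]
  have hdot : 4 * w none + 4 * w (some 0) = ∑ j, Spor.vecU j * (Pi.single i 8 : GolayPt → ℤ) j := by
    have h' := dot_preserved hf0 Spor.leechU (bigE i)
    rw [fix_u hf] at h'
    change ∑ j, Spor.vecU j * w j = ∑ j, Spor.vecU j * (Pi.single i 8 : GolayPt → ℤ) j at h'
    rw [← h', Finset.sum_eq_add (a := none) (b := some 0) (by simp)]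
    · simp [Spor.vecU]
    · intro k _ hk; simp [Spor.vecU, hk.1, hk.2]
    · simp
    · simp
  have hfull : ∀ j, w j = (Pi.single i 8 : GolayPt → ℤ) j := by
    have hout : ∀ j, j ≠ none → j ≠ some 0 → j ≠ i → w j = 0 := by
      intro j h1 h2 h3
      have := hcoord j
      simp [Spor.vecU, h1, h2, Pi.single_eq_of_ne h3] at this
      have hd : (13 : ℤ) ∣ w j := (ZMod.intCast_zmod_eq_zero_iff_dvd _ 13).1 this
      have := hb j; omega
    have hn := hcoord none
    have h0 := hcoord (some 0)
    simp [Spor.vecU] at hn h0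
    have heq : ((w none : ℤ) : ZMod 13) - ((Pi.single i 8 : GolayPt → ℤ) none : ZMod 13) =
        ((w (some 0) : ℤ) : ZMod 13) - ((Pi.single i 8 : GolayPt → ℤ) (some 0) : ZMod 13) := by
      rw [hn, h0]
    rw [← Int.cast_sub, ← Int.cast_sub, ZMod.intCast_eq_intCast_iff_dvd_sub] at heq
    have hd : ∑ j, Spor.vecU j * (Pi.single i 8 : GolayPt → ℤ) j = 8 * Spor.vecU i := by
      simp [Pi.single_apply, mul_comm]
    rw [hd] at hdot
    have hbn := hb none
    have hb0 := hb (some 0)
    push_cast at heq
    by_cases hi1 : i = none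
    · subst hi1
      simp [Spor.vecU] at hdot heq
      have h1 : w none = 8 ∧ w (some 0) = 0 := by omega
      intro j
      by_cases hj1 : j = none
      · subst hj1; simp [h1.1]
      by_cases hj2 : j = some 0
      · subst hj2; simp [h1.2]
      rw [hout j hj1 hj2 hj1, Pi.single_eq_of_ne hj1]
    by_cases hi2 : i = some 0
    · subst hi2
      simp [Spor.vecU] at hdot heq
      have h1 : w none = 0 ∧ w (some 0) = 8 := by omega
      intro j
      by_cases hj1 : j = none
      · subst hj1; simp [h1.1]
      by_cases hj2 : j = some 0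
      · subst hj2; simp [h1.2]
      rw [hout j hj1 hj2 hj2, Pi.single_eq_of_ne hj2]
    · simp [Spor.vecU, hi1, hi2, Pi.single_eq_of_ne (Ne.symm hi1),
        Pi.single_eq_of_ne (Ne.symm hi2)] at hdot heq
      have h1 : w none = 0 ∧ w (some 0) = 0 := by omega
      have hval : w i = 8 := by
        have hc' := hcoord i
        simp [Spor.vecU, hi1, hi2] at hc'
        rw [sub_eq_zero, ← Int.cast_ofNat (R := ZMod 13) 8] at hc'
        have hdvd := (ZMod.intCast_eq_intCast_iff_dvd_sub _ _ _).1 hc'
        have hs : ∑ j, w j ^ 2 = w i ^ 2 := by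
          refine Finset.sum_eq_single i (fun j _ hj => ?_) (by simp)
          by_cases hj1 : j = none
          · subst hj1; simp [h1.1]
          by_cases hj2 : j = some 0
          · subst hj2; simp [h1.2]
          simp [hout j hj1 hj2 hj]
        rw [hsum] at hs
        have := hb i
        replace hdvd : (13 : ℤ) ∣ 8 - w i := hdvd
        rcases (by omega : w i = 8 ∨ w i = -5) with h | h
        · exact h
        · rw [h] at hs; norm_num at hs
      intro j
      by_cases hji : j = i
      · subst hji; simp [hval]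
      rw [Pi.single_eq_of_ne hji]
      by_cases hj1 : j = none
      · subst hj1; exact h1.1
      by_cases hj2 : j = some 0
      · subst hj2; exact h1.2
      exact hout j hj1 hj2 hji
  exact Subtype.ext (funext hfull)

theorem finrank_quot : Module.finrank (ZMod 13) (V13 ⧸ uLine) = 23 := by
  have hne : red Spor.leechU ≠ 0 := fun h => by
    have := congrFun h none
    simp [red, Spor.leechU, Spor.vecU] at this
    exact absurd this (by decide)
  have h1 := uLine.finrank_quotient_add_finrank
  have h2 : Module.finrank (ZMod 13) uLine = 1 := finrank_span_singleton hne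
  have h3 : Module.finrank (ZMod 13) V13 = 24 := by simp [GolayPt, ZMod.card]
  omega

/-- The representation of Co₂ on the quotient by the fixed line. -/
noncomputable def co2Rep : ↥Spor.Co2 →* Module.End (ZMod 13) (V13 ⧸ uLine) where
  toFun f := uLine.mapQ uLine (redMap f.1) (uLine_stable f.2)
  map_one' := by
    apply Submodule.linearMap_qext
    ext x
    simp [redMap_one]
  map_mul' f g := by
    apply Submodule.linearMap_qext
    ext x
    simp [redMap_mul (g := g.1) (mem_co0 f.2)]

theorem exists_faithful :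
    ∃ f : ↥Spor.Co2 →* GL (Fin 23) (ZMod 13), Function.Injective f := by
  let b := Module.finBasisOfFinrankEq (ZMod 13) _ finrank_quot
  let g : ↥Spor.Co2 →* GL (Fin 23) (ZMod 13) :=
    ((LinearMap.toMatrixAlgEquiv b).toRingEquiv.toMonoidHom.comp co2Rep).toHomUnits
  refine ⟨g, (injective_iff_map_eq_one g).2 fun f hf => Subtype.ext ?_⟩
  have h1 : co2Rep f = 1 := by
    apply (LinearMap.toMatrixAlgEquiv b).injective
    rw [map_one]
    exact congrArg Units.val hf
  refine eq_one_of_trivial f.2 fun x => ?_
  rw [← Submodule.Quotient.eq]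
  exact LinearMap.congr_fun h1 (Submodule.Quotient.mk x)

end CfsgLib.ThreeTransp.CoReduce
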