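import Mathlib
import Cfsg.Prelude.Def_Transfer
import Cfsg.Agent.Lib.PGroups.Basic
import Cfsg.Agent.Lib.LocalEven.PauliGroup

/-!
Extraspecial two-groups from a bilinear cocycle over the field with two elements, and their elementary abelian rank.
-/

set_option autoImplicit false

namespace CfsgLib.ThreeTransp.TwistF2

open scoped commutatorElement


variable {V : Type} [AddCommGroup V] [Module (ZMod 2) V]

/-- The twisted product of a space with the field of two elements. -/
@[ext]
structure Tw (β : LinearMap.BilinForm (ZMod 2) V) where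
  /-- the vector part -/
  v : V
  /-- the central part -/
  s : ZMod 2

variable {β : LinearMap.BilinForm (ZMod 2) V}

theorem z2_cases : ∀ x : ZMod 2, x = 0 ∨ x = 1 := by decide

theorem z2_ne : ∀ x : ZMod 2, x ≠ 0 → x = 1 := by decide

theorem two_zero (a : ZMod 2) : a + a = 0 := by revert a; decide

theorem vec_two (x : V) : x + x = 0 := by rw [← two_smul (ZMod 2) x, show (2 : ZMod 2) = 0 from rfl, zero_smul]

instance : Group (Tw β) where
  mul a b := ⟨a.v + b.v, a.s + b.s + β a.v b.v⟩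
  one := ⟨0, 0⟩
  inv a := ⟨a.v, a.s + β a.v a.v⟩
  mul_assoc a b c := by
    ext
    · exact add_assoc _ _ _
    · show a.s + b.s + β a.v b.v + c.s + β (a.v + b.v) c.v = a.s + (b.s + c.s + β b.v c.v) + β a.v (b.v + c.v)
      simp only [map_add, LinearMap.add_apply]; ring
  one_mul a := by
    ext
    · exact zero_add _
    · show 0 + a.s + β 0 a.v = a.s
      simp
  mul_one a := by
    ext
    · exact add_zero _
    · show a.s + 0 + β a.v 0 = a.s
      simp
  inv_mul_cancel a := by
    ext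
    · exact vec_two _
    · show a.s + β a.v a.v + a.s + β a.v a.v = 0
      generalize a.s = u; generalize β a.v a.v = w
      revert u w; decide

theorem mul_v (a b : Tw β) : (a * b).v = a.v + b.v := rfl
theorem mul_s (a b : Tw β) : (a * b).s = a.s + b.s + β a.v b.v := rfl
theorem one_v : (1 : Tw β).v = 0 := rfl
theorem one_s : (1 : Tw β).s = 0 := rfl

/-- Coordinates. -/
def equiv (β : LinearMap.BilinForm (ZMod 2) V) : Tw β ≃ V × ZMod 2 where
  toFun a := (a.v, a.s)
  invFun a := ⟨a.1, a.2⟩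

instance [Finite V] : Finite (Tw β) := Finite.of_equiv _ (equiv β).symm

theorem card_eq [Finite V] : Nat.card (Tw β) = Nat.card V * 2 := by
  rw [Nat.card_congr (equiv β), Nat.card_prod, Nat.card_zmod]

theorem sq_eq (a : Tw β) : a ^ 2 = ⟨0, β a.v a.v⟩ := by
  rw [sq]; ext
  · exact vec_two _
  · rw [mul_s, two_zero, zero_add]

theorem comm_iff (a b : Tw β) : a * b = b * a ↔ β a.v b.v + β b.v a.v = 0 := by
  rw [Tw.ext_iff, mul_v, mul_v, mul_s, mul_s, and_iff_right (add_comm _ _)]
  generalize β a.v b.v = x; generalize β b.v a.v = y; generalize a.s = u; generalize b.s = w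
  revert x y u w; decide

theorem comm_val (a b : Tw β) : ⁅a, b⁆ = ⟨0, β a.v b.v + β b.v a.v⟩ := by
  have h : a * b = ⟨0, β a.v b.v + β b.v a.v⟩ * (b * a) := by
    ext
    · rw [mul_v, mul_v, mul_v, zero_add, add_comm]
    · simp only [mul_s, mul_v, map_zero, LinearMap.zero_apply, add_zero]
      generalize β a.v b.v = x; generalize β b.v a.v = y; generalize a.s = u; generalize b.s = w
      revert x y u w; decide
  rw [commutatorElement_def, h]; group

/-- The symmetrised form is non-degenerate. -/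
def Nondeg (β : LinearMap.BilinForm (ZMod 2) V) : Prop := ∀ v, (∀ w, β v w + β w v = 0) → v = 0

theorem mem_center (hβ : Nondeg β) (a : Tw β) : a ∈ Subgroup.center (Tw β) ↔ a.v = 0 := by
  rw [Subgroup.mem_center_iff]
  constructor
  · intro h
    refine hβ _ fun w => ?_
    rw [add_comm]
    exact (comm_iff ⟨w, 0⟩ a).1 (h _)
  · intro h g
    rw [comm_iff, h]; simp

theorem extraspecial [Finite V] [Nontrivial V] (hβ : Nondeg β) : Cfsg.IsExtraspecial 2 (Tw β) := by
  haveI : Fact (Nat.Prime 2) := ⟨Nat.prime_two⟩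
  have hP : IsPGroup 2 (Tw β) := fun a => ⟨2, by
    rw [pow_two 2, pow_mul, sq_eq, sq_eq]; ext <;> simp [one_v, one_s]⟩
  have hc : commutator (Tw β) ≤ Subgroup.center (Tw β) := by
    rw [commutator_def, Subgroup.commutator_le]
    intro a _ b _
    rw [comm_val, mem_center hβ]
  have hZc : Subgroup.center (Tw β) ≤ commutator (Tw β) := by
    intro a ha
    rw [mem_center hβ] at ha
    rcases z2_cases a.s with hs | hs
    · rw [show a = 1 from Tw.ext ha hs]; exact one_mem _
    · obtain ⟨v, hv⟩ := exists_ne (0 : V)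
      obtain ⟨w, hw⟩ : ∃ w, β v w + β w v ≠ 0 := by
        by_contra h; push Not at h; exact hv (hβ v h)
      have hw1 := z2_ne _ hw
      have := Subgroup.commutator_mem_commutator (Subgroup.mem_top (⟨v, 0⟩ : Tw β)) (Subgroup.mem_top ⟨w, 0⟩)
      rw [comm_val, hw1, ← commutator_def] at this
      rwa [show a = ⟨0, 1⟩ from Tw.ext ha hs]
  refine ⟨⟨hP, le_antisymm ?_ ?_, le_antisymm hc hZc⟩, ?_⟩
  · refine CfsgLib.PGroups.frattini_le_of_elementary_quotient (p := 2) hc fun g => ?_
    rw [mem_center hβ, sq_eq]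
  · exact hZc.trans (CfsgLib.PGroups.commutator_le_frattini hP)
  · rw [Nat.card_congr (β := ZMod 2) ⟨fun a => a.1.s, fun s => ⟨⟨0, s⟩, (mem_center hβ _).2 rfl⟩,
      fun a => Subtype.ext (Tw.ext ((mem_center hβ _).1 a.2).symm rfl), fun s => rfl⟩, Nat.card_zmod]

theorem exists_elementary [Finite V] (W : Submodule (ZMod 2) V) (hq : ∀ x ∈ W, β x x = 0) :
    ∃ A : Subgroup (Tw β), Cfsg.IsElementaryAbelian 2 A ∧ Nat.card A = Nat.card W * 2 := by
  let A : Subgroup (Tw β) :=
    { carrier := {a | a.v ∈ W}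
      mul_mem' := fun ha hb => W.add_mem ha hb
      one_mem' := W.zero_mem
      inv_mem' := fun ha => ha }
  refine ⟨A, ⟨⟨⟨fun a b => Subtype.ext ((comm_iff a.1 b.1).2 ?_)⟩⟩, fun a ha => ?_⟩, ?_⟩
  · have h := hq _ (W.add_mem a.2 b.2)
    simp only [map_add, LinearMap.add_apply, hq _ a.2, hq _ b.2, zero_add, add_zero] at h
    rw [add_comm]; exact h
  · rw [sq_eq, hq _ ha]; rfl
  · rw [Nat.card_congr (β := W × ZMod 2) ⟨fun a => (⟨a.1.v, a.2⟩, a.1.s), fun x => ⟨⟨x.1.1, x.2⟩, x.1.2⟩,
      fun a => rfl, fun x => rfl⟩, Nat.card_prod, Nat.card_zmod]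

theorem elementary_bound [Finite V] (A : Subgroup (Tw β)) (hA : Cfsg.IsElementaryAbelian 2 A) :
    ∃ W : Submodule (ZMod 2) V, (∀ x ∈ W, β x x = 0) ∧ (∀ x ∈ W, ∀ y ∈ W, β x y + β y x = 0) ∧
      Nat.card A ≤ Nat.card W * 2 := by
  let S : AddSubgroup V :=
    { carrier := {x | ∃ a ∈ A, a.v = x}
      add_mem' := by rintro _ _ ⟨a, ha, rfl⟩ ⟨b, hb, rfl⟩; exact ⟨a * b, mul_mem ha hb, rfl⟩
      zero_mem' := ⟨1, one_mem _, rfl⟩
      neg_mem' := by
        rintro _ ⟨a, ha, rfl⟩
        exact ⟨a, ha, (neg_eq_of_add_eq_zero_left (vec_two a.v)).symm⟩ }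
  refine ⟨AddSubgroup.toZModSubmodule 2 S, ?_, ?_, ?_⟩
  · rintro _ ⟨a, ha, rfl⟩
    have := congrArg Tw.s (hA.2 a ha)
    rwa [sq_eq] at this
  · rintro _ ⟨a, ha, rfl⟩ _ ⟨b, hb, rfl⟩
    exact (comm_iff a b).1 (congrArg Subtype.val (hA.1.is_comm.comm ⟨a, ha⟩ ⟨b, hb⟩))
  · refine (Nat.card_le_card_of_injective (fun a : A => ((⟨a.1.v, a.1, a.2, rfl⟩ :
      AddSubgroup.toZModSubmodule 2 S), a.1.s)) fun a b h => ?_).trans_eq (by rw [Nat.card_prod, Nat.card_zmod])
    simp only [Prod.mk.injEq] at h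
    exact Subtype.ext (Tw.ext (congrArg Subtype.val h.1) h.2)

theorem transfer {E E' : Type*} [Group E] [Group E'] {p : ℕ} (e : E ≃* E') (h : Cfsg.IsExtraspecial p E) :
    Cfsg.IsExtraspecial p E' := by
  obtain ⟨⟨hp, hf, hc⟩, hz⟩ := h
  have hcz : (Subgroup.center E).map e.toMonoidHom = Subgroup.center E' := by
    ext y
    simp only [Subgroup.mem_map, Subgroup.mem_center_iff]
    constructor
    · rintro ⟨x, hx, rfl⟩ z
      obtain ⟨w, rfl⟩ := e.surjective z
      simp [← map_mul, hx w]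
    · intro hy
      exact ⟨e.symm y, fun w => e.injective (by simp [hy (e w)]), by simp⟩
  have hcc : (commutator E).map e.toMonoidHom = commutator E' := by
    rw [commutator_def, Subgroup.map_commutator, Subgroup.map_top_of_surjective _ e.surjective, commutator_def]
  refine ⟨⟨hp.of_equiv e, ?_, by rw [← hcc, hc, hcz]⟩, ?_⟩
  · rw [← hcz, ← hf]
    refine le_antisymm (fun y hy => ?_) (Subgroup.map_le_iff_le_comap.2
      (frattini_le_comap_frattini_of_surjective e.surjective))
    exact ⟨e.symm y, frattini_le_comap_frattini_of_surjective (φ := e.symm.toMonoidHom) e.symm.surjective hy,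
      e.apply_symm_apply y⟩
  · rw [← hcz, Subgroup.card_map_of_injective e.injective, hz]

end CfsgLib.ThreeTransp.TwistF2
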