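import Cfsg.Agent.Lib.ThreeTransp.CentralFour

/-!
# Two extraspecial subgroups containing each other's central involution

`Q`, `Q'` with central involutions `z ≠ x`, `x ∈ Q`, `z ∈ Q'`; the subgroup `X = ⟨Q, Q'⟩` and
its largest normal 2-subgroup.
-/

set_option autoImplicit false
set_option linter.unusedSectionVars false
set_option linter.style.haveILetI false

namespace CfsgLib.ThreeTransp

open Cfsg CfsgLib.Involutions
open scoped Pointwise commutatorElement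

variable {G : Type*} [Group G] [Finite G]

theorem XCent.of_large {Q : Subgroup G} (hQ : IsLargeExtraspecial Q) {z : G}
    (hz : centerIn Q = Subgroup.zpowers z) : XCent Q z := by
  obtain ⟨hE, hC, hN, -⟩ := hQ
  have hzZ : z ∈ centerIn Q := hz ▸ Subgroup.mem_zpowers z
  refine xCent_mk hE (hC.le.trans (Subgroup.map_subtype_le _)) hzZ ?_ fun c hc => hN ?_
  · intro h1
    have := card_centerIn hE
    rw [hz, h1, Subgroup.zpowers_one_eq_bot, Subgroup.card_bot] at this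
    omega
  · show c ∈ Subgroup.centralizer (centerIn Q : Set G)
    rw [hz, Subgroup.mem_centralizer_iff]
    intro t ht
    obtain ⟨n, rfl⟩ := Subgroup.mem_zpowers_iff.1 ht
    exact (Commute.zpow_left
      (Commute.symm (Subgroup.mem_centralizer_singleton_iff.1 hc)) n).eq

/-- Extraspecial subgroups of two central involutions, each inside the other's subgroup. -/
structure TwoPair (Q Q' : Subgroup G) (z x : G) : Prop where
  hQ : XCent Q z
  hQ' : XCent Q' x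
  hp : IsPGroup 2 Q
  hp' : IsPGroup 2 Q'
  hx : x ∈ Q
  hz : z ∈ Q'
  hne : x ≠ z
  hconj : ∀ a b : G, a * x * a⁻¹ = b * z * b⁻¹ → ∀ y : G,
    y ∈ Q'.map (MulAut.conj a).toMonoidHom ↔ y ∈ Q.map (MulAut.conj b).toMonoidHom

theorem TwoPair.of_large {Q : Subgroup G} (hQ : IsLargeExtraspecial Q) {z g : G}
    (hz : centerIn Q = Subgroup.zpowers z) (hgH : g ∉ Subgroup.centralizer ({z} : Set G))
    (hgQ : g * z * g⁻¹ ∈ Q) :
    TwoPair Q (Q.map (MulAut.conj g).toMonoidHom) z (g * z * g⁻¹) := by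
  have h := XCent.of_large hQ hz
  refine ⟨h, h.conj g, isPGroup_of_extraspecial hQ.1, (isPGroup_of_extraspecial hQ.1).map _, hgQ,
    h.mem_conj g hgQ,
    fun he => hgH (Subgroup.mem_centralizer_singleton_iff.2 (mul_inv_eq_iff_eq_mul.1 he)),
    fun a b hab y => ?_⟩
  rw [← h.mem_map_iff (a := a * g) (b := b) (by rw [← hab]; simp [mul_assoc]) y]
  simp only [Subgroup.mem_map_equiv, MulAut.conj_symm_apply]
  simp [mul_assoc]

namespace TwoPair

variable {Q Q' : Subgroup G} {z x : G} (P : TwoPair Q Q' z x)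
include P

theorem symm : TwoPair Q' Q x z :=
  ⟨P.hQ', P.hQ, P.hp', P.hp, P.hz, P.hx, P.hne.symm, fun a b h y => (P.hconj b a h.symm y).symm⟩

theorem comm_xz : z * x = x * z := (P.hQ.comm x P.hx).symm

theorem moves : ∃ p ∈ Q, p * x * p⁻¹ = z * x := by
  by_contra hno
  push Not at hno
  rcases P.hQ.center x P.hx fun q hq => mul_inv_eq_iff_eq_mul.1
    ((P.hQ.commEl q hq x P.hx).resolve_right (hno q hq)) with h' | h'
  exacts [P.hQ'.ne_one h', P.hne h']

theorem comm_mem {t q : G} (htz : Commute t z) (htx : Commute t x) (hq : q ∈ Q) :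
    q * t * q⁻¹ * t⁻¹ ∈ Q ⊓ Subgroup.centralizer ({x} : Set G) := by
  refine Subgroup.mem_inf.2 ⟨?_, ?_⟩
  · have h1 := P.hQ.norm t htz.eq q⁻¹ (inv_mem hq)
    have : q * t * q⁻¹ * t⁻¹ = q * (t * q⁻¹ * t⁻¹) := by simp [mul_assoc]
    rw [this]
    exact mul_mem hq h1
  · rw [Subgroup.mem_centralizer_singleton_iff]
    have hc : Commute t (q⁻¹ * x * q) := by
      have h := P.hQ.commEl q⁻¹ (inv_mem hq) x P.hx
      rw [inv_inv] at h
      rcases h with h | h <;> rw [h]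
      exacts [htx, htz.mul_right htx]
    have h1 : (t⁻¹ * x * t) = x := by rw [mul_assoc, ← htx.eq, inv_mul_cancel_left]
    refine mul_inv_eq_iff_eq_mul.1 ?_
    calc q * t * q⁻¹ * t⁻¹ * x * (q * t * q⁻¹ * t⁻¹)⁻¹
        = q * (t * (q⁻¹ * (t⁻¹ * x * t) * q) * t⁻¹) * q⁻¹ := by simp [mul_assoc]
      _ = x := by rw [h1, hc.eq]; simp [mul_assoc]

theorem left_commute {t : G} (ht : t ∈ Q ⊓ Subgroup.centralizer ({x} : Set G)) :
    Commute t z ∧ Commute t x :=
  ⟨P.hQ.comm t ht.1, Subgroup.mem_centralizer_singleton_iff.1 ht.2⟩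

theorem right_commute {t : G} (ht : t ∈ Q' ⊓ Subgroup.centralizer ({z} : Set G)) :
    Commute t z ∧ Commute t x :=
  ⟨Subgroup.mem_centralizer_singleton_iff.1 ht.2, P.hQ'.comm t ht.1⟩

theorem conj_left {t b : G} (htz : Commute t z) (htx : Commute t x)
    (hb : b ∈ Q ⊓ Subgroup.centralizer ({x} : Set G)) :
    t * b * t⁻¹ ∈ Q ⊓ Subgroup.centralizer ({x} : Set G) := by
  refine Subgroup.mem_inf.2 ⟨P.hQ.norm t htz.eq b hb.1, ?_⟩
  rw [Subgroup.mem_centralizer_singleton_iff]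
  exact ((htx.mul_left (P.left_commute hb).2).mul_left htx.inv_left).eq

theorem conj_left_self {q b : G} (hq : q ∈ Q)
    (hb : b ∈ Q ⊓ Subgroup.centralizer ({x} : Set G)) :
    q * b * q⁻¹ ∈ Q ⊓ Subgroup.centralizer ({x} : Set G) := by
  rcases P.hQ.commEl q hq b hb.1 with h | h <;> rw [h]
  · exact hb
  · refine Subgroup.mem_inf.2 ⟨mul_mem P.hQ.mem hb.1, ?_⟩
    rw [Subgroup.mem_centralizer_singleton_iff]
    exact ((show Commute z x from P.comm_xz).mul_left (P.left_commute hb).2).eq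

theorem inf_eq : (Q' ⊓ Subgroup.centralizer ({z} : Set G)) ⊓
    (Q ⊓ Subgroup.centralizer ({x} : Set G)) = Q ⊓ Q' := by
  refine le_antisymm (fun e he => Subgroup.mem_inf.2 ⟨he.2.1, he.1.1⟩) fun e he => ?_
  exact Subgroup.mem_inf.2 ⟨Subgroup.mem_inf.2 ⟨he.2,
    Subgroup.mem_centralizer_singleton_iff.2 (P.hQ.comm e he.1)⟩,
    Subgroup.mem_inf.2 ⟨he.1, Subgroup.mem_centralizer_singleton_iff.2 (P.hQ'.comm e he.2)⟩⟩

theorem inter_left {e : G} (he : e ∈ Q ⊓ Q') : e ∈ Q ⊓ Subgroup.centralizer ({x} : Set G) :=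
  (P.inf_eq.ge he).2

theorem elementary : IsElementaryAbelian 2 (Q ⊓ Q') := by
  refine ⟨⟨⟨fun a b => Subtype.ext ?_⟩⟩, fun a ha => ?_⟩
  · show (a : G) * b = b * a
    rcases P.hQ.commEl a a.2.1 b b.2.1 with h | h
    · exact mul_inv_eq_iff_eq_mul.1 h
    rcases P.hQ'.commEl a a.2.2 b b.2.2 with h' | h'
    · exact mul_inv_eq_iff_eq_mul.1 h'
    · rw [h] at h'
      exact absurd (mul_right_cancel h').symm P.hne
  · rw [pow_two]
    rcases P.hQ.sq a ha.1 with h | h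
    · exact h
    rcases P.hQ'.sq a ha.2 with h' | h'
    · exact h'
    · exact absurd (h'.symm.trans h) P.hne

theorem mem_R {r : G} : r ∈ (Q' ⊓ Subgroup.centralizer ({z} : Set G)) ⊔
      (Q ⊓ Subgroup.centralizer ({x} : Set G)) ↔
    ∃ a ∈ Q' ⊓ Subgroup.centralizer ({z} : Set G),
      ∃ b ∈ Q ⊓ Subgroup.centralizer ({x} : Set G), r = a * b := by
  have hN : Q' ⊓ Subgroup.centralizer ({z} : Set G) ≤
      Subgroup.normalizer ((Q ⊓ Subgroup.centralizer ({x} : Set G) : Subgroup G) : Set G) := by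
    intro a ha
    rw [Subgroup.mem_normalizer_iff]
    intro b
    refine ⟨fun hb => P.conj_left (P.right_commute ha).1 (P.right_commute ha).2 hb, fun hb => ?_⟩
    have := P.conj_left (P.right_commute (inv_mem ha)).1 (P.right_commute (inv_mem ha)).2 hb
    simpa [mul_assoc] using this
  rw [← SetLike.mem_coe, Subgroup.coe_mul_of_left_le_normalizer_right _ _ hN, Set.mem_mul]
  simp [eq_comm]

theorem R_symm : (Q' ⊓ Subgroup.centralizer ({z} : Set G)) ⊔
      (Q ⊓ Subgroup.centralizer ({x} : Set G)) =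
    (Q ⊓ Subgroup.centralizer ({x} : Set G)) ⊔ (Q' ⊓ Subgroup.centralizer ({z} : Set G)) :=
  sup_comm _ _

theorem R_commute {r : G} (hr : r ∈ (Q' ⊓ Subgroup.centralizer ({z} : Set G)) ⊔
      (Q ⊓ Subgroup.centralizer ({x} : Set G))) : Commute r z ∧ Commute r x := by
  obtain ⟨a, ha, b, hb, rfl⟩ := P.mem_R.1 hr
  exact ⟨(P.right_commute ha).1.mul_left (P.left_commute hb).1,
    (P.right_commute ha).2.mul_left (P.left_commute hb).2⟩

theorem conj_R_left {q r : G} (hq : q ∈ Q)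
    (hr : r ∈ (Q' ⊓ Subgroup.centralizer ({z} : Set G)) ⊔
      (Q ⊓ Subgroup.centralizer ({x} : Set G))) :
    q * r * q⁻¹ ∈ (Q' ⊓ Subgroup.centralizer ({z} : Set G)) ⊔
      (Q ⊓ Subgroup.centralizer ({x} : Set G)) := by
  obtain ⟨a, ha, b, hb, rfl⟩ := P.mem_R.1 hr
  have h1 := P.comm_mem (P.right_commute ha).1 (P.right_commute ha).2 hq
  rw [show q * (a * b) * q⁻¹ = q * a * q⁻¹ * a⁻¹ * a * (q * b * q⁻¹) by simp [mul_assoc]]
  exact mul_mem (mul_mem (Subgroup.mem_sup_right h1) (Subgroup.mem_sup_left ha))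
    (Subgroup.mem_sup_right (P.conj_left_self hq hb))

theorem sup_le_normalizer : Q ⊔ Q' ≤ Subgroup.normalizer
    (((Q' ⊓ Subgroup.centralizer ({z} : Set G)) ⊔
      (Q ⊓ Subgroup.centralizer ({x} : Set G)) : Subgroup G) : Set G) := by
  refine sup_le (fun q hq => ?_) (fun q hq => ?_) <;> rw [Subgroup.mem_normalizer_iff] <;> intro r
  · refine ⟨P.conj_R_left hq, fun hr => ?_⟩
    simpa [mul_assoc] using P.conj_R_left (inv_mem hq) hr
  · rw [P.R_symm]
    refine ⟨P.symm.conj_R_left hq, fun hr => ?_⟩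
    simpa [mul_assoc] using P.symm.conj_R_left (inv_mem hq) hr

theorem mem_four (e : G) :
    e ∈ Subgroup.closure ({z, x} : Set G) ↔ e = 1 ∨ e = z ∨ e = x ∨ e = z * x :=
  four_mem_iff P.hQ.inv P.hQ'.inv P.comm_xz e

theorem four_le_inter : Subgroup.closure ({z, x} : Set G) ≤ Q ⊓ Q' := by
  rw [Subgroup.closure_le]
  rintro t (rfl | rfl)
  exacts [⟨P.hQ.mem, P.hz⟩, ⟨P.hx, P.hQ'.mem⟩]

theorem R_centralizes {r : G} (hr : r ∈ (Q' ⊓ Subgroup.centralizer ({z} : Set G)) ⊔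
      (Q ⊓ Subgroup.centralizer ({x} : Set G))) :
    r ∈ Subgroup.centralizer (Subgroup.closure ({z, x} : Set G) : Set G) := by
  rw [Subgroup.mem_centralizer_iff]
  intro v hv
  obtain ⟨h1, h2⟩ := P.R_commute hr
  rcases (P.mem_four v).1 hv with rfl | rfl | rfl | rfl
  exacts [(Commute.one_right r).eq.symm, h1.eq.symm, h2.eq.symm, (h1.mul_right h2).eq.symm]

/-- The centre of `R` is the four-group. -/
theorem mem_four_of_central {c : G} (hc : c ∈ (Q' ⊓ Subgroup.centralizer ({z} : Set G)) ⊔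
      (Q ⊓ Subgroup.centralizer ({x} : Set G)))
    (hcB : ∀ b ∈ Q ⊓ Subgroup.centralizer ({x} : Set G), Commute c b) :
    c ∈ Subgroup.closure ({z, x} : Set G) := by
  obtain ⟨hcz, hcx⟩ := P.R_commute hc
  have hB : ∀ r ∈ Q, r * x = x * r → Commute c r := fun r hr hrx =>
    hcB r (Subgroup.mem_inf.2 ⟨hr, Subgroup.mem_centralizer_singleton_iff.2 hrx⟩)
  suffices hcQ : c ∈ Q by
    rw [P.mem_four]
    exact P.hQ.cent_R P.hx P.hQ'.ne_one P.hne hcQ fun r hr hrx => (hB r hr hrx).eq.symm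
  obtain ⟨p, hp, hpx⟩ := P.moves
  obtain ⟨d, hd⟩ : ∃ d, d = p⁻¹ * (c * p * c⁻¹) := ⟨_, rfl⟩
  have hdQ : d ∈ Q := hd ▸ mul_mem (inv_mem hp) (P.hQ.norm c hcz.eq p hp)
  have hcpc : c * p * c⁻¹ = p * d := by rw [hd]; simp [mul_assoc]
  have hdB : ∀ r ∈ Q, r * x = x * r → r * d = d * r := by
    intro r hr hrx
    obtain ⟨e, he, hpr⟩ : ∃ e, (e = 1 ∨ e = z) ∧ p⁻¹ * r * p = e * r := by
      have h := P.hQ.commEl p⁻¹ (inv_mem hp) r hr
      rw [inv_inv] at h
      rcases h with h | h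
      exacts [⟨1, Or.inl rfl, by rw [one_mul, h]⟩, ⟨z, Or.inr rfl, h⟩]
    have hce : Commute c (e * r) := by
      refine Commute.mul_right ?_ (hB r hr hrx)
      rcases he with rfl | rfl
      exacts [Commute.one_right c, hcz]
    symm
    refine mul_inv_eq_iff_eq_mul.1 ?_
    calc d * r * d⁻¹ = p⁻¹ * (c * (p * (c⁻¹ * r * c) * p⁻¹) * c⁻¹) * p := by
          rw [hd]; simp [mul_assoc]
      _ = p⁻¹ * (c * (p * r * p⁻¹) * c⁻¹) * p := by
          rw [mul_assoc c⁻¹, ← (hB r hr hrx).eq, inv_mul_cancel_left]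
      _ = r := by
          have hpr' : p * r * p⁻¹ = e * r := by
            have h2 : p * (e * r) * p⁻¹ = r := by rw [← hpr]; simp [mul_assoc]
            have hee : e * e = 1 ∧ p * e = e * p := by
              rcases he with h | h <;> rw [h]
              exacts [⟨one_mul 1, by simp⟩, ⟨P.hQ.inv, P.hQ.comm p hp⟩]
            rw [show p * (e * r) * p⁻¹ = p * e * p⁻¹ * (p * r * p⁻¹) by simp [mul_assoc],
              mul_inv_eq_iff_eq_mul.2 hee.2] at h2
            calc p * r * p⁻¹ = e * (e * (p * r * p⁻¹)) := by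
                  rw [← mul_assoc e e, hee.1, one_mul]
              _ = e * r := by rw [h2]
          rw [hpr', hce.eq, mul_inv_cancel_right, ← hpr']
          simp [mul_assoc]
  have hxp : x * p * x⁻¹ = z * p := by
    rw [mul_inv_eq_iff_eq_mul, mul_assoc z p x, mul_inv_eq_iff_eq_mul.1 hpx, ← mul_assoc z,
      ← mul_assoc z, P.hQ.inv, one_mul]
  have hd2 : d = 1 ∨ d = z := by
    have hsq : p * d * (p * d) = p * p := by
      rw [← hcpc]
      rcases P.hQ.sq p hp with hh | hh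
      · calc c * p * c⁻¹ * (c * p * c⁻¹) = c * (p * p) * c⁻¹ := by simp [mul_assoc]
          _ = p * p := by rw [hh]; simp
      · calc c * p * c⁻¹ * (c * p * c⁻¹) = c * (p * p) * c⁻¹ := by simp [mul_assoc]
          _ = p * p := by rw [hh]; exact mul_inv_eq_iff_eq_mul.2 hcz
    have hdp : d * p * d = p := by simpa [mul_assoc] using hsq
    have hxpx : x * p * x = z * p := by
      rw [← hxp, inv_eq_of_mul_eq_one_right P.hQ'.inv]
    have hzp : z * p * z = p := by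
      rw [mul_assoc, P.hQ.comm p hp, ← mul_assoc, P.hQ.inv, one_mul]
    rcases P.hQ.cent_R P.hx P.hQ'.ne_one P.hne hdQ hdB with h | h | h | h
    · exact Or.inl h
    · exact Or.inr h
    · rw [h, hxpx] at hdp
      exact absurd (mul_eq_right.1 hdp) P.hQ.ne_one
    · rw [h, show z * x * p * (z * x) = z * (x * p * x) * z by
        rw [P.comm_xz]; simp [mul_assoc, ← P.comm_xz]] at hdp
      rw [hxpx, mul_assoc z, hzp] at hdp
      exact absurd (mul_eq_right.1 hdp) P.hQ.ne_one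
  have hgen : ∀ y : G, (∀ r ∈ Q, r * x = x * r → Commute y r) → Commute y p → y ∈ Q := by
    intro y hyB hyp
    refine P.hQ.cent (Subgroup.mem_centralizer_iff.2 fun q hq => ?_)
    rcases P.hQ.commEl q hq x P.hx with hh | hh
    · exact (hyB q hq (mul_inv_eq_iff_eq_mul.1 hh)).eq.symm
    · have hr : p⁻¹ * q * x = x * (p⁻¹ * q) := by
        rw [← hpx] at hh
        simpa [mul_assoc] using congrArg (fun t => p⁻¹ * t * q) hh
      have h2 := hyp.mul_right (hyB _ (mul_mem (inv_mem hp) hq) hr)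
      rw [mul_inv_cancel_left] at h2
      exact h2.eq.symm
  rcases hd2 with rfl | hdz
  · rw [mul_one] at hcpc
    exact hgen c hB (mul_inv_eq_iff_eq_mul.1 hcpc)
  · have hxc : x * c ∈ Q := hgen (x * c)
      (fun r hr hrx => (show Commute x r from hrx.symm).mul_left (hB r hr hrx))
      (mul_inv_eq_iff_eq_mul.1 (by
        calc x * c * p * (x * c)⁻¹ = x * (c * p * c⁻¹) * x⁻¹ := by simp [mul_assoc]
          _ = x * p * x⁻¹ * (x * z * x⁻¹) := by rw [hcpc, hdz]; simp [mul_assoc]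
          _ = p := by
            rw [hxp, ← P.comm_xz, mul_inv_cancel_right, mul_assoc, P.hQ.comm p hp, ← mul_assoc,
              P.hQ.inv, one_mul]))
    simpa using mul_mem (inv_mem P.hx) hxc

theorem center_R : (Subgroup.center ↥((Q' ⊓ Subgroup.centralizer ({z} : Set G)) ⊔
      (Q ⊓ Subgroup.centralizer ({x} : Set G)) : Subgroup G)).map (Subgroup.subtype _) =
    Subgroup.closure ({z, x} : Set G) := by
  set R := (Q' ⊓ Subgroup.centralizer ({z} : Set G)) ⊔ (Q ⊓ Subgroup.centralizer ({x} : Set G))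
  refine le_antisymm ?_ fun v hv => ?_
  · rintro _ ⟨c, hc, rfl⟩
    refine P.mem_four_of_central c.2 fun b hb => ?_
    exact (congrArg Subtype.val (Subgroup.mem_center_iff.1 hc ⟨b, Subgroup.mem_sup_right hb⟩)).symm
  · have hvE := P.four_le_inter hv
    refine ⟨⟨v, Subgroup.mem_sup_right (P.inter_left hvE)⟩, Subgroup.mem_center_iff.2 fun r =>
      Subtype.ext ?_, rfl⟩
    exact (Subgroup.mem_centralizer_iff.1 (P.R_centralizes r.2) v hv).symm

theorem comm_inter {r e : G} (hr : r ∈ (Q' ⊓ Subgroup.centralizer ({z} : Set G)) ⊔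
      (Q ⊓ Subgroup.centralizer ({x} : Set G))) (he : e ∈ Q ⊓ Q') :
    r * e * r⁻¹ * e⁻¹ ∈ Subgroup.closure ({z, x} : Set G) := by
  obtain ⟨a, ha, b, hb, rfl⟩ := P.mem_R.1 hr
  have hb' : b * e * b⁻¹ * e⁻¹ ∈ Subgroup.closure ({z, x} : Set G) := by
    rcases P.hQ.commEl b hb.1 e he.1 with h | h <;> rw [h]
    · rw [mul_inv_cancel]; exact one_mem _
    · rw [mul_inv_cancel_right]; exact Subgroup.subset_closure (Or.inl rfl)
  have ha' : a * e * a⁻¹ * e⁻¹ ∈ Subgroup.closure ({z, x} : Set G) := by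
    rcases P.hQ'.commEl a ha.1 e he.2 with h | h <;> rw [h]
    · rw [mul_inv_cancel]; exact one_mem _
    · rw [mul_inv_cancel_right]; exact Subgroup.subset_closure (Or.inr rfl)
  have hac : a * (b * e * b⁻¹ * e⁻¹) * a⁻¹ = b * e * b⁻¹ * e⁻¹ :=
    mul_inv_eq_iff_eq_mul.2 (Subgroup.mem_centralizer_iff.1
      (P.R_centralizes (Subgroup.mem_sup_left ha)) _ hb').symm
  rw [show a * b * e * (a * b)⁻¹ * e⁻¹ =
    a * (b * e * b⁻¹ * e⁻¹) * a⁻¹ * (a * e * a⁻¹ * e⁻¹) by simp [mul_assoc], hac]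
  exact mul_mem hb' ha'

/-- `R / E` is elementary abelian. -/
theorem comm_sq_R {r s : G}
    (hr : r ∈ (Q' ⊓ Subgroup.centralizer ({z} : Set G)) ⊔
      (Q ⊓ Subgroup.centralizer ({x} : Set G)))
    (hs : s ∈ (Q' ⊓ Subgroup.centralizer ({z} : Set G)) ⊔
      (Q ⊓ Subgroup.centralizer ({x} : Set G))) :
    r * s * r⁻¹ * s⁻¹ ∈ Q ⊓ Q' ∧ r ^ 2 ∈ Q ⊓ Q' := by
  set R := (Q' ⊓ Subgroup.centralizer ({z} : Set G)) ⊔ (Q ⊓ Subgroup.centralizer ({x} : Set G))
    with hRdef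
  have hAR : ∀ {y}, y ∈ Q' ⊓ Subgroup.centralizer ({z} : Set G) → y ∈ R := fun hy =>
    Subgroup.mem_sup_left hy
  have hBR : ∀ {y}, y ∈ Q ⊓ Subgroup.centralizer ({x} : Set G) → y ∈ R := fun hy =>
    Subgroup.mem_sup_right hy
  have hnE : ∀ y ∈ R, ∀ e ∈ Q ⊓ Q', y * e * y⁻¹ ∈ Q ⊓ Q' := fun y hy e he => by
    simpa using mul_mem (P.four_le_inter (P.comm_inter hy he)) he
  let N : Subgroup R := (Q ⊓ Q').subgroupOf R
  haveI : N.Normal := ⟨fun e he y => hnE y y.2 e he⟩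
  let π := QuotientGroup.mk' N
  have hone : ∀ y : R, π y = 1 ↔ (y : G) ∈ Q ⊓ Q' := fun y => QuotientGroup.eq_one_iff y
  have hEQ : z ∈ Q ⊓ Q' ∧ x ∈ Q ⊓ Q' := ⟨⟨P.hQ.mem, P.hz⟩, ⟨P.hx, P.hQ'.mem⟩⟩
  have hgen : ∀ u ∈ Q' ⊓ Subgroup.centralizer ({z} : Set G),
      ∀ v ∈ Q ⊓ Subgroup.centralizer ({x} : Set G),
      u * v * u⁻¹ * v⁻¹ ∈ Q ⊓ Q' := by
    intro u hu v hv
    refine Subgroup.mem_inf.2 ⟨mul_mem (P.conj_left (P.right_commute hu).1 (P.right_commute hu).2 hv).1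
      (inv_mem hv.1), ?_⟩
    rw [show u * v * u⁻¹ * v⁻¹ = u * (v * u⁻¹ * v⁻¹) by simp [mul_assoc]]
    exact mul_mem hu.1 (P.hQ'.norm v (P.left_commute hv).2.eq _ (inv_mem hu.1))
  have hsame : ∀ u v : R, ((u : G) ∈ Q' ∧ (v : G) ∈ Q' ∨ (u : G) ∈ Q ∧ (v : G) ∈ Q) →
      Commute (π u) (π v) ∧ π u * π u = 1 := by
    intro u v huv
    refine ⟨mul_inv_eq_iff_eq_mul.1 (mul_inv_eq_one.1 ?_), ?_⟩
    · rw [← map_inv, ← map_mul, ← map_mul, ← map_inv, ← map_mul, hone]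
      show (u : G) * v * (u : G)⁻¹ * (v : G)⁻¹ ∈ Q ⊓ Q'
      rcases huv with ⟨h1, h2⟩ | ⟨h1, h2⟩
      · rcases P.hQ'.commEl _ h1 _ h2 with h | h <;> rw [h]
        · rw [mul_inv_cancel]; exact one_mem _
        · rw [mul_inv_cancel_right]; exact hEQ.2
      · rcases P.hQ.commEl _ h1 _ h2 with h | h <;> rw [h]
        · rw [mul_inv_cancel]; exact one_mem _
        · rw [mul_inv_cancel_right]; exact hEQ.1
    · rw [← map_mul, hone]
      show (u : G) * u ∈ Q ⊓ Q'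
      rcases huv with ⟨h1, -⟩ | ⟨h1, -⟩
      · rcases P.hQ'.sq _ h1 with h | h <;> rw [h]
        exacts [one_mem _, hEQ.2]
      · rcases P.hQ.sq _ h1 with h | h <;> rw [h]
        exacts [one_mem _, hEQ.1]
  have hall : ∀ (a b : R), ((a : G) ∈ Q' ⊓ Subgroup.centralizer ({z} : Set G)) →
      ((b : G) ∈ Q ⊓ Subgroup.centralizer ({x} : Set G)) → Commute (π a) (π b) := by
    intro a b ha hb
    refine mul_inv_eq_iff_eq_mul.1 (mul_inv_eq_one.1 ?_)
    rw [← map_inv, ← map_mul, ← map_mul, ← map_inv, ← map_mul, hone]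
    exact hgen _ ha _ hb
  obtain ⟨a, ha, b, hb, hrab⟩ := P.mem_R.1 hr
  obtain ⟨c, hc, d, hd, hscd⟩ := P.mem_R.1 hs
  have er : π ⟨r, hr⟩ = π ⟨a, hAR ha⟩ * π ⟨b, hBR hb⟩ := by
    rw [← map_mul]; congr 1; exact Subtype.ext hrab
  have es : π ⟨s, hs⟩ = π ⟨c, hAR hc⟩ * π ⟨d, hBR hd⟩ := by
    rw [← map_mul]; congr 1; exact Subtype.ext hscd
  constructor
  · refine (hone (⟨r, hr⟩ * ⟨s, hs⟩ * (⟨r, hr⟩ : R)⁻¹ * (⟨s, hs⟩ : R)⁻¹)).1 ?_
    rw [map_mul, map_mul, map_mul, map_inv, map_inv, mul_inv_eq_one, mul_inv_eq_iff_eq_mul, er, es]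
    exact (((hsame _ _ (Or.inl ⟨ha.1, hc.1⟩)).1.mul_right (hall _ _ ha hd)).mul_left
      ((hall _ _ hc hb).symm.mul_right (hsame _ _ (Or.inr ⟨hb.1, hd.1⟩)).1)).eq
  · refine (hone (⟨r, hr⟩ ^ 2)).1 ?_
    rw [map_pow, er, (hall _ _ ha hb).mul_pow, pow_two, pow_two,
      (hsame ⟨a, hAR ha⟩ ⟨a, hAR ha⟩ (Or.inl ⟨ha.1, ha.1⟩)).2,
      (hsame ⟨b, hBR hb⟩ ⟨b, hBR hb⟩ (Or.inr ⟨hb.1, hb.1⟩)).2, one_mul]

theorem upperCentral :
    Q ⊓ Q' ≤ (Subgroup.upperCentralSeries ↥((Q' ⊓ Subgroup.centralizer ({z} : Set G)) ⊔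
      (Q ⊓ Subgroup.centralizer ({x} : Set G)) : Subgroup G) 2).map (Subgroup.subtype _) ∧
    Subgroup.upperCentralSeries ↥((Q' ⊓ Subgroup.centralizer ({z} : Set G)) ⊔
      (Q ⊓ Subgroup.centralizer ({x} : Set G)) : Subgroup G) 3 = ⊤ := by
  set R := (Q' ⊓ Subgroup.centralizer ({z} : Set G)) ⊔ (Q ⊓ Subgroup.centralizer ({x} : Set G))
    with hRdef
  have h2 : ∀ e : R, (e : G) ∈ Q ⊓ Q' → e ∈ Subgroup.upperCentralSeries R 2 := by
    intro e he
    rw [show (2 : ℕ) = 1 + 1 from rfl, Subgroup.mem_upperCentralSeries_succ_iff]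
    intro y
    rw [Subgroup.upperCentralSeries_one]
    have h1 : (e : G) * y * (e : G)⁻¹ * (y : G)⁻¹ ∈ Subgroup.closure ({z, x} : Set G) := by
      simpa [mul_assoc] using inv_mem (P.comm_inter y.2 he)
    rw [← P.center_R] at h1
    obtain ⟨c, hc, hce⟩ := h1
    have hce' : c = ⁅e, y⁆ := Subtype.ext (by
      rw [show (c : G) = Subgroup.subtype _ c from rfl, hce]
      simp [commutatorElement_def])
    rw [← hce']
    exact hc
  refine ⟨fun e he => ⟨⟨e, Subgroup.mem_sup_right (P.inter_left he)⟩, h2 _ he, rfl⟩, ?_⟩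
  rw [eq_top_iff]
  intro r _
  rw [show (3 : ℕ) = 2 + 1 from rfl, Subgroup.mem_upperCentralSeries_succ_iff]
  intro y
  refine h2 _ ?_
  simpa [commutatorElement_def] using (P.comm_sq_R r.2 y.2).1

theorem commutator_X_inter : ⁅Q ⊔ Q', Q ⊓ Q'⁆ ≤ Subgroup.closure ({z, x} : Set G) := by
  rw [Subgroup.commutator_le]
  intro t ht
  rw [Subgroup.sup_eq_closure, ← Subgroup.mem_toSubmonoid,
    Subgroup.closure_toSubmonoid_of_finite] at ht
  induction ht using Submonoid.closure_induction with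
  | mem t ht =>
    intro e he
    rw [commutatorElement_def]
    rcases ht with ht | ht
    · rcases P.hQ.commEl t ht e he.1 with h | h <;> rw [h]
      · rw [mul_inv_cancel]; exact one_mem _
      · rw [mul_inv_cancel_right]; exact Subgroup.subset_closure (Or.inl rfl)
    · rcases P.hQ'.commEl t ht e he.2 with h | h <;> rw [h]
      · rw [mul_inv_cancel]; exact one_mem _
      · rw [mul_inv_cancel_right]; exact Subgroup.subset_closure (Or.inr rfl)
  | one =>
    intro e _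
    rw [commutatorElement_one_left]
    exact one_mem _
  | mul s t _ _ hs ht =>
    intro e he
    have h1 := ht e he
    have h2 := hs _ (P.four_le_inter h1)
    have h3 : s * ⁅t, e⁆ * s⁻¹ ∈ Subgroup.closure ({z, x} : Set G) := by
      have := mul_mem h2 h1
      simpa [commutatorElement_def, mul_assoc] using this
    rw [show ⁅s * t, e⁆ = s * ⁅t, e⁆ * s⁻¹ * ⁅s, e⁆ by simp [commutatorElement_def, mul_assoc]]
    exact mul_mem h3 (hs e he)

end TwoPair

end CfsgLib.ThreeTransp
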