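import Cfsg.Agent.Lib.ThreeTransp.LargeQuotient

/-!
# The centraliser of an involution of `Q ∩ Q'` modulo that involution
-/

set_option autoImplicit false
set_option linter.unusedSectionVars false
set_option linter.style.haveILetI false

namespace CfsgLib.ThreeTransp

open Cfsg CfsgLib.Involutions

variable {G : Type*} [Group G] [Finite G]

namespace TwoPair

variable {Q Q' : Subgroup G} {z x : G} (P : TwoPair Q Q' z x)
include P

theorem moves_within {t : G} (ht : t ∈ Q) (ht' : t ∈ Q') (ht1 : t ≠ 1) (htz : t ≠ z) (htx : t ≠ x)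
    (hztx : z * t ≠ x) : ∃ p ∈ Q ⊓ Subgroup.centralizer ({t} : Set G), p * x * p⁻¹ = z * x := by
  refine noncentral_moves P.hQ inf_le_left
    ⟨P.hx, Subgroup.mem_centralizer_singleton_iff.2 (P.hQ'.comm t ht').symm⟩ fun hall => ?_
  rcases P.hQ.cent_R ht ht1 htz P.hx fun r hr hrt =>
    hall r ⟨hr, Subgroup.mem_centralizer_singleton_iff.2 hrt⟩ with e | e | e | e
  exacts [P.hQ'.ne_one e, P.hne e, htx e.symm, hztx e.symm]

end TwoPair

/-- `C(t)` modulo `t`. -/
theorem large_involution_quotient {z : G} (hz : orderOf z = 2) {Q : Subgroup G}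
    (hF : (generalizedFittingSubgroup ↥(Subgroup.centralizer ({z} : Set G))).map
      (Subgroup.centralizer ({z} : Set G)).subtype = Q) (hQ : IsExtraspecial 2 ↥Q)
    (w : ℕ) (hw : 3 ≤ w) (hcard : Nat.card ↥Q = 2 ^ (2 * w + 1))
    (g : G) (hgQ : g * z * g⁻¹ ∈ Q) (hgZ : g * z * g⁻¹ ∉ centerIn Q)
    (t : G) (ht : orderOf t = 2) (htQ : t ∈ Q ⊓ Q.map (MulAut.conj g).toMonoidHom)
    (htz : ¬ IsConj z t) (P : Subgroup G) (hP : P = Q ⊓ Subgroup.centralizer ({t} : Set G))
    (hCP : ∀ c ∈ Subgroup.centralizer ({z} : Set G),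
      (∀ x ∈ P, ∃ y ∈ Subgroup.closure ({t, z} : Set G), c * x * c⁻¹ = x * y) ↔ c ∈ Q)
    [((Subgroup.zpowers t).subgroupOf (Subgroup.centralizer ({t} : Set G))).Normal] :
    IsLargeExtraspecial ((P.subgroupOf (Subgroup.centralizer ({t} : Set G))).map
      (QuotientGroup.mk' ((Subgroup.zpowers t).subgroupOf (Subgroup.centralizer ({t} : Set G))))) ∧
    ∃ x ∈ P ⊔ (Q.map (MulAut.conj g).toMonoidHom ⊓ Subgroup.centralizer ({t} : Set G)),
      x * (g * z * g⁻¹) * x⁻¹ = z := by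
  haveI : Fact (Nat.Prime 2) := ⟨Nat.prime_two⟩
  obtain ⟨hZ, hC, hN⟩ := fstar_setting hz hF hQ
  have hne : g * z * g⁻¹ ≠ z := fun h => hgZ (by rw [h, hZ]; exact Subgroup.mem_zpowers z)
  have hL := large_of_conj_mem hQ hC hN hZ hgQ hne
  have hgH : g ∉ Subgroup.centralizer ({z} : Set G) := fun hh => hne
    (mul_inv_eq_iff_eq_mul.2 (Subgroup.mem_centralizer_singleton_iff.1 hh))
  have T := TwoPair.of_large hL hZ hgH hgQ
  set x := g * z * g⁻¹ with hxdef
  set Q' := Q.map (MulAut.conj g).toMonoidHom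
  obtain ⟨htQ', ht'⟩ := Subgroup.mem_inf.1 htQ
  have ht1 : t ≠ 1 := invol_ne_one ht
  have htt := invol_mul_self ht
  have h := T.hQ
  have hzx : IsConj z x := isConj_iff.2 ⟨g, rfl⟩
  have htnz : t ≠ z := fun e => htz (e ▸ IsConj.refl z)
  have htnx : t ≠ x := fun e => htz (e ▸ hzx)
  obtain ⟨q₀, hq₀, hq₀t⟩ : ∃ q ∈ Q, q * t * q⁻¹ = z * t :=
    noncentral_moves h le_rfl htQ' fun hall => by
      rcases h.center t htQ' hall with e | e
      exacts [ht1 e, htnz e]
  have hztn : ¬ IsConj z (z * t) := fun e => htz (e.trans (isConj_iff.2 ⟨q₀⁻¹, by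
    rw [← hq₀t]; simp [mul_assoc]⟩))
  have hztx : z * t ≠ x := fun e => hztn (e ▸ hzx)
  -- the same on the side of `Q'`
  obtain ⟨p, hp, hpx⟩ := T.moves_within htQ' ht' ht1 htnz htnx hztx
  obtain ⟨c, hc, hcz⟩ := T.symm.moves_within ht' htQ' ht1 htnx htnz (fun e => by
    refine htz (hzx.trans ?_)
    -- `t = x z` is conjugate to `x`
    obtain ⟨p', hp', hpx'⟩ := T.moves
    refine isConj_iff.2 ⟨p', hpx'.trans ?_⟩
    calc z * x = x * t * x := by rw [e]
      _ = t * (x * x) := by rw [← T.hQ'.comm t ht', mul_assoc]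
      _ = t := by rw [T.hQ'.inv, mul_one])
  have hconj : c⁻¹ * p * x * (c⁻¹ * p)⁻¹ = z := by
    calc c⁻¹ * p * x * (c⁻¹ * p)⁻¹ = c⁻¹ * (p * x * p⁻¹) * c := by simp [mul_assoc]
      _ = c⁻¹ * (c * z * c⁻¹) * c := by rw [hpx, hcz, T.comm_xz]
      _ = z := by simp [mul_assoc]
  subst hP
  refine ⟨?_, c⁻¹ * p, mul_mem (inv_mem (Subgroup.mem_sup_right hc)) (Subgroup.mem_sup_left hp),
    hconj⟩
  set M := Subgroup.centralizer ({t} : Set G) with hMdef
  set Pt := Q ⊓ M with hPt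
  set f := QuotientGroup.mk' ((Subgroup.zpowers t).subgroupOf M) with hfdef
  have hf : ∀ y : M, f y = 1 ↔ (y : G) = 1 ∨ (y : G) = t := fun y => by
    rw [hfdef, QuotientGroup.mk'_apply, QuotientGroup.eq_one_iff, Subgroup.mem_subgroupOf]
    refine ⟨fun hy => ?_, ?_⟩
    · obtain ⟨i, hi⟩ := Subgroup.mem_zpowers_iff.1 hy
      rcases Int.even_or_odd' i with ⟨m, rfl | rfl⟩
      · left; rw [← hi, zpow_mul, zpow_two, htt, one_zpow]
      · right; rw [← hi, zpow_add, zpow_mul, zpow_two, htt, one_zpow, one_mul, zpow_one]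
    · rintro (e | e) <;> rw [e]
      exacts [one_mem _, Subgroup.mem_zpowers t]
  have hzM : z ∈ M := Subgroup.mem_centralizer_singleton_iff.2 (h.comm t htQ').symm
  have hxM : x ∈ M := Subgroup.mem_centralizer_singleton_iff.2 (T.hQ'.comm t ht').symm
  set zM : M := ⟨z, hzM⟩ with hzMdef
  have hdis : ∀ e : G, (e = 1 ∨ e = z) → (e = 1 ∨ e = t) → e = 1 := by
    rintro e (e1 | e1) (e2 | e2)
    exacts [e1, e1, e2, absurd (e2.symm.trans e1) htnz]
  have hcomm : ∀ u v : M, (u : G) ∈ Q → (v : G) ∈ Q → f u * f v = f v * f u → u * v = v * u := by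
    intro u v hu hv huv
    have h1 : f (u * v * u⁻¹ * v⁻¹) = 1 := by
      rw [map_mul, map_mul, map_mul, map_inv, map_inv, huv]; simp
    have h2 : (u : G) * v * (u : G)⁻¹ * (v : G)⁻¹ = 1 := by
      refine hdis _ ?_ ((hf _).1 h1)
      rcases h.commEl _ hu _ hv with e | e
      · exact Or.inl (mul_inv_eq_one.2 e)
      · exact Or.inr (mul_inv_eq_iff_eq_mul.2 e)
    exact Subtype.ext (mul_inv_eq_iff_eq_mul.1 (mul_inv_eq_one.1 h2))
  have hcentral : ∀ d : M, (d : G) ∈ Q → (∀ e : M, (e : G) ∈ Q → e * d = d * e) →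
      f d = 1 ∨ f d = f zM := by
    intro d hd hdd
    rcases h.cent_R htQ' ht1 htnz hd (fun r hr hrt =>
      congrArg Subtype.val (hdd ⟨r, Subgroup.mem_centralizer_singleton_iff.2 hrt⟩ hr))
      with e | e | e | e
    · exact Or.inl ((hf d).2 (Or.inl e))
    · exact Or.inr (congrArg f (Subtype.ext e))
    · exact Or.inl ((hf d).2 (Or.inr e))
    · right
      rw [show d = zM * ⟨t, Subgroup.mem_centralizer_singleton_iff.2 rfl⟩ from Subtype.ext e,
        map_mul, (hf ⟨t, _⟩).2 (Or.inr rfl), mul_one]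
  have hmemP : ∀ d ∈ (Pt.subgroupOf M).map f, ∃ r : M, (r : G) ∈ Q ∧ f r = d := by
    rintro _ ⟨r, hr, rfl⟩
    exact ⟨r, hr.1, rfl⟩
  have hmemP' : ∀ r : M, (r : G) ∈ Q → f r ∈ (Pt.subgroupOf M).map f := fun r hr =>
    ⟨r, ⟨hr, r.2⟩, rfl⟩
  have hE := isExtraspecial_of ((Pt.subgroupOf M).map f) (z := f zM)
    ((((isPGroup_of_extraspecial hQ).to_le (inf_le_left : Pt ≤ Q)).of_equiv
      (Subgroup.subgroupOfEquivOfLe inf_le_right).symm).map f) (hmemP' zM h.mem)
    (fun h1 => by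
      rcases (hf zM).1 h1 with e | e
      exacts [h.ne_one e, htnz e.symm])
    (by rw [← map_mul, show zM * zM = 1 from Subtype.ext h.inv, map_one])
    (fun e he => by
      obtain ⟨r, hr, rfl⟩ := hmemP e he
      rw [← map_mul, ← map_mul, show r * zM = zM * r from Subtype.ext (h.comm r hr)])
    (fun a ha b hb => by
      obtain ⟨r, hr, rfl⟩ := hmemP a ha
      obtain ⟨s, hs, rfl⟩ := hmemP b hb
      rw [← map_inv, ← map_inv, ← map_mul, ← map_mul, ← map_mul]
      rcases h.commEl r hr s hs with e | e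
      · left; rw [show r * s * r⁻¹ * s⁻¹ = 1 from Subtype.ext (mul_inv_eq_one.2 e), map_one]
      · right; exact congrArg f (Subtype.ext (mul_inv_eq_iff_eq_mul.2 e)))
    (fun a ha => by
      obtain ⟨r, hr, rfl⟩ := hmemP a ha
      rw [← map_mul]
      rcases h.sq r hr with e | e
      · left; rw [show r * r = 1 from Subtype.ext e, map_one]
      · right; exact congrArg f (Subtype.ext e))
    (fun d hd hdd => by
      obtain ⟨r, hr, rfl⟩ := hmemP d hd
      exact hcentral r hr fun e he => hcomm e r he hr (hdd _ (hmemP' e he)))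
    (by
      by_contra! hno
      set S : Set G := {1, z, t, z * t}
      have hsub : (Q : Set G) ⊆ S ∪ (fun v => q₀ * v) '' S := by
        have key : ∀ r ∈ Q, r * t = t * r → r ∈ S := fun r hr hrt =>
          h.cent_R htQ' ht1 htnz hr fun v hv hvt => congrArg Subtype.val
            (hcomm ⟨v, Subgroup.mem_centralizer_singleton_iff.2 hvt⟩
              ⟨r, Subgroup.mem_centralizer_singleton_iff.2 hrt⟩ hv hr
              (hno _ (hmemP' _ hv) _ (hmemP' _ hr)))
        intro r hr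
        rcases h.commEl r hr t htQ' with e | e
        · exact Or.inl (key r hr (mul_inv_eq_iff_eq_mul.1 e))
        · refine Or.inr ⟨q₀⁻¹ * r, key _ (mul_mem (inv_mem hq₀) hr) ?_, by simp⟩
          rw [← hq₀t] at e
          simpa [mul_assoc] using congrArg (fun v => q₀⁻¹ * v * r) e
      have h1 := Set.ncard_le_ncard hsub (Set.toFinite _)
      rw [← Nat.card_coe_set_eq, show Nat.card (Q : Set G) = Nat.card Q from rfl, hcard] at h1
      have h2 : S.ncard ≤ 4 := by
        refine (Set.ncard_insert_le _ _).trans ?_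
        have := Set.ncard_insert_le z ({t, z * t} : Set G)
        have := Set.ncard_insert_le t ({z * t} : Set G)
        rw [Set.ncard_singleton] at this
        omega
      have h3 := (h1.trans (Set.ncard_union_le _ _)).trans
        (Nat.add_le_add h2 ((Set.ncard_image_le (Set.toFinite _)).trans h2))
      have h4 : 2 ^ 4 ≤ 2 ^ (2 * w + 1) := Nat.pow_le_pow_right two_pos (by omega)
      omega)
  have hfixz : ∀ y : M, f y * f zM = f zM * f y → (y : G) * z = z * y := by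
    intro y hy
    have h1 : f (y * zM * y⁻¹ * zM⁻¹) = 1 := by
      rw [map_mul, map_mul, map_mul, map_inv, map_inv, hy]; simp
    rcases (hf _).1 h1 with e | e
    · exact mul_inv_eq_iff_eq_mul.1 (mul_inv_eq_one.1 e)
    · exfalso
      refine hztn (isConj_iff.2 ⟨(y : G), ?_⟩)
      rw [h.comm t htQ' |>.symm]
      exact mul_inv_eq_iff_eq_mul.1 e
  refine large_map_of_conj _ hE.1 hE.2 (fun m hm => ?_) (fun m hm e he => ?_)
    (g := f ⟨p⁻¹ * c, mul_mem (inv_mem hp.2) hc.2⟩) ?_ ?_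
  · obtain ⟨y, rfl⟩ := QuotientGroup.mk'_surjective _ m
    have hyz := hfixz y (hm (f zM) (hmemP' zM h.mem)).symm
    have hyQ : (y : G) ∈ Q := by
      refine (hCP _ (Subgroup.mem_centralizer_singleton_iff.2 hyz)).1 fun r hr => ?_
      have hr2 : r ∈ M := hr.2
      have h1 : f (y * ⟨r, hr2⟩ * y⁻¹ * (⟨r, hr2⟩ : M)⁻¹) = 1 := by
        rw [map_mul, map_mul, map_mul, map_inv, map_inv, mul_inv_eq_one, mul_inv_eq_iff_eq_mul]
        exact (hm (f ⟨r, hr2⟩) (hmemP' _ hr.1)).symm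
      rcases (hf _).1 h1 with e | e
      · exact ⟨1, one_mem _, by rw [mul_one]; exact mul_inv_eq_one.1 e⟩
      · refine ⟨t, Subgroup.subset_closure (Or.inl rfl), ?_⟩
        rw [Subgroup.mem_centralizer_singleton_iff.1 hr2]
        exact mul_inv_eq_iff_eq_mul.1 e
    rw [hE.2]
    rcases hcentral y hyQ (fun e he => hcomm e y he hyQ (hm _ (hmemP' e he))) with e | e <;>
      rw [hfdef] at e ⊢ <;> rw [e]
    exacts [one_mem _, Subgroup.mem_zpowers _]
  · obtain ⟨y, rfl⟩ := QuotientGroup.mk'_surjective _ m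
    obtain ⟨r, hr, rfl⟩ := hmemP e he
    rw [← hfdef, ← map_inv, ← map_mul, ← map_mul]
    exact hmemP' _ (h.norm _ (hfixz y hm) _ hr)
  · have hval : p⁻¹ * c * z * (p⁻¹ * c)⁻¹ = x := by
      rw [show p⁻¹ * c * z * (p⁻¹ * c)⁻¹ = p⁻¹ * (c * z * c⁻¹) * p by simp [mul_assoc], hcz,
        ← T.comm_xz, ← hpx]
      simp [mul_assoc]
    rw [← map_inv, ← map_mul, ← map_mul]
    exact hmemP' _ (by show p⁻¹ * c * z * (p⁻¹ * c)⁻¹ ∈ Q; rw [hval]; exact hgQ)
  · intro heq
    rw [← map_inv, ← map_mul, ← map_mul] at heq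
    have h1 : f (zM⁻¹ * (⟨p⁻¹ * c, mul_mem (inv_mem hp.2) hc.2⟩ * zM *
        (⟨p⁻¹ * c, mul_mem (inv_mem hp.2) hc.2⟩ : M)⁻¹)) = 1 := by
      rw [map_mul, map_inv, heq, inv_mul_cancel]
    have hval : z⁻¹ * (p⁻¹ * c * z * (p⁻¹ * c)⁻¹) = z⁻¹ * x := by
      rw [show p⁻¹ * c * z * (p⁻¹ * c)⁻¹ = p⁻¹ * (c * z * c⁻¹) * p by simp [mul_assoc], hcz,
        ← T.comm_xz, ← hpx]
      simp [mul_assoc]
    rcases (hf _).1 h1 with e | e
    · exact hne (inv_mul_eq_one.1 (hval.symm.trans e)).symm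
    · exact hztx (inv_mul_eq_iff_eq_mul.1 (hval.symm.trans e)).symm

end CfsgLib.ThreeTransp
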