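import Cfsg.Agent.Lib.ThreeTransp.MonsterTypeFrame
import Cfsg.Agent.Lib.ThreeTransp.LargeInvolution
import Cfsg.Agent.Lib.Spor.ShortStabModule
import Cfsg.Agent.Lib.Components.LocalLayer

/-!
In a group of Monster type the centralizer of an involution of the second class of `Q`, modulo that
involution, is of Baby Monster type.
-/

set_option autoImplicit false
set_option linter.unusedSectionVars false
set_option linter.style.haveILetI false

namespace CfsgLib.ThreeTransp.MonsterFrame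

open Cfsg CfsgLib.Spor
open CfsgLib.ThreeTransp.CoReduce (bigE)

/-- Extraspecial groups are invariant under isomorphisms. -/
theorem extraspecial_equiv {E E' : Type*} [Group E] [Group E'] (e : E ≃* E')
    (h : IsExtraspecial 2 E) : IsExtraspecial 2 E' := by
  obtain ⟨⟨hp, hf, hc⟩, hz⟩ := h
  have hcz : (Subgroup.center E).map e.toMonoidHom = Subgroup.center E' := by
    ext x
    rw [Subgroup.mem_map_equiv, Subgroup.mem_center_iff, Subgroup.mem_center_iff]
    exact ⟨fun h y => e.symm.injective (by rw [map_mul, map_mul]; exact h _),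
      fun h y => e.injective (by
        rw [map_mul, map_mul, MulEquiv.apply_symm_apply]; exact h (e y))⟩
  have hd : (commutator E).map e.toMonoidHom = commutator E' := by
    rw [commutator_def, Subgroup.map_commutator, Subgroup.map_top_of_surjective _ e.surjective,
      ← commutator_def]
  refine ⟨⟨hp.of_equiv e, ?_, ?_⟩, ?_⟩
  · rw [← Base.map_frattini_mulEquiv e, hf, hcz]
  · rw [← hd, hc, hcz]
  · rw [← hcz, Subgroup.card_map_of_injective (f := e.toMonoidHom) e.injective, hz]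

variable {G : Type*} [Group G] [Finite G] {z : G}
  {Q : Subgroup (Subgroup.centralizer ({z} : Set G))} [Q.Normal]
  {e : (Subgroup.centralizer ({z} : Set G)) ⧸ Q ≃* Spor.Co1}
  {ψ : leechLattice → Q ⧸ Subgroup.center Q} (M : MonsterFrame z Q e ψ)
include M

theorem psi_lift (v : leechLattice) : ∃ q : Q, ψ v = QuotientGroup.mk q :=
  ⟨(QuotientGroup.mk_surjective (ψ v)).choose,
    (QuotientGroup.mk_surjective (ψ v)).choose_spec.symm⟩

/-- The squares in `Q` are given by the norms modulo 32. -/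
theorem sq_iff {w : leechLattice} {q : Q} (hw : ψ w = QuotientGroup.mk q) :
    up q * up q = 1 ↔ (32 : ℤ) ∣ sqNorm (w : GolayPt → ℤ) := by
  have hcong : ∀ y : leechLattice, ψ w = ψ y →
      ((32 : ℤ) ∣ sqNorm (w : GolayPt → ℤ) ↔ (32 : ℤ) ∣ sqNorm (y : GolayPt → ℤ)) := by
    intro y hy
    have h1 : ψ (w - y) = 1 := by rw [sub_eq_add_neg, M.iso.1, M.psi_neg, hy, mul_inv_cancel]
    obtain ⟨u, hu⟩ := (M.iso.2.2.1 _).1 h1
    have hu' : (w : GolayPt → ℤ) = (y : GolayPt → ℤ) + 2 • (u : GolayPt → ℤ) := by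
      have := congrArg Subtype.val hu
      rw [AddSubgroup.coe_sub, AddSubgroup.coe_add, ← two_nsmul] at this
      rw [← this]; abel
    have hdot : dotInt (y : GolayPt → ℤ) (2 • (u : GolayPt → ℤ)) =
        2 * dotInt (y : GolayPt → ℤ) (u : GolayPt → ℤ) := by
      simp only [dotInt, Finset.mul_sum]
      exact Finset.sum_congr rfl fun i _ => by simp; ring
    rw [hu', (sqNorm_add_sub _ _).2, sqNorm_two_smul, hdot]
    have h2 := (sqNorm_add_sub (y : GolayPt → ℤ) (u : GolayPt → ℤ)).2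
    have := sixteen_dvd_sqNorm y.2
    have := sixteen_dvd_sqNorm u.2
    have := sixteen_dvd_sqNorm (AddSubgroup.add_mem _ y.2 u.2)
    omega
  by_cases hq : q ∈ Subgroup.center Q
  · have h1 : up q * up q = 1 := by
      rcases M.center_cases hq with h | h <;> rw [h]
      · exact one_mul 1
      · exact M.xcent.inv
    simp only [h1, true_iff]
    rw [hcong 0 (by rw [hw, M.psi_zero, (QuotientGroup.eq_one_iff q).2 hq])]
    simp [sqNorm]
  obtain ⟨n, hn, y, hy, hyq⟩ := M.exists_type hq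
  rw [hcong y (hw.trans hyq.symm), hy]
  rcases hn with rfl | rfl | rfl
  · simp [M.sq_eq_one (Or.inl rfl) hy hyq]
  · have := M.sq_ne_one hy hyq
    simp [this]
  · simp [M.sq_eq_one (Or.inr rfl) hy hyq]

/-- Commuting with a lift of the short vector. -/
theorem commute_iff {w : leechLattice} {q x : Q} (hw : ψ w = QuotientGroup.mk q)
    (hx : ψ shortV = QuotientGroup.mk x) :
    up q * up x = up x * up q ↔ w ∈ perpV := by
  have h := M.xcent
  have hsum : ψ (w + shortV) = QuotientGroup.mk (q * x) := by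
    rw [M.iso.1, hw, hx, QuotientGroup.mk_mul]
  have h1 := M.sq_iff hw
  have h2 := M.sq_iff hsum
  rw [up_mul] at h2
  have hxx : up x * up x = 1 := M.sq_eq_one (Or.inl rfl) sqNorm_shortV hx
  have hperp : w ∈ perpV ↔ ((32 : ℤ) ∣ sqNorm ((w + shortV : leechLattice) : GolayPt → ℤ) ↔
      (32 : ℤ) ∣ sqNorm (w : GolayPt → ℤ)) := by
    show (16 : ℤ) ∣ _ ↔ _
    have e1 := (sqNorm_add_sub (w : GolayPt → ℤ) (shortV : GolayPt → ℤ)).2
    rw [AddSubgroup.coe_add, e1, sqNorm_shortV]
    have := sixteen_dvd_sqNorm w.2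
    have := sixteen_dvd_sqNorm (AddSubgroup.add_mem _ w.2 shortV.2)
    have e2 := sqNorm_shortV
    rw [e1, e2] at this
    omega
  rw [hperp, ← h1, ← h2]
  have hassoc : up q * up x * (up q * up x) = up q * (up x * up q) * up x := by simp [mul_assoc]
  constructor
  · intro hc
    rw [hassoc, ← hc, show up q * (up q * up x) * up x = up q * up q * (up x * up x) by
      simp [mul_assoc], hxx, mul_one]
  · intro hiff
    rcases h.commEl _ (M.mem_QG q) _ (M.mem_QG x) with hc | hc
    · exact mul_inv_eq_iff_eq_mul.1 hc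
    exfalso
    have hxq : up x * up q = z * (up q * up x) := by
      have e3 := mul_inv_eq_iff_eq_mul.1 hc
      rw [e3, ← mul_assoc, ← mul_assoc, h.inv, one_mul]
    have hsq : up q * up x * (up q * up x) = z * (up q * up q) := by
      rw [hassoc, hxq, ← mul_assoc (up q) z, h.comm _ (M.mem_QG q)]
      simp [mul_assoc, hxx]
    rw [hsq] at hiff
    rcases h.sq _ (M.mem_QG q) with e | e
    · exact h.ne_one (by simpa [e] using hiff.2 e)
    · exact h.ne_one (e.symm.trans (hiff.1 (by rw [e]; exact h.inv)))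

theorem not_conj_of_norm32 {v : leechLattice} (hv : sqNorm (v : GolayPt → ℤ) = 32) {x : Q}
    (hx : ψ v = QuotientGroup.mk x) : ¬ IsConj z (up x) := by
  obtain ⟨y, hy⟩ := M.psi_lift shortV
  obtain ⟨h, -, hh⟩ := M.exists_conj (Or.inl rfl) hv sqNorm_shortV hx hy
  exact fun hc => M.short_not_conj hy (hc.trans (isConj_iff.2 ⟨h, hh⟩))

theorem orderOf_of_norm32 {v : leechLattice} (hv : sqNorm (v : GolayPt → ℤ) = 32) {x : Q}
    (hx : ψ v = QuotientGroup.mk x) : orderOf (up x) = 2 := by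
  haveI : Fact (Nat.Prime 2) := ⟨Nat.prime_two⟩
  refine orderOf_eq_prime (by rw [pow_two, M.sq_eq_one (Or.inl rfl) hv hx]) fun h1 => ?_
  exact M.noncentral (Or.inl rfl) hv hx (M.mem_center_of (Or.inl h1))

/-- Every involution of the second class lies in a second extraspecial group. -/
theorem exists_second {t : Q} (ht : orderOf (up t) = 2) (hn : ¬ IsConj z (up t)) :
    ∃ g : G, g * z * g⁻¹ ∈ qImage Q ∧ g * z * g⁻¹ ≠ z ∧
      up t ∈ (qImage Q).map (MulAut.conj g).toMonoidHom := by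
  classical
  obtain ⟨g₁, ⟨hq₁, hqQ₁⟩, hne₁⟩ := M.setting.2.2.2.2
  let x : Q := ⟨⟨_, hq₁⟩, hqQ₁⟩
  obtain ⟨v, hv, hvx⟩ := M.exists_norm64_of_conj (x := x) (isConj_iff.2 ⟨g₁, rfl⟩) hne₁
  obtain ⟨g₀, rfl⟩ := exists_map (Or.inr (Or.inr rfl)) eTop v (sqNorm_bigE none) hv
  have M' := M.twist g₀
  set ψ' : leechLattice → Q ⧸ Subgroup.center Q := fun v => ψ (g₀ • v) with hψ'
  set e' := e.trans (MulAut.conj (QuotientGroup.mk g₀ : Spor.Co1)⁻¹)
  have hx : ψ' eTop = QuotientGroup.mk x := hvx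
  set P := (qImage Q).map (MulAut.conj g₁).toMonoidHom with hP
  have hxz := M'.noncentral (Or.inr (Or.inr rfl)) (sqNorm_bigE none) hx
  have h := M.xcent
  have h' : XCent P (up x) := h.conj g₁
  let U : AddSubgroup leechLattice :=
    { carrier := {v | ∃ q : Q, up q ∈ P ∧ ψ' v = QuotientGroup.mk q}
      zero_mem' := ⟨1, one_mem P, M'.psi_zero⟩
      add_mem' := by
        rintro a b ⟨q, hq, ha⟩ ⟨r, hr, hb⟩
        exact ⟨q * r, mul_mem hq hr, by rw [M'.iso.1, ha, hb, QuotientGroup.mk_mul]⟩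
      neg_mem' := by
        rintro a ⟨q, hq, ha⟩
        exact ⟨q⁻¹, inv_mem hq, by rw [M'.psi_neg, ha, QuotientGroup.mk_inv]⟩ }
  have hUd : ∀ w : leechLattice, w + w ∈ U := fun w => ⟨1, one_mem P, (M'.iso.2.2.1 _).2 ⟨w, rfl⟩⟩
  have hUω : bigE none ∈ U := ⟨x, h'.mem, hx⟩
  have hUinv : ∀ g ∈ crossStab, ∀ u ∈ U, g • u ∈ U := by
    rintro g hg u ⟨q, hq, hu⟩
    have hst := mem_crossStab.1 hg eTop (bigE_mem_stdCross none)
    obtain ⟨-, -, w, hw, hd⟩ := mem_stdCross_iff.1 hst
    have hfix : ψ' (g • eTop) = QuotientGroup.mk x := by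
      rw [← hx]
      refine M'.psi_congr (u := -⟨w, hw⟩) (Subtype.ext ?_)
      rw [AddSubgroup.coe_add, AddSubgroup.coe_add, AddSubgroup.coe_neg]
      show _ = ((eTop : leechLattice) : GolayPt → ℤ) + (-w + -w)
      rw [eTop_coe, ← neg_add, ← two_nsmul, ← hd]; abel
    obtain ⟨a, ha, hax⟩ := M'.exists_lift hxz hx hfix
    refine ⟨⟨a * q * a⁻¹, (inferInstance : Q.Normal).conj_mem _ q.2 a⟩, ?_,
      M'.iso.2.2.2 a g ha u q hu⟩
    exact h'.norm (a : G) (mul_inv_eq_iff_eq_mul.1 hax) _ hq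
  -- more than the class of `x`
  have hcard : Nat.card ↥(qImage Q ⊓ P) = 2 ^ 13 :=
    (M.conjugate_structure (x := x) (g := g₁) rfl hne₁ _ _ rfl rfl).1
  obtain ⟨u, huU, hune⟩ : ∃ u ∈ U, ∀ w : leechLattice, u ≠ w + w ∧ u ≠ bigE none + (w + w) := by
    by_contra hno
    push Not at hno
    let S : Finset G := {1, z, up x, z * up x}
    have hsub : ∀ a ∈ qImage Q ⊓ P, a ∈ S := by
      rintro _ ⟨⟨a, ha, rfl⟩, haP⟩
      obtain ⟨u, hu⟩ := M'.iso.2.1 (QuotientGroup.mk (⟨a, ha⟩ : Q))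
      obtain ⟨w, hw⟩ := hno u ⟨⟨a, ha⟩, haP, hu⟩
      simp only [S, Finset.mem_insert, Finset.mem_singleton]
      by_cases hw' : u = w + w
      · rw [hw', (M'.iso.2.2.1 _).2 ⟨w, rfl⟩] at hu
        rcases M'.center_cases ((QuotientGroup.eq_one_iff _).1 hu.symm) with h1 | h1
        · exact Or.inl h1
        · exact Or.inr (Or.inl h1)
      · rw [hw hw', M'.psi_congr (u := w) rfl] at hu
        have hmem := QuotientGroup.eq.1 (hx.symm.trans hu)
        rcases M'.center_cases hmem with h1 | h1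
        · exact Or.inr (Or.inr (Or.inl (inv_mul_eq_one.1 h1).symm))
        · refine Or.inr (Or.inr (Or.inr ?_))
          have h3 : (up x)⁻¹ * (a : G) = z := h1
          rw [inv_mul_eq_iff_eq_mul] at h3
          show (a : G) = _
          rw [h3]
          exact Subgroup.mem_centralizer_singleton_iff.1
            (x : Subgroup.centralizer ({z} : Set G)).2
    have hle : Nat.card ↥(qImage Q ⊓ P) ≤ S.card := by
      rw [← Nat.card_eq_finsetCard]
      exact Nat.card_le_card_of_injective (fun a => (⟨a, hsub a a.2⟩ : S))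
        fun a b hab => Subtype.ext (congrArg (fun c : S => (c : G)) hab)
    have : S.card ≤ 4 := Finset.card_le_four
    rw [hcard] at hle
    omega
  obtain ⟨p, p', hpp, hpU⟩ := frame_pair hUd hUω hUinv huU hune
  obtain ⟨q, hqP, hq⟩ := hpU
  have hq32 := sqNorm_pairV hpp
  obtain ⟨a, haC, hat⟩ := M'.transitive_involutions q t (M'.orderOf_of_norm32 hq32 hq) ht
    (M'.not_conj_of_norm32 hq32 hq) hn
  refine ⟨a * g₁, ?_, ?_, ?_⟩
  · have he : a * g₁ * z * (a * g₁)⁻¹ = a * up x * a⁻¹ := by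
      show _ = a * (g₁ * z * g₁⁻¹) * a⁻¹
      group
    rw [he]
    exact h.norm a (Subgroup.mem_centralizer_singleton_iff.1 haC) _ (M.mem_QG x)
  · intro he
    refine hne₁ (mul_left_cancel (a := a) (mul_right_cancel (b := a⁻¹) ?_))
    rw [show a * (g₁ * z * g₁⁻¹) * a⁻¹ = a * g₁ * z * (a * g₁)⁻¹ by group, he,
      Subgroup.mem_centralizer_singleton_iff.1 haC, mul_inv_cancel_right]
  · obtain ⟨r, hr, hre⟩ := hqP
    refine ⟨r, hr, ?_⟩
    rw [← hat, ← hre]
    show a * g₁ * r * (a * g₁)⁻¹ = a * (g₁ * r * g₁⁻¹) * a⁻¹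
    group

set_option maxHeartbeats 1000000 in
/-- The frame in standard position for a short class. -/
theorem baby_of_std {t : Q} (ht : ψ shortV = QuotientGroup.mk t)
    [((Subgroup.zpowers (up t)).subgroupOf (Subgroup.centralizer ({up t} : Set G))).Normal] :
    IsOfBabyMonsterType (↥(Subgroup.centralizer ({up t} : Set G)) ⧸
      (Subgroup.zpowers (up t)).subgroupOf (Subgroup.centralizer ({up t} : Set G))) := by
  classical
  haveI : Fact (Nat.Prime 2) := ⟨Nat.prime_two⟩
  have h := M.xcent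
  have ht2 := M.orderOf_of_norm32 sqNorm_shortV ht
  have hntz := M.not_conj_of_norm32 sqNorm_shortV ht
  have ht1 : up t ≠ 1 := CfsgLib.Involutions.invol_ne_one ht2
  have htt := CfsgLib.Involutions.invol_mul_self ht2
  have htz : up t ≠ z := fun e => hntz (e.symm ▸ IsConj.refl z)
  have hxz := M.noncentral (Or.inl rfl) sqNorm_shortV ht
  set π := QuotientGroup.mk' ((Subgroup.zpowers (up t)).subgroupOf (Subgroup.centralizer ({up t} : Set G))) with hπ
  have hπ1 : ∀ y : (Subgroup.centralizer ({up t} : Set G)), π y = 1 ↔ (y : G) = 1 ∨ (y : G) = up t := fun y => by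
    rw [hπ, QuotientGroup.mk'_apply, QuotientGroup.eq_one_iff, Subgroup.mem_subgroupOf]
    refine ⟨fun hy => ?_, ?_⟩
    · obtain ⟨i, hi⟩ := Subgroup.mem_zpowers_iff.1 hy
      rcases Int.even_or_odd' i with ⟨m, rfl | rfl⟩
      · left; rw [← hi, zpow_mul, zpow_two, htt, one_zpow]
      · right; rw [← hi, zpow_add, zpow_mul, zpow_two, htt, one_zpow, one_mul, zpow_one]
    · rintro (e | e) <;> rw [e]
      exacts [one_mem _, Subgroup.mem_zpowers _]
  -- lifts of `{0, v}` modulo the doubles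
  let K : Subgroup G :=
    { carrier := {a | ∃ q : Q, up q = a ∧ ∃ w ∈ pairSub, ψ w = (QuotientGroup.mk q : Q ⧸ Subgroup.center Q)}
      one_mem' := ⟨1, rfl, 0, zero_mem _, M.psi_zero⟩
      mul_mem' := by
        rintro _ _ ⟨q, rfl, w, hw, hq⟩ ⟨r, rfl, w', hw', hr⟩
        exact ⟨q * r, rfl, w + w', add_mem hw hw', by rw [M.iso.1, hq, hr, QuotientGroup.mk_mul]⟩
      inv_mem' := by
        rintro _ ⟨q, rfl, w, hw, hq⟩
        exact ⟨q⁻¹, rfl, -w, neg_mem hw, by rw [M.psi_neg, hq, QuotientGroup.mk_inv]⟩ }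
  obtain ⟨hzC, hzQ⟩ := M.z_mem
  have hclos : Subgroup.closure ({up t, z} : Set G) ≤ K := by
    rw [Subgroup.closure_le]
    rintro a (rfl | rfl)
    · exact ⟨t, rfl, shortV, shortV_mem_pairSub, ht⟩
    · exact ⟨⟨⟨a, hzC⟩, hzQ⟩, rfl, 0, zero_mem _, M.psi_zero.trans
        ((QuotientGroup.eq_one_iff _).2 (M.mem_center_of (Or.inr rfl))).symm⟩
  -- the kernel of the action
  set P : Subgroup G := qImage Q ⊓ (Subgroup.centralizer ({up t} : Set G)) with hPdef
  have hperpP : ∀ {w : leechLattice} {q : Q}, ψ w = QuotientGroup.mk q → (up q ∈ P ↔ w ∈ perpV) := by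
    intro w q hq
    rw [← M.commute_iff hq ht]
    exact ⟨fun hp => Subgroup.mem_centralizer_singleton_iff.1 hp.2,
      fun hp => ⟨M.mem_QG q, Subgroup.mem_centralizer_singleton_iff.2 hp⟩⟩
  have hCP : ∀ c ∈ (Subgroup.centralizer ({z} : Set G)), (∀ x ∈ P, ∃ y ∈ Subgroup.closure ({up t, z} : Set G), c * x * c⁻¹ = x * y) ↔
      c ∈ qImage Q := by
    intro c hc
    constructor
    · intro hact
      set cC : (Subgroup.centralizer ({z} : Set G)) := ⟨c, hc⟩
      obtain ⟨g', hg'⟩ := QuotientGroup.mk_surjective (e (QuotientGroup.mk cC))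
      have hkey : ∀ w ∈ perpV, g' • w - w ∈ pairSub := by
        intro w hw
        obtain ⟨q, hq⟩ := M.psi_lift w
        obtain ⟨y, hy, hye⟩ := hact _ ((hperpP hq).2 hw)
        obtain ⟨r, hr, w', hw', hrw⟩ := hclos hy
        have h1 := M.iso.2.2.2 cC g' hg' w q hq
        have h2 : (⟨cC * q * cC⁻¹, (inferInstance : Q.Normal).conj_mem _ q.2 cC⟩ : Q) = q * r :=
          up_inj (by rw [up_mul, hr]; exact hye)
        rw [h2, QuotientGroup.mk_mul, ← hq, ← hrw, ← M.iso.1] at h1
        have h3 : ψ (g' • w - (w + w')) = 1 := by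
          rw [sub_eq_add_neg, M.iso.1, M.psi_neg, h1, mul_inv_cancel]
        obtain ⟨u, hu⟩ := (M.iso.2.2.1 _).1 h3
        rw [show g' • w - w = (g' • w - (w + w')) + w' by abel, hu]
        exact add_mem (dbl_mem_pairSub u) hw'
      have hv : g' • shortV = shortV ∨ g' • shortV = -shortV := by
        have h1 := hkey _ shortV_mem_perpV
        obtain ⟨u, hu | hu⟩ := mem_pairSub h1
        · rcases (short_classes (v := ((g' • shortV : leechLattice) : GolayPt → ℤ))
            (w := (shortV : GolayPt → ℤ)) (SetLike.coe_mem _)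
            (by rw [coe_smul_sqNorm, sqNorm_shortV]; norm_num) (by rw [sqNorm_shortV]; norm_num)
            (two_dvd_sub u hu)).2 (by rw [coe_smul_sqNorm, sqNorm_shortV]; norm_num) with e' | e'
          · exact Or.inl (Subtype.ext e'.symm)
          · refine Or.inr (Subtype.ext ?_)
            rw [AddSubgroup.coe_neg, e', neg_neg]
        · exfalso
          have := (short_classes (v := ((g' • shortV : leechLattice) : GolayPt → ℤ))
            (w := ((0 : leechLattice) : GolayPt → ℤ)) (SetLike.coe_mem _)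
            (by rw [coe_smul_sqNorm, sqNorm_shortV]; norm_num) (by simp [sqNorm])
            (two_dvd_sub (shortV + u) (by
              rw [sub_zero, show g' • shortV = (g' • shortV - shortV) + shortV by abel, hu]; abel))).1
          rw [coe_smul_sqNorm, sqNorm_shortV] at this
          simp [sqNorm] at this
      have hone : (QuotientGroup.mk g' : Spor.Co1) = 1 := by
        rcases hv with hv | hv
        · rw [shortStab_faithful hv hkey]; exact QuotientGroup.mk_one _
        · have h1 : negEl * g' = 1 := shortStab_faithful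
            (by rw [mul_smul, hv, negEl_smul, neg_neg]) (fun w hw => by
              rw [mul_smul, negEl_smul, show -(g' • w) - w = -(g' • w - w) - (w + w) by abel]
              exact sub_mem (neg_mem (hkey w hw)) (dbl_mem_pairSub w))
          rw [show g' = negEl⁻¹ from eq_inv_of_mul_eq_one_right h1,
            (QuotientGroup.eq_one_iff _).2 (inv_mem negEl_central)]
      rw [hone] at hg'
      have hcQ : cC ∈ Q := (QuotientGroup.eq_one_iff _).1 (e.injective (by rw [← hg', map_one]))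
      exact ⟨cC, hcQ, rfl⟩
    · intro hcQ x hx
      rcases h.commEl c hcQ x hx.1 with e' | e'
      · exact ⟨1, one_mem _, by rw [e', mul_one]⟩
      · exact ⟨z, Subgroup.subset_closure (by simp), by rw [e', h.comm x hx.1]⟩
  -- the second extraspecial group
  obtain ⟨g, hgQ, hgne, htg⟩ := M.exists_second ht2 hntz
  have hgZ : g * z * g⁻¹ ∉ centerIn (qImage Q) := by
    intro hh
    obtain ⟨hhQ, hhc⟩ := mem_centerIn.1 hh
    rcases h.center _ hhQ hhc with e' | e'
    · exact CfsgLib.Involutions.invol_ne_one M.setting.1 (conj_eq_one_iff.1 e')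
    · exact hgne e'
  have hF : (generalizedFittingSubgroup ↥(Subgroup.centralizer ({z} : Set G))).map (Subgroup.centralizer ({z} : Set G)).subtype = qImage Q := by
    rw [M.setting.2.1]
  have hQE := extraspecial_map M.setting.2.2.1
  have hQcard : Nat.card ↥(qImage Q) = 2 ^ (2 * 12 + 1) := by
    rw [Subgroup.card_map_of_injective (Subgroup.subtype_injective _), M.setting.2.2.2.1]
  obtain ⟨hLarge, xc, hxc, hxcz⟩ := large_involution_quotient M.setting.1 hF hQE 12 (by norm_num)
    hQcard g hgQ hgZ (up t) ht2 ⟨M.mem_QG t, htg⟩ hntz P rfl hCP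
  -- the centralizer of the image of `z`
  have hzt : z ∈ (Subgroup.centralizer ({up t} : Set G)) :=
    Subgroup.mem_centralizer_singleton_iff.2 (h.comm _ (M.mem_QG t)).symm
  set zb : ↥(Subgroup.centralizer ({up t} : Set G)) ⧸ (Subgroup.zpowers (up t)).subgroupOf (Subgroup.centralizer ({up t} : Set G)) := π ⟨z, hzt⟩ with hzb
  set D := Subgroup.centralizer ({zb} : Set _) with hD
  have hztnc : ¬ IsConj z (z * up t) := by
    obtain ⟨p, hp⟩ : ∃ p : Q, up p * up t * (up p)⁻¹ = z * up t := by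
      by_contra hno
      push Not at hno
      refine hxz (Subgroup.mem_center_iff.2 fun q => ?_)
      rcases h.commEl _ (M.mem_QG q) _ (M.mem_QG t) with hh | hh
      · exact up_inj (mul_inv_eq_iff_eq_mul.1 hh)
      · exact absurd hh (hno q)
    exact fun hh => hntz (hh.trans (isConj_iff.2 ⟨(up p)⁻¹, by rw [← hp]; simp [mul_assoc]⟩))
  have hDiff : ∀ a : (Subgroup.centralizer ({up t} : Set G)), π a ∈ D ↔ (a : G) ∈ (Subgroup.centralizer ({z} : Set G)) := by
    intro a
    rw [hD, Subgroup.mem_centralizer_singleton_iff, hzb, ← map_mul, ← map_mul,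
      Subgroup.mem_centralizer_singleton_iff]
    constructor
    · intro he
      have h1 : π (a * ⟨z, hzt⟩ * a⁻¹ * (⟨z, hzt⟩ : (Subgroup.centralizer ({up t} : Set G)))⁻¹) = 1 := by
        rw [map_mul π (a * ⟨z, hzt⟩ * a⁻¹), map_mul π (a * ⟨z, hzt⟩), map_inv, map_inv, he, map_mul]
        simp
      rcases (hπ1 _).1 h1 with e' | e'
      · exact mul_inv_eq_iff_eq_mul.1 (mul_inv_eq_one.1 e')
      · exfalso
        have e2 : (a : G) * z * (a : G)⁻¹ = up t * z := mul_inv_eq_iff_eq_mul.1 e'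
        refine hztnc (isConj_iff.2 ⟨a, ?_⟩)
        rw [e2, ← Subgroup.mem_centralizer_singleton_iff.1 hzt]
    · intro he
      exact congrArg π (Subtype.ext he)
  set H : Subgroup G := (Subgroup.centralizer ({z} : Set G)) ⊓ (Subgroup.centralizer ({up t} : Set G)) with hH
  let φ : H →* D :=
    { toFun := fun a => ⟨π ⟨a, a.2.2⟩, (hDiff _).2 a.2.1⟩
      map_one' := Subtype.ext (map_one π)
      map_mul' := fun a b => Subtype.ext (map_mul π ⟨a, a.2.2⟩ ⟨b, b.2.2⟩) }
  have hφ : Function.Surjective φ := by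
    rintro ⟨d, hd⟩
    obtain ⟨a, rfl⟩ := QuotientGroup.mk'_surjective _ d
    exact ⟨⟨a, (hDiff a).1 hd, a.2⟩, Subtype.ext rfl⟩
  -- the quotient
  set S : Subgroup Co0 := MulAction.stabilizer Co0 shortV with hS
  let ι : S →* Spor.Co1 := (QuotientGroup.mk' (Subgroup.center Co0)).comp S.subtype
  have hne0 : shortV ≠ -shortV := by decide +kernel
  have hι : Function.Injective ι := by
    rw [injective_iff_map_eq_one]
    intro s hs
    rcases eq_of_central ((QuotientGroup.eq_one_iff _).1 hs) with e' | e'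
    · exact Subtype.ext e'
    · exfalso
      have hs' : (s : Co0) • shortV = shortV := s.2
      rw [show (s : Co0) = negEl from e', negEl_smul] at hs'
      exact hne0 hs'.symm
  have himg : ∀ a : H, e (QuotientGroup.mk ⟨a, a.2.1⟩) ∈ ι.range := by
    intro a
    obtain ⟨g', hg'⟩ := QuotientGroup.mk_surjective (e (QuotientGroup.mk (⟨a, a.2.1⟩ : (Subgroup.centralizer ({z} : Set G)))))
    have h1 := M.iso.2.2.2 _ g' hg' shortV t ht
    have h2 : (⟨(⟨a, a.2.1⟩ : (Subgroup.centralizer ({z} : Set G))) * t * (⟨a, a.2.1⟩ : (Subgroup.centralizer ({z} : Set G)))⁻¹,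
        (inferInstance : Q.Normal).conj_mem _ t.2 _⟩ : Q) = t :=
      up_inj (mul_inv_eq_iff_eq_mul.2 (Subgroup.mem_centralizer_singleton_iff.1 a.2.2))
    rw [h2, ← ht] at h1
    have h3 : ψ (g' • shortV - shortV) = 1 := by
      rw [sub_eq_add_neg, M.iso.1, M.psi_neg, h1, mul_inv_cancel]
    obtain ⟨u, hu⟩ := (M.iso.2.2.1 _).1 h3
    rcases (short_classes (v := ((g' • shortV : leechLattice) : GolayPt → ℤ))
      (w := (shortV : GolayPt → ℤ)) (SetLike.coe_mem _)
      (by rw [coe_smul_sqNorm, sqNorm_shortV]; norm_num) (by rw [sqNorm_shortV]; norm_num)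
      (two_dvd_sub u hu)).2 (by rw [coe_smul_sqNorm, sqNorm_shortV]; norm_num) with e' | e'
    · exact ⟨⟨g', Subtype.ext e'.symm⟩, hg'⟩
    · refine ⟨⟨negEl * g', ?_⟩, ?_⟩
      · show (negEl * g') • shortV = shortV
        rw [mul_smul, negEl_smul]
        exact Subtype.ext (by rw [AddSubgroup.coe_neg, e'])
      · show (QuotientGroup.mk (negEl * g') : Spor.Co1) = _
        rw [QuotientGroup.mk_mul, (QuotientGroup.eq_one_iff _).2 negEl_central, one_mul, hg']
  let f : H →* S := (MonoidHom.ofInjective hι).symm.toMonoidHom.comp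
    (((e.toMonoidHom.comp (QuotientGroup.mk' Q)).comp (Subgroup.inclusion inf_le_left)).codRestrict
      ι.range himg)
  have hf : ∀ a : H, ι (f a) = e (QuotientGroup.mk ⟨a, a.2.1⟩) := fun a =>
    congrArg Subtype.val ((MonoidHom.ofInjective hι).apply_symm_apply _)
  have hfsurj : Function.Surjective f := by
    intro s
    obtain ⟨c, hc, hct⟩ := M.exists_lift (g := (s : Co0)) hxz ht
      (show ψ ((s : Co0) • shortV) = QuotientGroup.mk t by
        rw [show (s : Co0) • shortV = shortV from s.2, ht])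
    refine ⟨⟨c, c.2, Subgroup.mem_centralizer_singleton_iff.2 (mul_inv_eq_iff_eq_mul.1 hct)⟩,
      hι ?_⟩
    rw [hf]
    exact hc.symm
  have hfker : ∀ a : H, f a = 1 ↔ (a : G) ∈ qImage Q := by
    intro a
    rw [← hι.eq_iff, hf, map_one, MulEquiv.map_eq_one_iff, QuotientGroup.eq_one_iff]
    exact ⟨fun h' => ⟨_, h', rfl⟩, fun ⟨b, hb, hbe⟩ => (Subtype.ext hbe : b = ⟨a, a.2.1⟩) ▸ hb⟩
  have hker : φ.ker ≤ f.ker := by
    intro a ha
    rw [MonoidHom.mem_ker, hfker]
    rcases (hπ1 _).1 (congrArg Subtype.val ha) with e' | e'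
    · exact (show (a : G) = 1 from e') ▸ one_mem _
    · exact (show (a : G) = up t from e') ▸ M.mem_QG t
  let fb : D →* S := φ.liftOfSurjective hφ ⟨f, hker⟩
  have hfb : ∀ a, fb (φ a) = f a := MonoidHom.liftOfRightInverse_comp_apply _ _ _ ⟨f, hker⟩
  have hfbsurj : Function.Surjective fb := fun s => by
    obtain ⟨a, rfl⟩ := hfsurj s
    exact ⟨φ a, hfb a⟩
  set R := fb.ker with hR
  have hRiff : ∀ d : D, d ∈ R ↔ ∃ a : H, (a : G) ∈ qImage Q ∧ φ a = d := by
    intro d
    constructor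
    · intro hd
      obtain ⟨a, rfl⟩ := hφ d
      rw [hR, MonoidHom.mem_ker, hfb, hfker] at hd
      exact ⟨a, hd, rfl⟩
    · rintro ⟨a, ha, rfl⟩
      rw [hR, MonoidHom.mem_ker, hfb, hfker]
      exact ha
  -- as a subgroup of the quotient
  set Rb := (P.subgroupOf (Subgroup.centralizer ({up t} : Set G))).map π with hRb
  have hRmap : R.map D.subtype = Rb := by
    ext y
    constructor
    · rintro ⟨d, hd, rfl⟩
      obtain ⟨a, ha, rfl⟩ := (hRiff d).1 hd
      exact ⟨⟨a, a.2.2⟩, ⟨ha, a.2.2⟩, rfl⟩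
    · rintro ⟨a, ha, rfl⟩
      have haC : (a : G) ∈ (Subgroup.centralizer ({z} : Set G)) := by
        obtain ⟨b, -, hb⟩ := ha.1
        exact (show (b : G) = (a : G) from hb) ▸ b.2
      exact ⟨φ ⟨a, haC, a.2⟩, (hRiff _).2 ⟨_, ha.1, rfl⟩, rfl⟩
  have hRE : IsExtraspecial 2 ↥R :=
    extraspecial_equiv ((MulEquiv.subgroupCongr hRmap).symm.trans
      (R.equivMapOfInjective D.subtype D.subtype_injective).symm) hLarge.1
  have hzH : z ∈ H := ⟨hzC, hzt⟩
  have hzR : φ ⟨z, hzH⟩ ∈ R := (hRiff _).2 ⟨⟨z, hzH⟩, h.mem, rfl⟩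
  have hzb1 : zb ≠ 1 := fun e' => by
    rcases (hπ1 _).1 e' with e'' | e''
    · exact h.ne_one e''
    · exact htz e''.symm
  have hzcent : (⟨φ ⟨z, hzH⟩, hzR⟩ : R) ∈ Subgroup.center R := by
    rw [Subgroup.mem_center_iff]
    intro r
    exact Subtype.ext (Subtype.ext (Subgroup.mem_centralizer_singleton_iff.1 r.1.2))
  have hcen : ∀ r : R, r ∈ Subgroup.center R → ((r : D) : ↥(Subgroup.centralizer ({up t} : Set G)) ⧸ (Subgroup.zpowers (up t)).subgroupOf (Subgroup.centralizer ({up t} : Set G))) = 1 ∨ ((r : D) : ↥(Subgroup.centralizer ({up t} : Set G)) ⧸ (Subgroup.zpowers (up t)).subgroupOf (Subgroup.centralizer ({up t} : Set G))) = zb := by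
    intro r hr
    obtain ⟨c, hc1, hcu⟩ := (Nat.card_eq_two_iff' (1 : Subgroup.center R)).1 hRE.2
    by_cases hr1 : r = 1
    · left; rw [hr1]; rfl
    · right
      have e1 := hcu ⟨r, hr⟩ (fun e' => hr1 (congrArg Subtype.val e'))
      have e2 := hcu ⟨_, hzcent⟩ (fun e' => hzb1
        (congrArg (fun k : Subgroup.center R => (((k : R) : D) : ↥(Subgroup.centralizer ({up t} : Set G)) ⧸ (Subgroup.zpowers (up t)).subgroupOf (Subgroup.centralizer ({up t} : Set G)))) e'))
      exact congrArg (fun k : Subgroup.center R => (((k : R) : D) : ↥(Subgroup.centralizer ({up t} : Set G)) ⧸ (Subgroup.zpowers (up t)).subgroupOf (Subgroup.centralizer ({up t} : Set G)))) (e1.trans e2.symm)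
  -- the order
  have hPcard : Nat.card ↥P = 2 ^ 24 := by
    have h1 := h.card_le_two_mul (M.mem_QG t)
    have h2 : Nat.card ↥P ∣ Nat.card ↥(qImage Q) := Subgroup.card_dvd_of_le inf_le_left
    rw [hQcard] at h1 h2
    obtain ⟨k, hk, hke⟩ := (Nat.dvd_prime_pow Nat.prime_two).1 h2
    have hne : Nat.card ↥P ≠ 2 ^ (2 * 12 + 1) := by
      intro he
      have heq : P = qImage Q := Subgroup.eq_of_le_of_card_ge inf_le_left (by rw [hQcard, he])
      refine hxz (Subgroup.mem_center_iff.2 fun q => up_inj ?_)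
      have hq : up q ∈ P := heq.symm ▸ M.mem_QG q
      exact Subgroup.mem_centralizer_singleton_iff.1 hq.2
    change 2 ^ (2 * 12 + 1) ≤ 2 * Nat.card ↥P at h1
    rw [hke] at h1 hne ⊢
    interval_cases k <;> omega
  have hRcard : Nat.card ↥R = 2 ^ (2 * 11 + 1) := by
    rw [← Subgroup.card_map_of_injective D.subtype_injective (K := R), hRmap]
    let F : ↥(P.subgroupOf (Subgroup.centralizer ({up t} : Set G))) →* ↥(Subgroup.centralizer ({up t} : Set G)) ⧸ (Subgroup.zpowers (up t)).subgroupOf (Subgroup.centralizer ({up t} : Set G)) :=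
      π.comp (P.subgroupOf (Subgroup.centralizer ({up t} : Set G))).subtype
    have hrange : F.range = Rb := by
      rw [MonoidHom.range_comp, Subgroup.range_subtype]
    have htP : up t ∈ P := ⟨M.mem_QG t, Subgroup.mem_centralizer_singleton_iff.2 rfl⟩
    let tt : ↥(P.subgroupOf (Subgroup.centralizer ({up t} : Set G))) := ⟨⟨up t, htP.2⟩, htP⟩
    have hk : Nat.card F.ker = 2 := by
      have hkeq : F.ker = Subgroup.zpowers tt := by
        refine le_antisymm (fun a ha => ?_) (Subgroup.zpowers_le.2 ((hπ1 _).2 (Or.inr rfl)))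
        rcases (hπ1 _).1 ha with e' | e'
        · rw [show a = 1 from Subtype.ext (Subtype.ext e')]; exact one_mem _
        · rw [show a = tt from Subtype.ext (Subtype.ext e')]; exact Subgroup.mem_zpowers _
      rw [hkeq, Nat.card_zpowers]
      exact orderOf_eq_prime (by rw [pow_two]; exact Subtype.ext (Subtype.ext htt))
        fun e' => ht1 (congrArg (fun k : ↥(P.subgroupOf (Subgroup.centralizer ({up t} : Set G))) => ((k : (Subgroup.centralizer ({up t} : Set G))) : G)) e')
    have h1 := Subgroup.card_mul_index F.ker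
    rw [Subgroup.index_ker, hrange, hk,
      Nat.card_congr (Subgroup.subgroupOfEquivOfLe (inf_le_right : P ≤ (Subgroup.centralizer ({up t} : Set G)))).toEquiv, hPcard] at h1
    omega
  -- the generalized Fitting subgroup
  have hR2 : IsPGroup 2 R := hRE.1.1
  have hcore : pCore 2 ↥D = R := by
    refine le_antisymm (fun d hd => ?_) (CfsgLib.Base.le_pCore hR2)
    set N : Subgroup Co0 := ((pCore 2 ↥D).map fb).map S.subtype with hN
    have hN1 : N = ⊥ := by
      refine shortStab_pCore (fun n hn => ?_) (fun s hs n hn => ?_)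
        (((CfsgLib.Base.isPGroup_pCore 2 ↥D).map fb).map S.subtype)
      · obtain ⟨k, -, rfl⟩ := hn
        exact k.2
      · obtain ⟨_, ⟨k, hk, rfl⟩, rfl⟩ := hn
        obtain ⟨l, hl⟩ := hfbsurj ⟨s, hs⟩
        refine ⟨fb (l * k * l⁻¹), ⟨_, Subgroup.Normal.conj_mem inferInstance k hk l, rfl⟩, ?_⟩
        show ((fb (l * k * l⁻¹) : S) : Co0) = s * ((fb k : S) : Co0) * s⁻¹
        rw [map_mul fb, map_mul fb, map_inv fb, hl]
        rfl
    have : ((fb d : S) : Co0) ∈ N := ⟨fb d, ⟨d, hd, rfl⟩, rfl⟩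
    rw [hN1, Subgroup.mem_bot] at this
    exact Subtype.ext this
  have hFstar : generalizedFittingSubgroup ↥D = R := by
    rw [← hcore]
    refine CfsgLib.Components.fstar_eq_pCore_iff.2 ?_
    rw [hcore]
    intro d hd
    have h1 : (d : ↥(Subgroup.centralizer ({up t} : Set G)) ⧸ (Subgroup.zpowers (up t)).subgroupOf (Subgroup.centralizer ({up t} : Set G))) ∈ Subgroup.centralizer (Rb : Set _) := by
      rw [Subgroup.mem_centralizer_iff]
      intro y hy
      rw [← hRmap] at hy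
      obtain ⟨r, hr, rfl⟩ := hy
      exact congrArg Subtype.val (Subgroup.mem_centralizer_iff.1 hd r hr)
    rw [hLarge.2.1] at h1
    obtain ⟨k, -, hke⟩ := h1
    have hk : (d : ↥(Subgroup.centralizer ({up t} : Set G)) ⧸ (Subgroup.zpowers (up t)).subgroupOf (Subgroup.centralizer ({up t} : Set G))) ∈ R.map D.subtype := by rw [hRmap, ← hke]; exact k.2
    obtain ⟨r, hr, hre⟩ := hk
    exact (Subtype.ext hre : r = d) ▸ hr
  -- not weakly closed
  have hgt : g * z * g⁻¹ ∈ (Subgroup.centralizer ({up t} : Set G)) := by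
    have h' := h.conj g
    exact Subgroup.mem_centralizer_singleton_iff.2 (h'.comm _ htg).symm
  have hxcM : xc ∈ (Subgroup.centralizer ({up t} : Set G)) := (sup_le inf_le_right inf_le_right : P ⊔ _ ≤ (Subgroup.centralizer ({up t} : Set G))) hxc
  have hgC : g * z * g⁻¹ ∈ (Subgroup.centralizer ({z} : Set G)) := by
    obtain ⟨b, -, hb⟩ := hgQ
    exact hb ▸ b.2
  have hxD : π ⟨g * z * g⁻¹, hgt⟩ ∈ D := (hDiff _).2 hgC
  have hnwc : ∃ γ, (∃ hq : γ * zb * γ⁻¹ ∈ D, (⟨_, hq⟩ : D) ∈ R) ∧ γ * zb * γ⁻¹ ≠ zb := by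
    refine ⟨(π ⟨xc, hxcM⟩)⁻¹, ?_⟩
    have he : (π ⟨xc, hxcM⟩)⁻¹ * zb * (π ⟨xc, hxcM⟩)⁻¹⁻¹ = π ⟨g * z * g⁻¹, hgt⟩ := by
      rw [hzb, ← map_inv, ← map_inv, ← map_mul, ← map_mul]
      refine congrArg π (Subtype.ext ?_)
      show xc⁻¹ * z * xc⁻¹⁻¹ = g * z * g⁻¹
      conv_lhs => rw [← hxcz]
      group
    rw [he]
    refine ⟨⟨hxD, (hRiff _).2 ⟨⟨_, hgC, hgt⟩, hgQ, rfl⟩⟩, fun e' => ?_⟩
    have h1 : π (⟨g * z * g⁻¹, hgt⟩ * (⟨z, hzt⟩ : (Subgroup.centralizer ({up t} : Set G)))⁻¹) = 1 := by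
      rw [map_mul, map_inv, e', hzb, mul_inv_cancel]
    rcases (hπ1 _).1 h1 with e'' | e''
    · exact hgne (mul_inv_eq_one.1 e'')
    · refine hztnc (isConj_iff.2 ⟨g, ?_⟩)
      have e3 : g * z * g⁻¹ = up t * z := mul_inv_eq_iff_eq_mul.1 e''
      rw [e3, Subgroup.mem_centralizer_singleton_iff.1 hzt]
  -- the module
  obtain ⟨g₀, hg₀⟩ := exists_map (Or.inl rfl) shortV Spor.leechU sqNorm_shortV
    (by decide +kernel : sqNorm (Spor.leechU : GolayPt → ℤ) = 32)
  let τ : S ≃* Spor.Co2 :=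
    { toFun := fun s => ⟨((g₀ * s * g₀⁻¹ : Co0) : Equiv.Perm leechLattice), SetLike.coe_mem _, by
        show ((g₀ * s * g₀⁻¹ : Co0)) • Spor.leechU = Spor.leechU
        rw [← hg₀, mul_smul, mul_smul, inv_smul_smul, show (s : Co0) • shortV = shortV from s.2]⟩
      invFun := fun f => ⟨g₀⁻¹ * ⟨f.1, f.2.1⟩ * g₀, by
        show (g₀⁻¹ * ⟨f.1, f.2.1⟩ * g₀ : Co0) • shortV = shortV
        rw [mul_smul, mul_smul, hg₀, inv_smul_eq_iff, hg₀]
        exact f.2.2⟩
      left_inv := fun s => Subtype.ext (by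
        show g₀⁻¹ * (g₀ * s * g₀⁻¹) * g₀ = (s : Co0)
        group)
      right_inv := fun f => Subtype.ext (by
        show ((g₀ * (g₀⁻¹ * ⟨f.1, f.2.1⟩ * g₀) * g₀⁻¹ : Co0) : Equiv.Perm leechLattice) = f.1
        rw [show g₀ * (g₀⁻¹ * ⟨f.1, f.2.1⟩ * g₀) * g₀⁻¹ = (⟨f.1, f.2.1⟩ : Co0) by group])
      map_mul' := fun a b => Subtype.ext (by
        show ((g₀ * ((a : Co0) * b) * g₀⁻¹ : Co0) : Equiv.Perm leechLattice) =
          ((g₀ * a * g₀⁻¹ : Co0) : Equiv.Perm leechLattice) * ((g₀ * b * g₀⁻¹ : Co0) : _)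
        rw [← Subgroup.coe_mul]
        simp [mul_assoc]) }
  let e' : (↥D ⧸ R) ≃* Spor.Co2 :=
    (QuotientGroup.quotientKerEquivOfSurjective fb hfbsurj).trans τ
  have hperpU : ∀ y : leechPerpU, g₀⁻¹ • (y : leechLattice) ∈ perpV := by
    intro y
    show (16 : ℤ) ∣ _
    rw [← dotInt_smul' g₀, smul_inv_smul, hg₀]
    exact y.2
  have hliftR : ∀ (w : leechLattice) (q : Q) (hq : ψ w = QuotientGroup.mk q) (hw : w ∈ perpV),
      ∃ r : R, ((r : D) : ↥(Subgroup.centralizer ({up t} : Set G)) ⧸ (Subgroup.zpowers (up t)).subgroupOf (Subgroup.centralizer ({up t} : Set G))) = π ⟨up q, ((hperpP hq).2 hw).2⟩ := by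
    intro w q hq hw
    exact ⟨⟨φ ⟨up q, q.1.2, ((hperpP hq).2 hw).2⟩, (hRiff _).2 ⟨_, M.mem_QG q, rfl⟩⟩, rfl⟩
  choose lift hlift using fun y : leechPerpU =>
    hliftR _ _ (M.psi_lift (g₀⁻¹ • (y : leechLattice))).choose_spec (hperpU y)
  let ψ' : leechPerpU → R ⧸ Subgroup.center R := fun y => QuotientGroup.mk (lift y)
  -- independence of the lift
  have hwd : ∀ (w : leechLattice) (q q' : Q), ψ w = QuotientGroup.mk q → ψ w = QuotientGroup.mk q' →
      ∀ (hq : up q ∈ (Subgroup.centralizer ({up t} : Set G))) (hq' : up q' ∈ (Subgroup.centralizer ({up t} : Set G))) (r r' : R),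
      ((r : D) : ↥(Subgroup.centralizer ({up t} : Set G)) ⧸ (Subgroup.zpowers (up t)).subgroupOf (Subgroup.centralizer ({up t} : Set G))) = π ⟨up q, hq⟩ → ((r' : D) : ↥(Subgroup.centralizer ({up t} : Set G)) ⧸ (Subgroup.zpowers (up t)).subgroupOf (Subgroup.centralizer ({up t} : Set G))) = π ⟨up q', hq'⟩ →
      (QuotientGroup.mk r : R ⧸ Subgroup.center R) = QuotientGroup.mk r' := by
    intro w q q' hq hq' hqt hqt' r r' hr hr'
    rw [QuotientGroup.eq]
    have hmem : q⁻¹ * q' ∈ Subgroup.center Q := QuotientGroup.eq.1 (hq.symm.trans hq')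
    have hval : (((r⁻¹ * r' : R) : D) : ↥(Subgroup.centralizer ({up t} : Set G)) ⧸ (Subgroup.zpowers (up t)).subgroupOf (Subgroup.centralizer ({up t} : Set G))) = π (⟨up q, hqt⟩⁻¹ * ⟨up q', hqt'⟩) := by
      rw [map_mul, map_inv, ← hr, ← hr']; rfl
    rcases M.center_cases hmem with h1 | h1
    · rw [show r⁻¹ * r' = 1 from Subtype.ext (Subtype.ext (hval.trans
        ((hπ1 _).2 (Or.inl h1))))]
      exact one_mem _
    · rw [show r⁻¹ * r' = ⟨φ ⟨z, hzH⟩, hzR⟩ from Subtype.ext (Subtype.ext (hval.trans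
        (congrArg π (Subtype.ext h1))))]
      exact hzcent
  have hψ : ∀ (y : leechPerpU) (q : Q), ψ (g₀⁻¹ • (y : leechLattice)) = QuotientGroup.mk q →
      ∀ (hq : up q ∈ (Subgroup.centralizer ({up t} : Set G))) (r : R), ((r : D) : ↥(Subgroup.centralizer ({up t} : Set G)) ⧸ (Subgroup.zpowers (up t)).subgroupOf (Subgroup.centralizer ({up t} : Set G))) = π ⟨up q, hq⟩ →
      ψ' y = QuotientGroup.mk r := fun y q hq hqt r hr =>
    hwd _ _ q (M.psi_lift (g₀⁻¹ • (y : leechLattice))).choose_spec hq _ hqt _ r (hlift y) hr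
  refine ⟨zb, R, inferInstance,
    ⟨orderOf_eq_prime (by rw [pow_two, hzb, ← map_mul,
      show (⟨z, hzt⟩ * ⟨z, hzt⟩ : (Subgroup.centralizer ({up t} : Set G))) = 1 from Subtype.ext h.inv, map_one]) hzb1,
      hFstar, hRE, hRcard, hnwc⟩,
    e', ψ', fun a b => ?_, fun r => ?_, fun y => ?_, fun d s hds a b hab r hr => ?_⟩
  · -- sums
    obtain ⟨qa, hqa⟩ := M.psi_lift (g₀⁻¹ • (a : leechLattice))
    obtain ⟨qb, hqb⟩ := M.psi_lift (g₀⁻¹ • (b : leechLattice))
    obtain ⟨ra, hra⟩ := hliftR _ qa hqa (hperpU a)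
    obtain ⟨rb, hrb⟩ := hliftR _ qb hqb (hperpU b)
    rw [hψ a qa hqa _ ra hra, hψ b qb hqb _ rb hrb, ← QuotientGroup.mk_mul]
    refine hψ (a + b) (qa * qb) (by
      rw [AddSubgroup.coe_add, coe_smul_add, M.iso.1, hqa, hqb, QuotientGroup.mk_mul])
      (mul_mem ((hperpP hqa).2 (hperpU a)).2 ((hperpP hqb).2 (hperpU b)).2) (ra * rb) ?_
    show ((ra : D) : ↥(Subgroup.centralizer ({up t} : Set G)) ⧸ (Subgroup.zpowers (up t)).subgroupOf (Subgroup.centralizer ({up t} : Set G))) * ((rb : D) : ↥(Subgroup.centralizer ({up t} : Set G)) ⧸ (Subgroup.zpowers (up t)).subgroupOf (Subgroup.centralizer ({up t} : Set G))) = _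
    rw [hra, hrb, ← map_mul]
    rfl
  · -- onto
    obtain ⟨r, rfl⟩ := QuotientGroup.mk_surjective r
    obtain ⟨a, ⟨aC, haQ, haa⟩, har⟩ := (hRiff r).1 r.2
    let q : Q := ⟨aC, haQ⟩
    have hqt : up q ∈ (Subgroup.centralizer ({up t} : Set G)) := by
      rw [show up q = (a : G) from haa]
      exact a.2.2
    obtain ⟨w, hw⟩ := M.iso.2.1 (QuotientGroup.mk q)
    have hwp : w ∈ perpV := (hperpP hw).1 ⟨M.mem_QG q, hqt⟩
    have hmemU : g₀ • w ∈ leechPerpU := by
      show (16 : ℤ) ∣ _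
      rw [show Spor.vecU = (Spor.leechU : GolayPt → ℤ) from rfl, ← hg₀, dotInt_smul']
      exact hwp
    refine ⟨⟨g₀ • w, hmemU⟩, hψ _ q (by rw [inv_smul_smul]; exact hw) hqt r ?_⟩
    rw [← har]
    exact congrArg π (Subtype.ext haa.symm)
  · -- the kernel
    obtain ⟨q, hq⟩ := M.psi_lift (g₀⁻¹ • (y : leechLattice))
    obtain ⟨r, hr⟩ := hliftR _ q hq (hperpU y)
    rw [hψ y q hq _ r hr, QuotientGroup.eq_one_iff]
    constructor
    · intro hrc
      have hcase : up q = 1 ∨ up q = z ∨ up q = up t ∨ up q = z * up t := by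
        rcases hcen r hrc with h1 | h1
        · rw [hr] at h1
          rcases (hπ1 _).1 h1 with h2 | h2
          · exact Or.inl h2
          · exact Or.inr (Or.inr (Or.inl h2))
        · rw [hr, hzb] at h1
          have h2 : π ((⟨z, hzt⟩ : (Subgroup.centralizer ({up t} : Set G)))⁻¹ * ⟨up q, ((hperpP hq).2 (hperpU y)).2⟩) = 1 := by
            rw [map_mul, map_inv, h1, inv_mul_cancel]
          rcases (hπ1 _).1 h2 with h3 | h3
          · exact Or.inr (Or.inl (inv_mul_eq_one.1 h3).symm)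
          · refine Or.inr (Or.inr (Or.inr ?_))
            exact inv_mul_eq_iff_eq_mul.1 h3
      have hK : up q ∈ K := by
        rcases hcase with h1 | h1 | h1 | h1 <;> rw [h1]
        · exact one_mem _
        · exact hclos (Subgroup.subset_closure (by simp))
        · exact hclos (Subgroup.subset_closure (by simp))
        · exact mul_mem (hclos (Subgroup.subset_closure (by simp)))
            (hclos (Subgroup.subset_closure (by simp)))
      obtain ⟨q', hq', w, hw, hqw⟩ := hK
      rw [up_inj hq', ← hq] at hqw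
      have h3 : ψ (g₀⁻¹ • (y : leechLattice) - w) = 1 := by
        rw [sub_eq_add_neg, M.iso.1, M.psi_neg, hqw, mul_inv_cancel]
      obtain ⟨u, hu⟩ := (M.iso.2.2.1 _).1 h3
      obtain ⟨u', hu'⟩ := mem_pairSub hw
      rcases hu' with rfl | rfl
      · refine Or.inl ⟨g₀ • (u + u'), ?_⟩
        rw [← coe_smul_add, show u + u' + (u + u') = (u + u) + (u' + u') by abel, ← hu,
          sub_add_cancel, smul_inv_smul]
      · refine Or.inr ⟨g₀ • (u + u'), ?_⟩
        rw [← coe_smul_add, ← hg₀, ← coe_smul_add,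
          show shortV + (u + u' + (u + u')) = (u + u) + (shortV + (u' + u')) by abel, ← hu,
          sub_add_cancel, smul_inv_smul]
    · intro hy
      have hK : up q ∈ Subgroup.closure ({up t, z} : Set G) := by
        have : ψ (g₀⁻¹ • (y : leechLattice)) = 1 ∨
            ψ (g₀⁻¹ • (y : leechLattice)) = QuotientGroup.mk t := by
          rcases hy with ⟨w, hw⟩ | ⟨w, hw⟩
          · left; rw [hw, coe_smul_add]; exact (M.iso.2.2.1 _).2 ⟨_, rfl⟩
          · right
            rw [hw, coe_smul_add, coe_smul_add, inv_smul_eq_iff.2 hg₀.symm, M.psi_congr rfl, ht]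
        rcases this with h1 | h1
        · rw [hq, QuotientGroup.eq_one_iff] at h1
          rcases M.center_cases h1 with h2 | h2 <;> rw [h2]
          · exact one_mem _
          · exact Subgroup.subset_closure (by simp)
        · rw [hq, eq_comm, QuotientGroup.eq] at h1
          rcases M.center_cases h1 with h2 | h2
          · rw [← (inv_mul_eq_one.1 (show (up t)⁻¹ * up q = 1 from h2))]
            exact Subgroup.subset_closure (by simp)
          · rw [inv_mul_eq_iff_eq_mul.1 (show (up t)⁻¹ * up q = z from h2)]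
            exact mul_mem (Subgroup.subset_closure (by simp)) (Subgroup.subset_closure (by simp))
      refine Subgroup.mem_center_iff.2 fun r' => Subtype.ext (Subtype.ext ?_)
      show ((r' : D) : ↥(Subgroup.centralizer ({up t} : Set G)) ⧸ (Subgroup.zpowers (up t)).subgroupOf (Subgroup.centralizer ({up t} : Set G))) * ((r : D) : ↥(Subgroup.centralizer ({up t} : Set G)) ⧸ (Subgroup.zpowers (up t)).subgroupOf (Subgroup.centralizer ({up t} : Set G))) = _ * ((r' : D) : ↥(Subgroup.centralizer ({up t} : Set G)) ⧸ (Subgroup.zpowers (up t)).subgroupOf (Subgroup.centralizer ({up t} : Set G)))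
      rw [hr]
      suffices hsub : ∀ (a : G) (ha : a ∈ (Subgroup.centralizer ({up t} : Set G))), a ∈ Subgroup.closure ({up t, z} : Set G) →
          π ⟨a, ha⟩ = 1 ∨ π ⟨a, ha⟩ = zb from by
        rcases hsub _ _ hK with h1 | h1 <;> rw [h1]
        · simp
        · exact Subgroup.mem_centralizer_singleton_iff.1 r'.1.2
      intro a ha haK
      let L : Subgroup G :=
        ((Subgroup.zpowers zb).comap π).map (Subgroup.centralizer ({up t} : Set G)).subtype
      have haL : a ∈ L := by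
        refine ((Subgroup.closure_le L).2 ?_) haK
        rintro b (rfl | rfl)
        · exact ⟨⟨_, Subgroup.mem_centralizer_singleton_iff.2 rfl⟩,
            (by rw [SetLike.mem_coe, Subgroup.mem_comap, (hπ1 _).2 (Or.inr rfl)]; exact one_mem _), rfl⟩
        · exact ⟨⟨_, hzt⟩, Subgroup.mem_zpowers _, rfl⟩
      obtain ⟨b, hb, hba⟩ := haL
      obtain rfl : b = ⟨a, ha⟩ := Subtype.ext hba
      obtain ⟨i, hi⟩ := Subgroup.mem_zpowers_iff.1 hb
      rw [← hi]
      have hzz : zb * zb = 1 := by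
        rw [hzb, ← map_mul, show (⟨z, hzt⟩ * ⟨z, hzt⟩ : (Subgroup.centralizer ({up t} : Set G))) = 1 from Subtype.ext h.inv, map_one]
      rcases Int.even_or_odd' i with ⟨m, rfl | rfl⟩
      · left; rw [zpow_mul, zpow_two, hzz, one_zpow]
      · right; rw [zpow_add, zpow_mul, zpow_two, hzz, one_zpow, one_mul, zpow_one]
  · -- compatibility
    obtain ⟨c, rfl⟩ := hφ d
    obtain ⟨q, hq⟩ := M.psi_lift (g₀⁻¹ • (a : leechLattice))
    obtain ⟨ra, hra⟩ := hliftR _ q hq (hperpU a)
    have hrr : ∃ k ∈ Subgroup.center R, r = ra * k := by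
      refine ⟨ra⁻¹ * r, QuotientGroup.eq.1 ?_, (mul_inv_cancel_left _ _).symm⟩
      rw [← hψ a q hq _ ra hra, hr]
    have hs1 : (g₀ * (f c : Co0) * g₀⁻¹ : Co0) • (a : leechLattice) = (b : leechLattice) := by
      rw [← hab, ← hds]
      show _ = (τ (QuotientGroup.quotientKerEquivOfSurjective fb hfbsurj (QuotientGroup.mk (φ c)))) • _
      rw [show QuotientGroup.quotientKerEquivOfSurjective fb hfbsurj (QuotientGroup.mk (φ c)) = f c
        from hfb c]
      rfl
    rw [mul_smul, mul_smul] at hs1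
    have hg' : (QuotientGroup.mk (f c : Co0) : Spor.Co1) =
        e (QuotientGroup.mk (⟨c, c.2.1⟩ : (Subgroup.centralizer ({z} : Set G)))) := hf c
    have h1 := M.iso.2.2.2 ⟨c, c.2.1⟩ _ hg' _ q hq
    rw [show (f c : Co0) • g₀⁻¹ • (a : leechLattice) = g₀⁻¹ • (b : leechLattice) by
      rw [← hs1, inv_smul_smul]] at h1
    have hqc : up q ∈ (Subgroup.centralizer ({up t} : Set G)) := ((hperpP hq).2 (hperpU a)).2
    obtain ⟨k, hk, rfl⟩ := hrr
    let ra' : R := ⟨φ c * ra * (φ c)⁻¹, (inferInstance : R.Normal).conj_mem _ ra.2 _⟩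
    have hconj : φ c * (k : D) * (φ c)⁻¹ = k := by
      rw [mul_inv_eq_iff_eq_mul]
      refine Subtype.ext ?_
      show (φ c : ↥(Subgroup.centralizer ({up t} : Set G)) ⧸ (Subgroup.zpowers (up t)).subgroupOf (Subgroup.centralizer ({up t} : Set G))) * ((k : D) : ↥(Subgroup.centralizer ({up t} : Set G)) ⧸ (Subgroup.zpowers (up t)).subgroupOf (Subgroup.centralizer ({up t} : Set G))) = ((k : D) : ↥(Subgroup.centralizer ({up t} : Set G)) ⧸ (Subgroup.zpowers (up t)).subgroupOf (Subgroup.centralizer ({up t} : Set G))) * (φ c : ↥(Subgroup.centralizer ({up t} : Set G)) ⧸ (Subgroup.zpowers (up t)).subgroupOf (Subgroup.centralizer ({up t} : Set G)))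
      rcases hcen k hk with hk1 | hk1 <;> rw [hk1]
      · simp
      · exact Subgroup.mem_centralizer_singleton_iff.1 (φ c).2
    have hmk : (QuotientGroup.mk ⟨φ c * ((ra * k : R) : D) * (φ c)⁻¹,
        (inferInstance : R.Normal).conj_mem _ (ra * k).2 _⟩ : R ⧸ Subgroup.center R) =
          QuotientGroup.mk ra' := by
      rw [eq_comm, QuotientGroup.eq]
      convert hk using 1
      refine Subtype.ext ?_
      show (φ c * (ra : D) * (φ c)⁻¹)⁻¹ * (φ c * ((ra : D) * (k : D)) * (φ c)⁻¹) = k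
      conv_rhs => rw [← hconj]
      group
    rw [hmk]
    refine hψ b _ h1 (mul_mem (mul_mem c.2.2 hqc) (inv_mem c.2.2)) ra' ?_
    show π _ * ((ra : D) : ↥(Subgroup.centralizer ({up t} : Set G)) ⧸ (Subgroup.zpowers (up t)).subgroupOf (Subgroup.centralizer ({up t} : Set G))) * (π _)⁻¹ = _
    rw [hra, ← map_inv, ← map_mul, ← map_mul]
    rfl

/-- The centralizer of an involution of the second class modulo it is of Baby Monster type. -/
theorem baby_type (t : Q) (ht : orderOf (up t) = 2) (hn : ¬ IsConj z (up t))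
    [((Subgroup.zpowers (up t)).subgroupOf (Subgroup.centralizer ({up t} : Set G))).Normal] :
    IsOfBabyMonsterType (↥(Subgroup.centralizer ({up t} : Set G)) ⧸
      (Subgroup.zpowers (up t)).subgroupOf (Subgroup.centralizer ({up t} : Set G))) := by
  obtain ⟨v, hv, hvt⟩ := M.norm32_of_involution ht hn
  obtain ⟨g₀, rfl⟩ := exists_map (Or.inl rfl) shortV v sqNorm_shortV hv
  exact (M.twist g₀).baby_of_std hvt

end CfsgLib.ThreeTransp.MonsterFrame
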