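import Cfsg.Agent.Lib.ThreeTransp.Par

/-!
The centralizer of a transvection in the special linear group over the field with two elements.
-/

set_option autoImplicit false

namespace CfsgLib.ThreeTransp.Par

open Matrix

variable {n : ℕ}

/-- Special linear group of degree `n + 2`. -/
abbrev SL (n : ℕ) : Type := Matrix.SpecialLinearGroup (Fin (n + 2)) (ZMod 2)

/-- Block matrix. -/
def mat (s : ZMod 2) (f a : V n) (A : Matrix (Fin n) (Fin n) (ZMod 2)) : Matrix (Fin (n + 2)) (Fin (n + 2)) (ZMod 2) :=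
  of (Fin.cons (Fin.cons 1 (Fin.cons s f))
    (Fin.cons (Fin.cons 0 (Fin.cons 1 0)) (fun i => Fin.cons 0 (Fin.cons (a i) (A i)))))

theorem mat_mulVec (s : ZMod 2) (f a : V n) (A : Matrix (Fin n) (Fin n) (ZMod 2)) (x : Fin (n + 2) → ZMod 2) :
    mat s f a A *ᵥ x =
      Fin.cons (x 0 + (s * x 1 + f ⬝ᵥ fun j => x j.succ.succ))
        (Fin.cons (x 1) (fun i => a i * x 1 + (A *ᵥ fun j => x j.succ.succ) i)) := by
  funext i
  refine Fin.cases ?_ (fun i => ?_) i
  · simp [mat, mulVec, dotProduct, Fin.sum_univ_succ]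
  refine Fin.cases ?_ (fun i => ?_) i <;> simp [mat, mulVec, dotProduct, Fin.sum_univ_succ]

theorem mat_mul (s s' : ZMod 2) (f a f' a' : V n) (A A' : Matrix (Fin n) (Fin n) (ZMod 2)) :
    mat s f a A * mat s' f' a' A' = mat (s + s' + f ⬝ᵥ a') (f' + f ᵥ* A') (a + A *ᵥ a') (A * A') := by
  refine ext_of_mulVec_single fun k => ?_
  generalize (Pi.single k 1 : Fin (n + 2) → ZMod 2) = x
  rw [← mulVec_mulVec, mat_mulVec, mat_mulVec, mat_mulVec]
  funext i
  refine Fin.cases ?_ (fun i => ?_) i
  · simp only [Fin.cons_zero, Fin.cons_succ, Fin.cons_one, add_dotProduct, ← dotProduct_mulVec]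
    rw [show (fun i => a' i * x 1 + (A' *ᵥ fun j => x j.succ.succ) i) = x 1 • a' + A' *ᵥ fun j => x j.succ.succ from
      funext fun i => by simp [mul_comm]]
    rw [dotProduct_add, dotProduct_smul, smul_eq_mul]
    ring
  refine Fin.cases ?_ (fun i => ?_) i
  · simp
  · simp only [Fin.cons_zero, Fin.cons_succ, Fin.cons_one, Pi.add_apply]
    rw [show (fun i => a' i * x 1 + (A' *ᵥ fun j => x j.succ.succ) i) = x 1 • a' + A' *ᵥ fun j => x j.succ.succ from
      funext fun i => by simp [mul_comm]]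
    rw [mulVec_add, mulVec_smul, Pi.add_apply, Pi.smul_apply, smul_eq_mul, mulVec_mulVec]
    ring

theorem mat_one : mat 0 0 0 (1 : Matrix (Fin n) (Fin n) (ZMod 2)) = 1 := by
  refine ext_of_mulVec_single fun k => ?_
  generalize (Pi.single k 1 : Fin (n + 2) → ZMod 2) = x
  rw [mat_mulVec, one_mulVec]
  funext i
  refine Fin.cases ?_ (fun i => ?_) i
  · simp
  refine Fin.cases ?_ (fun i => ?_) i <;> simp

theorem det_one_of_unit {M M' : Matrix (Fin (n + 2)) (Fin (n + 2)) (ZMod 2)} (h : M * M' = 1) : M.det = 1 := by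
  have h1 := congrArg Matrix.det h
  rw [det_mul, det_one] at h1
  revert h1; generalize M.det = u; generalize M'.det = w; revert u w; decide

/-- The parabolic as matrices. -/
def toMat (n : ℕ) : P n →* Matrix (Fin (n + 2)) (Fin (n + 2)) (ZMod 2) where
  toFun p := mat p.s p.f p.a p.A
  map_one' := mat_one
  map_mul' p q := (mat_mul ..).symm

/-- The parabolic in the special linear group. -/
def toSL (n : ℕ) : P n →* SL n where
  toFun p := ⟨toMat n p, det_one_of_unit (M' := toMat n p⁻¹) (by rw [← map_mul, mul_inv_cancel, map_one])⟩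
  map_one' := Subtype.ext (map_one (toMat n))
  map_mul' p q := Subtype.ext (map_mul (toMat n) p q)

theorem toSL_val (p : P n) : ((toSL n p : SL n) : Matrix (Fin (n + 2)) (Fin (n + 2)) (ZMod 2)) = mat p.s p.f p.a p.A :=
  rfl

theorem toSL_injective (n : ℕ) : Function.Injective (toSL n) := by
  intro p q h
  have h1 : ∀ i j, mat p.s p.f p.a p.A i j = mat q.s q.f q.a q.A i j := fun i j => by
    rw [← toSL_val, ← toSL_val, h]
  refine P.ext ?_ (funext fun j => ?_) (funext fun i => ?_) (Units.ext (Matrix.ext fun i j => ?_))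
  · simpa [mat] using h1 0 1
  · simpa [mat] using h1 0 j.succ.succ
  · simpa [mat] using h1 i.succ.succ 1
  · simpa [mat] using h1 i.succ.succ j.succ.succ

theorem mat_z : mat 1 0 0 (1 : Matrix (Fin n) (Fin n) (ZMod 2)) = transvection 0 1 1 := by
  refine ext_of_mulVec_single fun k => ?_
  generalize (Pi.single k 1 : Fin (n + 2) → ZMod 2) = x
  rw [mat_mulVec, transvection, add_mulVec, one_mulVec]
  funext i
  refine Fin.cases ?_ (fun i => ?_) i
  · simp [mulVec, dotProduct, single_apply]
  refine Fin.cases ?_ (fun i => ?_) i <;> simp [mulVec, dotProduct, single_apply, eq_comm, Fin.ext_iff]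

theorem range_toSL (z : SL n) (hz : (z : Matrix (Fin (n + 2)) (Fin (n + 2)) (ZMod 2)) = transvection 0 1 1) :
    (toSL n).range = Subgroup.centralizer ({z} : Set (SL n)) := by
  have hzc : z = toSL n ⟨1, 0, 0, 1⟩ := Subtype.ext (hz.trans mat_z.symm)
  have shape : ∀ g : SL n, g * z = z * g → ∃ A : Matrix (Fin n) (Fin n) (ZMod 2),
      (g : Matrix (Fin (n + 2)) (Fin (n + 2)) (ZMod 2)) =
        mat ((g : Matrix (Fin (n + 2)) (Fin (n + 2)) (ZMod 2)) 0 1) (fun j => g.1 0 j.succ.succ)
          (fun i => g.1 i.succ.succ 1) A := by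
    intro g hg
    refine ⟨fun i j => g.1 i.succ.succ j.succ.succ, ?_⟩
    have h := congrArg (fun x : SL n => x.1) hg
    simp only [Matrix.SpecialLinearGroup.coe_mul, hz] at h
    set M := g.1 with hM
    have hne : (0 : Fin (n + 2)) ≠ 1 := by simp [Fin.ext_iff]
    have h00 : M 1 1 = M 0 0 := by
      have := congrFun (congrFun h 0) 1
      simp at this
      linear_combination -this
    have hcol : ∀ i, i ≠ 0 → M i 0 = 0 := fun i hi => by
      have := congrFun (congrFun h i) 1
      simpa [mul_transvection_apply_same, transvection_mul_apply_of_ne _ _ _ _ hi] using this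
    have hrow : ∀ j, j ≠ 1 → M 1 j = 0 := fun j hj => by
      have := congrFun (congrFun h 0) j
      simpa [mul_transvection_apply_of_ne _ _ _ _ hj, transvection_mul_apply_same] using this
    have h1 : M 0 0 = 1 := by
      rcases TwistF2.z2_cases (M 0 0) with h0 | h0
      · refine absurd (det_eq_zero_of_column_eq_zero 0 fun i => ?_) (g.2.trans_ne one_ne_zero)
        by_cases hi : i = 0
        · exact hi ▸ h0
        · exact hcol i hi
      · exact h0
    ext i j
    refine Fin.cases ?_ (fun i => ?_) i <;> refine Fin.cases ?_ (fun j => ?_) j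
    · simpa [mat] using h1
    · refine Fin.cases ?_ (fun j => ?_) j <;> simp [mat]
    · refine Fin.cases ?_ (fun i => ?_) i <;> simp [mat, hcol]
    · refine Fin.cases ?_ (fun i => ?_) i <;> refine Fin.cases ?_ (fun j => ?_) j
      · simpa [mat, h00] using h1
      · simpa [mat] using hrow _ (by simp [Fin.ext_iff])
      · simp [mat]
      · simp [mat]
  refine le_antisymm ?_ fun g hg => ?_
  · rintro _ ⟨p, rfl⟩
    rw [Subgroup.mem_centralizer_singleton_iff, hzc, ← map_mul, ← map_mul]
    congr 1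
    ext : 1 <;> simp [mul_s, mul_f, mul_a, mul_A, add_comm]
  · rw [Subgroup.mem_centralizer_singleton_iff] at hg
    obtain ⟨A, hA⟩ := shape g hg
    obtain ⟨A', hA'⟩ := shape g⁻¹ (by rw [eq_mul_inv_iff_mul_eq, mul_assoc, ← hg, inv_mul_cancel_left])
    have h := congrArg (fun x : SL n => x.1) (mul_inv_cancel g)
    simp only [Matrix.SpecialLinearGroup.coe_mul, Matrix.SpecialLinearGroup.coe_one] at h
    rw [hA, hA', mat_mul, ← mat_one] at h
    have hAA : A * A' = 1 := Matrix.ext fun i j => by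
      simpa [mat] using congrFun (congrFun h i.succ.succ) j.succ.succ
    exact ⟨⟨_, _, _, ⟨A, A', hAA, mul_eq_one_comm.1 hAA⟩⟩, Subtype.ext hA.symm⟩

theorem map_pCoreOf {G : Type*} [Group G] (p : ℕ) (C : Subgroup G) (f : G ≃* G) :
    ((Cfsg.pCore p C).map C.subtype).map f.toMonoidHom =
      (Cfsg.pCore p (C.map f.toMonoidHom)).map (C.map f.toMonoidHom).subtype := by
  erw [← CfsgLib.Base.map_pCore_mulEquiv (p := p) (f.subgroupMap C)]
  rw [Subgroup.map_map]
  erw [Subgroup.map_map]
  rfl

theorem sl_conclusion (hn : 1 ≤ n) (z : SL n)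
    (hz : (z : Matrix (Fin (n + 2)) (Fin (n + 2)) (ZMod 2)) = transvection 0 1 1)
    (Q : Subgroup (SL n))
    (hQ : Q = (Cfsg.pCore 2 ↥(Subgroup.centralizer ({z} : Set (SL n)))).map
      (Subgroup.centralizer ({z} : Set (SL n))).subtype) :
    Cfsg.IsExtraspecial 2 Q ∧ Nat.card Q = 2 ^ (2 * n + 1) ∧
      (∃ E : Subgroup (SL n), E ≤ Q ∧ Cfsg.IsElementaryAbelian 2 E ∧ Nat.card E = 2 ^ (n + 1)) ∧
      Cfsg.IsLargeExtraspecial Q ∧
      ∃ K : Subgroup (SL n), K ≤ Subgroup.centralizer ({z} : Set (SL n)) ∧ Q ⊓ K = ⊥ ∧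
        Q ⊔ K = Subgroup.centralizer ({z} : Set (SL n)) ∧
        Nonempty (K ≃* Matrix.SpecialLinearGroup (Fin n) (ZMod 2)) := by
  haveI : Fact (Nat.Prime 2) := ⟨Nat.prime_two⟩
  let e := (MonoidHom.ofInjective (toSL_injective n)).trans (MulEquiv.subgroupCongr (range_toSL z hz))
  have hez : (e ⟨1, 0, 0, 1⟩ : SL n) = z := Subtype.ext (mat_z.trans hz.symm)
  obtain ⟨hX, hcard, hE, hC, hN, hzQ, K, hK, hQK, hsup, ⟨eK⟩⟩ := conclusion hn _ e z hez rfl Q hQ
  refine ⟨hX, hcard, hE, ?_, K, hK, hQK, hsup, ⟨eK.trans ?_⟩⟩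
  · obtain ⟨k, rfl⟩ : ∃ k, n = k + 1 := ⟨n - 1, by omega⟩
    have hQr : ∀ p : P (k + 1), p.A = 1 → toSL (k + 1) p ∈ Q := by
      intro p hp
      rw [hQ, ← CfsgLib.Base.map_pCore_mulEquiv e, pCore_eq, range_inl]
      exact ⟨e p, ⟨p, hp, rfl⟩, rfl⟩
    set b := toSL (k + 1) ⟨0, Pi.single 0 1, 0, 1⟩ with hb
    set c := toSL (k + 1) ⟨0, 0, Pi.single 0 1, 1⟩ with hc
    have hbQ : b ∈ Q := hQr _ rfl
    have hbc : c * b ≠ b * c := by
      rw [hb, hc, ← map_mul, ← map_mul]
      intro h
      have := congrArg P.s (toSL_injective _ h)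
      simp [mul_s] at this
    refine isLarge_of_mem_pCore_centralizer hX hC hN hbQ (fun h => hbc ((mem_centerIn.1 h).2 c (hQr _ rfl))) ?_ ?_
    · refine orderOf_eq_prime ?_ fun h => hbc (by rw [h, mul_one, one_mul])
      rw [hb, sq, ← map_mul]
      refine (congrArg _ ?_).trans (map_one _)
      ext : 1
      · simp [mul_s, one_eq]
      · simp only [mul_f, Units.val_one, vecMul_one, vtwo, one_eq]
      · simp [mul_a, one_eq]
      · exact one_mul 1
    · set σ : Equiv.Perm (Fin (k + 1 + 2)) := Equiv.swap 1 (0 : Fin (k + 1)).succ.succ with hσ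
      have hσ2 : σ.permMatrix (ZMod 2) * σ.permMatrix (ZMod 2) = 1 := by
        rw [← Matrix.permMatrix_mul, hσ, Equiv.swap_mul_self, Matrix.permMatrix_one]
      let w : SL (k + 1) := ⟨σ.permMatrix (ZMod 2), det_one_of_unit hσ2⟩
      have hww : w * w = 1 := Subtype.ext hσ2
      have hwz : w * z = b * w := by
        refine Subtype.ext (ext_of_mulVec_single fun j => ?_)
        simp only [Matrix.SpecialLinearGroup.coe_mul, hz, ← mat_z, hb, toSL_val, ← mulVec_mulVec]
        generalize (Pi.single j 1 : Fin (k + 1 + 2) → ZMod 2) = x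
        show σ.permMatrix (ZMod 2) *ᵥ _ = mat _ _ _ _ *ᵥ (σ.permMatrix (ZMod 2) *ᵥ x)
        rw [permMatrix_mulVec, permMatrix_mulVec, mat_mulVec, mat_mulVec]
        have s0 : σ 0 = 0 := Equiv.swap_apply_of_ne_of_ne (Fin.succ_ne_zero 0).symm (Fin.succ_ne_zero _).symm
        have s1 : σ 1 = (0 : Fin (k + 1)).succ.succ := Equiv.swap_apply_left _ _
        have s2 : σ (0 : Fin (k + 1)).succ.succ = 1 := Equiv.swap_apply_right _ _
        have s3 : ∀ i : Fin (k + 1), i ≠ 0 → σ i.succ.succ = i.succ.succ := fun i hi =>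
          Equiv.swap_apply_of_ne_of_ne (fun h => Fin.succ_ne_zero i (Fin.succ_injective _ h))
            (fun h => hi (Fin.succ_injective _ (Fin.succ_injective _ h)))
        funext i
        refine Fin.cases ?_ (fun i => ?_) i
        · simp only [Function.comp_apply, s0, Fin.cons_zero, single_dotProduct, s2, zero_dotProduct, one_mul,
            zero_mul, zero_add, add_zero]
        refine Fin.cases ?_ (fun i => ?_) i
        · simp only [Function.comp_apply, Fin.succ_zero_eq_one, s1, Fin.cons_succ, Fin.cons_zero, Fin.cons_one,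
            Pi.zero_apply, Units.val_one, one_mulVec, zero_mul, zero_add]
        · simp only [Function.comp_apply, Fin.cons_succ, Pi.zero_apply, Units.val_one, one_mulVec, zero_mul, zero_add]
          by_cases hi : i = 0
          · subst hi
            rw [s2, show (1 : Fin (k + 1 + 2)) = Fin.succ 0 from rfl, Fin.cons_succ, Fin.cons_zero]
          · rw [s3 i hi]; simp [Fin.cons_succ]
      have hcz : (MulAut.conj w) z = b := by
        rw [MulAut.conj_apply, hwz, mul_assoc, mul_inv_cancel, mul_one]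
      have hCb : (Subgroup.centralizer ({z} : Set (SL (k + 1)))).map (MulAut.conj w).toMonoidHom =
          Subgroup.centralizer ({b} : Set (SL (k + 1))) := by
        ext g
        constructor
        · rintro ⟨x, hx, rfl⟩
          rw [Subgroup.mem_centralizer_singleton_iff, ← hcz, MulEquiv.coe_toMonoidHom, ← map_mul, ← map_mul,
            Subgroup.mem_centralizer_singleton_iff.1 hx]
        · intro hg
          refine ⟨(MulAut.conj w).symm g, ?_, (MulAut.conj w).apply_symm_apply g⟩
          rw [SetLike.mem_coe, Subgroup.mem_centralizer_singleton_iff, ← (MulAut.conj w).symm_apply_apply z, hcz,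
            ← map_mul, ← map_mul, Subgroup.mem_centralizer_singleton_iff.1 hg]
      intro x hx
      have hz1 : z ≠ 1 := fun h => by
        have := toSL_injective (k + 1) (show toSL (k + 1) ⟨1, 0, 0, 1⟩ = toSL (k + 1) 1 by rw [map_one]; exact hez.trans h)
        exact one_ne_zero (congrArg P.s this)
      obtain ⟨y, -, -, hy⟩ := exists_centerIn_gen hX
      have hzb : (MulAut.conj w) b = z := by
        rw [MulAut.conj_apply, ← hcz, MulAut.conj_apply, mul_assoc, mul_assoc, mul_assoc,
          ← _root_.mul_inv_rev, hww, inv_one, mul_one, ← mul_assoc, hww, one_mul]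
      rcases hy x hx with rfl | rfl
      · exact one_mem _
      obtain rfl : z = x := (hy z hzQ).resolve_left hz1
      rw [← hCb, ← map_pCoreOf, ← hQ]
      exact ⟨b, hbQ, hzb⟩
  · exact (MulEquiv.ofBijective Matrix.SpecialLinearGroup.toGL
      ⟨Matrix.SpecialLinearGroup.toGL_injective, fun g => ⟨⟨g.1, by
        have h := g.det_ne_zero
        exact TwistF2.z2_ne _ h⟩, Units.ext rfl⟩⟩).symm

end CfsgLib.ThreeTransp.Par
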