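import Mathlib
import Cfsg.Agent.Lib.KnownB.PrimeOrder
import Cfsg.Agent.Lib.Aschbacher.Forms

/-!
Elements of odd prime order which are similarities of no alternating form.
-/

set_option autoImplicit false

namespace CfsgLib.ThreeTransp.AltDerange

open Matrix

variable {F : Type*} [Field F] {ι : Type} [Fintype ι] [DecidableEq ι]

/-- The matrix is a similarity of no non-degenerate alternating form. -/
def NoAlt (X : Matrix ι ι F) : Prop :=
  ∀ B : LinearMap.BilinForm F (ι → F), B.IsAlt → (∀ u, (∀ v, B u v = 0) → u = 0) →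
    ∀ lam : F, ¬ ∀ u v, B (X *ᵥ u) (X *ᵥ v) = lam * B u v

theorem eq_zero_of_basis {B : LinearMap.BilinForm F (ι → F)} (hnd : ∀ u, (∀ v, B u v = 0) → u = 0) {u : ι → F}
    (h : ∀ k, B u (Pi.single k 1) = 0) : u = 0 :=
  hnd u fun v => by
    rw [pi_eq_sum_univ' v, map_sum]
    exact Finset.sum_eq_zero fun k _ => by rw [map_smul, h k, smul_zero]

theorem exists_partner {B : LinearMap.BilinForm F (ι → F)} (hnd : ∀ u, (∀ v, B u v = 0) → u = 0) (i : ι) :
    ∃ j, B (Pi.single i 1) (Pi.single j 1) ≠ 0 := by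
  by_contra h
  push Not at h
  exact one_ne_zero (α := F) (by simpa using congrFun (eq_zero_of_basis hnd h) i)

/-- A multiplier of an element of order dividing `r` is an `r`th root of unity. -/
theorem lam_pow {B : LinearMap.BilinForm F (ι → F)} (hnd : ∀ u, (∀ v, B u v = 0) → u = 0) [Nonempty ι]
    {X : Matrix ι ι F} {r : ℕ} (hX : X ^ r = 1) {lam : F} (h : ∀ u v, B (X *ᵥ u) (X *ᵥ v) = lam * B u v) :
    lam ^ r = 1 := by
  have hk : ∀ (k : ℕ) u v, B ((X ^ k) *ᵥ u) ((X ^ k) *ᵥ v) = lam ^ k * B u v := fun k => by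
    induction k with
    | zero => simp
    | succ k ih =>
      intro u v
      rw [pow_succ' X, ← mulVec_mulVec, ← mulVec_mulVec, h, ih, pow_succ']
      ring
  obtain ⟨j, hj⟩ := exists_partner hnd (Classical.arbitrary ι)
  have := hk r (Pi.single (Classical.arbitrary ι) 1) (Pi.single j 1)
  rw [hX, one_mulVec, one_mulVec] at this
  exact mul_right_cancel₀ hj (by rw [one_mul]; exact this.symm)

/-- A Jordan block of size three beside trivial blocks. -/
theorem unipotent {n : ℕ} (hn : 4 ≤ n) {p : ℕ} [Fact p.Prime] [CharP F p] (hp : 3 ≤ p) :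
    ∃ X : Matrix (Fin n) (Fin n) F, X.det = 1 ∧ X ^ p = 1 ∧ (∀ z : F, X ≠ z • 1) ∧ NoAlt X := by
  let a : Fin n := ⟨0, by omega⟩
  let b : Fin n := ⟨1, by omega⟩
  let c : Fin n := ⟨2, by omega⟩
  have hab : a ≠ b := by simp [a, b, Fin.ext_iff]
  have hac : a ≠ c := by simp [a, c, Fin.ext_iff]
  have hbc : b ≠ c := by simp [b, c, Fin.ext_iff]
  let N : Matrix (Fin n) (Fin n) F := single a b 1 + single b c 1
  have hX : 1 + N = transvection b c 1 * transvection a b 1 := by
    simp only [N, transvection, mul_add, add_mul, one_mul, mul_one,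
      single_mul_single_of_ne _ _ _ _ (Ne.symm hac), add_zero]
    abel
  haveI : Nonempty (Fin n) := ⟨a⟩
  have hN3 : N ^ 3 = 0 := by
    simp [N, pow_succ, mul_add, add_mul, single_mul_single_same, single_mul_single_of_ne, hab, hac, hbc, Ne.symm hab,
      Ne.symm hac, Ne.symm hbc]
  have hXp : (1 + N) ^ p = 1 := by
    rw [add_pow_char_of_commute p (Commute.one_left N), one_pow, pow_eq_zero_of_le hp hN3, add_zero]
  refine ⟨1 + N, ?_, hXp, fun z h => ?_, fun B hB hnd lam hlam => ?_⟩
  · rw [hX, det_mul, det_transvection_of_ne _ _ hbc, det_transvection_of_ne _ _ hab, one_mul]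
  · have := congrFun (congrFun h a) b
    simp [N, hab, Ne.symm hab, hbc, Ne.symm hbc] at this
  · have hl : lam = 1 := by
      have h := lam_pow hnd hXp hlam
      have h0 : (lam - 1) ^ p = 0 := by rw [sub_pow_char (R := F) (p := p), h, one_pow, sub_self]
      exact sub_eq_zero.1 (eq_zero_of_pow_eq_zero h0)
    subst hl
    let e : Fin n → Fin n → F := fun k => Pi.single k 1
    have hcol : ∀ k l, ((1 + N) *ᵥ e k) l =
        (if l = k then 1 else 0) + (if l = a ∧ k = b then 1 else 0) + (if l = b ∧ k = c then 1 else 0) := fun k l => by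
      simp only [e, mulVec_single_one, col_apply, Matrix.add_apply, Matrix.one_apply, N, Matrix.single_apply]
      simp only [eq_comm, add_assoc]
    have xa : (1 + N) *ᵥ e a = e a := by
      funext l; rw [hcol]; simp [e, Pi.single_apply, hab, hac]
    have xb : (1 + N) *ᵥ e b = e b + e a := by
      funext l; rw [hcol]; simp [e, Pi.single_apply, hbc]
    have xc : (1 + N) *ᵥ e c = e c + e b := by
      funext l; rw [hcol]; simp [e, Pi.single_apply, Ne.symm hbc]
    have xk : ∀ k, k ≠ b → k ≠ c → (1 + N) *ᵥ e k = e k := fun k h1 h2 => by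
      funext l; rw [hcol]; simp [e, Pi.single_apply, h1, h2]
    have g01 : B (e a) (e b) = 0 := by
      have h := hlam (e a) (e c)
      rw [xa, xc, map_add, one_mul] at h
      linear_combination h
    have g02 : B (e a) (e c) = 0 := by
      have h := hlam (e b) (e c)
      simp only [xb, xc, map_add, LinearMap.add_apply, one_mul, hB (e b), g01] at h
      linear_combination h
    refine one_ne_zero (α := F) (by simpa [e] using congrFun (eq_zero_of_basis hnd (u := e a) fun k => ?_) a)
    show B (e a) (e k) = 0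
    by_cases h1 : k = b
    · rw [h1, g01]
    by_cases h2 : k = c
    · rw [h2, g02]
    have h := hlam (e b) (e k)
    rw [xb, xk k h1 h2, map_add, LinearMap.add_apply, one_mul] at h
    linear_combination h

/-- A diagonal element for primes dividing `q - 1`. -/
theorem diagonal_case {n : ℕ} (hn : 4 ≤ n) {r : ℕ} (hr : r.Prime) (hr2 : r ≠ 2) (hgap : ¬ (n = 6 ∧ r = 3))
    {ζ : F} (hζ : orderOf ζ = r) :
    ∃ X : Matrix (Fin n) (Fin n) F, X.det = 1 ∧ X ^ r = 1 ∧ (∀ z : F, X ≠ z • 1) ∧ NoAlt X := by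
  have hζr : ζ ^ r = 1 := hζ ▸ pow_orderOf_eq_one ζ
  have hζ0 : ζ ≠ 0 := fun h => by rw [h, zero_pow hr.ne_zero] at hζr; exact zero_ne_one hζr
  have hpk : ∀ k : ℕ, 0 < k → ¬ r ∣ k → ζ ^ k ≠ 1 := fun k _ hk h => hk (hζ ▸ orderOf_dvd_of_pow_eq_one h)
  have hr3 : 3 ≤ r := by have := hr.two_le; omega
  have z1 : ζ ≠ 1 := fun h => hpk 1 one_pos (Nat.not_dvd_of_pos_of_lt one_pos (by omega)) (by rw [pow_one, h])
  have z2 : ζ ^ 2 ≠ 1 := hpk 2 two_pos (Nat.not_dvd_of_pos_of_lt two_pos (by omega))
  have z4 : ζ ^ 4 ≠ 1 := hpk 4 (by norm_num) fun h =>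
    hr2 ((Nat.prime_dvd_prime_iff_eq hr Nat.prime_two).1 (hr.dvd_of_dvd_pow (n := 2) h))
  let w := (ζ ^ 2)⁻¹
  have hw : w * ζ ^ 2 = 1 := inv_mul_cancel₀ (pow_ne_zero 2 hζ0)
  have w1 : w ≠ 1 := fun h => z2 (by rwa [h, one_mul] at hw)
  let dg : Fin n → F := fun i => if i.1 < 2 then ζ else if i.1 = 2 then w else 1
  have hd0 : ∀ i : Fin n, i.1 < 2 → dg i = ζ := fun i h => if_pos h
  have hd2 : ∀ i : Fin n, i.1 = 2 → dg i = w := fun i h => (if_neg (by omega)).trans (if_pos h)
  have hd3 : ∀ i : Fin n, 3 ≤ i.1 → dg i = 1 := fun i h => (if_neg (by omega)).trans (if_neg (by omega))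
  let i0 : Fin n := ⟨0, by omega⟩
  let i2 : Fin n := ⟨2, by omega⟩
  let i3 : Fin n := ⟨3, by omega⟩
  refine ⟨diagonal dg, ?_, ?_, fun z h => ?_, fun B hB hnd lam hlam => ?_⟩
  · rw [det_diagonal, ← hw]
    obtain ⟨m, rfl⟩ : ∃ m, n = 3 + m := ⟨n - 3, by omega⟩
    rw [Fin.prod_univ_add, Fin.prod_univ_three, Finset.prod_eq_one (fun i _ => hd3 _ (by simp [Fin.natAdd])), mul_one,
      hd0 _ (by simp), hd0 _ (by simp), hd2 _ (by simp)]
    ring
  · rw [diagonal_pow, ← diagonal_one]
    congr 1
    funext i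
    by_cases h : i.1 < 2
    · simp [hd0 i h, hζr]
    by_cases h' : i.1 = 2
    · rw [Pi.pow_apply, hd2 i h', inv_pow, ← pow_mul, mul_comm 2 r, pow_mul, hζr, one_pow, inv_one]
    · simp [hd3 i (by omega)]
  · have h0 := congrFun (congrFun h i0) i0
    have h3 := congrFun (congrFun h i3) i3
    simp [hd0 i0 (show (0:ℕ) < 2 by norm_num), hd3 i3 le_rfl] at h0 h3
    exact z1 (h0.trans h3.symm)
  · have hrel : ∀ i j, B (Pi.single i 1) (Pi.single j 1) ≠ 0 → dg i * dg j = lam := fun i j hne => by
      have he : ∀ k, diagonal dg *ᵥ Pi.single k 1 = dg k • Pi.single k 1 := fun k => by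
        funext l
        rcases eq_or_ne l k with rfl | h <;> simp [mulVec_diagonal, *]
      have h := hlam (Pi.single i 1) (Pi.single j 1)
      rw [he, he, map_smul, map_smul, LinearMap.smul_apply, smul_eq_mul, smul_eq_mul, ← mul_assoc] at h
      rw [mul_comm (dg i)]
      exact mul_right_cancel₀ hne h
    have hvals : ∀ j, dg j = ζ ∨ dg j = w ∨ dg j = 1 := fun j => by
      simp only [dg]; split_ifs <;> simp
    have partner : ∀ i, ∃ j, j ≠ i ∧ dg i * dg j = lam := fun i => by
      obtain ⟨j, hj⟩ := exists_partner hnd i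
      exact ⟨j, fun e => hj (e ▸ hB _), hrel i j hj⟩
    obtain ⟨j0, -, e0⟩ := partner i0
    obtain ⟨j2, hj2, e2⟩ := partner i2
    obtain ⟨j3, -, e3⟩ := partner i3
    have hv2 : dg j2 = ζ ∨ dg j2 = 1 := by
      simp only [dg]
      have : j2.1 ≠ 2 := fun h => hj2 (Fin.ext h)
      split_ifs <;> simp
    rw [hd0 i0 (show (0:ℕ) < 2 by norm_num)] at e0
    rw [hd2 i2 rfl] at e2
    rw [hd3 i3 le_rfl, one_mul] at e3
    -- only the multiplier `ζ` with `ζ³ = 1` is left
    obtain ⟨hl, hz3⟩ : lam = ζ ∧ ζ ^ 3 = 1 := by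
      rcases hvals j3 with h | h | h <;> rw [h] at e3
      · refine ⟨e3.symm, ?_⟩
        rcases hv2 with h2 | h2 <;> rw [h2, ← e3] at e2
        · exact absurd (mul_right_cancel₀ hζ0 (e2.trans (one_mul ζ).symm)) w1
        · rw [mul_one] at e2
          rw [e2] at hw
          linear_combination hw
      · rw [← e3] at e0
        rcases hvals j0 with h0 | h0 | h0 <;> rw [h0] at e0
        · exact absurd (by linear_combination ζ ^ 2 * e0 + hw) z4
        · exact absurd (mul_right_cancel₀ (inv_ne_zero (pow_ne_zero 2 hζ0)) (e0.trans (one_mul w).symm)) z1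
        · rw [mul_one] at e0
          exact ⟨e3.symm.trans e0.symm, by linear_combination ζ ^ 2 * e0 + hw⟩
      · exfalso
        rw [← e3] at e0
        rcases hvals j0 with h0 | h0 | h0 <;> rw [h0] at e0
        · exact z2 (by rw [pow_two]; exact e0)
        · exact z1 (by linear_combination hw - ζ * e0)
        · exact z1 (by rwa [mul_one] at e0)
    have hr3' : r = 3 := by
      have := hζ ▸ orderOf_dvd_of_pow_eq_one hz3
      exact (Nat.prime_dvd_prime_iff_eq hr Nat.prime_three).1 this
    have hw' : w = ζ := by linear_combination ζ * hw - w * hz3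
    have hdζ : ∀ i : Fin n, i.1 < 3 → dg i = ζ := fun i h => by
      rcases Nat.lt_or_ge i.1 2 with h' | h'
      · exact hd0 i h'
      · rw [hd2 i (by omega), hw']
    have hcross : ∀ i j, (i.1 < 3 ↔ j.1 < 3) → B (Pi.single i 1) (Pi.single j 1) = 0 := fun i j hij => by
      by_contra hne
      have h := hrel i j hne
      rw [hl] at h
      by_cases hi : i.1 < 3
      · rw [hdζ i hi, hdζ j (hij.1 hi)] at h
        exact z1 (mul_left_cancel₀ hζ0 (h.trans (mul_one ζ).symm))
      · rw [hd3 i (by omega), hd3 j (by have := mt hij.2 hi; omega), one_mul] at h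
        exact z1 h.symm
    -- the larger side has a vector orthogonal to everything
    have key : ∀ P : Fin n → Prop, ∀ [DecidablePred P], (∀ i j, P i → P j → B (Pi.single i 1) (Pi.single j 1) = 0) →
        Fintype.card {i // P i} ≤ Fintype.card {i // ¬ P i} := by
      intro P _ hP
      let T : ({i // P i} → F) →ₗ[F] ({i // ¬ P i} → F) :=
        LinearMap.pi fun j => (LinearMap.flip B (Pi.single j.1 1)).comp
          (Fintype.linearCombination F fun i : {i // P i} => (Pi.single i.1 1 : Fin n → F))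
      have hT : Function.Injective T := by
        rw [← LinearMap.ker_eq_bot, LinearMap.ker_eq_bot']
        intro v hv
        have h0 : Fintype.linearCombination F (fun i : {i // P i} => (Pi.single i.1 1 : Fin n → F)) v = 0 :=
          eq_zero_of_basis hnd fun k => by
            by_cases hk : P k
            · simp only [Fintype.linearCombination_apply, map_sum, LinearMap.coe_sum, Finset.sum_apply, map_smul,
                LinearMap.smul_apply]
              exact Finset.sum_eq_zero fun i _ => by rw [hP _ _ i.2 hk, smul_zero]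
            · exact congrFun hv ⟨k, hk⟩
        funext i
        have := congrFun h0 i.1
        simpa [Fintype.linearCombination_apply, Finset.sum_apply, Pi.single_apply, Subtype.coe_inj,
          Finset.sum_ite_eq] using this
      have := LinearMap.finrank_le_finrank_of_injective hT
      rwa [Module.finrank_pi, Module.finrank_pi] at this
    have h1 := key (fun i => i.1 < 3) fun i j hi hj => hcross i j ⟨fun _ => hj, fun _ => hi⟩
    have h2 := key (fun i => ¬ i.1 < 3) fun i j hi hj => hcross i j ⟨fun h => absurd h hi, fun h => absurd h hj⟩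
    have h3 : Fintype.card {i : Fin n // i.1 < 3} = 3 := by
      rw [Fintype.card_subtype, show (Finset.univ.filter fun i : Fin n => i.1 < 3) = Finset.Iio i3 from by
        ext i; simp [i3, Fin.lt_def], Fin.card_Iio]
    simp only [not_not, Fintype.card_subtype_compl, Fintype.card_fin] at h1 h2
    exact hgap ⟨by omega, hr3'⟩

/-- An element of prime order whose moved space has odd dimension. -/
theorem odd_order_case [Fintype F] {n : ℕ} {r : ℕ} [Fact r.Prime] (hr : (r : F) ≠ 0) {e : ℕ}
    (he : orderOf ((Fintype.card F : ℕ) : ZMod r) = e) (he1 : e ≠ 1) (heo : Odd e) (hen : e ≤ n) :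
    ∃ X : Matrix (Fin n) (Fin n) F, X.det = 1 ∧ X ^ r = 1 ∧ (∀ z : F, X ≠ z • 1) ∧ NoAlt X := by
  classical
  have hrp : r.Prime := Fact.out
  have hroot : ∀ a : F, a ^ r = 1 → a = 1 := fun a ha => by
    have ha0 : a ≠ 0 := fun h => by rw [h, zero_pow hrp.ne_zero] at ha; exact zero_ne_one ha
    have h1 : orderOf a ∣ r := orderOf_dvd_of_pow_eq_one ha
    rcases (Nat.dvd_prime hrp).1 h1 with h | h
    · exact orderOf_eq_one_iff.1 h
    · exfalso
      have h2 := orderOf_dvd_of_pow_eq_one (FiniteField.pow_card_sub_one_eq_one a ha0)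
      rw [h, ← ZMod.natCast_eq_zero_iff, Nat.cast_sub (by have := Fintype.one_lt_card (α := F); omega), Nat.cast_one,
        sub_eq_zero] at h2
      exact he1 (he ▸ orderOf_eq_one_iff.2 h2)
  have hdeg : (Polynomial.cyclotomic r F).natDegree ≠ 0 := by
    rw [Polynomial.natDegree_cyclotomic, Nat.totient_prime hrp]; have := hrp.two_le; omega
  obtain ⟨P, hPm, hPi, hPd⟩ := Polynomial.exists_monic_irreducible_factor (Polynomial.cyclotomic r F)
    (Polynomial.not_isUnit_of_natDegree_pos _ (Nat.pos_of_ne_zero hdeg))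
  have hPdvd : P ∣ Polynomial.X ^ r - 1 := hPd.trans (Polynomial.cyclotomic.dvd_X_pow_sub_one r F)
  have hP1 : P ≠ Polynomial.X - 1 := fun h => by
    have h2 : (Polynomial.cyclotomic r F).eval 1 = 0 := by
      obtain ⟨s, hs⟩ := hPd; rw [hs, h]; simp
    rw [Polynomial.eval_one_cyclotomic_prime] at h2
    exact hr h2
  have hPe : P.natDegree = e := (KnownB.PrimeOrder.natDegree_eq_orderOf hr hPi hPm hPdvd hP1).trans he
  haveI := Fact.mk hPi
  let pb := AdjoinRoot.powerBasis hPi.ne_zero
  have hdim : pb.dim = e := by rw [AdjoinRoot.powerBasis_dim, hPe]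
  let bK := pb.basis.reindex (finCongr hdim)
  set ζ := AdjoinRoot.root P with hζ
  let M := Algebra.leftMulMatrix bK ζ
  have hζr : ζ ^ r = 1 := by
    have h1 := AdjoinRoot.mk_eq_zero.2 hPdvd
    rwa [map_sub, map_pow, AdjoinRoot.mk_X, map_one, sub_eq_zero] at h1
  have hζ1 : ζ ≠ 1 := fun h => by
    have h2 : P ∣ Polynomial.X - 1 := AdjoinRoot.mk_eq_zero.1 (by rw [map_sub, AdjoinRoot.mk_X, map_one, ← hζ, h, sub_self])
    exact hP1 (Polynomial.eq_of_monic_of_associated hPm (Polynomial.monic_X_sub_C 1)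
      (hPi.associated_of_dvd (Polynomial.irreducible_X_sub_C 1) (by simpa using h2)) |>.trans (by simp))
  have hM1 : IsUnit (M - 1) := by
    have := (isUnit_iff_ne_zero.2 (sub_ne_zero.2 hζ1)).map (Algebra.leftMulMatrix bK)
    rwa [map_sub, map_one] at this
  have hMr : M ^ r = 1 := by rw [← map_pow, hζr, map_one]
  obtain ⟨m, rfl⟩ : ∃ m, n = e + m := ⟨n - e, by omega⟩
  let φ : Fin e ⊕ Fin m ≃ Fin (e + m) := finSumFinEquiv
  let X := reindex φ φ (fromBlocks M 0 0 1)
  have hXr : X ^ r = 1 := by
    have hk : ∀ k : ℕ, (fromBlocks M 0 0 (1 : Matrix (Fin m) (Fin m) F)) ^ k = fromBlocks (M ^ k) 0 0 1 := fun k => by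
      induction k with
      | zero => simp [fromBlocks_one]
      | succ k ih => simp [pow_succ, ih, fromBlocks_multiply]
    have h := hk r
    rw [hMr, fromBlocks_one] at h
    show (reindexAlgEquiv F F φ (fromBlocks M 0 0 1)) ^ r = 1
    rw [← map_pow, h, map_one]
  have hdet : X.det = 1 := hroot _ (by rw [← det_pow, hXr, det_one])
  have hXv : ∀ (u : Fin e → F) (w : Fin m → F), X *ᵥ (Sum.elim u w ∘ φ.symm) = Sum.elim (M *ᵥ u) w ∘ φ.symm := fun u w => by
    simp only [X]
    rw [reindex_apply, submatrix_mulVec_equiv, Equiv.symm_symm, Function.comp_assoc, φ.symm_comp_self, Function.comp_id,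
      fromBlocks_mulVec]
    simp [Sum.elim_comp_inl, Sum.elim_comp_inr]
  have he0 : 0 < e := heo.pos
  refine ⟨X, hdet, hXr, fun z h => ?_, fun B hB hnd lam hlam => ?_⟩
  · have hz : z = 1 := hroot z (by
      have h2 := congrFun (congrFun hXr (φ (Sum.inl ⟨0, he0⟩))) (φ (Sum.inl ⟨0, he0⟩))
      rw [h, smul_pow, one_pow] at h2
      simpa using h2)
    have hM : M = 1 := by
      ext i j
      have := congrFun (congrFun h (φ (Sum.inl i))) (φ (Sum.inl j))
      simpa [X, hz, Matrix.one_apply] using this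
    haveI : Nonempty (Fin e) := ⟨⟨0, he0⟩⟩
    rw [hM, sub_self] at hM1
    exact not_isUnit_zero hM1
  · haveI : Nonempty (Fin (e + m)) := ⟨⟨0, by omega⟩⟩
    have hl : lam = 1 := hroot lam (lam_pow hnd hXr hlam)
    subst hl
    let up : (Fin e → F) →ₗ[F] (Fin (e + m) → F) :=
      { toFun := fun u => Sum.elim u 0 ∘ φ.symm
        map_add' := fun u v => by funext k; rcases h : φ.symm k with i | i <;> simp [h]
        map_smul' := fun c u => by funext k; rcases h : φ.symm k with i | i <;> simp [h] }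
    have horth : ∀ (u : Fin e → F) (w : Fin m → F), B (up u) (Sum.elim 0 w ∘ φ.symm) = 0 := fun u w => by
      obtain ⟨c, rfl⟩ := (mulVec_surjective_iff_isUnit.2 hM1) u
      have hup : up ((M - 1) *ᵥ c) = X *ᵥ up c - up c := by
        rw [sub_mulVec, one_mulVec, map_sub]
        exact congrArg (· - up c) (hXv c 0).symm
      rw [hup, map_sub, LinearMap.sub_apply, sub_eq_zero]
      have hfix : X *ᵥ (Sum.elim 0 w ∘ φ.symm) = Sum.elim (0 : Fin e → F) w ∘ φ.symm := by rw [hXv, mulVec_zero]
      have h := hlam (up c) (Sum.elim 0 w ∘ φ.symm)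
      rwa [hfix, one_mul] at h
    have hsymp : Cfsg.Geo.IsSymplecticForm (fun u v : Fin e → F => B (up u) (up v)) := by
      refine ⟨⟨fun a b v => by simp, fun u a b => by simp, fun c a v => by simp, fun c u a => by simp⟩,
        fun u v => ?_, fun u => hB _, fun u hu => ?_⟩
      · exact (LinearMap.IsAlt.neg hB (up v) (up u)).symm
      · have : ∃ v, B (up u) (up v) ≠ 0 := by
          by_contra h
          push Not at h
          refine hu (funext fun i => ?_)
          have h0 : up u = 0 := hnd _ fun v => by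
            have hv : v = up (fun i => v (φ (Sum.inl i))) + Sum.elim (0 : Fin e → F) (fun i => v (φ (Sum.inr i))) ∘ φ.symm := by
              funext k; obtain ⟨i | i, rfl⟩ := φ.surjective k <;> simp [up]
            rw [hv, map_add, h, horth, add_zero]
          simpa [up] using congrFun h0 (φ (Sum.inl i))
        obtain ⟨v, hv⟩ := this
        exact ⟨⟨v, fun h => hv (by rw [← LinearMap.IsAlt.neg hB (up v) (up u), h, neg_zero])⟩, ⟨v, hv⟩⟩
    have := Aschbacher.even_of_symplectic hsymp
    rw [Fintype.card_fin] at this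
    exact Nat.not_even_iff_odd.2 heo this

end CfsgLib.ThreeTransp.AltDerange
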