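import Cfsg.Agent.Lib.ThreeTransp.CentralPair

/-!
The four-group generated by two commuting conjugate central involutions: its automizer has order 6.
-/

set_option autoImplicit false
set_option linter.unusedSectionVars false

namespace CfsgLib.ThreeTransp

open Cfsg CfsgLib.Involutions

variable {G : Type*} [Group G] [Finite G]

theorem four_mem_iff {z x : G} (hz : z * z = 1) (hx : x * x = 1) (hzx : z * x = x * z) (e : G) :
    e ∈ Subgroup.closure ({z, x} : Set G) ↔ e = 1 ∨ e = z ∨ e = x ∨ e = z * x := by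
  constructor
  · intro he
    have e1 : x * z = z * x := hzx.symm
    have e2 : ∀ y, z * (z * y) = y := fun y => by rw [← mul_assoc, hz, one_mul]
    have e3 : ∀ y, x * (z * y) = z * (x * y) := fun y => by rw [← mul_assoc, e1, mul_assoc]
    have e4 : ∀ y, x * (x * y) = y := fun y => by rw [← mul_assoc, hx, one_mul]
    have i1 := inv_eq_of_mul_eq_one_right hz
    have i2 := inv_eq_of_mul_eq_one_right hx
    induction he using Subgroup.closure_induction with
    | mem t ht => rcases ht with rfl | rfl <;> simp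
    | one => simp
    | mul a b _ _ ha hb =>
        rcases ha with rfl | rfl | rfl | rfl <;> rcases hb with rfl | rfl | rfl | rfl <;>
          simp [mul_assoc, hz, hx, e1, e2, e3, e4]
    | inv a _ ha =>
        rcases ha with rfl | rfl | rfl | rfl <;> simp [i1, i2, e1]
  · have hz' : z ∈ Subgroup.closure ({z, x} : Set G) := Subgroup.subset_closure (Or.inl rfl)
    have hx' : x ∈ Subgroup.closure ({z, x} : Set G) := Subgroup.subset_closure (Or.inr rfl)
    rintro (rfl | rfl | rfl | rfl)
    exacts [one_mem _, hz', hx', mul_mem hz' hx']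

theorem relIndex_four {z x p q : G} (hz : z * z = 1) (hx : x * x = 1) (hzx : z * x = x * z)
    (hne : x ≠ z) (hz1 : z ≠ 1) (hx1 : x ≠ 1) (hpz : p * z * p⁻¹ = z) (hpx : p * x * p⁻¹ = z * x)
    (hqx : q * x * q⁻¹ = x) (hqz : q * z * q⁻¹ = z * x) :
    (Subgroup.centralizer (Subgroup.closure ({z, x} : Set G) : Set G)).relIndex
      (Subgroup.normalizer (Subgroup.closure ({z, x} : Set G) : Set G)) = 6 := by
  set E := Subgroup.closure ({z, x} : Set G) with hE
  set S : Set G := {t | t ∈ E ∧ t ≠ 1} with hS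
  set N := Subgroup.normalizer (E : Set G) with hN
  have hmemS : ∀ t, t ∈ S ↔ t = z ∨ t = x ∨ t = z * x := by
    intro t
    show t ∈ E ∧ t ≠ 1 ↔ _
    rw [hE, four_mem_iff hz hx hzx]
    constructor
    · rintro ⟨rfl | h, h1⟩
      · exact absurd rfl h1
      · exact h
    · intro h
      refine ⟨Or.inr h, ?_⟩
      rcases h with rfl | rfl | rfl
      exacts [hz1, hx1, fun h => hne (by rw [← inv_eq_of_mul_eq_one_right hz,
        eq_inv_of_mul_eq_one_right h])]
  have hzS : z ∈ S := (hmemS z).2 (Or.inl rfl)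
  have hxS : x ∈ S := (hmemS x).2 (Or.inr (Or.inl rfl))
  have hcz : z ≠ z * x := fun h => hx1 (left_eq_mul.1 h)
  have hcx : x ≠ z * x := fun h => hz1 (right_eq_mul.1 h)
  let φ : ↥N →* Equiv.Perm S :=
    { toFun := fun n => (MulAut.conj (n : G)).toEquiv.subtypeEquiv fun t => by
        show t ∈ S ↔ (n : G) * t * (n : G)⁻¹ ∈ S
        simp only [hS, Set.mem_ofPred_eq]
        rw [← Subgroup.mem_normalizer_iff.1 n.2 t]
        exact and_congr_right fun _ => (by simp)
      map_one' := by ext t; simp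
      map_mul' := fun a b => by ext t; simp }
  have hφ : ∀ (n : ↥N) (t : S), (φ n t : G) = (n : G) * t * (n : G)⁻¹ := fun _ _ => rfl
  have hker : φ.ker = (Subgroup.centralizer (E : Set G)).subgroupOf N := by
    ext n
    rw [MonoidHom.mem_ker, Subgroup.mem_subgroupOf, Subgroup.mem_centralizer_iff]
    constructor
    · intro h t ht
      by_cases h1 : t = 1
      · subst h1; simp
      have := congrArg (fun σ : Equiv.Perm S => (σ ⟨t, ht, h1⟩ : G)) h
      simp only [hφ, Equiv.Perm.coe_one, id_eq] at this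
      exact (mul_inv_eq_iff_eq_mul.1 this).symm
    · intro h
      ext t
      rw [hφ, Equiv.Perm.coe_one, id_eq, mul_inv_eq_iff_eq_mul]
      exact (h t t.2.1).symm
  have hcardS : Nat.card S = 3 := by
    have : S = {z, x, z * x} := by ext t; rw [hmemS]; simp
    rw [this, Nat.card_coe_set_eq]
    exact Set.ncard_eq_three.2 ⟨z, x, z * x, fun h => hne h.symm, hcz, hcx, rfl⟩
  have hmemN : ∀ n : G, n * z * n⁻¹ ∈ E → n * x * n⁻¹ ∈ E → n ∈ N := by
    intro n h1 h2
    have hle : E.map (MulAut.conj n).toMonoidHom ≤ E := by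
      rw [hE, Subgroup.map_le_iff_le_comap, Subgroup.closure_le]
      rintro t (rfl | rfl)
      exacts [h1, h2]
    have heq := Subgroup.eq_of_le_of_card_ge hle
      (by rw [Subgroup.card_map_of_injective (MulAut.conj n).injective])
    rw [hN, Subgroup.mem_normalizer_iff]
    intro t
    conv_rhs => rw [← heq, Subgroup.mem_map_equiv, MulAut.conj_symm_apply]
    simp [mul_assoc]
  have hzE : z ∈ E := hzS.1
  have hxE : x ∈ E := hxS.1
  have hpN : p ∈ N := hmemN p (by rw [hpz]; exact hzE) (by rw [hpx]; exact mul_mem hzE hxE)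
  have hqN : q ∈ N := hmemN q (by rw [hqz]; exact mul_mem hzE hxE) (by rw [hqx]; exact hxE)
  have h1 : φ ⟨p, hpN⟩ ≠ 1 := fun h => hcx (by
    have := congrArg (fun σ : Equiv.Perm S => (σ ⟨x, hxS⟩ : G)) h
    simp only [hφ, Equiv.Perm.coe_one, id_eq, hpx] at this
    exact this.symm)
  have h2 : φ ⟨q, hqN⟩ ≠ 1 := fun h => hcz (by
    have := congrArg (fun σ : Equiv.Perm S => (σ ⟨z, hzS⟩ : G)) h
    simp only [hφ, Equiv.Perm.coe_one, id_eq, hqz] at this
    exact this.symm)
  have h3 : φ ⟨p, hpN⟩ ≠ φ ⟨q, hqN⟩ := fun h => hcx (by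
    have := congrArg (fun σ : Equiv.Perm S => (σ ⟨x, hxS⟩ : G)) h
    simp only [hφ, hpx, hqx] at this
    exact this.symm)
  have hsq : φ ⟨p, hpN⟩ ^ 2 = 1 := by
    rw [← map_pow]
    ext t
    simp only [hφ, SubgroupClass.coe_pow, pow_two, Equiv.Perm.coe_one, id_eq]
    have key : ∀ t, t = z ∨ t = x ∨ t = z * x → p * (p * t * p⁻¹) * p⁻¹ = t := by
      have hpzx : p * (z * x) * p⁻¹ = x := by
        rw [show p * (z * x) * p⁻¹ = (p * z * p⁻¹) * (p * x * p⁻¹) by simp [mul_assoc], hpz, hpx,
          ← mul_assoc, hz, one_mul]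
      rintro t (rfl | rfl | rfl)
      · rw [hpz, hpz]
      · rw [hpx, hpzx]
      · rw [hpzx, hpx]
    calc p * p * (t : G) * (p * p)⁻¹ = p * (p * t * p⁻¹) * p⁻¹ := by simp [mul_assoc]
      _ = t := key t ((hmemS t).1 t.2)
  have hrange : Nat.card φ.range = 6 := by
    classical
    haveI : Fintype S := Fintype.ofFinite S
    have hperm : Nat.card (Equiv.Perm S) = 6 := by
      rw [Nat.card_perm, hcardS]; rfl
    have hdvd : Nat.card φ.range ∣ 6 := hperm ▸ Subgroup.card_subgroup_dvd_card _
    have h2dvd : 2 ∣ Nat.card φ.range := by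
      haveI : Fact (Nat.Prime 2) := ⟨Nat.prime_two⟩
      have ho : orderOf (⟨φ ⟨p, hpN⟩, MonoidHom.mem_range.2 ⟨_, rfl⟩⟩ : φ.range) = 2 := by
        rw [Subgroup.orderOf_mk]; exact orderOf_eq_prime hsq h1
      exact ho ▸ orderOf_dvd_natCard _
    have h3le : 3 ≤ Nat.card φ.range := by
      have hsub : ({1, φ ⟨p, hpN⟩, φ ⟨q, hqN⟩} : Set (Equiv.Perm S)) ⊆ φ.range := by
        rintro σ (rfl | rfl | rfl)
        exacts [one_mem _, ⟨_, rfl⟩, ⟨_, rfl⟩]
      have := Set.ncard_le_ncard hsub (Set.toFinite _)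
      rw [Set.ncard_eq_three.2 ⟨_, _, _, h1.symm, h2.symm, h3, rfl⟩,
        ← Nat.card_coe_set_eq] at this
      exact this
    have hle := Nat.le_of_dvd (by norm_num) hdvd
    rcases (by omega : Nat.card φ.range = 4 ∨ Nat.card φ.range = 6 ∨ Nat.card φ.range = 3 ∨
        Nat.card φ.range = 5) with h | h | h | h <;> rw [h] at hdvd h2dvd ⊢ <;> omega
  show ((Subgroup.centralizer (E : Set G)).subgroupOf N).index = 6
  rw [← hker, Subgroup.index_ker]
  exact hrange

/-- Main statement on a conjugate of the central involution inside `Q`. -/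
theorem four_of_conj {Q : Subgroup G} (hL1 : IsExtraspecial 2 ↥Q)
    (hL2 : Subgroup.centralizer (Q : Set G) = centerIn Q)
    (hL3 : Subgroup.centralizer (centerIn Q : Set G) ≤ Subgroup.normalizer (Q : Set G))
    (g : G) (hg : g ∉ Subgroup.normalizer (centerIn Q : Set G))
    (hZg : (centerIn Q).map (MulAut.conj g).toMonoidHom ≤ Q) :
    centerIn Q ≤ Q.map (MulAut.conj g).toMonoidHom ∧
    (Subgroup.centralizer ((centerIn Q ⊔ (centerIn Q).map (MulAut.conj g).toMonoidHom :
        Subgroup G) : Set G)).relIndex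
      (Subgroup.normalizer ((centerIn Q ⊔ (centerIn Q).map (MulAut.conj g).toMonoidHom :
        Subgroup G) : Set G)) = 6 ∧
    IsLargeExtraspecial Q := by
  obtain ⟨z, hz, hZeq, -⟩ := exists_centerIn_gen hL1
  have hN : Subgroup.centralizer ({z} : Set G) ≤ Subgroup.normalizer (Q : Set G) := by
    intro c hc
    refine hL3 ?_
    rw [hZeq, Subgroup.mem_centralizer_iff]
    intro t ht
    obtain ⟨n, rfl⟩ := Subgroup.mem_zpowers_iff.1 ht
    exact (Commute.zpow_left (Commute.symm (Subgroup.mem_centralizer_singleton_iff.1 hc)) n).eq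
  have hzZ : z ∈ centerIn Q := hZeq ▸ Subgroup.mem_zpowers z
  have h := xCent_mk hL1 (hL2.le.trans (Subgroup.map_subtype_le _)) hzZ (invol_ne_one hz) hN
  set x := g * z * g⁻¹ with hxdef
  have hxQ : x ∈ Q := hZg ⟨z, hzZ, rfl⟩
  have hxz : x ≠ z := by
    intro hh
    apply hg
    refine Subgroup.centralizer_le_normalizer (centerIn Q : Set G) ?_
    rw [hZeq, Subgroup.mem_centralizer_iff]
    intro t ht
    obtain ⟨n, rfl⟩ := Subgroup.mem_zpowers_iff.1 ht
    have hc : Commute z g := (mul_inv_eq_iff_eq_mul.1 hh).symm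
    exact (hc.zpow_left n).eq
  have h' := h.conj g
  have hzP := h.mem_conj g hxQ
  have hmapZ : (centerIn Q).map (MulAut.conj g).toMonoidHom = Subgroup.zpowers x := by
    rw [hZeq, MonoidHom.map_zpowers]; rfl
  refine ⟨?_, ?_, ?_⟩
  · rw [hZeq, Subgroup.zpowers_le]; exact hzP
  · obtain ⟨p, hp, hpx⟩ : ∃ p ∈ Q, p * x * p⁻¹ = z * x := by
      by_contra hno
      push Not at hno
      rcases h.center x hxQ fun q hq => mul_inv_eq_iff_eq_mul.1
        ((h.commEl q hq x hxQ).resolve_right (hno q hq)) with h'' | h''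
      exacts [h'.ne_one h'', hxz h'']
    obtain ⟨q, hq, hqz⟩ : ∃ q ∈ Q.map (MulAut.conj g).toMonoidHom, q * z * q⁻¹ = x * z := by
      by_contra hno
      push Not at hno
      rcases h'.center z hzP fun q hq => mul_inv_eq_iff_eq_mul.1
        ((h'.commEl q hq z hzP).resolve_right (hno q hq)) with h'' | h''
      exacts [h.ne_one h'', hxz h''.symm]
    have hzx : z * x = x * z := (h.comm x hxQ).symm
    have hEeq : centerIn Q ⊔ (centerIn Q).map (MulAut.conj g).toMonoidHom =
        Subgroup.closure ({z, x} : Set G) := by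
      rw [hmapZ, hZeq, Subgroup.zpowers_eq_closure, Subgroup.zpowers_eq_closure,
        ← Subgroup.closure_union, Set.singleton_union]
    rw [hEeq]
    exact relIndex_four h.inv h'.inv hzx hxz h.ne_one h'.ne_one
      (mul_inv_eq_iff_eq_mul.2 (h.comm p hp)) hpx (mul_inv_eq_iff_eq_mul.2 (h'.comm q hq))
      (by rw [hqz, hzx])
  · refine isLarge_of_mem_pCore_centralizer hL1 hL2 hL3 hxQ ?_ (conj_invol g hz) ?_
    · intro hh
      rcases h.center x hxQ (fun q hq => (mem_centerIn.1 hh).2 q hq) with h'' | h''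
      exacts [h'.ne_one h'', hxz h'']
    · have hPle : Q.map (MulAut.conj g).toMonoidHom ≤ coreCent x := by
        refine CfsgLib.Base.le_map_pCore ?_ ?_ ((isPGroup_of_extraspecial hL1).map _)
        · intro y hy
          exact Subgroup.mem_centralizer_singleton_iff.2 (h'.comm y hy)
        · intro c hc
          refine Subgroup.mem_normalizer_iff.2 fun t => ?_
          exact (h'.conj_mem_iff (Subgroup.mem_centralizer_singleton_iff.1 hc) t).symm
      rw [hZeq, Subgroup.zpowers_le]
      exact hPle hzP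

end CfsgLib.ThreeTransp
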