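import Cfsg.Agent.Lib.ThreeTransp.Large
import Cfsg.Agent.Lib.PGroups.Basic

/-!
Two conjugate extraspecial subgroups: if a conjugate `x` of the central involution `z` lies in `Q`,
then `z` lies in the corresponding conjugate of `Q`.
-/

set_option autoImplicit false
set_option linter.unusedSectionVars false
set_option linter.style.haveILetI false

namespace CfsgLib.ThreeTransp

open Cfsg CfsgLib.Involutions

variable {G : Type*} [Group G] [Finite G]

/-- An extraspecial subgroup `Q` with central involution `z`, containing its centralizer and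
normalized by the centralizer of `z`. -/
structure XCent (Q : Subgroup G) (z : G) : Prop where
  mem : z ∈ Q
  inv : z * z = 1
  ne_one : z ≠ 1
  comm : ∀ q ∈ Q, q * z = z * q
  center : ∀ c ∈ Q, (∀ q ∈ Q, q * c = c * q) → c = 1 ∨ c = z
  commEl : ∀ a ∈ Q, ∀ b ∈ Q, a * b * a⁻¹ = b ∨ a * b * a⁻¹ = z * b
  sq : ∀ a ∈ Q, a * a = 1 ∨ a * a = z
  cent : Subgroup.centralizer (Q : Set G) ≤ Q
  norm : ∀ c : G, c * z = z * c → ∀ q ∈ Q, c * q * c⁻¹ ∈ Q

theorem xCent_mk {Q : Subgroup G} {z : G} (hE : IsExtraspecial 2 ↥Q)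
    (hC : Subgroup.centralizer (Q : Set G) ≤ Q)
    (hz : z ∈ centerIn Q) (hz1 : z ≠ 1)
    (hN : Subgroup.centralizer ({z} : Set G) ≤ Subgroup.normalizer (Q : Set G)) : XCent Q z := by
  haveI : Fact (Nat.Prime 2) := ⟨Nat.prime_two⟩
  obtain ⟨z', hz', -, hmem⟩ := exists_centerIn_gen hE
  have hzz : z = z' := (hmem z hz).resolve_left hz1
  subst hzz
  obtain ⟨hzQ, hzc⟩ := mem_centerIn.1 hz
  have hcen : ∀ y : Q, y ∈ Subgroup.center Q → (y : G) = 1 ∨ (y : G) = z := fun y hy =>
    hmem _ ⟨y, hy, rfl⟩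
  refine ⟨hzQ, invol_mul_self hz', hz1, hzc,
    fun c hc h => hmem c (mem_centerIn.2 ⟨hc, h⟩), fun a ha b hb => ?_, fun a ha => ?_, hC,
    fun c hc q hq => ?_⟩
  · have h1 := Subgroup.commutator_mem_commutator (Subgroup.mem_top (⟨a, ha⟩ : Q))
      (Subgroup.mem_top (⟨b, hb⟩ : Q))
    rw [← commutator_def] at h1
    rcases hcen _ (hE.1.2.2.le h1) with h | h
    · left; exact mul_inv_eq_one.1 h
    · right; exact mul_inv_eq_iff_eq_mul.1 h
  · rcases hcen _ (hE.1.2.1.le (CfsgLib.PGroups.pow_mem_frattini hE.1.1 (⟨a, ha⟩ : Q))) with h | h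
    · left; simpa [pow_two] using h
    · right; simpa [pow_two] using h
  · exact (Subgroup.mem_normalizer_iff.1
      (hN (Subgroup.mem_centralizer_singleton_iff.2 hc)) q).1 hq

theorem XCent.conj_mem_iff {Q : Subgroup G} {z : G} (h : XCent Q z) {c : G} (hc : c * z = z * c)
    (q : G) : c * q * c⁻¹ ∈ Q ↔ q ∈ Q := by
  refine ⟨fun hq => ?_, fun hq => h.norm c hc q hq⟩
  have h1 := h.norm c⁻¹ (inv_mul_eq_iff_eq_mul.2 (by rw [← mul_assoc, hc, mul_inv_cancel_right])) _ hq
  simpa [mul_assoc] using h1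

theorem XCent.conj {Q : Subgroup G} {z : G} (h : XCent Q z) (g : G) :
    XCent (Q.map (MulAut.conj g).toMonoidHom) (g * z * g⁻¹) := by
  let e := MulAut.conj g
  have hmem : ∀ y, y ∈ Q.map e.toMonoidHom ↔ e.symm y ∈ Q := fun y =>
    Subgroup.mem_map_equiv
  refine ⟨⟨z, h.mem, rfl⟩, ?_, ?_, ?_, ?_, ?_, ?_, ?_, ?_⟩
  · show e z * e z = 1
    rw [← map_mul, h.inv, map_one]
  · exact fun h' => h.ne_one (by simpa using h')
  · rintro _ ⟨q, hq, rfl⟩
    show e q * e z = e z * e q
    rw [← map_mul, h.comm q hq, map_mul]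
  · rintro _ ⟨c, hc, rfl⟩ hcomm
    rcases h.center c hc fun q hq => e.injective
      (by rw [map_mul, map_mul]; exact hcomm (e q) ⟨q, hq, rfl⟩) with h' | h'
    · left; show e c = 1; rw [h', map_one]
    · right; show e c = e z; rw [h']
  · rintro _ ⟨a, ha, rfl⟩ _ ⟨b, hb, rfl⟩
    show e a * e b * (e a)⁻¹ = e b ∨ e a * e b * (e a)⁻¹ = e z * e b
    rw [← map_inv, ← map_mul, ← map_mul, ← map_mul]
    exact (h.commEl a ha b hb).imp (congrArg e) (congrArg e)
  · rintro _ ⟨a, ha, rfl⟩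
    show e a * e a = 1 ∨ e a * e a = e z
    rw [← map_mul]
    exact (h.sq a ha).imp (fun h' => by rw [h', map_one]) (congrArg e)
  · intro c hc
    rw [hmem]
    refine h.cent (Subgroup.mem_centralizer_iff.2 fun q hq => e.injective ?_)
    rw [map_mul, map_mul, MulEquiv.apply_symm_apply]
    exact Subgroup.mem_centralizer_iff.1 hc (e q) ⟨q, hq, rfl⟩
  · rintro c hc _ ⟨q, hq, rfl⟩
    show c * e q * c⁻¹ ∈ _
    rw [hmem, map_mul, map_mul, MulEquiv.symm_apply_apply, map_inv]
    refine h.norm _ (e.injective ?_) q hq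
    rw [map_mul, map_mul, MulEquiv.apply_symm_apply]
    exact hc

/-- Conjugates of `z` determine conjugates of `Q`. -/
theorem XCent.mem_map_iff {Q : Subgroup G} {z : G} (h : XCent Q z) {a b : G}
    (hab : a * z * a⁻¹ = b * z * b⁻¹) (y : G) :
    y ∈ Q.map (MulAut.conj a).toMonoidHom ↔ y ∈ Q.map (MulAut.conj b).toMonoidHom := by
  rw [Subgroup.mem_map_equiv, Subgroup.mem_map_equiv, MulAut.conj_symm_apply,
    MulAut.conj_symm_apply]
  have hc : (b⁻¹ * a) * z = z * (b⁻¹ * a) := by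
    have := congrArg (fun t => b⁻¹ * t * a) hab
    simpa [mul_assoc] using this
  rw [← h.conj_mem_iff hc (a⁻¹ * y * a)]
  simp [mul_assoc]

/-- An element of `Q` centralized by the centralizer in `Q` of the non-central `x`. -/
theorem XCent.cent_R {Q : Subgroup G} {z : G} (h : XCent Q z) {x c : G} (hx : x ∈ Q)
    (hx1 : x ≠ 1) (hxz : x ≠ z) (hc : c ∈ Q) (hcc : ∀ r ∈ Q, r * x = x * r → r * c = c * r) :
    c = 1 ∨ c = z ∨ c = x ∨ c = z * x := by
  obtain ⟨p, hp, hpx⟩ : ∃ p ∈ Q, p * x * p⁻¹ = z * x := by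
    by_contra hno
    push Not at hno
    rcases h.center x hx fun q hq => mul_inv_eq_iff_eq_mul.1
      ((h.commEl q hq x hx).resolve_right (hno q hq)) with h' | h'
    exacts [hx1 h', hxz h']
  have hgen : ∀ q ∈ Q, q * x = x * q ∨ (p⁻¹ * q) * x = x * (p⁻¹ * q) := by
    intro q hq
    rcases h.commEl q hq x hx with hh | hh
    · exact Or.inl (mul_inv_eq_iff_eq_mul.1 hh)
    · right
      rw [← hpx] at hh
      have := congrArg (fun t => p⁻¹ * t * q) hh
      simpa [mul_assoc] using this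
  have hall : ∀ d ∈ Q, (∀ r ∈ Q, r * x = x * r → r * d = d * r) → p * d = d * p →
      d = 1 ∨ d = z := fun d hd hdR hdp => h.center d hd fun q hq => by
    rcases hgen q hq with hh | hh
    · exact hdR q hq hh
    · have h2 := hdR _ (mul_mem (inv_mem hp) hq) hh
      calc q * d = p * ((p⁻¹ * q) * d) := by simp [mul_assoc]
        _ = (p * d) * (p⁻¹ * q) := by rw [h2, mul_assoc]
        _ = d * q := by rw [hdp]; simp [mul_assoc]
  rcases h.commEl p hp c hc with hh | hh
  · rcases hall c hc hcc (mul_inv_eq_iff_eq_mul.1 hh) with h' | h'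
    exacts [Or.inl h', Or.inr (Or.inl h')]
  · have hcx : p * (x⁻¹ * c) = (x⁻¹ * c) * p := by
      rw [← mul_inv_eq_iff_eq_mul]
      calc p * (x⁻¹ * c) * p⁻¹ = (p * x * p⁻¹)⁻¹ * (p * c * p⁻¹) := by simp [mul_assoc]
        _ = x⁻¹ * c := by rw [hpx, hh, mul_inv_rev]; simp [mul_assoc]
    rcases hall _ (mul_mem (inv_mem hx) hc)
      (fun r hr hrx => by
        rw [← mul_assoc, (show r * x⁻¹ = x⁻¹ * r from by
          rw [eq_inv_mul_iff_mul_eq, ← mul_assoc, ← hrx, mul_inv_cancel_right]),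
          mul_assoc, hcc r hr hrx, mul_assoc])
      hcx with h' | h'
    · exact Or.inr (Or.inr (Or.inl ((inv_mul_eq_one.1 h').symm)))
    · refine Or.inr (Or.inr (Or.inr ?_))
      rw [inv_mul_eq_iff_eq_mul] at h'
      rw [h', h.comm x hx]

/-- If a conjugate of `z` lies in `Q`, then `z` lies in the corresponding conjugate of `Q`. -/
theorem XCent.mem_conj {Q : Subgroup G} {z : G} (h : XCent Q z) (g : G)
    (hx : g * z * g⁻¹ ∈ Q) : z ∈ Q.map (MulAut.conj g).toMonoidHom := by
  obtain ⟨x, hxdef⟩ : ∃ x, g * z * g⁻¹ = x := ⟨_, rfl⟩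
  have h' : XCent (Q.map (MulAut.conj g).toMonoidHom) x := hxdef ▸ h.conj g
  rw [hxdef] at hx
  by_cases hxz : x = z
  · have := h'.mem; rwa [hxz] at this
  have hx1 := h'.ne_one
  have hzx : z * x = x * z := (h.comm x hx).symm
  by_cases hA : ∃ q ∈ Q.map (MulAut.conj g).toMonoidHom, q * z * q⁻¹ = x * z
  · obtain ⟨q, hq, hqz⟩ := hA
    obtain ⟨p, hp, hpx⟩ : ∃ p ∈ Q, p * x * p⁻¹ = z * x := by
      by_contra hno
      push Not at hno
      rcases h.center x hx fun q' hq' => mul_inv_eq_iff_eq_mul.1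
        ((h.commEl q' hq' x hx).resolve_right (hno q' hq')) with h' | h'
      exacts [hx1 h', hxz h']
    have hqx : q * x * q⁻¹ = x := mul_inv_eq_iff_eq_mul.2 (h'.comm q hq)
    have hpz : p * z * p⁻¹ = z := mul_inv_eq_iff_eq_mul.2 (h.comm p hp)
    have hqt : q * (z * x) * q⁻¹ = z := by
      calc q * (z * x) * q⁻¹ = (q * z * q⁻¹) * (q * x * q⁻¹) := by simp [mul_assoc]
        _ = x * z * x := by rw [hqz, hqx]
        _ = z := by rw [mul_assoc, hzx, ← mul_assoc, h'.inv, one_mul]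
    set n := p * q * p
    have hnx : n * x * n⁻¹ = z := by
      calc n * x * n⁻¹ = p * (q * (p * x * p⁻¹) * q⁻¹) * p⁻¹ := by simp [n, mul_assoc]
        _ = z := by rw [hpx, hqt, hpz]
    have hnz : n * z * n⁻¹ = x := by
      calc n * z * n⁻¹ = p * (q * (p * z * p⁻¹) * q⁻¹) * p⁻¹ := by simp [n, mul_assoc]
        _ = p * (x * z) * p⁻¹ := by rw [hpz, hqz]
        _ = (p * x * p⁻¹) * (p * z * p⁻¹) := by simp [mul_assoc]
        _ = x := by rw [hpx, hpz, mul_assoc, ← hzx, ← mul_assoc, h.inv, one_mul]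
    rw [h.mem_map_iff (b := n) (hxdef.trans hnz.symm)]
    exact ⟨x, hx, hnx⟩
  · push Not at hA
    generalize hP : Q.map (MulAut.conj g).toMonoidHom = P at h' hA ⊢
    by_contra hzP
    have hB : ∀ q ∈ P, (q * z * q⁻¹ = z ∨ q * z * q⁻¹ = x * z) → q * z = z * q := fun q hq hh =>
      mul_inv_eq_iff_eq_mul.1 (hh.resolve_right (hA q hq))
    have hzcon : ∀ q ∈ P, z * q * z⁻¹ ∈ P := h'.norm z hzx
    have hzinv : z⁻¹ = z := inv_eq_of_mul_eq_one_right h.inv
    -- the intersection of the two groups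
    have hI : ∀ i ∈ Q, i ∈ P → i = 1 ∨ i = x := by
      intro i hiQ hiP
      have hR : ∀ r ∈ Q, r * x = x * r → r * i = i * r := by
        intro r hr hrx
        rcases h.commEl r hr i hiQ with hh | hh
        · exact mul_inv_eq_iff_eq_mul.1 hh
        · exfalso
          apply hzP
          have h1 := mul_mem (h'.norm r hrx i hiP) (inv_mem hiP)
          rwa [hh, mul_inv_cancel_right] at h1
      rcases h.cent_R hx hx1 hxz hiQ hR with rfl | rfl | rfl | rfl
      · exact Or.inl rfl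
      · exact absurd hiP hzP
      · exact Or.inr rfl
      · exact absurd (by simpa using mul_mem hiP (inv_mem h'.mem)) hzP
    -- commutators of the two centralizers
    have hC : ∀ r ∈ Q, r * x = x * r → ∀ s ∈ P, s * z = z * s →
        r * s * r⁻¹ = s ∨ r * s * r⁻¹ = x * s := by
      intro r hr hrx s hs hsz
      have h1 : r * s * r⁻¹ * s⁻¹ ∈ P := mul_mem (h'.norm r hrx s hs) (inv_mem hs)
      have h2 : r * s * r⁻¹ * s⁻¹ ∈ Q := by
        have := mul_mem hr (h.norm s hsz r⁻¹ (inv_mem hr))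
        simpa [mul_assoc] using this
      rcases hI _ h2 h1 with hh | hh
      · exact Or.inl (mul_inv_eq_one.1 hh)
      · exact Or.inr (mul_inv_eq_iff_eq_mul.1 hh)
    have hD : ∀ r ∈ Q, r * x = x * r → ∀ q ∈ P, ∀ s ∈ P, s * z = z * s →
        (r * q * r⁻¹ * q⁻¹) * s = s * (r * q * r⁻¹ * q⁻¹) := by
      intro r hr hrx q hq s hs hsz
      obtain ⟨c, hc, hcq⟩ : ∃ c, (c = 1 ∨ c = x) ∧ q * s * q⁻¹ = c * s := by
        rcases h'.commEl q hq s hs with hh | hh
        exacts [⟨1, Or.inl rfl, by rw [one_mul, hh]⟩, ⟨x, Or.inr rfl, hh⟩]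
      have hcc : ∀ y : G, y * x = x * y → y * c = c * y := by
        intro y hy
        rcases hc with rfl | rfl
        · simp
        · exact hy
      have hsr : ∃ e, (e = 1 ∨ e = x) ∧ r * s * r⁻¹ = e * s := by
        rcases hC r hr hrx s hs hsz with hh | hh
        exacts [⟨1, Or.inl rfl, by rw [one_mul, hh]⟩, ⟨x, Or.inr rfl, hh⟩]
      obtain ⟨e, he, hre⟩ := hsr
      have hq' := h'.norm r hrx q hq
      have hec : e * c = c * e := by
        rcases he with rfl | rfl
        · simp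
        · exact (hcc _ rfl)
      have hq'e : (r * q * r⁻¹) * e = e * (r * q * r⁻¹) := by
        rcases he with rfl | rfl
        · simp
        · exact h'.comm _ hq'
      have k1 : (r * q * r⁻¹) * s * (r * q * r⁻¹)⁻¹ = c * s := by
        have k2 := congrArg (fun t => r * t * r⁻¹) hcq
        rw [show r * (c * s) * r⁻¹ = (r * c * r⁻¹) * (r * s * r⁻¹) by simp [mul_assoc],
          mul_inv_eq_iff_eq_mul.2 (hcc r hrx), hre,
          show r * (q * s * q⁻¹) * r⁻¹ =
            (r * q * r⁻¹) * (r * s * r⁻¹) * (r * q * r⁻¹)⁻¹ by simp [mul_assoc], hre,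
          ← mul_assoc (r * q * r⁻¹), hq'e, ← mul_assoc c, ← hec] at k2
        simpa [mul_assoc] using k2
      have k3 : (r * q * r⁻¹) * s * (r * q * r⁻¹)⁻¹ = q * s * q⁻¹ := k1.trans hcq.symm
      have hcs : q⁻¹ * s * q = c⁻¹ * s := by
        have k4 := congrArg (fun t => q⁻¹ * t * q) hcq
        have hqc : q⁻¹ * c = c * q⁻¹ := by
          rw [inv_mul_eq_iff_eq_mul, ← mul_assoc, hcc q (h'.comm q hq), mul_inv_cancel_right]
        rw [show q⁻¹ * (c * s) * q = (q⁻¹ * c) * (s * q) by simp [mul_assoc], hqc] at k4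
        rw [eq_inv_mul_iff_mul_eq]
        simpa [mul_assoc] using k4.symm
      rw [← mul_inv_eq_iff_eq_mul]
      calc r * q * r⁻¹ * q⁻¹ * s * (r * q * r⁻¹ * q⁻¹)⁻¹
          = (r * q * r⁻¹) * (q⁻¹ * s * q) * (r * q * r⁻¹)⁻¹ := by simp [mul_assoc]
        _ = c⁻¹ * ((r * q * r⁻¹) * s * (r * q * r⁻¹)⁻¹) := by
            rw [hcs, ← mul_assoc (r * q * r⁻¹) c⁻¹]
            have : (r * q * r⁻¹) * c⁻¹ = c⁻¹ * (r * q * r⁻¹) := by
              rw [eq_inv_mul_iff_mul_eq, ← mul_assoc, ← hcc _ (h'.comm _ hq'),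
                mul_inv_cancel_right]
            rw [this]; simp [mul_assoc]
        _ = s := by rw [k1, inv_mul_cancel_left]
    have hW : ∀ q ∈ P, q⁻¹ * (z * q * z⁻¹) * z = z * (q⁻¹ * (z * q * z⁻¹)) := by
      intro q hq
      set w := q⁻¹ * (z * q * z⁻¹) with hwdef
      have hwP : w ∈ P := mul_mem (inv_mem hq) (hzcon q hq)
      have hzw : z * w * z = w⁻¹ := by
        simp only [hwdef, hzinv, mul_inv_rev, inv_inv, mul_assoc, h.inv, mul_one]
      refine hB w hwP ?_
      have hww : w * z * w⁻¹ = w * w * z := by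
        rw [← hzw]
        simp [← mul_assoc]
        simp [mul_assoc, h.inv]
      rcases h'.sq w hwP with hh | hh
      · left; rw [hww, hh, one_mul]
      · right; rw [hww, hh]
    have hS : ∀ r ∈ Q, r * x = x * r → ∀ q ∈ P,
        (r * q * r⁻¹ * q⁻¹) * z = z * (r * q * r⁻¹ * q⁻¹) := by
      intro r hr hrx q hq
      set d := r * q * r⁻¹ * q⁻¹ with hddef
      have hdP : d ∈ P := mul_mem (h'.norm r hrx q hq) (inv_mem hq)
      refine hB d hdP ?_
      have heP : d * (z * d * z⁻¹)⁻¹ ∈ P := mul_mem hdP (inv_mem (hzcon d hdP))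
      have hcen : ∀ t ∈ P, t * (d * (z * d * z⁻¹)⁻¹) = (d * (z * d * z⁻¹)⁻¹) * t := by
        intro t ht
        obtain ⟨c, hc, htd⟩ : ∃ c, (c = 1 ∨ c = x) ∧ t * d * t⁻¹ = c * d := by
          rcases h'.commEl t ht d hdP with hh | hh
          exacts [⟨1, Or.inl rfl, by rw [one_mul, hh]⟩, ⟨x, Or.inr rfl, hh⟩]
        have hcc : ∀ y : G, y * x = x * y → y * c = c * y := by
          intro y hy
          rcases hc with rfl | rfl
          · simp
          · exact hy
        set w := t⁻¹ * (z * t * z⁻¹) with hwdef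
        have hdw : d * w = w * d :=
          hD r hr hrx q hq w (mul_mem (inv_mem ht) (hzcon t ht)) (hW t ht)
        have k1 : (z * t * z⁻¹) * d * (z * t * z⁻¹)⁻¹ = c * d := by
          rw [show z * t * z⁻¹ = t * w by simp [hwdef], ← htd, mul_inv_rev, ← mul_assoc,
            mul_assoc t w d, ← hdw]
          simp [mul_assoc]
        have k2 : t * (z * d * z⁻¹) * t⁻¹ = c * (z * d * z⁻¹) := by
          have k3 := congrArg (fun y => z * y * z⁻¹) k1
          rw [show z * (c * d) * z⁻¹ = (z * c) * (d * z⁻¹) by simp [mul_assoc],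
            hcc z hzx] at k3
          have e1 : ∀ y : G, z * (z * y) = y := fun y => by rw [← mul_assoc, h.inv, one_mul]
          rw [hzinv] at k3 ⊢
          simpa [mul_assoc, hzinv, e1, h.inv] using k3
        rw [← mul_inv_eq_iff_eq_mul]
        calc t * (d * (z * d * z⁻¹)⁻¹) * t⁻¹
            = (t * d * t⁻¹) * (t * (z * d * z⁻¹) * t⁻¹)⁻¹ := by simp [mul_assoc]
          _ = c * (d * (z * d * z⁻¹)⁻¹) * c⁻¹ := by rw [htd, k2, mul_inv_rev]; simp [mul_assoc]
          _ = _ := by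
              rw [mul_inv_eq_iff_eq_mul]
              exact (hcc _ (h'.comm _ heP)).symm
      have hkey : d * z * d⁻¹ = (d * (z * d * z⁻¹)⁻¹) * z := by simp [mul_assoc]
      rcases h'.center _ heP hcen with hh | hh
      · left; rw [hkey, hh, one_mul]
      · right; rw [hkey, hh]
    by_cases hab : ∀ r₁ ∈ Q, r₁ * x = x * r₁ → ∀ r₂ ∈ Q, r₂ * x = x * r₂ → r₁ * r₂ = r₂ * r₁
    · -- abelian centralizer: `Q` is dihedral of order 8
      have hR4 : ∀ r ∈ Q, r * x = x * r → r = 1 ∨ r = z ∨ r = x ∨ r = z * x := fun r hr hrx =>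
        h.cent_R hx hx1 hxz hr fun r' hr' hr'x => hab r' hr' hr'x r hr hrx
      obtain ⟨q, hq, hqz⟩ : ∃ q ∈ P, q * z ≠ z * q := by
        by_contra hno
        push Not at hno
        exact hzP (h'.cent (Subgroup.mem_centralizer_iff.2 fun q hq => hno q hq))
      obtain ⟨s, hsdef⟩ : ∃ s, s = q⁻¹ * (z * q * z⁻¹) := ⟨_, rfl⟩
      have hsP : s ∈ P := hsdef ▸ mul_mem (inv_mem hq) (hzcon q hq)
      have hsz : s * z = z * s := hsdef ▸ hW q hq
      have hsnot : s ≠ 1 ∧ s ≠ x := by
        constructor <;> intro hs' <;> apply hqz <;> apply hB q hq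
        · left
          rw [mul_inv_eq_iff_eq_mul]
          rw [hsdef, inv_mul_eq_one, hzinv] at hs'
          have : q * z = z * q := by
            conv_lhs => rw [hs', mul_assoc, h.inv, mul_one]
          exact this
        · right
          rw [mul_inv_eq_iff_eq_mul]
          rw [hsdef, inv_mul_eq_iff_eq_mul, hzinv] at hs'
          have h2 : z * q = q * x * z := by rw [← hs', mul_assoc, h.inv, mul_one]
          rw [h'.comm q hq] at h2
          calc q * z = x * (x * q * z) := by simp [← mul_assoc, h'.inv]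
            _ = x * z * q := by rw [← h2, mul_assoc]
      have hsQ : s ∉ Q := fun hs' => by
        rcases hI s hs' hsP with hh | hh
        exacts [hsnot.1 hh, hsnot.2 hh]
      obtain ⟨p, hp, hpx⟩ : ∃ p ∈ Q, p * x * p⁻¹ = z * x := by
        by_contra hno
        push Not at hno
        rcases h.center x hx fun q' hq' => mul_inv_eq_iff_eq_mul.1
          ((h.commEl q' hq' x hx).resolve_right (hno q' hq')) with h' | h'
        exacts [hx1 h', hxz h']
      have hsx : s * x = x * s := h'.comm s hsP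
      have hsp : s * p * s⁻¹ ∈ Q := h.norm s hsz p hp
      have hspx : (s * p * s⁻¹) * x * (s * p * s⁻¹)⁻¹ = z * x := by
        calc (s * p * s⁻¹) * x * (s * p * s⁻¹)⁻¹
            = s * (p * (s⁻¹ * x * s) * p⁻¹) * s⁻¹ := by simp [mul_assoc]
          _ = z * x := by
              rw [show s⁻¹ * x * s = x by rw [mul_assoc, ← hsx, inv_mul_cancel_left], hpx,
                mul_inv_eq_iff_eq_mul, ← mul_assoc, hsz, mul_assoc, hsx, mul_assoc]
      set c := p⁻¹ * (s * p * s⁻¹) with hcdef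
      have hcQ : c ∈ Q := mul_mem (inv_mem hp) hsp
      have hcx : c * x = x * c := by
        rw [← mul_inv_eq_iff_eq_mul]
        calc c * x * c⁻¹ = p⁻¹ * ((s * p * s⁻¹) * x * (s * p * s⁻¹)⁻¹) * p := by
              simp [hcdef, mul_assoc]
          _ = x := by rw [hspx, ← hpx]; simp [mul_assoc]
      have hsp' : s * p * s⁻¹ = p * c := by simp [hcdef]
      have hpp : (p * c) * (p * c) = p * p := by
        rw [← hsp']
        rcases h.sq p hp with hh | hh
        · calc s * p * s⁻¹ * (s * p * s⁻¹) = s * (p * p) * s⁻¹ := by simp [mul_assoc]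
            _ = p * p := by rw [hh]; simp
        · calc s * p * s⁻¹ * (s * p * s⁻¹) = s * (p * p) * s⁻¹ := by simp [mul_assoc]
            _ = p * p := by rw [hh]; exact mul_inv_eq_iff_eq_mul.2 hsz
      have hpc : c * p * c = p := by simpa [mul_assoc] using hpp
      have hcase : c = 1 ∨ c = z := by
        rcases hR4 c hcQ hcx with hh | hh | hh | hh
        · exact Or.inl hh
        · exact Or.inr hh
        · exfalso
          have e := hpc
          rw [hh] at e
          have e2 : p * x * p⁻¹ = x := by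
            rw [mul_inv_eq_iff_eq_mul]
            calc p * x = x * (x * p * x) := by simp [← mul_assoc, h'.inv]
              _ = x * p := by rw [e]
          rw [hpx] at e2
          exact h.ne_one (mul_eq_right.1 e2)
        · exfalso
          have e := hpc
          rw [hh] at e
          have e2 : p * x * p⁻¹ = x := by
            rw [mul_inv_eq_iff_eq_mul]
            have e3 : z * x * p * (z * x) = x * p * x := by
              rw [mul_assoc z x p, mul_assoc z, ← mul_assoc (x * p) z x,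
                h.comm (x * p) (mul_mem hx hp)]
              simp [← mul_assoc, h.inv]
            rw [e3] at e
            calc p * x = x * (x * p * x) := by simp [← mul_assoc, h'.inv]
              _ = x * p := by rw [e]
          rw [hpx] at e2
          exact h.ne_one (mul_eq_right.1 e2)
      -- an element of `Q` or of `xQ` acting like `s`
      obtain ⟨y, hy, hy1, hyx, hyp⟩ : ∃ y : G, (y = 1 ∨ y = x) ∧ y ∈ Q ∧
          y * x = x * y ∧ (s * y) * p * (s * y)⁻¹ = p := by
        rcases hcase with hh | hh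
        · exact ⟨1, Or.inl rfl, one_mem _, by simp, by rw [mul_one, hsp', hh, mul_one]⟩
        · refine ⟨x, Or.inr rfl, hx, rfl, ?_⟩
          have hxp : x * p * x⁻¹ = z * p := by
            rw [mul_inv_eq_iff_eq_mul, mul_assoc z p x]
            have := mul_inv_eq_iff_eq_mul.1 hpx
            rw [this, ← mul_assoc z, ← mul_assoc z, h.inv, one_mul]
          calc (s * x) * p * (s * x)⁻¹ = s * (x * p * x⁻¹) * s⁻¹ := by simp [mul_assoc]
            _ = s * z * s⁻¹ * (s * p * s⁻¹) := by rw [hxp]; simp [mul_assoc]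
            _ = p := by
                rw [mul_inv_eq_iff_eq_mul.2 hsz, hsp', hh, h.comm p hp, ← mul_assoc, h.inv,
                  one_mul]
      refine hsQ ?_
      have : s * y ∈ Q := by
        refine h.cent (Subgroup.mem_centralizer_iff.2 fun q' hq' => ?_)
        have hRcase : ∀ r ∈ Q, r * x = x * r → r * (s * y) = (s * y) * r := by
          intro r hr hrx
          have hsr : r * s = s * r := by
            rcases hR4 r hr hrx with rfl | rfl | rfl | rfl
            · simp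
            · exact hsz.symm
            · exact hsx.symm
            · rw [mul_assoc, ← hsx, ← mul_assoc, ← hsz, mul_assoc]
          have hyr : r * y = y * r := by
            rcases hy with rfl | rfl
            · simp
            · exact hrx
          rw [← mul_assoc, hsr, mul_assoc, hyr, mul_assoc]
        rcases h.commEl q' hq' x hx with hh | hh
        · exact hRcase q' hq' (mul_inv_eq_iff_eq_mul.1 hh)
        · have hr : p⁻¹ * q' * x = x * (p⁻¹ * q') := by
            rw [← hpx] at hh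
            have := congrArg (fun t => p⁻¹ * t * q') hh
            simpa [mul_assoc] using this
          have h2 := hRcase _ (mul_mem (inv_mem hp) hq') hr
          have h3 : p * (s * y) = (s * y) * p := (mul_inv_eq_iff_eq_mul.1 hyp).symm
          calc q' * (s * y) = p * ((p⁻¹ * q') * (s * y)) := by simp [mul_assoc]
            _ = (p * (s * y)) * (p⁻¹ * q') := by rw [h2]; simp [mul_assoc]
            _ = (s * y) * q' := by rw [h3]; simp [mul_assoc]
      simpa using mul_mem this (inv_mem hy1)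
    · push Not at hab
      obtain ⟨r₁, hr₁, hr₁x, r₂, hr₂, hr₂x, hne⟩ := hab
      have hc : r₁ * r₂ = z * (r₂ * r₁) := by
        rcases h.commEl r₁ hr₁ r₂ hr₂ with hh | hh
        · exact absurd (mul_inv_eq_iff_eq_mul.1 hh) hne
        · rw [mul_inv_eq_iff_eq_mul] at hh; rw [hh, mul_assoc]
      apply hzP
      refine h'.cent (Subgroup.mem_centralizer_iff.2 fun t ht => ?_)
      have hrr : r₂ * r₁ * x = x * (r₂ * r₁) := by
        rw [mul_assoc, hr₁x, ← mul_assoc, hr₂x, mul_assoc]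
      -- pull back along conjugation by `r₂ r₁`
      obtain ⟨q, hq, rfl⟩ : ∃ q ∈ P, (r₂ * r₁) * q * (r₂ * r₁)⁻¹ = t :=
        ⟨(r₂ * r₁)⁻¹ * t * (r₂ * r₁), by
          have := (h'.conj_mem_iff hrr ((r₂ * r₁)⁻¹ * t * (r₂ * r₁))).1
            (by simpa [mul_assoc] using ht)
          exact this, by simp [mul_assoc]⟩
      set d₁ := r₁ * q * r₁⁻¹ * q⁻¹ with hd₁
      set d₂ := r₂ * q * r₂⁻¹ * q⁻¹ with hd₂
      have hd₁P : d₁ ∈ P := mul_mem (h'.norm r₁ hr₁x q hq) (inv_mem hq)
      have hd₂P : d₂ ∈ P := mul_mem (h'.norm r₂ hr₂x q hq) (inv_mem hq)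
      obtain ⟨a, ha, ha2⟩ : ∃ a, (a = 1 ∨ a = x) ∧ r₁ * d₂ * r₁⁻¹ = a * d₂ := by
        rcases hC r₁ hr₁ hr₁x d₂ hd₂P (hS r₂ hr₂ hr₂x q hq) with hh | hh
        exacts [⟨1, Or.inl rfl, by rw [one_mul, hh]⟩, ⟨x, Or.inr rfl, hh⟩]
      obtain ⟨b, hb, hb1⟩ : ∃ b, (b = 1 ∨ b = x) ∧ r₂ * d₁ * r₂⁻¹ = b * d₁ := by
        rcases hC r₂ hr₂ hr₂x d₁ hd₁P (hS r₁ hr₁ hr₁x q hq) with hh | hh
        exacts [⟨1, Or.inl rfl, by rw [one_mul, hh]⟩, ⟨x, Or.inr rfl, hh⟩]
      obtain ⟨e, he, he1⟩ : ∃ e, (e = 1 ∨ e = x) ∧ d₂ * d₁ = e * (d₁ * d₂) := by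
        rcases h'.commEl d₂ hd₂P d₁ hd₁P with hh | hh <;> rw [mul_inv_eq_iff_eq_mul] at hh
        exacts [⟨1, Or.inl rfl, by rw [one_mul, hh]⟩, ⟨x, Or.inr rfl, by rw [hh, mul_assoc]⟩]
      have hA' : (r₁ * r₂) * q * (r₁ * r₂)⁻¹ = a * e * b⁻¹ * ((r₂ * r₁) * q * (r₂ * r₁)⁻¹) := by
        have e1 : (r₁ * r₂) * q * (r₁ * r₂)⁻¹ = (r₁ * d₂ * r₁⁻¹) * d₁ * q := by
          simp [hd₁, hd₂, mul_assoc]
        have e2 : (r₂ * r₁) * q * (r₂ * r₁)⁻¹ = (r₂ * d₁ * r₂⁻¹) * d₂ * q := by
          simp [hd₁, hd₂, mul_assoc]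
        rw [e1, e2, ha2, hb1, mul_assoc a, he1]
        simp [mul_assoc]
      set A := (r₂ * r₁) * q * (r₂ * r₁)⁻¹ with hAdef
      have hmem : a * e * b⁻¹ = 1 ∨ a * e * b⁻¹ = x := by
        rcases ha with rfl | rfl <;> rcases he with rfl | rfl <;> rcases hb with rfl | rfl <;>
          simp [h'.inv, inv_eq_of_mul_eq_one_right h'.inv]
      have hzA : z * A * z⁻¹ = (r₁ * r₂) * q * (r₁ * r₂)⁻¹ := by
        rw [hc, hAdef]; simp [mul_assoc]
      rw [hA'] at hzA
      have hAP : A ∈ P := h'.norm _ hrr q hq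
      refine hB A hAP ?_
      rcases hmem with hh | hh
      · left
        rw [hh, one_mul, mul_inv_eq_iff_eq_mul] at hzA
        rw [mul_inv_eq_iff_eq_mul, hzA]
      · right
        rw [hh, mul_inv_eq_iff_eq_mul] at hzA
        rw [mul_inv_eq_iff_eq_mul, mul_assoc x z A, hzA, mul_assoc x A z, ← mul_assoc x x,
          h'.inv, one_mul]

/-- The intersections `Q_u ∩ Q_v` for a product `u v` of conjugates of `z`. -/
theorem XCent.inter_le {Q : Subgroup G} {z : G} (h : XCent Q z) {g g' k : G}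
    (hne : g * z * g⁻¹ ≠ g' * z * g'⁻¹)
    (huv : k * z * k⁻¹ = (g * z * g⁻¹) * (g' * z * g'⁻¹))
    (hv : g' * z * g'⁻¹ ∈ Q.map (MulAut.conj g).toMonoidHom) :
    Q.map (MulAut.conj g).toMonoidHom ⊓ Q.map (MulAut.conj g').toMonoidHom ≤
      Q.map (MulAut.conj k).toMonoidHom := by
  obtain ⟨u, hu⟩ : ∃ u, g * z * g⁻¹ = u := ⟨_, rfl⟩
  obtain ⟨v, hv'⟩ : ∃ v, g' * z * g'⁻¹ = v := ⟨_, rfl⟩
  have hQu : XCent (Q.map (MulAut.conj g).toMonoidHom) u := hu ▸ h.conj g
  have hQv : XCent (Q.map (MulAut.conj g').toMonoidHom) v := hv' ▸ h.conj g'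
  have huQv : u ∈ Q.map (MulAut.conj g').toMonoidHom := by
    have h1 := (h.conj g).mem_conj (g' * g⁻¹) (by simpa [mul_assoc] using hv)
    rw [hu, Subgroup.map_map] at h1
    obtain ⟨y, hy, hye⟩ := h1
    exact ⟨y, hy, by rw [← hye]; simp [mul_assoc]⟩
  rw [hu, hv'] at hne huv
  rw [hv'] at hv
  intro i hi
  obtain ⟨hiu, hiv⟩ := Subgroup.mem_inf.1 hi
  obtain ⟨q, hq, hqv⟩ : ∃ q ∈ Q.map (MulAut.conj g).toMonoidHom, q * v * q⁻¹ = u * v := by
    by_contra hno
    push Not at hno
    rcases hQu.center v hv fun q hq => mul_inv_eq_iff_eq_mul.1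
      ((hQu.commEl q hq v hv).resolve_right (hno q hq)) with h' | h'
    exacts [hQv.ne_one h', hne h'.symm]
  rw [h.mem_map_iff (b := q * g') (by
    rw [huv, ← hqv, ← hv']; simp [mul_assoc])]
  have hmem : q⁻¹ * i * q ∈ Q.map (MulAut.conj g').toMonoidHom := by
    rcases hQu.commEl q⁻¹ (inv_mem hq) i hiu with hh | hh <;> rw [inv_inv] at hh <;> rw [hh]
    · exact hiv
    · exact mul_mem huQv hiv
  obtain ⟨y, hy, hye⟩ := hmem
  refine ⟨y, hy, ?_⟩
  have : g' * y * g'⁻¹ = q⁻¹ * i * q := by simpa using hye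
  show q * g' * y * (q * g')⁻¹ = i
  calc q * g' * y * (q * g')⁻¹ = q * (g' * y * g'⁻¹) * q⁻¹ := by simp [mul_assoc]
    _ = i := by rw [this]; simp [mul_assoc]

/-- The subgroup O₂(C(y)) of `G`. -/
abbrev coreCent (y : G) : Subgroup G :=
  (Cfsg.pCore 2 ↥(Subgroup.centralizer ({y} : Set G))).map
    (Subgroup.centralizer ({y} : Set G)).subtype

theorem map_coreCent_le (a y : G) :
    (coreCent y).map (MulAut.conj a).toMonoidHom ≤ coreCent (a * y * a⁻¹) := by
  refine CfsgLib.Base.le_map_pCore ?_ ?_ ((CfsgLib.Base.isPGroup_map_pCore 2 _).map _)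
  · rintro _ ⟨w, hw, rfl⟩
    have hwc := Subgroup.mem_centralizer_singleton_iff.1
      (Subgroup.map_subtype_le (K := Cfsg.pCore 2 ↥(Subgroup.centralizer ({y} : Set G))) hw)
    refine Subgroup.mem_centralizer_singleton_iff.2 ?_
    show MulAut.conj a w * MulAut.conj a y = MulAut.conj a y * MulAut.conj a w
    rw [← map_mul, hwc, map_mul]
  · intro c hc
    have hc' : a⁻¹ * c * a ∈ Subgroup.centralizer ({y} : Set G) := by
      refine Subgroup.mem_centralizer_singleton_iff.2 ?_
      have := congrArg (fun t => a⁻¹ * t * a) (Subgroup.mem_centralizer_singleton_iff.1 hc)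
      simpa [mul_assoc] using this
    have hn := Subgroup.mem_normalizer_iff.1
      (CfsgLib.Base.le_normalizer_map_pCore (p := 2) _ hc')
    refine Subgroup.mem_normalizer_iff.2 fun t => ?_
    simp only [Subgroup.mem_map_equiv, MulAut.conj_symm_apply]
    have := hn (a⁻¹ * t * a)
    simpa [mul_assoc] using this

theorem map_coreCent (a y : G) :
    (coreCent y).map (MulAut.conj a).toMonoidHom = coreCent (a * y * a⁻¹) := by
  refine le_antisymm (map_coreCent_le a y) fun t ht => ?_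
  have h := map_coreCent_le a⁻¹ (a * y * a⁻¹) ⟨t, ht, rfl⟩
  rw [show a⁻¹ * (a * y * a⁻¹) * a⁻¹⁻¹ = y by simp [mul_assoc]] at h
  exact ⟨_, h, by simp [mul_assoc]⟩

theorem mem_coreCent_self {z : G} (hz : orderOf z = 2) : z ∈ coreCent z := by
  refine CfsgLib.Base.le_map_pCore (M := Subgroup.zpowers z) ?_ ?_ ?_ (Subgroup.mem_zpowers z)
  · rw [Subgroup.zpowers_le]
    exact Subgroup.mem_centralizer_singleton_iff.2 rfl
  · intro c hc
    refine Subgroup.centralizer_le_normalizer (Subgroup.zpowers z : Set G) ?_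
    rw [Subgroup.mem_centralizer_iff]
    intro t ht
    obtain ⟨n, rfl⟩ := Subgroup.mem_zpowers_iff.1 ht
    exact (Commute.zpow_left (Commute.symm (Subgroup.mem_centralizer_singleton_iff.1 hc)) n).eq
  · refine IsPGroup.of_card (n := 1) ?_
    rw [Nat.card_zpowers, hz, pow_one]

theorem xCent_coreCent {z : G} (hz : orderOf z = 2) (hE : IsExtraspecial 2 ↥(coreCent z))
    (hC : Subgroup.centralizer ((coreCent z : Subgroup G) : Set G) ≤ coreCent z) :
    XCent (coreCent z) z := by
  refine xCent_mk hE hC (mem_centerIn.2 ⟨mem_coreCent_self hz, fun q hq => ?_⟩)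
    (invol_ne_one hz) (CfsgLib.Base.le_normalizer_map_pCore (p := 2) _)
  exact Subgroup.mem_centralizer_singleton_iff.1 (Subgroup.map_subtype_le _ hq)

/-- The elements `u` for which `D ≤ Q_u`, together with `1`, are closed under products. -/
theorem inter_closure {z : G} (h : XCent (coreCent z) z) (U : Subgroup G)
    (hU2 : ∀ u ∈ U, u * u = 1) (hS : ∀ u ∈ U, u ≠ 1 → ∃ g : G, g * z * g⁻¹ = u)
    (hO : ∀ u ∈ U, ∀ v ∈ U, u ≠ 1 → v ≠ 1 → v ∈ coreCent u) (T : Set G)
    (hT : Subgroup.closure T = U) (hT1 : (1 : G) ∉ T) :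
    (⨅ u ∈ ((U : Set G) \ {1}), coreCent u) = ⨅ t ∈ T, coreCent t := by
  refine le_antisymm (le_iInf₂ fun t ht => ?_) (le_iInf₂ fun u hu => ?_)
  · refine iInf₂_le t ⟨?_, fun hh => hT1 ((show t = 1 from hh) ▸ ht)⟩
    exact hT ▸ Subgroup.subset_closure ht
  obtain ⟨huU, hu1⟩ := hu
  have huU' : u ∈ Subgroup.closure T := hT.symm ▸ huU
  have key : u ∈ U ∧ (u = 1 ∨ (⨅ t ∈ T, coreCent t) ≤ coreCent u) := by
    clear huU hu1
    induction huU' using Subgroup.closure_induction with
    | mem t ht => exact ⟨hT ▸ Subgroup.subset_closure ht, Or.inr (iInf₂_le t ht)⟩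
    | one => exact ⟨one_mem _, Or.inl rfl⟩
    | inv t _ ih =>
        refine ⟨inv_mem ih.1, ?_⟩
        rw [inv_eq_of_mul_eq_one_right (hU2 t ih.1)]
        exact ih.2
    | mul a b _ _ iha ihb =>
        refine ⟨mul_mem iha.1 ihb.1, ?_⟩
        rcases eq_or_ne a 1 with rfl | ha
        · rw [one_mul]; exact ihb.2
        rcases eq_or_ne b 1 with rfl | hb
        · rw [mul_one]; exact iha.2
        rcases eq_or_ne a b with rfl | hab
        · exact Or.inl (hU2 a iha.1)
        have hab1 : a * b ≠ 1 := fun hh => hab (by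
          rw [← inv_eq_of_mul_eq_one_right (hU2 b ihb.1), eq_inv_of_mul_eq_one_left hh])
        obtain ⟨g, rfl⟩ := hS a iha.1 ha
        obtain ⟨g', rfl⟩ := hS b ihb.1 hb
        obtain ⟨k, hk⟩ := hS _ (mul_mem iha.1 ihb.1) hab1
        refine Or.inr ?_
        have hv : g' * z * g'⁻¹ ∈ (coreCent z).map (MulAut.conj g).toMonoidHom := by
          rw [map_coreCent]; exact hO _ iha.1 _ ihb.1 ha hb
        have h1 := h.inter_le hab hk hv
        rw [map_coreCent, map_coreCent, map_coreCent, hk] at h1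
        exact (le_inf (iha.2.resolve_left ha) (ihb.2.resolve_left hb)).trans h1
  exact key.2.resolve_left hu1

end CfsgLib.ThreeTransp
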