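import Mathlib
import Cfsg.Prelude.Def_GeometricClasses

/-!
Cubic field subalgebras of three by three matrices, and matrices whose cube is scalar.
-/

set_option autoImplicit false

namespace CfsgLib.ThreeTransp.CubicCyclic

open Matrix

variable {F : Type*} [Field F]

local notation "M3" => Matrix (Fin 3) (Fin 3) F

/-- The companion matrix of `X ^ 3 - z`. -/
def comp (z : F) : M3 := !![0, 0, z; 1, 0, 0; 0, 1, 0]

theorem exists_cyclic_basis {Y : M3} {z : F} (hY : Y * (Y * Y) = z • (1 : M3)) (e : Fin 3 → F)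
    (he : LinearIndependent F ![e, Y *ᵥ e, Y *ᵥ (Y *ᵥ e)]) :
    ∃ Q : M3, Q.det ≠ 0 ∧ Y * Q = Q * comp z ∧ Y.det = z := by
  let Q : M3 := Matrix.of fun i j => ![e, Y *ᵥ e, Y *ᵥ (Y *ᵥ e)] j i
  have hQ : Q.det ≠ 0 := ((Matrix.isUnit_iff_isUnit_det Q).1 (Matrix.linearIndependent_cols_iff_isUnit.1 he)).ne_zero
  have h3 : Y *ᵥ (Y *ᵥ (Y *ᵥ e)) = z • e := by
    rw [mulVec_mulVec, mulVec_mulVec, mul_assoc, hY, smul_mulVec, one_mulVec]
  have hYQ : Y * Q = Q * comp z := by
    ext i j
    show (Y *ᵥ ![e, Y *ᵥ e, Y *ᵥ (Y *ᵥ e)] j) i = _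
    rw [Matrix.mul_apply, Fin.sum_univ_three]
    fin_cases j <;> simp only [Matrix.cons_val_zero, Matrix.cons_val_one, Matrix.cons_val_two, Matrix.head_cons,
      Matrix.tail_cons, Fin.mk_zero, Fin.mk_one, Fin.reduceFinMk, h3]
    all_goals simp [Q, comp, mul_comm]
  refine ⟨Q, hQ, hYQ, ?_⟩
  have h := congrArg Matrix.det hYQ
  rw [det_mul, det_mul, mul_comm Q.det] at h
  rw [mul_right_cancel₀ hQ h]
  simp [comp, Matrix.det_fin_three]

/-- A cube root of a non-cube has determinant equal to its cube. -/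
theorem det_of_noncube {Y : M3} {z : F} (hY : Y * (Y * Y) = z • (1 : M3)) (hz : ∀ c : F, c ^ 3 ≠ z) :
    Y.det = z := by
  have heig : ∀ (c : F) (v : Fin 3 → F), Y *ᵥ v = c • v → v = 0 := fun c v hv => by
    by_contra hne
    have h := congrArg (fun M : M3 => M *ᵥ v) hY
    simp only [← mulVec_mulVec, hv, mulVec_smul, smul_smul, smul_mulVec, one_mulVec] at h
    exact hz c (by rw [show c ^ 3 = c * (c * c) by ring]; exact smul_left_injective F hne (by simpa [mul_assoc] using h))
  let e : Fin 3 → F := Pi.single 0 1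
  have he0 : e ≠ 0 := by simp [e]
  refine (exists_cyclic_basis hY e ?_).choose_spec.2.2
  rw [Fintype.linearIndependent_iff]
  intro g hg
  simp only [Fin.sum_univ_three, Matrix.cons_val_zero, Matrix.cons_val_one, Matrix.cons_val_two, Matrix.head_cons,
    Matrix.tail_cons] at hg
  have h2 : g 2 = 0 := by
    by_contra h2
    set α := -(g 1 / g 2) with hα
    set β := -(g 0 / g 2) with hβ
    have hrel : Y *ᵥ (Y *ᵥ e) = α • (Y *ᵥ e) + β • e := by
      have h := congrArg (fun v : Fin 3 → F => (g 2)⁻¹ • v) hg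
      simp only [smul_add, smul_smul, inv_mul_cancel₀ h2, one_smul, smul_zero] at h
      rw [hα, hβ, div_eq_inv_mul, div_eq_inv_mul]
      linear_combination (norm := module) h
    have h3 : Y *ᵥ (Y *ᵥ (Y *ᵥ e)) = z • e := by
      rw [mulVec_mulVec, mulVec_mulVec, mul_assoc, hY, smul_mulVec, one_mulVec]
    rw [hrel, mulVec_add, mulVec_smul, mulVec_smul, hrel] at h3
    have h4 : (α * α + β) • (Y *ᵥ e) = (z - α * β) • e := by linear_combination (norm := module) h3
    have hab : α * α + β = 0 := by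
      by_contra hne
      refine he0 (heig ((α * α + β)⁻¹ * (z - α * β)) e ?_)
      rw [← smul_smul, ← h4, smul_smul, inv_mul_cancel₀ hne, one_smul]
    rw [hab, zero_smul] at h4
    have hz' : z - α * β = 0 := (smul_eq_zero.1 h4.symm).resolve_right he0
    exact hz (-α) (by linear_combination -α * hab - hz')
  rw [h2, zero_smul, add_zero] at hg
  have h1 : g 1 = 0 := by
    by_contra h1
    refine he0 (heig (-(g 0 / g 1)) e ?_)
    have h := congrArg (fun v : Fin 3 → F => (g 1)⁻¹ • v) hg
    simp only [smul_add, smul_smul, inv_mul_cancel₀ h1, one_smul, smul_zero] at h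
    rw [div_eq_inv_mul]
    linear_combination (norm := module) h
  rw [h1, zero_smul, add_zero] at hg
  have h0 : g 0 = 0 := (smul_eq_zero.1 hg).resolve_right he0
  intro i; fin_cases i <;> assumption

/-- A matrix of order three without repeated eigenvalues is cyclic. -/
theorem exists_regular_basis (h3 : (3 : F) ≠ 0) {Y : M3} (hY : Y * (Y * Y) = 1)
    (hreg : ∀ (c : F) (u v : Fin 3 → F), Y *ᵥ u = c • u → Y *ᵥ v = c • v → ¬ LinearIndependent F ![u, v]) :
    ∃ Q : M3, Q.det ≠ 0 ∧ Y * Q = Q * comp 1 ∧ Y.det = 1 := by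
  let L := Matrix.toLin' Y
  have hL3 : ∀ v, L (L (L v)) = v := fun v => by
    simp only [L, Matrix.toLin'_apply, mulVec_mulVec, mul_assoc, hY, one_mulVec]
  let Fx := LinearMap.ker (L - LinearMap.id)
  let W := LinearMap.ker (L ∘ₗ L + L + LinearMap.id)
  have mF : ∀ v, v ∈ Fx ↔ L v = v := fun v => by simp [Fx, sub_eq_zero]
  have mW : ∀ v, v ∈ W ↔ L (L v) + L v + v = 0 := fun v => by simp [W]
  have hdis : ∀ v, v ∈ Fx → v ∈ W → v = 0 := fun v h1 h2 => by
    rw [mF] at h1; rw [mW, h1, h1] at h2
    have : (3 : F) • v = 0 := by linear_combination (norm := module) h2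
    exact (smul_eq_zero.1 this).resolve_left h3
  have hdim : ∀ c : F, Module.finrank F (LinearMap.ker (L - c • LinearMap.id)) ≤ 1 := fun c => by
    by_contra hlt
    push Not at hlt
    obtain ⟨u, hu⟩ := exists_linearIndependent_of_le_finrank (R := F) (M := LinearMap.ker (L - c • LinearMap.id)) hlt
    have hm : ∀ w : LinearMap.ker (L - c • LinearMap.id), Y *ᵥ (w : Fin 3 → F) = c • (w : Fin 3 → F) := fun w => by
      have := w.2
      rw [LinearMap.mem_ker, LinearMap.sub_apply, LinearMap.smul_apply, LinearMap.id_apply, sub_eq_zero] at this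
      exact this
    refine hreg c _ _ (hm (u 0)) (hm (u 1)) ?_
    have := hu.map' (Submodule.subtype _) (Submodule.ker_subtype _)
    rw [show (![((u 0 : _) : Fin 3 → F), ((u 1 : _) : Fin 3 → F)]) = fun i => ((u i : _) : Fin 3 → F) from
      funext fun i => by fin_cases i <;> rfl]
    exact this
  have hker : ∀ (c : F) (v : Fin 3 → F), v ∈ LinearMap.ker (L - c • LinearMap.id) ↔ L v = c • v := fun c v => by
    simp [sub_eq_zero]
  -- there is a fixed vector
  obtain ⟨a, ha, ha0⟩ : ∃ a, L a = a ∧ a ≠ 0 := by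
    by_contra hno
    push Not at hno
    have hq : ∀ v, L (L v) + L v + v = 0 := fun v => hno _ (by rw [map_add, map_add, hL3]; abel)
    obtain ⟨c, u, hu0, hu⟩ : ∃ c u, u ≠ 0 ∧ L u = c • u := by
      by_contra hne
      push Not at hne
      have hplane : ∀ v : Fin 3 → F, v ≠ 0 → LinearIndependent F ![v, L v] := fun v hv =>
        (LinearIndependent.pair_iff' hv).2 fun r hr => hne r v hv hr.symm
      have hinv : ∀ v, ∀ w ∈ Submodule.span F (Set.range ![v, L v]), L w ∈ Submodule.span F (Set.range ![v, L v]) := by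
        intro v w hw
        obtain ⟨g, rfl⟩ := (Submodule.mem_span_range_iff_exists_fun F).1 hw
        refine (Submodule.mem_span_range_iff_exists_fun F).2 ⟨![-g 1, g 0 - g 1], ?_⟩
        simp [Fin.sum_univ_two]
        linear_combination (norm := module) -g 1 • hq v
      let v : Fin 3 → F := Pi.single 0 1
      have hv : v ≠ 0 := by simp [v]
      set P := Submodule.span F (Set.range ![v, L v]) with hP
      have hP2 : Module.finrank F P = 2 := by rw [finrank_span_eq_card (hplane v hv), Fintype.card_fin]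
      obtain ⟨u, hu⟩ : ∃ u, u ∉ P := by
        by_contra h
        push Not at h
        have : P = ⊤ := eq_top_iff.2 fun w _ => h w
        rw [this, finrank_top, Module.finrank_fin_fun] at hP2
        omega
      have hu0 : u ≠ 0 := fun h => hu (h ▸ P.zero_mem)
      set Q := Submodule.span F (Set.range ![u, L u]) with hQ
      have hQ2 : Module.finrank F Q = 2 := by rw [finrank_span_eq_card (hplane u hu0), Fintype.card_fin]
      have hle : Module.finrank F (P ⊔ Q : Submodule F (Fin 3 → F)) ≤ 3 := (Submodule.finrank_le _).trans (by simp)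
      have hsum := Submodule.finrank_sup_add_finrank_inf_eq P Q
      have hne' : P ⊓ Q ≠ ⊥ := fun h => by rw [h, finrank_bot] at hsum; omega
      obtain ⟨w, hw, hw0⟩ := Submodule.exists_mem_ne_zero_of_ne_bot hne'
      have hsub : Submodule.span F (Set.range ![w, L w]) ≤ P ⊓ Q := by
        rw [Submodule.span_le, Set.range_subset_iff]
        intro i; fin_cases i
        · exact hw
        · exact ⟨hinv v w hw.1, hinv u w hw.2⟩
      have h2 := Submodule.finrank_mono hsub
      rw [finrank_span_eq_card (hplane w hw0), Fintype.card_fin] at h2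
      have hPQ : P ⊓ Q = P := Submodule.eq_of_le_of_finrank_le inf_le_left (by omega)
      exact hu ((inf_eq_left.1 hPQ).antisymm (le_of_eq (Submodule.eq_of_le_of_finrank_eq (inf_eq_left.1 hPQ) (by omega)).symm) ▸
        Submodule.subset_span ⟨0, rfl⟩)
    have hc : c * c + c + 1 = 0 := by
      have h := hq u
      rw [hu, map_smul, hu, smul_smul, ← add_smul] at h
      have h' : (c * c + c + 1) • u = 0 := by rw [add_smul, one_smul]; exact h
      exact (smul_eq_zero.1 h').resolve_right hu0
    have hle : LinearMap.range (L - (-1 - c) • LinearMap.id) ≤ LinearMap.ker (L - c • LinearMap.id) := by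
      rintro _ ⟨w, rfl⟩
      rw [hker]
      simp only [LinearMap.sub_apply, LinearMap.smul_apply, LinearMap.id_apply, map_sub, map_smul, smul_sub, smul_smul]
      have h0 : c * (-1 - c) = 1 := by linear_combination -hc
      rw [h0]
      linear_combination (norm := module) hq w
    have h1 := LinearMap.finrank_range_add_finrank_ker (L - (-1 - c) • LinearMap.id)
    rw [Module.finrank_fin_fun] at h1
    have := Submodule.finrank_mono hle
    have := hdim c
    have := hdim (-1 - c)
    omega
  -- a non-eigenvector in the complement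
  obtain ⟨w, hwW, hw⟩ : ∃ w ∈ W, ∀ r : F, L w ≠ r • w := by
    by_contra h
    push Not at h
    have hWd : 2 ≤ Module.finrank F W := by
      have h1 := hdim 1
      rw [one_smul] at h1
      have h2 := LinearMap.finrank_range_add_finrank_ker (L - LinearMap.id)
      rw [Module.finrank_fin_fun] at h2
      have h3 : Module.finrank F (LinearMap.range (L - LinearMap.id)) ≤ Module.finrank F W := Submodule.finrank_mono (by
        rintro _ ⟨v, rfl⟩
        rw [mW]
        simp only [LinearMap.sub_apply, LinearMap.id_apply, map_sub, hL3]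
        abel)
      omega
    obtain ⟨u, hu⟩ := exists_linearIndependent_of_le_finrank (R := F) (M := W) hWd
    have hu' : LinearIndependent F fun i => (u i : Fin 3 → F) := hu.map' W.subtype W.ker_subtype
    obtain ⟨r0, h0⟩ := h _ (u 0).2
    obtain ⟨r1, h1⟩ := h _ (u 1).2
    obtain ⟨r2, h2⟩ := h _ (W.add_mem (u 0).2 (u 1).2)
    rw [map_add, h0, h1] at h2
    have hz := Fintype.linearIndependent_iff.1 hu' ![r0 - r2, r1 - r2]
      (by simp [Fin.sum_univ_two]; linear_combination (norm := module) h2)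
    have e0 := hz 0; have e1 := hz 1
    simp at e0 e1
    refine hreg r0 _ _ h0 (by rw [show r0 = r1 by linear_combination e0 - e1]; exact h1) ?_
    convert hu' using 1
    funext i; fin_cases i <;> rfl
  have hw0 : w ≠ 0 := fun h => hw 0 (by rw [h, map_zero, smul_zero])
  have hwW' : L (L w) = -L w - w := by have := (mW w).1 hwW; linear_combination (norm := module) this
  refine exists_cyclic_basis (z := 1) (by rw [hY, one_smul]) (a + w) ?_ |>.imp fun Q h => h
  rw [Fintype.linearIndependent_iff]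
  intro g hg
  simp only [Fin.sum_univ_three, Matrix.cons_val_zero, Matrix.cons_val_one, Matrix.cons_val_two, Matrix.head_cons,
    Matrix.tail_cons, ← Matrix.toLin'_apply] at hg
  rw [show Matrix.toLin' Y = L from rfl, map_add, map_add, ha, ha, hwW'] at hg
  set s := (g 0 + g 1 + g 2) • a with hs
  have hsum : s = -((g 0 - g 2) • w + (g 1 - g 2) • L w) := by rw [hs]; linear_combination (norm := module) hg
  have hs0 : s = 0 := hdis s (by rw [hs]; exact Fx.smul_mem _ ((mF a).2 ha)) (by
    rw [hsum]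
    refine W.neg_mem (W.add_mem (W.smul_mem _ hwW) (W.smul_mem _ ((mW _).2 ?_)))
    rw [hL3, hwW']; abel)
  have h012 : g 0 + g 1 + g 2 = 0 := (smul_eq_zero.1 (hs ▸ hs0)).resolve_right ha0
  rw [hs0] at hsum
  have hpair := LinearIndependent.pair_iff.1 ((LinearIndependent.pair_iff' hw0).2 fun r hr => hw r hr.symm)
    (g 0 - g 2) (g 1 - g 2) (neg_eq_zero.1 hsum.symm)
  have g2 : (3 : F) * g 2 = 0 := by linear_combination h012 - hpair.1 - hpair.2
  have g2' := (mul_eq_zero.1 g2).resolve_left h3
  intro i; fin_cases i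
  · show g 0 = 0
    linear_combination hpair.1 + g2'
  · show g 1 = 0
    linear_combination hpair.2 + g2'
  · exact g2'

/-- Matrices with the same companion form are conjugate by a matrix of determinant one. -/
theorem exists_conj (h3 : (3 : F) ≠ 0) {x y Qx Qy : M3} {μ : F} (hQx : Qx.det ≠ 0) (hQy : Qy.det ≠ 0)
    (hx : x * Qx = Qx * (μ • comp 1)) (hy : y * Qy = Qy * (μ • comp 1)) :
    ∃ P : M3, P.det = 1 ∧ x * P = P * y := by
  set δ := Qy.det / Qx.det with hδ
  let N : M3 := ((δ + 2) / 3) • 1 + ((δ - 1) / 3) • (comp 1) + ((δ - 1) / 3) • (comp 1 * comp 1)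
  have hN : N.det = δ := by
    simp [N, comp, Matrix.det_fin_three, Matrix.mul_apply, Fin.sum_univ_three]
    field_simp
    ring
  have hNC : N * (μ • comp 1) = (μ • comp 1) * N := by
    simp only [N, mul_smul_comm, smul_mul_assoc, add_mul, mul_add, one_mul, mul_one, mul_assoc]
    module
  have hu : IsUnit Qy.det := isUnit_iff_ne_zero.2 hQy
  refine ⟨Qx * N * Qy⁻¹, ?_, ?_⟩
  · rw [det_mul, det_mul, hN, hδ, det_nonsing_inv, Ring.inverse_eq_inv', mul_div_cancel₀ _ hQx, mul_inv_cancel₀ hQy]
  · have hy' : Qy⁻¹ * y = (μ • comp 1) * Qy⁻¹ := by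
      calc Qy⁻¹ * y = Qy⁻¹ * (y * Qy) * Qy⁻¹ := by rw [mul_assoc, mul_assoc, mul_nonsing_inv _ hu, mul_one]
        _ = Qy⁻¹ * Qy * (μ • comp 1) * Qy⁻¹ := by rw [hy, ← mul_assoc]
        _ = _ := by rw [nonsing_inv_mul _ hu, one_mul]
    rw [mul_assoc (Qx * N) Qy⁻¹ y, hy', ← mul_assoc, ← mul_assoc, ← mul_assoc, hx, mul_assoc Qx (μ • comp 1), ← hNC]
    simp [mul_assoc]

/-- A cubic field subalgebra is normalised by an element of order three without repeated eigenvalues. -/
theorem exists_frob [Fintype F] {p : ℕ} [Fact p.Prime] [CharP F p] {K : Subalgebra F M3}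
    (hK : Cfsg.Geo.IsFieldSubalgebra 3 K) :
    ∃ g : M3, g * (g * g) = 1 ∧
      (∀ (c : F) (u v : Fin 3 → F), g *ᵥ u = c • u → g *ᵥ v = c • v → ¬ LinearIndependent F ![u, v]) ∧
      ∀ k ∈ K, ∃ k' ∈ K, g * k = k' * g := by
  classical
  set q := Fintype.card F with hq
  obtain ⟨f, hfp, hf⟩ := FiniteField.card F p
  haveI : Nontrivial K := ⟨⟨0, 1, fun h => zero_ne_one (α := M3) (congrArg Subtype.val h)⟩⟩
  have hfield : IsField K :=
    ⟨⟨0, 1, zero_ne_one⟩, fun a b => Subtype.ext (hK.comm _ a.2 _ b.2), fun {a} ha => by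
      obtain ⟨b, hb, hab⟩ := hK.inv _ a.2 fun h => ha (Subtype.ext h)
      exact ⟨⟨b, hb⟩, Subtype.ext hab⟩⟩
  letI := hfield.toField
  haveI : Finite K := Finite.of_injective (fun k : K => (k : M3)) Subtype.val_injective
  letI := Fintype.ofFinite K
  have hcK : Fintype.card K = q ^ 3 := by
    rw [Module.card_eq_pow_finrank (K := F) (V := K), hK.finrank_eq]
  let v : Fin 3 → F := Pi.single 0 1
  have hv : v ≠ 0 := by simp [v]
  let ev : K →ₗ[F] (Fin 3 → F) :=
    { toFun := fun k => (k : M3) *ᵥ v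
      map_add' := fun a b => by simp [add_mulVec]
      map_smul' := fun c a => by simp [smul_mulVec] }
  have hev : Function.Injective ev := by
    rw [← LinearMap.ker_eq_bot, LinearMap.ker_eq_bot']
    intro k hk
    by_contra hne
    obtain ⟨b, hb, hkb⟩ := hK.inv _ k.2 fun h => hne (Subtype.ext h)
    refine hv ?_
    calc v = ((b : M3) * (k : M3)) *ᵥ v := by rw [hK.comm _ hb _ k.2, hkb, one_mulVec]
      _ = 0 := by rw [← mulVec_mulVec]; exact (congrArg (b *ᵥ ·) hk).trans (mulVec_zero _)
  let E : K ≃ₗ[F] (Fin 3 → F) := LinearEquiv.ofBijective ev ⟨hev,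
    (LinearMap.injective_iff_surjective_of_finrank_eq_finrank (by rw [Module.finrank_fin_fun]; exact hK.finrank_eq)).1 hev⟩
  let φ : K →ₗ[F] K :=
    { toFun := fun k => ⟨(k : M3) ^ q, pow_mem k.2 q⟩
      map_add' := fun a b => Subtype.ext (by
        show ((a : M3) + b) ^ q = (a : M3) ^ q + (b : M3) ^ q
        rw [hq, hf, add_pow_char_pow_of_commute p _ (hK.comm _ a.2 _ b.2 : Commute (a : M3) b)])
      map_smul' := fun c a => Subtype.ext (by
        show (c • (a : M3)) ^ q = c • (a : M3) ^ q
        rw [smul_pow, FiniteField.pow_card]) }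
  let g : M3 := LinearMap.toMatrix' (E.toLinearMap ∘ₗ φ ∘ₗ E.symm.toLinearMap)
  have hg : ∀ k : K, g *ᵥ ((k : M3) *ᵥ v) = ((φ k : K) : M3) *ᵥ v := fun k => by
    refine (LinearMap.toMatrix'_mulVec _ _).trans ?_
    show E (φ (E.symm (E k))) = _
    rw [E.symm_apply_apply]
    rfl
  have hext : ∀ A B : M3, (∀ k : K, A *ᵥ ((k : M3) *ᵥ v) = B *ᵥ ((k : M3) *ᵥ v)) → A = B := fun A B h =>
    Matrix.toLin'.injective (LinearMap.ext fun w => by
      obtain ⟨k, rfl⟩ := E.surjective w
      exact h k)
  refine ⟨g, hext _ _ fun k => ?_, fun c u w hu hw hli => ?_, fun k hk => ?_⟩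
  · rw [← mulVec_mulVec, ← mulVec_mulVec, hg, hg, hg, one_mulVec]
    have h : φ (φ (φ k)) = k := Subtype.ext (by
      show (((k : M3) ^ q) ^ q) ^ q = k
      have hk := congrArg Subtype.val (FiniteField.pow_card k)
      rw [hcK, SubmonoidClass.coe_pow] at hk
      rw [← pow_mul, ← pow_mul, show q * (q * q) = q ^ 3 by ring]
      exact hk)
    rw [h]
  · obtain ⟨a, rfl⟩ := E.surjective u
    obtain ⟨b, rfl⟩ := E.surjective w
    have hpow : ∀ a : K, g *ᵥ E a = c • E a → a ^ q = c • a := fun a h => by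
      refine hev (((?_ : ev (a ^ q) = g *ᵥ E a)).trans (h.trans (map_smul ev c a).symm))
      exact (hg a).symm
    have ha0 : a ≠ 0 := fun h => hli.ne_zero 0 (by simp [h])
    have hb0 : b ≠ 0 := fun h => hli.ne_zero 1 (by simp [h])
    have hr : (b / a) ^ q = b / a := by
      have hc : c ≠ 0 := fun h => ha0 (eq_zero_of_pow_eq_zero (n := q) (by rw [hpow a hu, h, zero_smul]))
      rw [div_pow, hpow a hu, hpow b hw, Algebra.smul_def, Algebra.smul_def,
        mul_div_mul_left _ _ (fun h => hc ((algebraMap F K).injective (h.trans (map_zero _).symm)))]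
    -- the fixed elements are scalars
    let P : Polynomial K := Polynomial.X ^ q - Polynomial.X
    have hP0 : P ≠ 0 := FiniteField.X_pow_card_sub_X_ne_zero K Fintype.one_lt_card
    obtain ⟨t, ht⟩ : ∃ t : F, algebraMap F K t = b / a := by
      by_contra hno
      push Not at hno
      let S : Finset K := insert (b / a) (Finset.univ.image (algebraMap F K))
      have hScard : S.card = q + 1 := by
        rw [Finset.card_insert_of_notMem (by simpa using hno), Finset.card_image_of_injective _ (algebraMap F K).injective,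
          Finset.card_univ]
      have hroot : S.val ⊆ P.roots := fun s hs => by
        rw [Polynomial.mem_roots hP0]
        rcases Finset.mem_insert.1 hs with rfl | hs
        · simp [P, hr]
        · obtain ⟨t, -, rfl⟩ := Finset.mem_image.1 hs
          simp [P, ← map_pow, hq, FiniteField.pow_card]
      have := Polynomial.card_le_degree_of_subset_roots hroot
      rw [hScard, FiniteField.X_pow_card_sub_X_natDegree_eq K Fintype.one_lt_card] at this
      omega
    refine (LinearIndependent.pair_iff' (hli.ne_zero 0)).1 hli t ?_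
    show t • E a = E b
    rw [← map_smul, Algebra.smul_def, ht, div_mul_cancel₀ _ ha0]
  · refine ⟨k ^ q, pow_mem hk q, hext _ _ fun l => ?_⟩
    calc (g * k) *ᵥ ((l : M3) *ᵥ v) = g *ᵥ ((k * (l : M3)) *ᵥ v) := by simp only [mulVec_mulVec, mul_assoc]
      _ = ((k * (l : M3)) ^ q) *ᵥ v := hg ⟨k * (l : M3), mul_mem hk l.2⟩
      _ = (k ^ q * (l : M3) ^ q) *ᵥ v := by rw [Commute.mul_pow (hK.comm _ hk _ l.2)]
      _ = (k ^ q) *ᵥ (g *ᵥ ((l : M3) *ᵥ v)) := by rw [hg, ← mulVec_mulVec]; rfl
      _ = (k ^ q * g) *ᵥ ((l : M3) *ᵥ v) := mulVec_mulVec _ _ _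

end CfsgLib.ThreeTransp.CubicCyclic
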