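import Cfsg.Agent.Lib.PrimeOrderSp.Transfer
import Cfsg.Agent.Lib.PrimeOrderSp.Config
import Cfsg.Agent.Lib.KnownB.Semisimple
import Cfsg.Agent.Lib.Geometry.HermCount

/-!
Invariant subspaces of linear maps of prime order prime to the characteristic, and the counting of subspaces.
-/

set_option autoImplicit false

namespace CfsgLib.ThreeTransp.PrimeInv

open Polynomial Module CfsgLib.PrimeOrderSp CfsgLib.KnownB.PrimeOrder

universe u v

variable {F : Type u} [Field F]

section Endo

variable {V : Type v} [AddCommGroup V] [Module F V] [FiniteDimensional F V] {f : Module.End F V}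

/-- Invariant subspaces of every admissible dimension inside a killed subspace. -/
theorem exists_sub (hss : f.IsSemisimple) {S : Finset F[X]} {i : ℕ} {D : Submodule F V} (hk : Killed f S i D) :
    ∀ j, j * i ≤ finrank F D → ∃ W, W ≤ D ∧ Inv f W ∧ finrank F W = j * i := by
  intro j
  induction j with
  | zero => exact fun _ => ⟨⊥, bot_le, fun v hv => by simp [(Submodule.mem_bot F).1 hv], by simp⟩
  | succ j ih =>
    intro hj
    rw [Nat.succ_mul] at hj
    obtain ⟨W, hWD, hW, hWr⟩ := ih (by omega)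
    obtain ⟨U, hU, hUD, hsup, hdis⟩ := exists_compl_inv hss hW hk.inv hWD
    have h := Submodule.finrank_sup_add_finrank_inf_eq W U
    rw [hsup, hdis.eq_bot, finrank_bot, add_zero, hWr] at h
    by_cases hU0 : U = ⊥
    · rw [hU0, finrank_bot] at h
      refine ⟨W, hWD, hW, ?_⟩
      rw [hWr, Nat.succ_mul]; omega
    · obtain ⟨P, hP, v, hv, hv0, hPv⟩ := exists_factor S hU hU0 (hk.mono hU hUD).kill
      have hr := (finrank_cyc (hk.irr P hP) hPv hv0).trans (hk.deg P hP)
      have hle := cyc_le hU hv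
      refine ⟨W ⊔ cyc f v, sup_le hWD (hle.trans hUD), hW.sup (cyc_inv v), ?_⟩
      have h2 := Submodule.finrank_sup_add_finrank_inf_eq W (cyc f v)
      rw [(hdis.mono_right hle).eq_bot, finrank_bot, add_zero, hWr, hr] at h2
      rw [h2, Nat.succ_mul]

theorem exists_two_sub (hss : f.IsSemisimple) {S : Finset F[X]} {i : ℕ} {D : Submodule F V} (hk : Killed f S i D)
    {j₁ j₂ : ℕ} (h : (j₁ + j₂) * i ≤ finrank F D) :
    ∃ U₁ U₂, U₁ ≤ D ∧ U₂ ≤ D ∧ Inv f U₁ ∧ Inv f U₂ ∧ Disjoint U₁ U₂ ∧
      finrank F U₁ = j₁ * i ∧ finrank F U₂ = j₂ * i := by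
  rw [add_mul] at h
  obtain ⟨U₁, h1D, h1, h1r⟩ := exists_sub hss hk j₁ (by omega)
  obtain ⟨U, hU, hUD, hsup, hdis⟩ := exists_compl_inv hss h1 hk.inv h1D
  have h2 := Submodule.finrank_sup_add_finrank_inf_eq U₁ U
  rw [hsup, hdis.eq_bot, finrank_bot, add_zero, h1r] at h2
  obtain ⟨U₂, h2U, h2i, h2r⟩ := exists_sub hss (hk.mono hU hUD) j₂ (by omega)
  exact ⟨U₁, U₂, h1D, h2U.trans hUD, h1, h2i, hdis.mono_right h2U, h1r, h2r⟩

variable [Fintype F] {r : ℕ} [Fact r.Prime]

/-- An invariant subspace is a fixed part plus a multiple of `i`. -/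
theorem inv_dim (hr : (r : F) ≠ 0) (hfr : f ^ r = 1) {W : Submodule F V} (hW : Inv f W) :
    ∃ b, finrank F W = finrank F (W ⊓ fixSp f : Submodule F V) + b * orderOf ((Fintype.card F : ℕ) : ZMod r) := by
  classical
  obtain ⟨b, hb⟩ := finrank_dvd (isSemisimple_of_pow hr hfr)
    ((killed_movSp (f := f) hr hfr).mono (hW.inf inv_movSp) inf_le_right)
  exact ⟨b, by rw [split_inv hr hfr hW, hb, mul_comm]⟩

theorem finrank_mov (hr : (r : F) ≠ 0) (hfr : f ^ r = 1) :
    ∃ N, finrank F (movSp f) = N * orderOf ((Fintype.card F : ℕ) : ZMod r) ∧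
      finrank F (fixSp f) + N * orderOf ((Fintype.card F : ℕ) : ZMod r) = finrank F V := by
  classical
  obtain ⟨N, hN⟩ := finrank_dvd (isSemisimple_of_pow hr hfr) (killed_movSp (f := f) hr hfr)
  rw [mul_comm] at hN
  exact ⟨N, hN, by rw [← hN, Submodule.finrank_add_eq_of_isCompl (isCompl_fix_mov hr hfr)]⟩

/-- Two disjoint invariant subspaces of given types. -/
theorem exists_two (hr : (r : F) ≠ 0) (hfr : f ^ r = 1) {a₁ a₂ b₁ b₂ : ℕ}
    (ha : a₁ + a₂ ≤ finrank F (fixSp f))
    (hb : (b₁ + b₂) * orderOf ((Fintype.card F : ℕ) : ZMod r) ≤ finrank F (movSp f)) :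
    ∃ U₁ U₂, Inv f U₁ ∧ Inv f U₂ ∧ Disjoint U₁ U₂ ∧
      finrank F U₁ = a₁ + b₁ * orderOf ((Fintype.card F : ℕ) : ZMod r) ∧
      finrank F U₂ = a₂ + b₂ * orderOf ((Fintype.card F : ℕ) : ZMod r) := by
  classical
  have hss := isSemisimple_of_pow hr hfr
  obtain ⟨A₁, A₂, hA₁, hA₂, iA₁, iA₂, dA, rA₁, rA₂⟩ :=
    exists_two_sub hss (killed_fixSp (f := f) hr hfr) (j₁ := a₁) (j₂ := a₂) (by simpa using ha)
  obtain ⟨B₁, B₂, hB₁, hB₂, iB₁, iB₂, dB, rB₁, rB₂⟩ :=
    exists_two_sub hss (killed_movSp (f := f) hr hfr) hb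
  have hd := (isCompl_fix_mov (f := f) hr hfr).disjoint
  refine ⟨A₁ ⊔ B₁, A₂ ⊔ B₂, iA₁.sup iB₁, iA₂.sup iB₂, ?_, ?_, ?_⟩
  · rw [Submodule.disjoint_def]
    intro v hv hv'
    obtain ⟨a, ha, b, hb, rfl⟩ := Submodule.mem_sup.1 hv
    obtain ⟨a', ha', b', hb', he⟩ := Submodule.mem_sup.1 hv'
    have h1 : a - a' = b' - b := by
      rw [sub_eq_sub_iff_add_eq_add, ← he]
      abel
    have h0 : a - a' = 0 := Submodule.disjoint_def.1 hd _ (sub_mem (hA₁ ha) (hA₂ ha'))
      (h1 ▸ sub_mem (hB₂ hb') (hB₁ hb))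
    rw [h0, eq_comm, sub_eq_zero] at h1
    rw [sub_eq_zero] at h0
    rw [Submodule.disjoint_def.1 dA a ha (h0 ▸ ha'), Submodule.disjoint_def.1 dB b hb (h1 ▸ hb'), add_zero]
  · have h := Submodule.finrank_sup_add_finrank_inf_eq A₁ B₁
    rw [(hd.mono hA₁ hB₁).eq_bot, finrank_bot, add_zero, rA₁, rB₁, mul_one] at h
    exact h
  · have h := Submodule.finrank_sup_add_finrank_inf_eq A₂ B₂
    rw [(hd.mono hA₂ hB₂).eq_bot, finrank_bot, add_zero, rA₂, rB₂, mul_one] at h
    exact h

omit [Field F] in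
theorem exists_choice {n m k i e N : ℕ} (hi : 0 < i) (he : e + N * i = n) (hk : k = 1 ∨ k = 2) (hkm : k * m ≤ n)
    (h : k * (m % i) ≤ n % i) :
    ∃ a₁ b₁ a₂ b₂, m = a₁ + b₁ * i ∧ (k - 1) * m = a₂ + b₂ * i ∧ a₁ + a₂ ≤ e ∧ b₁ + b₂ ≤ N := by
  have hml := Nat.mod_add_div m i
  rw [mul_comm i] at hml
  have hne : n % i ≤ e := by rw [← he, Nat.add_mul_mod_self_right]; exact Nat.mod_le e i
  rcases hk with rfl | rfl
  · by_cases hN : m / i ≤ N
    · exact ⟨m % i, m / i, 0, 0, hml.symm, by simp, by omega, by omega⟩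
    · have : N * i ≤ m / i * i := Nat.mul_le_mul_right _ (by omega)
      exact ⟨m - N * i, N, 0, 0, by omega, by simp, by omega, by omega⟩
  · by_cases hN : 2 * (m / i) ≤ N
    · exact ⟨m % i, m / i, m % i, m / i, hml.symm, by omega, by omega, by omega⟩
    · by_cases hN' : m / i ≤ N
      · have : (N - m / i) * i ≤ m / i * i := Nat.mul_le_mul_right _ (by omega)
        refine ⟨m % i, m / i, m - (N - m / i) * i, N - m / i, hml.symm, by omega, ?_, by omega⟩
        have : (N - m / i) * i = N * i - m / i * i := Nat.sub_mul _ _ _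
        have : m / i * i ≤ N * i := Nat.mul_le_mul_right _ hN'
        omega
      · have : N * i ≤ m / i * i := Nat.mul_le_mul_right _ (by omega)
        exact ⟨m - N * i, N, m, 0, by omega, by omega, by omega, by omega⟩

end Endo

section Units

variable [Fintype F] {r : ℕ} [Fact r.Prime]

theorem orderOf_eq_one_iff_dvd : orderOf ((Fintype.card F : ℕ) : ZMod r) = 1 ↔ r ∣ Fintype.card F - 1 := by
  rw [← Nat.dvd_one, ← dvd_pow_sub_one_iff Fintype.card_pos, pow_one]

theorem not_dvd_of_two_le (h : 2 ≤ orderOf ((Fintype.card F : ℕ) : ZMod r)) : ¬ r ∣ Fintype.card F - 1 := fun hd => by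
  rw [orderOf_eq_one_iff_dvd.2 hd] at h; omega

theorem eq_one_of_pow_eq_one (hnd : ¬ r ∣ Fintype.card F - 1) {c : F} (h : c ^ r = 1) : c = 1 := by
  have hc : c ≠ 0 := fun h0 => by
    rw [h0, zero_pow (Fact.out : r.Prime).ne_zero] at h
    exact zero_ne_one h
  have := pow_gcd_eq_one.2 ⟨h, FiniteField.pow_card_sub_one_eq_one c hc⟩
  rwa [((Fact.out : r.Prime).coprime_iff_not_dvd.2 hnd).gcd_eq_one, pow_one] at this

theorem exists_root (hnd : ¬ r ∣ Fintype.card F - 1) (z : F) : ∃ c, c ^ r = z := by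
  classical
  refine Finite.injective_iff_surjective.1 (fun a b hab => ?_) z
  have hr0 := (Fact.out : r.Prime).ne_zero
  replace hab : a ^ r = b ^ r := hab
  by_cases hb : b = 0
  · rw [hb, zero_pow hr0] at hab
    rw [hb, eq_zero_of_pow_eq_zero hab]
  · exact (div_eq_one_iff_eq hb).1 (eq_one_of_pow_eq_one hnd (by rw [div_pow, hab, div_self (pow_ne_zero _ hb)]))

/-- A root of unity that is not an `r`-th power has order divisible by the full `r`-part of `q - 1`. -/
theorem padic_le_of_pow {u : F} (hu : ∀ c, c ^ r ≠ u) {k : ℕ} (hk : u ^ k = 1) (hk0 : k ≠ 0) :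
    padicValNat r (Fintype.card F - 1) ≤ padicValNat r k := by
  classical
  have hu0 : u ≠ 0 := fun h => hu 0 (by rw [h, zero_pow (Fact.out : r.Prime).ne_zero])
  obtain ⟨g, hg⟩ := IsCyclic.exists_generator (α := Fˣ)
  obtain ⟨l, hl⟩ := mem_powers_iff_mem_zpowers.2 (hg (Units.mk0 u hu0))
  simp only at hl
  have hord : orderOf g = Fintype.card F - 1 := by
    rw [orderOf_eq_card_of_forall_mem_zpowers hg, Nat.card_eq_fintype_card, Fintype.card_units]
  have hrl : ¬ r ∣ l := fun ⟨a, ha⟩ => hu ((g ^ a : Fˣ) : F) (by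
    rw [← Units.val_pow_eq_pow_val, ← pow_mul, mul_comm a, ← ha, hl, Units.val_mk0])
  have h1 : g ^ (l * k) = 1 := by
    rw [pow_mul, hl]
    exact Units.ext (by rw [Units.val_pow_eq_pow_val, Units.val_mk0, hk, Units.val_one])
  rw [← orderOf_dvd_iff_pow_eq_one, hord] at h1
  have h2 : r ^ padicValNat r (Fintype.card F - 1) ∣ k :=
    (Nat.Coprime.pow_left _ ((Fact.out : r.Prime).coprime_iff_not_dvd.2 hrl)).dvd_of_dvd_mul_left
      (pow_padicValNat_dvd.trans h1)
  exact (padicValNat_dvd_iff_le hk0).1 h2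

theorem exists_non_power (hd : r ∣ Fintype.card F - 1) {k : ℕ}
    (hk : r ^ padicValNat r (Fintype.card F - 1) ∣ k) : ∃ u : F, u ^ k = 1 ∧ ∀ c, c ^ r ≠ u := by
  classical
  obtain ⟨g, hg⟩ := IsCyclic.exists_generator (α := Fˣ)
  have hord : orderOf g = Fintype.card F - 1 := by
    rw [orderOf_eq_card_of_forall_mem_zpowers hg, Nat.card_eq_fintype_card, Fintype.card_units]
  have hq : Fintype.card F - 1 ≠ 0 := by have := Fintype.one_lt_card (α := F); omega
  obtain ⟨s, hs⟩ := pow_padicValNat_dvd (p := r) (n := Fintype.card F - 1)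
  have hrs : ¬ r ∣ s := fun ⟨a, ha⟩ => pow_succ_padicValNat_not_dvd (p := r) hq
    ⟨a, by rw [pow_succ, mul_assoc, ← ha, ← hs]⟩
  refine ⟨((g ^ s : Fˣ) : F), ?_, fun c hc => ?_⟩
  · rw [← Units.val_pow_eq_pow_val, ← pow_mul]
    have : g ^ (s * k) = 1 := by
      rw [← orderOf_dvd_iff_pow_eq_one, hord, hs, mul_comm s k]
      exact Nat.mul_dvd_mul_right hk _
    rw [this, Units.val_one]
  · have hc0 : c ≠ 0 := fun h => by
      rw [h, zero_pow (Fact.out : r.Prime).ne_zero] at hc
      exact (g ^ s).ne_zero hc.symm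
    obtain ⟨l, hl⟩ := mem_powers_iff_mem_zpowers.2 (hg (Units.mk0 c hc0))
    simp only at hl
    have h1 : g ^ (l * r) = g ^ s := by
      refine Units.ext ?_
      rw [pow_mul, hl, Units.val_pow_eq_pow_val, Units.val_mk0, hc]
    rw [pow_eq_pow_iff_modEq, hord] at h1
    exact hrs ((Nat.modEq_zero_iff_dvd).1 ((h1.of_dvd hd).symm.trans (Nat.modEq_zero_iff_dvd.2 (dvd_mul_left r l))))

end Units

section Mat

variable [Fintype F] {r : ℕ} [Fact r.Prime] {n : ℕ}

/-- The determinant of a matrix whose `r`-th power is a scalar that is not an `r`-th power. -/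
theorem killed_of_root {x : Matrix (Fin n) (Fin n) F} {z : F} (hr : (r : F) ≠ 0) (hxz : x ^ r = z • 1)
    (hz : ∀ c, c ^ r ≠ z) :
    Killed (Matrix.toLin' x) {(X ^ r - C z : F[X])} r ⊤ ∧ Module.End.IsSemisimple (Matrix.toLin' x) ∧
      ∃ k, n = r * k ∧ x.det = ((-1) ^ (r + 1) * z) ^ k := by
  classical
  have hrp : r.Prime := Fact.out
  have hirr : Irreducible (X ^ r - C z : F[X]) := X_pow_sub_C_irreducible_of_prime hrp hz
  have hm : (X ^ r - C z : F[X]).Monic := monic_X_pow_sub_C z hrp.ne_zero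
  have hz0 : z ≠ 0 := fun h => hz 0 (by rw [h, zero_pow hrp.ne_zero])
  have hkill : aeval (Matrix.toLin' x) (X ^ r - C z : F[X]) = 0 := by
    rw [show Matrix.toLin' x = Matrix.toLinAlgEquiv' x from rfl, aeval_algHom_apply, map_sub, map_pow, aeval_X, aeval_C,
      hxz, Algebra.algebraMap_eq_smul_one, sub_self, map_zero]
  refine ⟨⟨fun P hP => by rwa [Finset.mem_singleton.1 hP],
    fun P hP => by rw [Finset.mem_singleton.1 hP, natDegree_X_pow_sub_C],
    fun v _ => trivial, fun v _ => by rw [Finset.prod_singleton, hkill, LinearMap.zero_apply]⟩,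
    Module.End.isSemisimple_of_squarefree_aeval_eq_zero (separable_X_pow_sub_C z hr hz0).squarefree hkill, ?_⟩
  have hcm := x.charpoly_monic
  have hall : ∀ Q ∈ UniqueFactorizationMonoid.normalizedFactors x.charpoly, Q = (X ^ r - C z : F[X]) := by
    intro Q hQ
    have hQi := UniqueFactorizationMonoid.irreducible_of_normalized_factor Q hQ
    have h1 : Q ∣ minpoly F (Matrix.toLin' x) := CfsgLib.KnownB.Semisimple.dvd_minpoly_of_dvd_charpoly _ hQi
      (by rw [Matrix.charpoly_toLin']; exact UniqueFactorizationMonoid.dvd_of_mem_normalizedFactors hQ)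
    exact eq_of_monic_of_associated (monic_of_mem_nf hQ) hm
      (hQi.associated_of_dvd hirr (h1.trans (minpoly.dvd F _ hkill)))
  obtain ⟨K, hK⟩ : ∃ K : ℕ, x.charpoly = (X ^ r - C z : F[X]) ^ K := by
    have hp := monic_prod_normalizedFactors hcm
    rw [Multiset.eq_replicate_card.2 hall, Multiset.prod_replicate] at hp
    exact ⟨_, hp.symm⟩
  have h2 : n = r * K := by
    have h2 := congrArg natDegree hK
    rw [natDegree_pow, natDegree_X_pow_sub_C, Matrix.charpoly_natDegree_eq_dim, Fintype.card_fin] at h2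
    rw [mul_comm]; exact h2
  refine ⟨K, h2, ?_⟩
  rw [Matrix.det_eq_sign_charpoly_coeff, Fintype.card_fin, hK, coeff_zero_eq_eval_zero, eval_pow]
  simp only [eval_sub, eval_pow, eval_X, eval_C, zero_pow hrp.ne_zero, zero_sub]
  rw [h2, pow_mul, ← mul_pow, pow_succ]
  congr 1
  ring

/-- The condition on `m` and `n` when `r` divides `q - 1`. -/
def OneCond (F : Type u) [Fintype F] (r m n : ℕ) : Prop :=
  r ∣ m ∨ (padicValNat r n ≤ padicValNat r (Fintype.card F - 1) ∧ (r = 2 → Even n → Fintype.card F % 4 = 1))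

/-- Elements of the special linear group of order `r` modulo scalars have invariant subspaces. -/
theorem exists_two_of_good (hr : (r : F) ≠ 0) {x : Matrix (Fin n) (Fin n) F} (hxd : x.det = 1) {z : F}
    (hxz : x ^ r = z • 1) (hn : 0 < n) {m k : ℕ} (hk : k = 1 ∨ k = 2) (hkm : k * m ≤ n)
    (h1 : orderOf ((Fintype.card F : ℕ) : ZMod r) = 1 → OneCond F r m n)
    (h2 : 2 ≤ orderOf ((Fintype.card F : ℕ) : ZMod r) →
      k * (m % orderOf ((Fintype.card F : ℕ) : ZMod r)) ≤ n % orderOf ((Fintype.card F : ℕ) : ZMod r)) :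
    Module.End.IsSemisimple (Matrix.toLin' x) ∧ ∃ U₁ U₂, Inv (Matrix.toLin' x) U₁ ∧ Inv (Matrix.toLin' x) U₂ ∧ Disjoint U₁ U₂ ∧
      finrank F U₁ = m ∧ finrank F U₂ = (k - 1) * m := by
  classical
  have hrp : r.Prime := Fact.out
  set i := orderOf ((Fintype.card F : ℕ) : ZMod r) with hi
  have hi0 : 0 < i := orderOf_card_pos hr
  have hz0 : z ≠ 0 := fun h => by
    haveI : Nonempty (Fin n) := ⟨⟨0, hn⟩⟩
    have := congrArg Matrix.det hxz
    rw [Matrix.det_pow, hxd, one_pow, h, zero_smul, Matrix.det_zero] at this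
    exact one_ne_zero this
  by_cases hpow : ∃ c, c ^ r = z
  · obtain ⟨c, rfl⟩ := hpow
    have hc : c ≠ 0 := fun h => hz0 (by rw [h, zero_pow hrp.ne_zero])
    set g := c⁻¹ • Matrix.toLin' x with hg
    have hgr : g ^ r = 1 := by
      rw [hg, _root_.smul_pow, ← Matrix.toLin'_pow, hxz, map_smul, Matrix.toLin'_one, smul_smul, inv_pow,
        inv_mul_cancel₀ (pow_ne_zero _ hc), one_smul]
      rfl
    have hback : Matrix.toLin' x = c • g := by rw [hg, smul_smul, mul_inv_cancel₀ hc, one_smul]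
    have hinv : ∀ {W}, Inv g W → Inv (Matrix.toLin' x) W := fun {W} hW v hv => by
      rw [hback, LinearMap.smul_apply]; exact W.smul_mem c (hW v hv)
    refine ⟨?_, ?_⟩
    · refine Module.End.isSemisimple_of_squarefree_aeval_eq_zero
        (separable_X_pow_sub_C (c ^ r) hr (pow_ne_zero _ hc)).squarefree ?_
      rw [map_sub, map_pow, aeval_X, aeval_C, ← Matrix.toLin'_pow, hxz, map_smul, Matrix.toLin'_one,
        Algebra.algebraMap_eq_smul_one, ← Module.End.one_eq_id, sub_self]
    obtain ⟨N, hN, hsum⟩ := finrank_mov hr hgr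
    rw [Module.finrank_fin_fun] at hsum
    have hcrit : k * (m % i) ≤ n % i := by
      rcases Nat.lt_or_ge i 2 with h | h
      · rw [show i = 1 by omega, Nat.mod_one, Nat.mod_one, mul_zero]
      · exact h2 h
    obtain ⟨a₁, b₁, a₂, b₂, e1, e2, ea, eb⟩ := exists_choice hi0 hsum hk hkm hcrit
    obtain ⟨U₁, U₂, i1, i2, hd, r1, r2⟩ := exists_two hr hgr ea (b₁ := b₁) (b₂ := b₂)
      (by rw [hN]; exact Nat.mul_le_mul_right _ eb)
    exact ⟨U₁, U₂, hinv i1, hinv i2, hd, by rw [r1, e1], by rw [r2, e2]⟩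
  · push Not at hpow
    have hd : r ∣ Fintype.card F - 1 := by
      by_contra hnd
      obtain ⟨c, hc⟩ := exists_root hnd z
      exact hpow c hc
    have hi1 : i = 1 := orderOf_eq_one_iff_dvd.2 hd
    obtain ⟨hk', hss, t, hnt, hdet⟩ := killed_of_root hr hxz hpow
    refine ⟨hss, ?_⟩
    obtain ⟨j, rfl⟩ : r ∣ m := by
      rcases h1 hi1 with h | ⟨hv, h4⟩
      · exact h
      exfalso
      rw [hxd] at hdet
      have ht0 : t ≠ 0 := by rintro rfl; simp at hnt; omega
      have hu : ∀ c, c ^ r ≠ (-1) ^ (r + 1) * z := by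
        rcases hrp.eq_two_or_odd' with rfl | hodd
        · have hne : Even n := ⟨t, by omega⟩
          obtain ⟨s, hs⟩ := (FiniteField.isSquare_neg_one_iff (F := F)).2 (by rw [h4 rfl hne]; omega)
          have hs0 : s ≠ 0 := fun h => by rw [h, mul_zero] at hs; exact neg_ne_zero.2 one_ne_zero hs
          intro c hc
          refine hpow (c / s) ?_
          rw [div_pow, hc, pow_two s, ← hs]
          field_simp
          ring
        · rw [(hodd.add_one).neg_one_pow, one_mul]; exact hpow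
      have := padic_le_of_pow hu hdet.symm ht0
      rw [hnt, padicValNat.mul hrp.ne_zero ht0, padicValNat.self hrp.one_lt] at hv
      omega
    obtain ⟨U₁, U₂, -, -, i1, i2, hdis, r1, r2⟩ := exists_two_sub hss hk' (j₁ := j) (j₂ := (k - 1) * j) (by
      rw [finrank_top, Module.finrank_fin_fun]
      rcases hk with rfl | rfl <;>
      · simp only [Nat.sub_self, show (2 : ℕ) - 1 = 1 from rfl, Nat.one_mul, Nat.zero_mul, Nat.add_zero, add_mul]
        rw [mul_comm j r]
        omega)
    exact ⟨U₁, U₂, i1, i2, hdis, by rw [r1, mul_comm], by rw [r2]; ring⟩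

/-- An element of order `r` with a fixed space of given dimension. -/
theorem exists_fix_dim (hr : (r : F) ≠ 0) (hi : 2 ≤ orderOf ((Fintype.card F : ℕ) : ZMod r)) {e N : ℕ}
    (hdim : e + N * orderOf ((Fintype.card F : ℕ) : ZMod r) = n) (hn : e < n) :
    ∃ x : Matrix.SpecialLinearGroup (Fin n) F,
      ((x ^ r : Matrix.SpecialLinearGroup (Fin n) F) : Matrix (Fin n) (Fin n) F) = (1 : F) • 1 ∧
      (∀ c : F, (x : Matrix (Fin n) (Fin n) F) ≠ c • 1) ∧
      Matrix.toLin' (x : Matrix (Fin n) (Fin n) F) ^ r = 1 ∧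
      finrank F (fixSp (Matrix.toLin' (x : Matrix (Fin n) (Fin n) F))) = e := by
  classical
  have hr0 := (Fact.out : r.Prime).ne_zero
  obtain ⟨P, hP⟩ : (factors F r).Nonempty := by
    rw [← Finset.card_pos]
    by_contra h0
    have := card_factors (F := F) (r := r) hr
    rw [show (factors F r).card = 0 by omega, zero_mul] at this
    have := (Fact.out : r.Prime).two_le
    omega
  obtain ⟨hirr, hm, hd, hne⟩ := (mem_factors hr0).1 hP
  haveI := Fact.mk hirr
  let K := AdjoinRoot P
  haveI : Module.Finite F K := (AdjoinRoot.powerBasis' hm).finite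
  have hK : finrank F K = orderOf ((Fintype.card F : ℕ) : ZMod r) := by
    rw [(AdjoinRoot.powerBasis' hm).finrank, AdjoinRoot.powerBasis'_dim, natDegree_eq_orderOf hr hirr hm hd hne]
  set i := orderOf ((Fintype.card F : ℕ) : ZMod r)
  set ρ : K := AdjoinRoot.root P
  have hρ : ρ ^ r = 1 := CfsgLib.PrimeOrderSp.root_pow_eq_one hr0 hP
  have hρ1 : ρ ≠ 1 := fun h1 => by
    have h2 : P ∣ X - 1 := AdjoinRoot.mk_eq_zero.1 (by
      rw [map_sub, AdjoinRoot.mk_X, map_one, show AdjoinRoot.root P = 1 from h1, sub_self])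
    refine hne (eq_of_monic_of_associated hm (monic_X_sub_C 1) ?_)
    exact hirr.associated_of_dvd (irreducible_X_sub_C 1) (by simpa using h2)
  let f₀ : Module.End F ((Fin N → K) × (Fin e → F)) :=
    ((LinearMap.mulLeft F ρ).compLeft (Fin N)).prodMap LinearMap.id
  have hf₀ : ∀ (j : ℕ) u w, (f₀ ^ j) (u, w) = (fun a => ρ ^ j * u a, w) := by
    intro j
    induction j with
    | zero => intro u w; simp
    | succ j ih =>
      intro u w
      rw [pow_succ', Module.End.mul_apply, ih]
      refine Prod.ext (funext fun a => ?_) rfl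
      show ρ * (ρ ^ j * u a) = _
      rw [← mul_assoc, ← pow_succ']
  let E : ((Fin N → K) × (Fin e → F)) ≃ₗ[F] (Fin n → F) := LinearEquiv.ofFinrankEq _ _ (by
    rw [Module.finrank_prod, Module.finrank_pi_fintype, Module.finrank_fin_fun, Module.finrank_fin_fun]
    simp only [hK, Finset.sum_const, Finset.card_univ, Fintype.card_fin, smul_eq_mul]
    omega)
  set f : Module.End F (Fin n → F) := (E : _ →ₗ[F] _) ∘ₗ f₀ ∘ₗ (E.symm : _ →ₗ[F] _) with hf
  have hfE : ∀ y, f (E y) = E (f₀ y) := fun y => by simp [hf]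
  have hfpow : ∀ (j : ℕ) y, (f ^ j) (E y) = E ((f₀ ^ j) y) := by
    intro j
    induction j with
    | zero => simp
    | succ j ih => intro y; rw [pow_succ', pow_succ', Module.End.mul_apply, Module.End.mul_apply, ih, hfE]
  have hfr : f ^ r = 1 := by
    refine LinearMap.ext fun v => ?_
    obtain ⟨⟨u, w⟩, rfl⟩ := E.surjective v
    rw [hfpow, hf₀, hρ]
    simp
  have hx : LinearMap.toMatrix' f ^ r = 1 := by
    apply Matrix.toLin'.injective
    rw [Matrix.toLin'_pow, Matrix.toLin'_toMatrix', hfr, Matrix.toLin'_one]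
    rfl
  have hdet : (LinearMap.toMatrix' f).det = 1 := eq_one_of_pow_eq_one (not_dvd_of_two_le hi) (by
    rw [← Matrix.det_pow, hx, Matrix.det_one])
  have hfix : finrank F (fixSp f) = e := by
    have : fixSp f = (LinearMap.range (LinearMap.inr F (Fin N → K) (Fin e → F))).map (E : _ →ₗ[F] _) := by
      ext v
      obtain ⟨⟨u, w⟩, rfl⟩ := E.surjective v
      rw [mem_fixSp, hfE, Submodule.mem_map_equiv, E.symm_apply_apply, LinearMap.mem_range]
      constructor
      · intro h
        refine ⟨w, Prod.ext (funext fun a => ?_) rfl⟩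
        have h1 : ρ * u a = u a := congrFun (congrArg Prod.fst (E.injective h)) a
        show 0 = u a
        by_contra hne'
        exact hρ1 ((mul_eq_right₀ (Ne.symm hne')).1 h1)
      · rintro ⟨w', hw'⟩
        rw [← hw']
        congr 1
        refine Prod.ext (funext fun a => ?_) rfl
        show ρ * 0 = 0
        rw [mul_zero]
    rw [this, LinearEquiv.finrank_map_eq, LinearMap.finrank_range_of_inj LinearMap.inr_injective,
      Module.finrank_fin_fun]
  refine ⟨⟨LinearMap.toMatrix' f, hdet⟩, ?_, fun c hc => ?_, ?_, ?_⟩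
  · show LinearMap.toMatrix' f ^ r = (1 : F) • 1
    rw [one_smul]
    exact hx
  · have hc' : LinearMap.toMatrix' f = c • (1 : Matrix (Fin n) (Fin n) F) := hc
    have h1 : c ^ r = 1 := by
      have h2 := hx
      rw [hc', _root_.smul_pow, one_pow] at h2
      have h3 := congrFun (congrFun h2 ⟨0, by omega⟩) ⟨0, by omega⟩
      simpa using h3
    rw [eq_one_of_pow_eq_one (not_dvd_of_two_le hi) h1, one_smul] at hc'
    have hf1 : f = 1 := by rw [← Matrix.toLin'_toMatrix' f, hc', Matrix.toLin'_one]; rfl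
    have : fixSp f = ⊤ := Submodule.eq_top_iff'.2 fun v => mem_fixSp.2 (by rw [hf1]; rfl)
    rw [this, finrank_top, Module.finrank_fin_fun] at hfix
    omega
  · show Matrix.toLin' (LinearMap.toMatrix' f) ^ r = 1
    rw [Matrix.toLin'_toMatrix', hfr]
  · show finrank F (fixSp (Matrix.toLin' (LinearMap.toMatrix' f))) = e
    rw [Matrix.toLin'_toMatrix', hfix]

/-- An element of order `r` with the smallest fixed space. -/
theorem exists_small_fix (hr : (r : F) ≠ 0) (hi : 2 ≤ orderOf ((Fintype.card F : ℕ) : ZMod r))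
    (hn : n % orderOf ((Fintype.card F : ℕ) : ZMod r) < n) :
    ∃ x : Matrix.SpecialLinearGroup (Fin n) F,
      ((x ^ r : Matrix.SpecialLinearGroup (Fin n) F) : Matrix (Fin n) (Fin n) F) = (1 : F) • 1 ∧
      (∀ c : F, (x : Matrix (Fin n) (Fin n) F) ≠ c • 1) ∧
      Matrix.toLin' (x : Matrix (Fin n) (Fin n) F) ^ r = 1 ∧
      finrank F (fixSp (Matrix.toLin' (x : Matrix (Fin n) (Fin n) F))) =
        n % orderOf ((Fintype.card F : ℕ) : ZMod r) :=
  exists_fix_dim hr hi (Nat.mod_add_div' n _) hn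

/-- An element all of whose invariant subspaces have dimension divisible by `r`. -/
theorem exists_no_small_inv (hr : (r : F) ≠ 0) (hi : orderOf ((Fintype.card F : ℕ) : ZMod r) = 1) (hn : 0 < n) {m : ℕ}
    (hbad : ¬ OneCond F r m n) :
    ¬ r ∣ m ∧ ∃ x : Matrix.SpecialLinearGroup (Fin n) F,
      (∃ c : F, ((x ^ r : Matrix.SpecialLinearGroup (Fin n) F) : Matrix (Fin n) (Fin n) F) = c • 1) ∧
      (∀ c : F, (x : Matrix (Fin n) (Fin n) F) ≠ c • 1) ∧
      ∀ W, Inv (Matrix.toLin' (x : Matrix (Fin n) (Fin n) F)) W → r ∣ finrank F W := by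
  classical
  have hrp : r.Prime := Fact.out
  have hd := orderOf_eq_one_iff_dvd.1 hi
  have he1 : 1 ≤ padicValNat r (Fintype.card F - 1) :=
    one_le_padicValNat_of_dvd (by have := Fintype.one_lt_card (α := F); omega) hd
  simp only [OneCond, not_or] at hbad
  refine ⟨hbad.1, ?_⟩
  obtain ⟨hrn, z, hz, hdet⟩ : r ∣ n ∧ ∃ z : F, (∀ c, c ^ r ≠ z) ∧ ((-1) ^ (r + 1) * z) ^ (n / r) = 1 := by
    by_cases h : r = 2 ∧ Even n ∧ Fintype.card F % 4 ≠ 1
    · obtain ⟨rfl, hev, h4⟩ := h
      refine ⟨even_iff_two_dvd.1 hev, -1, fun c hc => ?_, ?_⟩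
      · have hsq : IsSquare (-1 : F) := ⟨c, by rw [← hc, pow_two]⟩
        rw [FiniteField.isSquare_neg_one_iff] at hsq
        have := Fintype.one_lt_card (α := F)
        omega
      · norm_num
    · have hv : ¬ padicValNat r n ≤ padicValNat r (Fintype.card F - 1) := fun hle =>
        hbad.2 ⟨hle, fun h2 hev => by by_contra h4; exact h ⟨h2, hev, h4⟩⟩
      have hrn : r ∣ n := dvd_of_one_le_padicValNat (by omega)
      have hk : r ^ padicValNat r (Fintype.card F - 1) ∣ n / r := by
        have h1 : r ^ (padicValNat r (Fintype.card F - 1) + 1) ∣ n := (padicValNat_dvd_iff_le hn.ne').2 (by omega)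
        rw [pow_succ] at h1
        exact Nat.dvd_div_of_mul_dvd (by rwa [mul_comm] at h1)
      obtain ⟨u, hu, hu'⟩ := exists_non_power hd hk
      have hs : (-1 : F) ^ (r + 1) * ((-1) ^ (r + 1) * u) = u := by
        rw [← mul_assoc, ← mul_pow, neg_mul_neg, one_mul, one_pow, one_mul]
      refine ⟨hrn, (-1) ^ (r + 1) * u, fun c hc => ?_, by rw [hs]; exact hu⟩
      rcases hrp.eq_two_or_odd' with rfl | hodd
      · have hev : Even n := even_iff_two_dvd.2 hrn
        have h4 : Fintype.card F % 4 = 1 := by by_contra h4; exact h ⟨rfl, hev, h4⟩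
        obtain ⟨s, hs'⟩ := (FiniteField.isSquare_neg_one_iff (F := F)).2 (by omega)
        refine hu' (c * s) ?_
        rw [mul_pow, hc, pow_two s, ← hs']
        ring
      · rw [(hodd.add_one).neg_one_pow, one_mul] at hc
        exact hu' c hc
  obtain ⟨k, rfl⟩ := hrn
  rw [Nat.mul_div_cancel_left k hrp.pos] at hdet
  have hm : (X ^ r - C z : F[X]).Monic := monic_X_pow_sub_C z hrp.ne_zero
  obtain ⟨M, hM⟩ := CfsgLib.KnownB.Semisimple.exists_charpoly _ hm (natDegree_X_pow_sub_C (n := r) (r := z))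
  have hMr : M ^ r = z • 1 := by
    have h := M.aeval_self_charpoly
    rwa [hM, map_sub, map_pow, aeval_X, aeval_C, Algebra.algebraMap_eq_smul_one, sub_eq_zero] at h
  have hMd : M.det = (-1) ^ (r + 1) * z := by
    rw [Matrix.det_eq_sign_charpoly_coeff, Fintype.card_fin, hM, coeff_zero_eq_eval_zero]
    simp only [eval_sub, eval_pow, eval_X, eval_C, zero_pow hrp.ne_zero, zero_sub]
    rw [pow_succ]
    ring
  let e : Fin r × Fin k ≃ Fin (r * k) := finProdFinEquiv
  set x := Matrix.reindexAlgEquiv F F e (Matrix.blockDiagonal fun _ : Fin k => M) with hx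
  have hxd : x.det = 1 := by
    rw [hx, Matrix.reindexAlgEquiv_apply, Matrix.det_reindex_self, Matrix.det_blockDiagonal, Finset.prod_const,
      Finset.card_univ, Fintype.card_fin, hMd, hdet]
  have hxr : x ^ r = z • 1 := by
    rw [hx, ← map_pow, ← Matrix.blockDiagonal_pow,
      show (fun _ : Fin k => M) ^ r = z • (1 : Fin k → Matrix (Fin r) (Fin r) F) from funext fun _ => hMr,
      Matrix.blockDiagonal_smul, Matrix.blockDiagonal_one, map_smul, map_one]
  obtain ⟨hk', hss, -⟩ := killed_of_root hr hxr hz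
  refine ⟨⟨x, hxd⟩, ⟨z, hxr⟩, fun c hc => ?_,
    fun W hW => finrank_dvd hss (hk'.mono hW le_top)⟩
  have hc' : x = c • (1 : Matrix (Fin (r * k)) (Fin (r * k)) F) := hc
  refine hz c ?_
  have h2 := hxr
  rw [hc', _root_.smul_pow, one_pow] at h2
  have h3 := congrFun (congrFun h2 ⟨0, hn⟩) ⟨0, hn⟩
  simpa using h3

end Mat

section Count

variable [Fintype F] {r : ℕ} {V : Type v} [AddCommGroup V] [Module F V] [FiniteDimensional F V]

/-- A prime dividing the number of `m`-subspaces divides some `q ^ (n - j) - 1`. -/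
theorem exists_dvd_of_dvd_card (hr : r.Prime) {p : ℕ} [Fact p.Prime] [CharP F p] {m : ℕ}
    (hm : m ≤ finrank F V) (hd : r ∣ Nat.card {W : Submodule F V // finrank F W = m}) :
    r ≠ p ∧ ∃ j < m, r ∣ Fintype.card F ^ (finrank F V - j) - 1 := by
  classical
  haveI : Finite V := Module.finite_of_finite F
  haveI := Fintype.ofFinite V
  set q := Fintype.card F
  set n := finrank F V
  have h := CfsgLib.Geometry.HermCount.card_subspaces_mul (F := F) (V := V) (k := m) (fun _ => True)
  simp only [and_true] at h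
  rw [card_linearIndependent hm, Nat.card_eq_fintype_card (α := F)] at h
  have hfac : ∀ N, ∀ j : Fin m, m ≤ N → q ^ N - q ^ (j : ℕ) = q ^ (j : ℕ) * (q ^ (N - j) - 1) := fun N j hN => by
    rw [Nat.mul_sub, mul_one, ← pow_add, Nat.add_sub_cancel' (j.2.le.trans hN)]
  rw [Finset.prod_congr rfl (fun j _ => hfac m j le_rfl), Finset.prod_congr rfl (fun j _ => hfac n j hm),
    Finset.prod_mul_distrib, Finset.prod_mul_distrib, mul_left_comm] at h
  have hpos : 0 < ∏ j : Fin m, q ^ (j : ℕ) := Finset.prod_pos fun j _ => pow_pos Fintype.card_pos _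
  have h' := Nat.eq_of_mul_eq_mul_left hpos h
  have hd' : r ∣ ∏ j : Fin m, (q ^ (n - (j : ℕ)) - 1) := h' ▸ hd.mul_right _
  obtain ⟨j, -, hj⟩ := (hr.prime.dvd_finsetProd_iff _).1 hd'
  refine ⟨fun hrp => ?_, j, j.2, hj⟩
  subst hrp
  obtain ⟨f, hf, hq⟩ := FiniteField.card F r
  have h1 : r ∣ q ^ (n - (j : ℕ)) := by
    rw [show q = r ^ (f : ℕ) from hq, ← pow_mul]
    exact dvd_pow_self r (Nat.mul_ne_zero f.ne_zero (by have := j.2; omega))
  have h2 : 0 < q ^ (n - (j : ℕ)) := pow_pos Fintype.card_pos _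
  have h3 := Nat.dvd_sub h1 hj
  rw [Nat.sub_sub_self h2] at h3
  exact hr.ne_one (Nat.dvd_one.1 h3)

end Count

end CfsgLib.ThreeTransp.PrimeInv

namespace CfsgLib.ThreeTransp.PrimeInv

open Module CfsgLib.PrimeOrderSp

/-- A multiple of `i` in `(n - t, n]` forces `n mod i < t`. -/
theorem mod_lt_of_dvd {n t i k : ℕ} (hi : 0 < i) (hk : n - t < k) (hkn : k ≤ n) (hd : i ∣ k) : n % i < t := by
  obtain ⟨a, rfl⟩ := hd
  by_contra h
  have h1 := Nat.mod_add_div n i
  have := Nat.mod_lt n hi
  have h2 : n / i < a := Nat.lt_of_mul_lt_mul_left (a := i) (by omega)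
  have h3 : i * (n / i + 1) ≤ i * a := Nat.mul_le_mul_left _ h2
  rw [Nat.mul_add, Nat.mul_one] at h3
  omega

variable {F : Type*} [Field F]

theorem card_subspaces_eq {V W : Type*} [AddCommGroup V] [Module F V] [AddCommGroup W] [Module F W]
    [FiniteDimensional F V] [FiniteDimensional F W] (h : finrank F V = finrank F W) (m : ℕ) :
    Nat.card {U : Submodule F V // finrank F U = m} = Nat.card {U : Submodule F W // finrank F U = m} := by
  let e := LinearEquiv.ofFinrankEq V W h
  refine Nat.card_congr ((Submodule.orderIsoMapComap e).toEquiv.subtypeEquiv fun U => ?_)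
  show _ ↔ finrank F (U.map (e : V →ₗ[F] W)) = m
  rw [LinearEquiv.finrank_map_eq]

theorem card_subspaces_symm {V : Type*} [AddCommGroup V] [Module F V] [FiniteDimensional F V] {m : ℕ}
    (hm : m ≤ finrank F V) :
    Nat.card {U : Submodule F V // finrank F U = m} =
      Nat.card {U : Submodule F V // finrank F U = finrank F V - m} := by
  rw [card_subspaces_eq (W := Module.Dual F V) Subspace.dual_finrank_eq.symm (finrank F V - m)]
  refine Nat.card_congr (((Subspace.orderIsoFiniteDimensional (K := F) (V := V)).toEquiv.trans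
    OrderDual.ofDual).subtypeEquiv fun U => ?_)
  have h := Subspace.finrank_add_finrank_dualAnnihilator_eq (K := F) (V := V) U
  show _ ↔ finrank F U.dualAnnihilator = _
  omega

variable [Fintype F]

/-- Number of flags. -/
theorem card_flags_eq {V : Type*} [AddCommGroup V] [Module F V] [FiniteDimensional F V] {m m' : ℕ}
    (hm : m ≤ m') (hm' : m' ≤ finrank F V) :
    Nat.card {P : Submodule F V × Submodule F V // P.1 ≤ P.2 ∧ finrank F P.1 = m ∧ finrank F P.2 = m'} =
      Nat.card {U : Submodule F V // finrank F U = m} *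
        Nat.card {U : Submodule F (Fin (finrank F V - m) → F) // finrank F U = m' - m} := by
  classical
  haveI : Finite V := Module.finite_of_finite F
  haveI : Finite (Submodule F V) := Finite.of_injective _ SetLike.coe_injective
  let g : {P : Submodule F V × Submodule F V // P.1 ≤ P.2 ∧ finrank F P.1 = m ∧ finrank F P.2 = m'} ≃
      Σ U : {U : Submodule F V // finrank F U = m}, {W : Submodule F V // U.1 ≤ W ∧ finrank F W = m'} :=
    { toFun := fun P => ⟨⟨P.1.1, P.2.2.1⟩, ⟨P.1.2, P.2.1, P.2.2.2⟩⟩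
      invFun := fun s => ⟨(s.1.1, s.2.1), s.2.2.1, s.1.2, s.2.2.2⟩
      left_inv := fun _ => rfl
      right_inv := fun _ => rfl }
  haveI : Fintype {U : Submodule F V // finrank F U = m} := Fintype.ofFinite _
  rw [Nat.card_congr g, Nat.card_sigma, Finset.sum_const_nat, Finset.card_univ, Nat.card_eq_fintype_card]
  rintro ⟨U, hU⟩ -
  have hq : finrank F (V ⧸ U) = finrank F V - m := by
    have := U.finrank_quotient_add_finrank; omega
  rw [← card_subspaces_eq (V := V ⧸ U) (by rw [hq, Module.finrank_fin_fun]) (m' - m)]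
  have hdim : ∀ W' : Submodule F (V ⧸ U), finrank F (W'.comap U.mkQ) = m + finrank F W' := by
    intro W'
    have h := (U.mkQ.domRestrict (W'.comap U.mkQ)).finrank_range_add_finrank_ker
    rw [LinearMap.range_domRestrict, Submodule.map_comap_eq_of_surjective (Submodule.mkQ_surjective U),
      LinearMap.ker_domRestrict, Submodule.ker_mkQ,
      (Submodule.comapSubtypeEquivOfLe (Submodule.le_comap_mkQ U W')).finrank_eq, hU] at h
    omega
  let e : {W : Submodule F V // U ≤ W ∧ finrank F W = m'} ≃ {W' : Submodule F (V ⧸ U) // finrank F W' = m' - m} :=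
    { toFun := fun W => ⟨W.1.map U.mkQ, by
        have h := hdim (W.1.map U.mkQ)
        rw [Submodule.comap_map_eq, Submodule.ker_mkQ, sup_eq_left.2 W.2.1, W.2.2] at h
        omega⟩
      invFun := fun W' => ⟨W'.1.comap U.mkQ, Submodule.le_comap_mkQ U W'.1, by rw [hdim, W'.2]; omega⟩
      left_inv := fun W => Subtype.ext (by
        show (W.1.map U.mkQ).comap U.mkQ = W.1
        rw [Submodule.comap_map_eq, Submodule.ker_mkQ, sup_eq_left.2 W.2.1])
      right_inv := fun W' => Subtype.ext (Submodule.map_comap_eq_of_surjective (Submodule.mkQ_surjective U) W'.1) }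
  exact Nat.card_congr e

/-- The prime divisors of the number of complementary pairs. -/
theorem dvd_of_dvd_card_compl {V : Type*} [AddCommGroup V] [Module F V] [FiniteDimensional F V] {p r m : ℕ}
    [Fact p.Prime] [CharP F p] (hr : r.Prime) (hrp : r ≠ p)
    (hd : r ∣ Nat.card {P : Submodule F V × Submodule F V // IsCompl P.1 P.2 ∧ finrank F P.1 = m}) :
    r ∣ Nat.card {U : Submodule F V // finrank F U = m} := by
  classical
  haveI : Finite V := Module.finite_of_finite F
  haveI : Finite (Submodule F V) := Finite.of_injective _ SetLike.coe_injective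
  let g : {P : Submodule F V × Submodule F V // IsCompl P.1 P.2 ∧ finrank F P.1 = m} ≃
      Σ U : {U : Submodule F V // finrank F U = m}, {W : Submodule F V // IsCompl U.1 W} :=
    { toFun := fun P => ⟨⟨P.1.1, P.2.2⟩, ⟨P.1.2, P.2.1⟩⟩
      invFun := fun s => ⟨(s.1.1, s.2.1), s.2.2, s.1.2⟩
      left_inv := fun _ => rfl
      right_inv := fun _ => rfl }
  haveI : Fintype {U : Submodule F V // finrank F U = m} := Fintype.ofFinite _
  rw [Nat.card_congr g, Nat.card_sigma] at hd
  have key : ∀ U : {U : Submodule F V // finrank F U = m}, ∃ k, Nat.card {W : Submodule F V // IsCompl U.1 W} =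
      Fintype.card F ^ k := by
    intro U
    obtain ⟨W₀, hW₀⟩ := U.1.exists_isCompl
    let f₀ := U.1.projectionOnto W₀ hW₀
    let R : (V →ₗ[F] U.1) →ₗ[F] (U.1 →ₗ[F] U.1) := LinearMap.lcomp F U.1 U.1.subtype
    let e : {f : V →ₗ[F] U.1 // ∀ x : U.1, f x = x} ≃ LinearMap.ker R :=
      { toFun := fun f => ⟨f.1 - f₀, by
          refine LinearMap.ext fun x => ?_
          show f.1 x - f₀ x = 0
          rw [f.2, Submodule.projectionOnto_apply_left, sub_self]⟩
        invFun := fun h => ⟨h.1 + f₀, fun x => by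
          have := LinearMap.congr_fun (LinearMap.mem_ker.1 h.2) x
          show h.1 x + f₀ x = x
          rw [show h.1 x = 0 from this, Submodule.projectionOnto_apply_left, zero_add]⟩
        left_inv := fun f => Subtype.ext (sub_add_cancel f.1 f₀)
        right_inv := fun h => Subtype.ext (add_sub_cancel_right h.1 f₀) }
    refine ⟨finrank F (LinearMap.ker R), ?_⟩
    rw [Nat.card_congr U.1.isComplEquivProj, Nat.card_congr e, Module.natCard_eq_pow_finrank (K := F),
      Nat.card_eq_fintype_card]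
  choose k hk using key
  rw [Finset.sum_congr rfl fun U _ => hk U] at hd
  by_cases h0 : Nat.card {U : Submodule F V // finrank F U = m} = 0
  · rw [h0]; exact dvd_zero r
  obtain ⟨⟨U₀⟩, -⟩ := Nat.card_ne_zero.1 h0
  have hconst : ∀ U, k U = k U₀ := by
    intro U
    have h := hk U
    have h' := hk U₀
    let φ : U₀.1 ≃ₗ[F] U.1 := LinearEquiv.ofFinrankEq _ _ (U₀.2.trans U.2.symm)
    obtain ⟨C₀, hC₀⟩ := U₀.1.exists_isCompl
    obtain ⟨C, hC⟩ := U.1.exists_isCompl
    let ψ : C₀ ≃ₗ[F] C := LinearEquiv.ofFinrankEq _ _ (by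
      have := Submodule.finrank_add_eq_of_isCompl hC₀
      have := Submodule.finrank_add_eq_of_isCompl hC
      have := U.2
      have := U₀.2
      omega)
    let E : V ≃ₗ[F] V := ((Submodule.prodEquivOfIsCompl _ _ hC₀).symm.trans (φ.prodCongr ψ)).trans
      (Submodule.prodEquivOfIsCompl _ _ hC)
    have hE : U₀.1.map (E : V →ₗ[F] V) = U.1 := by
      refine Submodule.eq_of_le_of_finrank_eq ?_ (by rw [LinearEquiv.finrank_map_eq, U₀.2, U.2])
      rintro _ ⟨v, hv, rfl⟩
      show E v ∈ U.1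
      have : (Submodule.prodEquivOfIsCompl _ _ hC₀).symm v = (⟨v, hv⟩, 0) :=
        Submodule.prodEquivOfIsCompl_symm_apply_left _ _ hC₀ ⟨v, hv⟩
      simp only [E, LinearEquiv.trans_apply, this, LinearEquiv.prodCongr_apply, map_zero,
        Submodule.coe_prodEquivOfIsCompl', ZeroMemClass.coe_zero, add_zero]
      exact (φ _).2
    have hcard : Nat.card {W : Submodule F V // IsCompl U₀.1 W} = Nat.card {W : Submodule F V // IsCompl U.1 W} := by
      refine Nat.card_congr ((Submodule.orderIsoMapComap E).toEquiv.subtypeEquiv fun W => ?_)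
      show _ ↔ IsCompl U.1 (W.map (E : V →ₗ[F] V))
      rw [← hE]
      exact (Submodule.orderIsoMapComap E).isCompl_iff
    exact Nat.pow_right_injective Fintype.one_lt_card (h.symm.trans (hcard.symm.trans h'))
  rw [Finset.sum_congr rfl fun U _ => by rw [hconst U], Finset.sum_const, Finset.card_univ, smul_eq_mul,
    ← Nat.card_eq_fintype_card] at hd
  refine (hr.dvd_mul.1 hd).resolve_right fun h => ?_
  obtain ⟨f, hf, hq⟩ := FiniteField.card F p
  rw [hq] at h
  exact hrp ((Nat.prime_dvd_prime_iff_eq hr hf).1 (hr.dvd_of_dvd_pow (hr.dvd_of_dvd_pow h)))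

end CfsgLib.ThreeTransp.PrimeInv
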