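import Cfsg.Prelude.Def_GeometricClasses
import Cfsg.Agent.Lib.ThreeTransp.PrimeInv

/-!
Direct-sum decompositions permuted by a linear map of prime order prime to the characteristic.
-/

set_option autoImplicit false
set_option maxHeartbeats 1000000

namespace CfsgLib.ThreeTransp.DecPerm

open Polynomial Module CfsgLib.PrimeOrderSp CfsgLib.ThreeTransp.PrimeInv

universe u v

variable {F : Type u} [Field F]

section Endo

variable {V : Type v} [AddCommGroup V] [Module F V] [FiniteDimensional F V]

theorem finrank_biSup_le {κ : Type*} (D : κ → Submodule F V) (s : Finset κ) :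
    finrank F (⨆ k ∈ s, D k : Submodule F V) ≤ ∑ k ∈ s, finrank F (D k) := by
  classical
  induction s using Finset.induction_on with
  | empty => simp
  | insert a s ha ih =>
    rw [Finset.sum_insert ha, Finset.iSup_insert]
    exact (Submodule.finrank_add_le_finrank_add_finrank _ _).trans (Nat.add_le_add le_rfl ih)

/-- Spanning subspaces whose dimensions add up to at most the dimension are independent. -/
theorem indep_of_sum_le {κ : Type*} [Fintype κ] (D : κ → Submodule F V) (htop : iSup D = ⊤)
    (hsum : ∑ k, finrank F (D k) ≤ finrank F V) : iSupIndep D := by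
  classical
  intro j
  have h1 : (⨆ (k : κ) (_ : k ≠ j), D k) ≤ ⨆ k ∈ Finset.univ.erase j, D k :=
    iSup₂_le fun k hk => le_iSup₂_of_le (f := fun k (_ : k ∈ Finset.univ.erase j) => D k) k (by simp [hk]) le_rfl
  have h2 := (Submodule.finrank_mono h1).trans (finrank_biSup_le D _)
  have h3 := Submodule.finrank_sup_add_finrank_inf_eq (D j) (⨆ (k : κ) (_ : k ≠ j), D k)
  have h4 : D j ⊔ (⨆ (k : κ) (_ : k ≠ j), D k) = ⊤ := by
    refine top_unique (htop ▸ iSup_le fun k => ?_)
    by_cases hk : k = j
    · exact hk ▸ le_sup_left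
    · exact (le_iSup₂ (f := fun (k : κ) (_ : k ≠ j) => D k) k hk).trans le_sup_right
  rw [h4, finrank_top] at h3
  have h5 := Finset.add_sum_erase Finset.univ (fun k => finrank F (D k)) (Finset.mem_univ j)
  rw [disjoint_iff, ← Submodule.finrank_eq_zero]
  omega

variable {f : Module.End F V}

/-- A spanning family in rows permuted by `f` gives a decomposition. -/
theorem exists_dec_of_family (hinj : Function.Injective f) {t a : ℕ} (ht : 2 ≤ t) (ha : 0 < a)
    {J L : Type*} [Fintype J] [Fintype L] (hJ : Fintype.card J = t) (hL : Fintype.card L = a)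
    (hdim : finrank F V = t * a) (b : J × L → V) (hspan : Submodule.span F (Set.range b) = ⊤) (σ : Equiv.Perm J)
    (hf : ∀ j l, f (b (j, l)) ∈ Submodule.span F (Set.range fun l' => b (σ j, l'))) :
    ∃ D : Fin t → Submodule F V, (2 ≤ t ∧ 0 < a ∧ (∀ i, finrank F (D i) = a) ∧ iSupIndep D ∧ iSup D = ⊤) ∧
      ∃ s : Equiv.Perm (Fin t), ∀ i, (D i).map f = D (s i) := by
  classical
  have hli : LinearIndependent F b := linearIndependent_of_top_le_span_of_card_eq_finrank hspan.ge
    (by rw [Fintype.card_prod, hJ, hL, hdim])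
  let e : J ≃ Fin t := Fintype.equivFinOfCardEq hJ
  let D : Fin t → Submodule F V := fun i => Submodule.span F (Set.range fun l => b (e.symm i, l))
  have hrank : ∀ i, finrank F (D i) = a := fun i => by
    rw [show D i = Submodule.span F (Set.range (b ∘ fun l => (e.symm i, l))) from rfl,
      finrank_span_eq_card (hli.comp _ (fun l l' h => (Prod.ext_iff.1 h).2)), hL]
  have htop : iSup D = ⊤ := by
    refine top_unique (hspan ▸ Submodule.span_le.2 ?_)
    rintro _ ⟨⟨j, l⟩, rfl⟩
    exact le_iSup D (e j) (Submodule.subset_span ⟨l, by simp⟩)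
  refine ⟨D, ⟨ht, ha, hrank, indep_of_sum_le D htop (by simp [hrank, hdim]), htop⟩,
    (e.symm.trans σ).trans e, fun i => ?_⟩
  refine Submodule.eq_of_le_of_finrank_eq ?_ ?_
  · rw [Submodule.map_le_iff_le_comap, Submodule.span_le]
    rintro _ ⟨l, rfl⟩
    have := hf (e.symm i) l
    simpa [D] using this
  · rw [← (Submodule.equivMapOfInjective f hinj (D i)).finrank_eq, hrank, hrank]

variable [Fintype F] {r : ℕ} [Fact r.Prime]

/-- Splitting into invariant pieces of equal dimension. -/
theorem exists_split (hr : (r : F) ≠ 0) (hfr : f ^ r = 1) (a : ℕ) :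
    ∀ (t : ℕ) (A B : Submodule F V) (e N : ℕ), A ≤ fixSp f → B ≤ movSp f → Inv f A → Inv f B →
      finrank F A = e → finrank F B = N * orderOf ((Fintype.card F : ℕ) : ZMod r) →
      e + N * orderOf ((Fintype.card F : ℕ) : ZMod r) = t * a →
      t * (a % orderOf ((Fintype.card F : ℕ) : ZMod r)) ≤ e →
      ∃ D : Fin t → Submodule F V, (∀ j, Inv f (D j) ∧ finrank F (D j) = a) ∧ A ⊔ B ≤ iSup D := by
  classical
  set i := orderOf ((Fintype.card F : ℕ) : ZMod r) with hi
  have hi0 : 0 < i := orderOf_card_pos hr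
  have hss := isSemisimple_of_pow hr hfr
  intro t
  induction t with
  | zero =>
    intro A B e N _ _ _ _ hA hB hsum _
    refine ⟨Fin.elim0, fun j => j.elim0, ?_⟩
    rw [zero_mul] at hsum
    rw [Submodule.finrank_eq_zero.1 (show finrank F A = 0 by omega),
      Submodule.finrank_eq_zero.1 (show finrank F B = 0 by omega)]
    simp
  | succ t ih =>
    intro A B e N hAf hBm hAi hBi hA hB hsum hcond
    rw [Nat.succ_mul] at hsum hcond
    have hmd := Nat.mod_add_div a i
    rw [mul_comm i] at hmd
    set b := min N (a / i) with hb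
    have hbN : b * i ≤ N * i := Nat.mul_le_mul_right _ (min_le_left _ _)
    have hba : b * i ≤ a / i * i := Nat.mul_le_mul_right _ (min_le_right _ _)
    have hnext : t * (a % i) ≤ e - (a - b * i) ∧ a - b * i ≤ e := by
      rcases Nat.le_total N (a / i) with h | h
      · have : b = N := min_eq_left h
        rw [this] at hba ⊢
        have : t * (a % i) ≤ t * a := Nat.mul_le_mul_left _ (Nat.mod_le _ _)
        omega
      · have : b = a / i := min_eq_right h
        rw [this] at hbN ⊢
        omega
    obtain ⟨A₁, hA₁le, hA₁i, hA₁⟩ := exists_sub hss ((killed_fixSp hr hfr).mono hAi hAf) (a - b * i)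
      (by rw [mul_one, hA]; exact hnext.2)
    obtain ⟨A₂, hA₂i, hA₂le, hAsup, hAdis⟩ := exists_compl_inv hss hA₁i hAi hA₁le
    obtain ⟨B₁, hB₁le, hB₁i, hB₁⟩ := exists_sub hss ((killed_movSp hr hfr).mono hBi hBm) b (by rw [← hi, hB]; exact hbN)
    obtain ⟨B₂, hB₂i, hB₂le, hBsup, hBdis⟩ := exists_compl_inv hss hB₁i hBi hB₁le
    have eA := Submodule.finrank_sup_add_finrank_inf_eq A₁ A₂
    rw [hAsup, hAdis.eq_bot, finrank_bot, add_zero, hA, hA₁, mul_one] at eA
    have eB := Submodule.finrank_sup_add_finrank_inf_eq B₁ B₂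
    rw [hBsup, hBdis.eq_bot, finrank_bot, add_zero, hB, hB₁, ← hi] at eB
    have hsub : (N - b) * i = N * i - b * i := Nat.sub_mul _ _ _
    obtain ⟨D, hD, hsupD⟩ := ih A₂ B₂ (e - (a - b * i)) (N - b) (hA₂le.trans hAf) (hB₂le.trans hBm) hA₂i hB₂i
      (by omega) (by omega) (by omega) hnext.1
    refine ⟨Fin.cons (A₁ ⊔ B₁) D, fun j => ?_, ?_⟩
    · induction j using Fin.cases with
      | succ j => rw [Fin.cons_succ]; exact hD j
      | zero =>
      rw [Fin.cons_zero]
      refine ⟨hA₁i.sup hB₁i, ?_⟩
      have h := Submodule.finrank_sup_add_finrank_inf_eq A₁ B₁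
      rw [((isCompl_fix_mov hr hfr).disjoint.mono (hA₁le.trans hAf) (hB₁le.trans hBm)).eq_bot, finrank_bot, add_zero,
        hA₁, hB₁, mul_one, ← hi] at h
      omega
    · have h0 : A₁ ⊔ B₁ ≤ iSup (Fin.cons (A₁ ⊔ B₁) D : Fin (t + 1) → Submodule F V) := le_iSup_of_le 0 (by simp)
      have h1 : A₂ ⊔ B₂ ≤ iSup (Fin.cons (A₁ ⊔ B₁) D : Fin (t + 1) → Submodule F V) :=
        hsupD.trans (iSup_le fun j => le_iSup_of_le j.succ (by simp))
      rw [← hAsup, ← hBsup]
      exact sup_le (sup_le (le_sup_left.trans h0) (le_sup_left.trans h1))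
        (sup_le (le_sup_right.trans h0) (le_sup_right.trans h1))

omit [Fact r.Prime] in
/-- Generators of a killed subspace. -/
theorem exists_gen (hss : f.IsSemisimple) {S : Finset F[X]} {i : ℕ} {D : Submodule F V} (hk : Killed f S i D) :
    ∀ N, finrank F D = N * i → ∃ w : Fin N → V, (∀ k, w k ∈ D) ∧
      D ≤ Submodule.span F (Set.range fun kj : Fin N × ℕ => (f ^ kj.2) (w kj.1)) := by
  intro N
  induction N generalizing D with
  | zero =>
    intro h
    rw [zero_mul, Submodule.finrank_eq_zero] at h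
    exact ⟨Fin.elim0, fun k => k.elim0, h ▸ bot_le⟩
  | succ N ih =>
    intro h
    have hDi : D ≠ ⊥ ∨ i = 0 := by
      by_contra h0
      push Not at h0
      rw [h0.1, finrank_bot, Nat.succ_mul] at h
      omega
    rcases hDi with hD | hi
    swap
    · rw [hi, Nat.mul_zero, Submodule.finrank_eq_zero] at h
      exact ⟨fun _ => 0, fun _ => zero_mem _, h ▸ bot_le⟩
    obtain ⟨P, hP, v, hv, hv0, hPv⟩ := exists_factor S hk.inv hD hk.kill
    have hcr := (finrank_cyc (hk.irr P hP) hPv hv0).trans (hk.deg P hP)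
    obtain ⟨U, hU, hUD, hsup, hdis⟩ := exists_compl_inv hss (cyc_inv v) hk.inv (cyc_le hk.inv hv)
    have h2 := Submodule.finrank_sup_add_finrank_inf_eq (cyc f v) U
    rw [hsup, hdis.eq_bot, finrank_bot, add_zero, hcr, h, Nat.succ_mul] at h2
    obtain ⟨w, hw, hle⟩ := ih (hk.mono hU hUD) (by omega)
    refine ⟨Fin.cons v w, Fin.cases (by simpa using hv) (fun k => by simpa using hUD (hw k)), ?_⟩
    rw [← hsup]
    refine sup_le ?_ (hle.trans (Submodule.span_mono ?_))
    · rintro _ ⟨q, rfl⟩
      induction q using Polynomial.induction_on' with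
      | add p q hp hq => rw [map_add]; exact add_mem hp hq
      | monomial k c =>
        rw [evalAt_apply, aeval_monomial, Module.End.mul_apply, Module.algebraMap_end_apply]
        exact Submodule.smul_mem _ c (Submodule.subset_span ⟨(0, k), by simp⟩)
    · rintro _ ⟨⟨k, j⟩, rfl⟩
      exact ⟨(k.succ, j), by simp⟩

omit [Fintype F] [Fact r.Prime] [FiniteDimensional F V] in
theorem pow_mem_of_scalar {z : F} (hfz : f ^ r = z • 1) (hr0 : 0 < r) {S : Submodule F V} {v : V}
    (h : ∀ i < r, (f ^ i) v ∈ S) (j : ℕ) : (f ^ j) v ∈ S := by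
  rw [← Nat.div_add_mod j r, pow_add, pow_mul, hfz, _root_.smul_pow, one_pow, Module.End.mul_apply,
    LinearMap.smul_apply, Module.End.one_apply]
  exact S.smul_mem _ (h _ (Nat.mod_lt _ hr0))

end Endo

section Moved

variable {V : Type v} [AddCommGroup V] [Module F V] [FiniteDimensional F V] {f : Module.End F V} {r t a : ℕ}
  [Fact r.Prime] {D : Fin t → Submodule F V} {σ : Equiv.Perm (Fin t)}

omit [FiniteDimensional F V] [Fact r.Prime] in
theorem map_pow_eq (hmap : ∀ j, (D j).map f = D (σ j)) : ∀ (i : ℕ) j, (D j).map (f ^ i) = D ((σ ^ i) j) := by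
  intro i
  induction i with
  | zero => intro j; simp [Module.End.one_eq_id]
  | succ i ih =>
    intro j
    rw [pow_succ', pow_succ', Module.End.mul_eq_comp, Submodule.map_comp, ih, hmap]
    rfl

omit [FiniteDimensional F V] in
theorem pow_ne_self (hσr : σ ^ r = 1) {j : Fin t} (hj : σ j ≠ j) {i : ℕ} (hi0 : 0 < i) (hir : i < r) :
    (σ ^ i) j ≠ j := fun heq => by
  have h1 : Function.IsPeriodicPt σ r j := by
    show σ^[r] j = j
    rw [← Equiv.Perm.coe_pow, hσr]; rfl
  have h2 : Function.IsPeriodicPt σ i j := by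
    show σ^[i] j = j
    rw [← Equiv.Perm.coe_pow]; exact heq
  have h3 := h1.gcd h2
  rw [Nat.Coprime.gcd_eq_one ((Fact.out : r.Prime).coprime_iff_not_dvd.2 fun hdv => by
    have := Nat.le_of_dvd hi0 hdv; omega)] at h3
  exact hj h3

variable (hind : iSupIndep D) (hrank : ∀ j, finrank F (D j) = a) (hmap : ∀ j, (D j).map f = D (σ j))
  (hfr : f ^ r = 1) (hσr : σ ^ r = 1)
include hind hrank hmap hfr hσr

/-- A moved summand embeds into the fixed space. -/
theorem le_fix_of_moved {j : Fin t} (hj : σ j ≠ j) : a ≤ finrank F (fixSp f) := by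
  classical
  have hr0 : 0 < r := (Fact.out : r.Prime).pos
  let T : Module.End F V := ∑ i ∈ Finset.range r, f ^ i
  have hT : ∀ v, T v ∈ fixSp f := fun v => by
    rw [fixSp, LinearMap.mem_ker, ← Module.End.mul_apply, mul_geom_sum, hfr, sub_self, LinearMap.zero_apply]
  have hinj : Function.Injective (T.domRestrict (D j)) := by
    rw [← LinearMap.ker_eq_bot, LinearMap.ker_eq_bot']
    rintro ⟨v, hv⟩ h0
    have h1 : ∑ i ∈ Finset.range r, (f ^ i) v = 0 := by
      rw [← LinearMap.sum_apply]; exact h0
    rw [Finset.range_eq_Ico, Finset.sum_eq_sum_Ico_succ_bot hr0, pow_zero, Module.End.one_apply] at h1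
    have hmem : ∑ i ∈ Finset.Ico (0 + 1) r, (f ^ i) v ∈ ⨆ (k : Fin t) (_ : k ≠ j), D k := by
      refine Submodule.sum_mem _ fun i hi => ?_
      rw [Finset.mem_Ico] at hi
      refine (le_iSup₂ (f := fun (k : Fin t) (_ : k ≠ j) => D k) ((σ ^ i) j) (pow_ne_self hσr hj (by omega) hi.2)) ?_
      rw [← map_pow_eq hmap]
      exact Submodule.mem_map_of_mem hv
    have h2 : v ∈ ⨆ (k : Fin t) (_ : k ≠ j), D k := by
      rw [eq_neg_of_add_eq_zero_left h1]
      exact neg_mem hmem
    exact Subtype.ext ((hind j).le_bot ⟨hv, h2⟩)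
  rw [← hrank j, ← LinearMap.finrank_range_of_inj hinj]
  refine Submodule.finrank_mono ?_
  rintro _ ⟨v, rfl⟩
  exact hT v

/-- A moved summand contributes at least `a (r - 1)` to the moved space. -/
theorem le_mov_of_moved {j : Fin t} (hj : σ j ≠ j) : a * (r - 1) ≤ finrank F (movSp f) := by
  classical
  have hr0 : 0 < r := (Fact.out : r.Prime).pos
  let g : Fin r → Fin t := fun i => (σ ^ (i : ℕ)) j
  have hg : Function.Injective g := by
    intro x y hxy
    by_contra hne
    wlog hlt : x < y generalizing x y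
    · exact this hxy.symm (Ne.symm hne) (lt_of_le_of_ne (not_lt.1 hlt) (Ne.symm hne))
    refine pow_ne_self hσr hj (i := (y : ℕ) - x) (by omega) (by omega) ((σ ^ (x : ℕ)).injective ?_)
    rw [← Equiv.Perm.mul_apply, ← pow_add, Nat.add_sub_cancel' hlt.le]
    exact hxy.symm
  have hW : finrank F (⨆ i : Fin r, D (g i) : Submodule F V) = r * a := by
    have h := hind.comp hg
    let W := fun i : Fin r => D (g i)
    have hle : finrank F (⨆ i : Fin r, D (g i) : Submodule F V) ≤ r * a := by
      have h := finrank_biSup_le W Finset.univ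
      rw [show (⨆ k ∈ Finset.univ, W k) = ⨆ i : Fin r, D (g i) by simp [W]] at h
      simpa [W, hrank] using h
    refine le_antisymm hle ?_
    let b := fun i : Fin r => Module.finBasisOfFinrankEq F (D (g i)) (hrank (g i))
    have hli : LinearIndependent F (fun x : (_ : Fin r) × Fin a => ((b x.1 x.2 : D (g x.1)) : V)) :=
      linearIndependent_iUnion_finite (f := fun i l => ((b i l : D (g i)) : V))
        (fun i => (b i).linearIndependent.map' _ (Submodule.ker_subtype _))
        (fun i s _ hi => by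
          refine (h i).mono ?_ ?_
          · rw [Submodule.span_le]; rintro _ ⟨l, rfl⟩; exact (b i l).2
          · refine iSup₂_le fun k hk => ?_
            rw [Submodule.span_le]
            rintro _ ⟨l, rfl⟩
            exact le_iSup₂ (f := fun (k : Fin r) (_ : k ≠ i) => D (g k)) k (fun e => hi (e ▸ hk)) (b k l).2)
    have h2 : Submodule.span F (Set.range fun x : (_ : Fin r) × Fin a => ((b x.1 x.2 : D (g x.1)) : V)) ≤
        ⨆ i : Fin r, D (g i) := by
      rw [Submodule.span_le]
      rintro _ ⟨⟨i, l⟩, rfl⟩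
      exact le_iSup (fun i => D (g i)) i (b i l).2
    have h3 := Submodule.finrank_mono (R := F) h2
    rwa [finrank_span_eq_card hli, Fintype.card_sigma, Finset.sum_const, Finset.card_univ, Fintype.card_fin,
      Fintype.card_fin, smul_eq_mul] at h3
  have hle : ∀ i : ℕ, D ((σ ^ i) j) ≤ D j ⊔ movSp f := by
    intro i
    rw [← map_pow_eq hmap]
    rintro _ ⟨v, hv, rfl⟩
    refine Submodule.mem_sup.2 ⟨v, hv, (f ^ i) v - v, ?_, add_sub_cancel v _⟩
    have : f ^ i - 1 = (f - 1) * ∑ k ∈ Finset.range i, f ^ k := (mul_geom_sum f i).symm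
    rw [show (f ^ i) v - v = (f ^ i - 1) v from rfl, this, Module.End.mul_apply]
    exact ⟨_, rfl⟩
  have h4 := Submodule.finrank_mono (R := F) (iSup_le fun i : Fin r => hle i)
  have h5 := Submodule.finrank_add_le_finrank_add_finrank (D j) (movSp f)
  rw [show (⨆ i : Fin r, D ((σ ^ (i : ℕ)) j) : Submodule F V) = ⨆ i : Fin r, D (g i) from rfl, hW] at h4
  rw [hrank] at h5
  rw [Nat.mul_sub, mul_one, mul_comm a r]
  omega

end Moved

section Lines

variable [Fintype F] {V : Type v} [AddCommGroup V] [Module F V] [FiniteDimensional F V] {f : Module.End F V}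
  {r t : ℕ} [Fact r.Prime]

/-- Permuted lines: the fixed space has dimension at least `t / r`. -/
theorem le_mul_fix (hr : (r : F) ≠ 0) (hnd : ¬ r ∣ Fintype.card F - 1) (hfr : f ^ r = 1)
    {σ : Equiv.Perm (Fin t)} (hσr : σ ^ r = 1) (b : Module.Basis (Fin t) F V)
    (hb : ∀ j, ∃ s : F, f (b j) = s • b (σ j)) : t ≤ finrank F (fixSp f) * r := by
  classical
  have hr0 : 0 < r := (Fact.out : r.Prime).pos
  have hpow : ∀ (i : ℕ) j, ∃ s : F, (f ^ i) (b j) = s • b ((σ ^ i) j) := by
    intro i
    induction i with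
    | zero => intro j; exact ⟨1, by simp⟩
    | succ i ih =>
      intro j
      obtain ⟨s, hs⟩ := ih j
      obtain ⟨s', hs'⟩ := hb ((σ ^ i) j)
      refine ⟨s * s', ?_⟩
      rw [pow_succ', Module.End.mul_apply, hs, map_smul, hs', smul_smul, pow_succ' σ i]
      rfl
  have hper : ∀ (i : ℕ) j, (σ ^ i) j = j → i < r → (f ^ i) (b j) = b j := by
    intro i j hi hir
    rcases Nat.eq_zero_or_pos i with rfl | hi0
    · simp
    by_cases hj : σ j = j
    · obtain ⟨s, hs⟩ := hb j
      rw [hj] at hs
      have hk : ∀ k : ℕ, (f ^ k) (b j) = s ^ k • b j := fun k => by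
        induction k with
        | zero => simp
        | succ k ih => rw [pow_succ', Module.End.mul_apply, ih, map_smul, hs, smul_smul, pow_succ]
      have h1 := hk r
      rw [hfr, Module.End.one_apply] at h1
      have hs1 : s ^ r = 1 := by
        have := congrArg (fun v => b.repr v j) h1
        simpa using this.symm
      rw [hk, eq_one_of_pow_eq_one hnd hs1, one_pow, one_smul]
    · exact absurd hi (pow_ne_self hσr hj hi0 hir)
  let T : Module.End F V := ∑ i ∈ Finset.range r, f ^ i
  have hT : ∀ v, T v ∈ fixSp f := fun v => by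
    rw [fixSp, LinearMap.mem_ker, ← Module.End.mul_apply, mul_geom_sum, hfr, sub_self, LinearMap.zero_apply]
  let R : Finset (Fin t) := Finset.univ.filter fun k => ∀ i : ℕ, k ≤ (σ ^ i) k
  -- every point lies on the orbit of a representative
  have hcov : ∀ k : Fin t, ∃ k₀ ∈ R, ∃ i < r, (σ ^ i) k₀ = k := by
    intro k
    obtain ⟨k₀, hk₀, hmin⟩ := Finset.exists_min_image ((Finset.range r).image fun i => (σ ^ i) k) id
      ⟨k, Finset.mem_image.2 ⟨0, Finset.mem_range.2 hr0, by simp⟩⟩
    obtain ⟨i, hi, rfl⟩ := Finset.mem_image.1 hk₀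
    rw [Finset.mem_range] at hi
    refine ⟨(σ ^ i) k, Finset.mem_filter.2 ⟨Finset.mem_univ _, fun l => ?_⟩, (r - i) % r, Nat.mod_lt _ hr0, ?_⟩
    · refine hmin _ (Finset.mem_image.2 ⟨(l + i) % r, Finset.mem_range.2 (Nat.mod_lt _ hr0), ?_⟩)
      rw [← Equiv.Perm.mul_apply, ← pow_add, ← pow_eq_pow_mod _ hσr]
    · rw [← pow_eq_pow_mod _ hσr, ← Equiv.Perm.mul_apply, ← pow_add, Nat.sub_add_cancel hi.le, hσr]
      rfl
  have hsame : ∀ k ∈ R, ∀ k' ∈ R, ∀ i : ℕ, (σ ^ i) k' = k → k' = k := by
    intro k hk k' hk' i he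
    have h1 := (Finset.mem_filter.1 hk').2 i
    rw [he] at h1
    refine le_antisymm h1 ?_
    have h2 := (Finset.mem_filter.1 hk).2 ((r - i % r) % r)
    rw [← he, ← Equiv.Perm.mul_apply, ← pow_add] at h2
    have h3 : ((r - i % r) % r + i) % r = 0 := by
      have := Nat.mod_lt i hr0
      rw [Nat.mod_add_mod, ← Nat.add_mod_mod, Nat.sub_add_cancel this.le, Nat.mod_self]
    rw [pow_eq_pow_mod ((r - i % r) % r + i) hσr, h3, pow_zero, Equiv.Perm.one_apply, he] at h2
    exact h2
  have hcard : t ≤ R.card * r := by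
    have hsub : (Finset.univ : Finset (Fin t)) ⊆ (R ×ˢ Finset.range r).image fun p => (σ ^ p.2) p.1 := fun k _ => by
      obtain ⟨k₀, h1, i, h2, h3⟩ := hcov k
      exact Finset.mem_image.2 ⟨(k₀, i), Finset.mem_product.2 ⟨h1, Finset.mem_range.2 h2⟩, h3⟩
    have := (Finset.card_le_card hsub).trans Finset.card_image_le
    simpa using this
  have hli : LinearIndependent F (fun k : R => (⟨T (b k.1), hT _⟩ : fixSp f)) := by
    rw [Fintype.linearIndependent_iff]
    intro g hg k
    have h1 : ∑ k : R, g k • T (b k.1) = 0 := by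
      have := congrArg (fixSp f).subtype hg
      simpa using this
    have h2 := congrArg (fun v => b.repr v k.1) h1
    simp only [map_sum, map_smul, Finsupp.finsetSum_apply, Finsupp.smul_apply, map_zero, Finsupp.zero_apply] at h2
    have hcoef : ∀ k' : R, k' ≠ k → b.repr (T (b k'.1)) k.1 = 0 := by
      intro k' hne
      rw [show T (b k'.1) = ∑ i ∈ Finset.range r, (f ^ i) (b k'.1) from LinearMap.sum_apply _ _ _, map_sum,
        Finsupp.finsetSum_apply]
      refine Finset.sum_eq_zero fun i _ => ?_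
      obtain ⟨s, hs⟩ := hpow i k'.1
      rw [hs, map_smul, Finsupp.smul_apply, Module.Basis.repr_self,
        Finsupp.single_eq_of_ne (fun e => hne (Subtype.ext (hsame _ k.2 _ k'.2 i e.symm))), smul_zero]
    rw [Finset.sum_eq_single k (fun k' _ hne => by rw [hcoef k' hne, smul_zero])
      (fun h => absurd (Finset.mem_univ k) h)] at h2
    have hkk : b.repr (T (b k.1)) k.1 ≠ 0 := by
      have hs : T (b k.1) = ∑ i ∈ Finset.range r, (f ^ i) (b k.1) := LinearMap.sum_apply _ _ _
      have hval : ∀ i ∈ Finset.range r, b.repr ((f ^ i) (b k.1)) k.1 = if (σ ^ i) k.1 = k.1 then (1 : F) else 0 := by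
        intro i hi
        split_ifs with h
        · rw [hper i _ h (Finset.mem_range.1 hi), Module.Basis.repr_self, Finsupp.single_eq_same]
        · obtain ⟨s, hs⟩ := hpow i k.1
          rw [hs, map_smul, Finsupp.smul_apply, Module.Basis.repr_self, Finsupp.single_eq_of_ne (Ne.symm h), smul_zero]
      rw [hs, map_sum, Finsupp.finsetSum_apply, Finset.sum_congr rfl hval, Finset.sum_boole]
      by_cases hj : σ k.1 = k.1
      · have hfix : ∀ i : ℕ, (σ ^ i) k.1 = k.1 := fun i => by
          induction i with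
          | zero => simp
          | succ i ih => rw [pow_succ, Equiv.Perm.mul_apply, hj, ih]
        simpa [hfix] using hr
      · have : (Finset.range r).filter (fun i => (σ ^ i) k.1 = k.1) = {0} := by
          ext i
          simp only [Finset.mem_filter, Finset.mem_range, Finset.mem_singleton]
          refine ⟨fun h => ?_, fun h => ?_⟩
          · by_contra h0
            exact pow_ne_self hσr hj (Nat.pos_of_ne_zero h0) h.1 h.2
          · subst h; simp [hr0]
        rw [this]; simp
    simpa [hkk] using h2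
  have h := hli.fintype_card_le_finrank
  rw [Fintype.card_coe] at h
  exact hcard.trans (Nat.mul_le_mul_right _ h)

end Lines

section Count

variable [Fintype F] {n : ℕ}

theorem exists_map_dec {a t : ℕ} {D D' : Fin t → Submodule F (Fin n → F)}
    (hD : Cfsg.Geo.IsMDecomposition a D) (hD' : Cfsg.Geo.IsMDecomposition a D') :
    ∃ g : GL (Fin n) F, ∀ j, (D j).map (Matrix.toLin' (g : Matrix (Fin n) (Fin n) F)) = D' j := by
  classical
  have hI := DirectSum.isInternal_submodule_of_iSupIndep_of_iSup_eq_top hD.indep hD.iSup_eq_top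
  have hI' := DirectSum.isInternal_submodule_of_iSupIndep_of_iSup_eq_top hD'.indep hD'.iSup_eq_top
  let v := fun j => Module.finBasisOfFinrankEq F (D j) (hD.finrank_eq j)
  let v' := fun j => Module.finBasisOfFinrankEq F (D' j) (hD'.finrank_eq j)
  let E := (hI.collectedBasis v).equiv (hI'.collectedBasis v') (Equiv.refl _)
  let g : GL (Fin n) F := Units.mk (LinearMap.toMatrix' (E : _ →ₗ[F] _)) (LinearMap.toMatrix' (E.symm : _ →ₗ[F] _))
    (by rw [← LinearMap.toMatrix'_comp, LinearEquiv.comp_coe, E.symm_trans_self]; simp)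
    (by rw [← LinearMap.toMatrix'_comp, LinearEquiv.comp_coe, E.self_trans_symm]; simp)
  refine ⟨g, fun j => ?_⟩
  show (D j).map (Matrix.toLin' (LinearMap.toMatrix' (E : _ →ₗ[F] _))) = D' j
  rw [Matrix.toLin'_toMatrix']
  refine Submodule.eq_of_le_of_finrank_eq ?_ (by rw [LinearEquiv.finrank_map_eq, hD.finrank_eq, hD'.finrank_eq])
  rw [Submodule.map_le_iff_le_comap]
  intro x hx
  have hx' : x ∈ Submodule.span F (Set.range fun l => ((v j l : D j) : Fin n → F)) := by
    have := congrArg (Submodule.map (D j).subtype) (v j).span_eq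
    rw [Submodule.map_span, Submodule.map_top, Submodule.range_subtype, ← Set.range_comp] at this
    exact this.symm ▸ hx
  refine (Submodule.span_le (p := Submodule.comap (E : (Fin n → F) →ₗ[F] _) (D' j))).2 ?_ hx'
  rintro _ ⟨l, rfl⟩
  have h2 := (hI.collectedBasis v).equiv_apply ⟨j, l⟩ (hI'.collectedBasis v') (Equiv.refl _)
  rw [hI.collectedBasis_coe v, hI'.collectedBasis_coe v'] at h2
  show E ((v j l : D j) : Fin n → F) ∈ D' j
  exact h2 ▸ (v' j l).2

/-- A prime dividing the number of unordered decompositions divides the order of the general linear group. -/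
theorem dvd_card_of_dvd_decs {a t r : ℕ} (hr : r.Prime)
    (h : r ∣ Nat.card {D : Fin t → Submodule F (Fin n → F) // Cfsg.Geo.IsMDecomposition a D} / Nat.factorial t)
    (hne : Nonempty {D : Fin t → Submodule F (Fin n → F) // Cfsg.Geo.IsMDecomposition a D}) :
    r ∣ Nat.card (GL (Fin n) F) := by
  classical
  haveI : Finite (Submodule F (Fin n → F)) := Finite.of_injective _ SetLike.coe_injective
  let X := {D : Fin t → Submodule F (Fin n → F) // Cfsg.Geo.IsMDecomposition a D}
  have hfac : Nat.factorial t ∣ Nat.card X := by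
    letI : MulAction (Equiv.Perm (Fin t)) X :=
      { smul := fun s D => ⟨fun j => D.1 (s⁻¹ j), D.2.two_le, D.2.pos, fun j => D.2.finrank_eq _,
          D.2.indep.comp (s⁻¹).injective, (Equiv.iSup_comp (g := D.1) s⁻¹).trans D.2.iSup_eq_top⟩
        one_smul := fun D => Subtype.ext (funext fun j => rfl)
        mul_smul := fun s s' D => Subtype.ext (funext fun j => by
          show D.1 ((s * s')⁻¹ j) = D.1 (s'⁻¹ (s⁻¹ j))
          rw [mul_inv_rev]; rfl) }
    have hfree : ∀ D : X, MulAction.stabilizer (Equiv.Perm (Fin t)) D = ⊥ := fun D => by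
      rw [Subgroup.eq_bot_iff_forall]
      intro s hs
      refine Equiv.ext fun j => (D.2.indep.injective (fun k h0 => ?_) ?_)
      · have := D.2.finrank_eq k
        rw [h0, finrank_bot] at this
        have := D.2.pos
        omega
      · have e : D.1 (s⁻¹ (s j)) = D.1 (s j) :=
          congrFun (congrArg Subtype.val (MulAction.mem_stabilizer_iff.1 hs)) (s j)
        rw [Equiv.Perm.inv_def, Equiv.symm_apply_apply] at e
        exact e.symm
    rw [Nat.card_congr (MulAction.selfEquivOrbitsQuotientProd hfree), Nat.card_prod, Nat.card_perm, Nat.card_fin]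
    exact dvd_mul_left _ _
  refine (h.trans (Nat.div_dvd_of_dvd hfac)).trans ?_
  obtain ⟨x₀⟩ := hne
  letI : MulAction (GL (Fin n) F) (Fin t → Submodule F (Fin n → F)) :=
    { smul := fun g D j => (D j).map (Matrix.toLin' (g : Matrix (Fin n) (Fin n) F))
      one_smul := fun D => funext fun j => by
        show (D j).map (Matrix.toLin' ((1 : GL (Fin n) F) : Matrix (Fin n) (Fin n) F)) = _
        rw [Units.val_one, Matrix.toLin'_one, Submodule.map_id]
      mul_smul := fun g g' D => funext fun j => by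
        show (D j).map (Matrix.toLin' ((g * g' : GL (Fin n) F) : Matrix (Fin n) (Fin n) F)) = ((D j).map _).map _
        rw [Units.val_mul, Matrix.toLin'_mul, Submodule.map_comp] }
  have horb : ∀ D, D ∈ MulAction.orbit (GL (Fin n) F) x₀.1 ↔ Cfsg.Geo.IsMDecomposition a D := by
    intro D
    constructor
    · rintro ⟨g, rfl⟩
      have hinj : Function.Injective (Matrix.toLin' (g : Matrix (Fin n) (Fin n) F)) := fun u v huv => by
        have := congrArg (Matrix.toLin' ((g⁻¹ : GL (Fin n) F) : Matrix (Fin n) (Fin n) F)) huv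
        rwa [← LinearMap.comp_apply, ← LinearMap.comp_apply, ← Matrix.toLin'_mul, Units.inv_mul, Matrix.toLin'_one] at this
      have hsurj := LinearMap.injective_iff_surjective.1 hinj
      have hrank : ∀ j, finrank F ((g • x₀.1) j : Submodule F (Fin n → F)) = a := fun j =>
        (Submodule.equivMapOfInjective _ hinj (x₀.1 j)).finrank_eq.symm.trans (x₀.2.finrank_eq j)
      have htop : iSup (g • x₀.1) = ⊤ := by
        show ⨆ j, (x₀.1 j).map _ = ⊤
        rw [← Submodule.map_iSup, x₀.2.iSup_eq_top, Submodule.map_top, LinearMap.range_eq_top.2 hsurj]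
      have hn : finrank F (Fin n → F) = t * a := by
        have hI := DirectSum.isInternal_submodule_of_iSupIndep_of_iSup_eq_top x₀.2.indep x₀.2.iSup_eq_top
        rw [finrank_eq_card_basis (hI.collectedBasis fun j => Module.finBasisOfFinrankEq F (x₀.1 j) (x₀.2.finrank_eq j))]
        simp
      exact ⟨x₀.2.two_le, x₀.2.pos, hrank,
        indep_of_sum_le _ htop (by rw [Finset.sum_congr rfl fun j _ => hrank j, hn]; simp), htop⟩
    · intro hD
      obtain ⟨g, hg⟩ := exists_map_dec x₀.2 hD
      exact ⟨g, funext hg⟩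
  rw [← Nat.card_congr (Equiv.subtypeEquivRight horb)]
  show Nat.card (MulAction.orbit (GL (Fin n) F) x₀.1) ∣ _
  rw [Nat.card_congr (MulAction.orbitEquivQuotientStabilizer (GL (Fin n) F) x₀.1)]
  exact Subgroup.card_quotient_dvd_card _

end Count

end CfsgLib.ThreeTransp.DecPerm
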