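import Mathlib
import Cfsg.Agent.Lib.ThreeTransp.RootLine

/-!
Two commutator pairs `[A, B] = C`, `[D, C] = A`: the rank one pair `(B, D)` acting on `A C`.
-/

set_option autoImplicit false

namespace CfsgLib.ThreeTransp

open Cfsg

variable {G : Type*} [Group G] {S : Set (Subgroup G)}

/-- The points of `N` fixed by a subgroup. -/
def fixIn (N U : Subgroup G) : Subgroup G := N ⊓ Subgroup.centralizer (U : Set G)

theorem mem_fixIn {N U : Subgroup G} {x : G} :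
    x ∈ fixIn N U ↔ x ∈ N ∧ ∀ u ∈ U, u * x = x * u :=
  and_congr_right fun _ => Subgroup.mem_centralizer_iff

theorem fixIn_conjBy {N U : Subgroup G} {g : G} (hN : conjBy N g = N) :
    fixIn N (conjBy U g) = conjBy (fixIn N U) g := by
  ext x
  rw [mem_conjBy, mem_fixIn, mem_fixIn]
  have hx : x ∈ N ↔ g⁻¹ * x * g ∈ N := by
    conv_lhs => rw [← hN]
    exact mem_conjBy
  refine and_congr hx ⟨fun h u hu => ?_, fun h u hu => ?_⟩
  · have h2 := congrArg (fun t => g⁻¹ * t * g) (h _ (conj_mem_conjBy hu g))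
    simpa [mul_assoc] using h2
  · rw [mem_conjBy] at hu
    have h2 := congrArg (fun t => g * t * g⁻¹) (h _ hu)
    simpa [mul_assoc] using h2

variable {A B D : Subgroup G}

theorem tri_conj_line (h : RootCommutatorCase S A B) {b : G} (hb : b ∈ B) :
    conjBy (A ⊔ ⁅A, B⁆) b = A ⊔ ⁅A, B⁆ := by
  have hC : ∀ {y : G}, y ∈ B → conjBy ⁅A, B⁆ y = ⁅A, B⁆ := fun hy =>
    conjBy_of_commute fun c hc =>
      (rcc_central h hc ((le_sup_right : B ≤ A ⊔ B) hy)).symm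
  have hle : ∀ {y : G}, y ∈ B → conjBy (A ⊔ ⁅A, B⁆) y ≤ A ⊔ ⁅A, B⁆ := by
    intro y hy
    rw [conjBy_sup, hC hy]
    exact sup_le (rcc_conjBy_le hy) le_sup_right
  refine le_antisymm (hle hb) ?_
  calc A ⊔ ⁅A, B⁆ = conjBy (conjBy (A ⊔ ⁅A, B⁆) b⁻¹) b := (conjBy_conjBy_inv _ b).symm
    _ ≤ conjBy (A ⊔ ⁅A, B⁆) b := conjBy_le_iff.2 (hle (inv_mem hb))

/-- Conjugation by `b ∈ B` as a shear of `A [A, B]`. -/
theorem tri_shear (h : RootCommutatorCase S A B) {b a : G} (hb : b ∈ B) (ha : a ∈ A) :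
    b * a * b⁻¹ = a * (b * a * b⁻¹ * a⁻¹) ∧ b * a * b⁻¹ * a⁻¹ ∈ ⁅A, B⁆ := by
  have hm : b * a * b⁻¹ * a⁻¹ ∈ ⁅A, B⁆ := by
    rw [Subgroup.commutator_comm]; exact Subgroup.commutator_mem_commutator hb ha
  refine ⟨?_, hm⟩
  rw [← rcc_central h hm ((le_sup_left : A ≤ A ⊔ B) ha), inv_mul_cancel_right]

theorem tri_shear_surj (h : RootCommutatorCase S A B) {b : G} (hb : b ∈ B) (hb1 : b ≠ 1)
    {c : G} (hc : c ∈ ⁅A, B⁆) : ∃ a ∈ A, b * a * b⁻¹ * a⁻¹ = c :=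
  rcc_surj (rcc_symm h) hb hb1 (by rwa [Subgroup.commutator_comm])

theorem tri_rankOne (hS : IsRootSubgroupSet S) (_hA : A ∈ S) (hB : B ∈ S)
    (hD : D ∈ S) (h1 : RootCommutatorCase S A B) (h2 : RootCommutatorCase S D ⁅A, B⁆)
    (hDC : ⁅D, ⁅A, B⁆⁆ = A) : IsRankOnePair B D := by
  have hDA : ∀ d ∈ D, ∀ a ∈ A, d * a = a * d := fun d hd a ha =>
    (rcc_central h2 (hDC.symm ▸ ha) ((le_sup_left : D ≤ D ⊔ ⁅A, B⁆) hd)).symm
  have hBC : ∀ b ∈ B, ∀ c ∈ ⁅A, B⁆, b * c = c * b := fun b hb c hc =>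
    (rcc_central h1 hc ((le_sup_right : B ≤ A ⊔ B) hb)).symm
  rcases hS.pair B hB D hD with hc | hr | hcc
  · exfalso
    have hDB : ∀ d ∈ D, ∀ b ∈ B, d * b = b * d := fun d hd b hb => (comm_of_bot hc hb hd).symm
    refine rcc_not_commute_pair hS h2 fun d hd c hc' => ?_
    have : ⁅A, B⁆ ≤ Subgroup.centralizer ({d} : Set G) := by
      refine Subgroup.commutator_le.2 fun a ha b hb => ?_
      have h1 : a ∈ Subgroup.centralizer ({d} : Set G) :=
        Subgroup.mem_centralizer_singleton_iff.2 (hDA d hd a ha).symm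
      have h2 : b ∈ Subgroup.centralizer ({d} : Set G) :=
        Subgroup.mem_centralizer_singleton_iff.2 (hDB d hd b hb).symm
      exact mul_mem (mul_mem (mul_mem h1 h2) (inv_mem h1)) (inv_mem h2)
    exact (Subgroup.mem_centralizer_singleton_iff.1 (this hc')).symm
  · exact hr
  · exfalso
    obtain ⟨b, hb, hb1⟩ := rs_exists_ne_one hS hB
    obtain ⟨d, hd, hd1⟩ := rs_exists_ne_one hS hD
    -- `f := b d b⁻¹ d⁻¹` commutes with `b`
    set f := b * d * b⁻¹ * d⁻¹ with hf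
    have hfb : f * b = b * f :=
      rcc_central hcc (Subgroup.commutator_mem_commutator hb hd) ((le_sup_left : B ≤ B ⊔ D) hb)
    -- the shears
    let β : G → G := fun a => b * a * b⁻¹ * a⁻¹
    let δ : G → G := fun c => d * c * d⁻¹ * c⁻¹
    have hβ : ∀ {a}, a ∈ A → β a ∈ ⁅A, B⁆ ∧ MulAut.conj b a = a * β a := fun ha =>
      ⟨(tri_shear h1 hb ha).2, (tri_shear h1 hb ha).1⟩
    have hδ : ∀ {c}, c ∈ ⁅A, B⁆ → δ c ∈ A ∧ MulAut.conj d c = δ c * c := fun {c} hc =>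
      ⟨hDC ▸ Subgroup.commutator_mem_commutator hd hc, by simp [δ]⟩
    have hb0 : ∀ {c}, c ∈ ⁅A, B⁆ → MulAut.conj b c = c := fun {c} hc => by
      rw [MulAut.conj_apply, hBC b hb c hc, mul_inv_cancel_right]
    have hd0 : ∀ {a}, a ∈ A → MulAut.conj d a = a := fun {a} ha => by
      rw [MulAut.conj_apply, hDA d hd a ha, mul_inv_cancel_right]
    have hb' : ∀ {a}, a ∈ A → MulAut.conj b⁻¹ a = a * (β a)⁻¹ := fun {a} ha => by
      rw [map_inv, MulAut.inv_apply, MulEquiv.symm_apply_eq, map_mul, (hβ ha).2, map_inv,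
        hb0 (hβ ha).1, mul_inv_cancel_right]
    have hd' : ∀ {c}, c ∈ ⁅A, B⁆ → MulAut.conj d⁻¹ c = (δ c)⁻¹ * c := fun {c} hc => by
      rw [map_inv, MulAut.inv_apply, MulEquiv.symm_apply_eq, map_mul, (hδ hc).2, map_inv,
        hd0 (hδ hc).1, inv_mul_cancel_left]
    have hb0' : ∀ {c}, c ∈ ⁅A, B⁆ → MulAut.conj b⁻¹ c = c := fun {c} hc => by
      rw [map_inv, MulAut.inv_apply, MulEquiv.symm_apply_eq, hb0 hc]
    have hd0' : ∀ {a}, a ∈ A → MulAut.conj d⁻¹ a = a := fun {a} ha => by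
      rw [map_inv, MulAut.inv_apply, MulEquiv.symm_apply_eq, hd0 ha]
    have hcomm : ∀ {a c}, a ∈ A → c ∈ ⁅A, B⁆ → c * a = a * c := fun ha hc =>
      (rcc_comm_left h1 _ ha _ hc).symm
    -- the action of `f` on an element of `A`
    have hfA : ∀ {a}, a ∈ A → MulAut.conj f a = (a * (δ (β a))⁻¹) * (β (δ (β a)))⁻¹ := by
      intro a ha
      obtain ⟨hc, -⟩ := hβ ha
      obtain ⟨ht, hdc⟩ := hδ hc
      obtain ⟨hv, hbt⟩ := hβ ht
      rw [hf]
      simp only [map_mul, MulAut.mul_apply]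
      rw [hd0' ha, hb' ha, map_mul (MulAut.conj d), hd0 ha, map_inv (MulAut.conj d), hdc,
        mul_inv_rev, hcomm (inv_mem ht) (inv_mem hc), map_mul (MulAut.conj b), map_mul,
        map_inv, map_inv, hbt, hb0 hc, (hβ ha).2, mul_inv_rev,
        hcomm (inv_mem ht) (inv_mem hv)]
      have e1 : β a * ((δ (β a))⁻¹ * (β (δ (β a)))⁻¹ * (β a)⁻¹) =
          (δ (β a))⁻¹ * (β (δ (β a)))⁻¹ := by
        rw [← mul_assoc, ← mul_assoc, hcomm (inv_mem ht) hc, mul_assoc _ (β a),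
          rs_comm hS h1.1 hc (inv_mem hv), ← mul_assoc, mul_inv_cancel_right]
      rw [mul_assoc a, e1, mul_assoc]
    have hfC : ∀ {c}, c ∈ ⁅A, B⁆ →
        MulAut.conj f c = δ (β (δ c)) * (β (δ (β (δ c))) * (β (δ c) * c)) := by
      intro c hc
      obtain ⟨ht, -⟩ := hδ hc
      obtain ⟨hv, -⟩ := hβ ht
      obtain ⟨hw, hdv⟩ := hδ hv
      obtain ⟨hx, hbw⟩ := hβ hw
      rw [hf]
      simp only [map_mul, MulAut.mul_apply]
      rw [hd' hc, map_mul, map_inv, hb' ht, hb0' hc, mul_inv_rev, inv_inv,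
        map_mul (MulAut.conj d), map_mul (MulAut.conj d), map_inv (MulAut.conj d), hdv, hd0 ht,
        (hδ hc).2]
      rw [show δ (β (δ c)) * β (δ c) * (δ c)⁻¹ * (δ c * c) = δ (β (δ c)) * (β (δ c) * c) by
        simp [mul_assoc]]
      rw [map_mul, hbw, hb0 (mul_mem hv hc)]
      simp [mul_assoc]
    -- comparing the `A`-components of `f b` and `b f`
    have key : ∀ a ∈ A, δ (β (δ (β a))) ∈ ⁅A, B⁆ := by
      intro a ha
      obtain ⟨hc, hba⟩ := hβ ha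
      obtain ⟨ht, -⟩ := hδ hc
      obtain ⟨hv, -⟩ := hβ ht
      obtain ⟨hw, -⟩ := hδ hv
      obtain ⟨hx, -⟩ := hβ hw
      have heq : MulAut.conj f (MulAut.conj b a) = MulAut.conj b (MulAut.conj f a) := by
        rw [← MulAut.mul_apply, ← MulAut.mul_apply, ← map_mul, ← map_mul, hfb]
      have hP : ∀ {p q c c' : G}, p ∈ A → q ∈ A → c ∈ ⁅A, B⁆ → c' ∈ ⁅A, B⁆ →
          p * c = q * c' → q⁻¹ * p ∈ ⁅A, B⁆ := by
        intro p q c c' _ _ hc hc' he
        have : q⁻¹ * p = c' * c⁻¹ := by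
          rw [eq_mul_inv_iff_mul_eq, mul_assoc, he, inv_mul_cancel_left]
        rw [this]; exact mul_mem hc' (inv_mem hc)
      set t := δ (β a)
      set v := β t
      set w := δ v
      set x := β w
      have hat : a * t⁻¹ ∈ A := mul_mem ha (inv_mem ht)
      obtain ⟨hy, hbat⟩ := hβ hat
      have hL : MulAut.conj f (MulAut.conj b a) =
          (a * t⁻¹ * w) * (v⁻¹ * (x * (v * β a))) := by
        rw [hba, map_mul, hfA ha, hfC hc]
        show a * t⁻¹ * v⁻¹ * (w * (x * (v * β a))) = _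
        rw [mul_assoc (a * t⁻¹), ← mul_assoc v⁻¹ w, hcomm hw (inv_mem hv)]
        simp [mul_assoc]
      have hR : MulAut.conj b (MulAut.conj f a) = (a * t⁻¹) * (β (a * t⁻¹) * v⁻¹) := by
        rw [hfA ha, map_mul, hbat, hb0 (inv_mem hv), mul_assoc]
      have h4 := hP (mul_mem hat hw) hat (mul_mem (inv_mem hv) (mul_mem hx (mul_mem hv hc)))
        (mul_mem hy (inv_mem hv)) (hL.symm.trans (heq.trans hR))
      rwa [inv_mul_cancel_left] at h4
    have hsurj : ∀ z ∈ A, ∃ y ∈ A, δ (β y) = z := by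
      intro z hz
      obtain ⟨c, hc, he⟩ := rcc_surj h2 hd hd1 (hDC.symm ▸ hz)
      obtain ⟨y, hy, he'⟩ := tri_shear_surj h1 hb hb1 hc
      exact ⟨y, hy, by show δ (β y) = z; rw [show β y = c from he']; exact he⟩
    refine rcc_not_commute_pair hS h1 fun a ha y hy => ?_
    obtain ⟨u, hu, hue⟩ := hsurj a ha
    obtain ⟨z, hz, hze⟩ := hsurj u hu
    refine rcc_central h1 ?_ ((le_sup_right : B ≤ A ⊔ B) hy)
    rw [← hue, ← hze]
    exact key z hz

theorem tri_main (hS : IsRootSubgroupSet S) (hA : A ∈ S) (hB : B ∈ S)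
    (hC : ⁅A, B⁆ ∈ S) (hD : D ∈ S) (hDC : ⁅D, ⁅A, B⁆⁆ = A) :
    IsRankOnePair B D ∧
    {E | ∃ x ∈ B ⊔ D, E = conjBy A x} = {E | ∃ x ∈ B ⊔ D, E = conjBy ⁅A, B⁆ x} ∧
    {E | ∃ x ∈ B ⊔ D, E = conjBy A x} =
      (fun b : G => conjBy A b) '' (B : Set G) ∪ {⁅A, B⁆} ∧
    {E | ∃ x ∈ B ⊔ D, E = conjBy A x} =
      (fun d : G => conjBy ⁅A, B⁆ d) '' (D : Set G) ∪ {A} ∧
    IsSubgroupPartition (A ⊔ ⁅A, B⁆) {E | ∃ x ∈ B ⊔ D, E = conjBy A x} ∧
    ∀ x ∈ (B ⊔ D) ⊓ Subgroup.centralizer ((A ⊔ ⁅A, B⁆ : Subgroup G) : Set G),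
      ∀ y ∈ B ⊔ D, x * y = y * x := by
  have h1 := rcc_of_mem hS hA hB hC
  have h2 := rcc_of_mem hS hD hC (hDC.symm ▸ hA)
  have hr := tri_rankOne hS hA hB hD h1 h2 hDC
  set N := A ⊔ ⁅A, B⁆ with hN
  -- invariance of `N`
  have hDfix : ∀ {d : G}, d ∈ D → conjBy N d = N := by
    intro d hd
    have := tri_conj_line (A := ⁅A, B⁆) (B := D) (rcc_symm h2) hd
    rwa [Subgroup.commutator_comm ⁅A, B⁆ D, hDC, sup_comm] at this
  have hX : ∀ x ∈ B ⊔ D, conjBy N x = N := fun x hx => conjBy_eq_self_iff.2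
    ((sup_le (fun b hb => conjBy_eq_self_iff.1 (tri_conj_line h1 hb))
      (fun d hd => conjBy_eq_self_iff.1 (hDfix hd)) : B ⊔ D ≤ _) hx)
  -- the fixed points
  have hBC : ∀ b ∈ B, ∀ c ∈ ⁅A, B⁆, b * c = c * b := fun b hb c hc =>
    (rcc_central h1 hc ((le_sup_right : B ≤ A ⊔ B) hb)).symm
  have hDA : ∀ d ∈ D, ∀ a ∈ A, d * a = a * d := fun d hd a ha =>
    (rcc_central h2 (hDC.symm ▸ ha) ((le_sup_left : D ≤ D ⊔ ⁅A, B⁆) hd)).symm
  have fixB : fixIn N B = ⁅A, B⁆ := by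
    refine le_antisymm (fun x hx => ?_) fun c hc => mem_fixIn.2
      ⟨(le_sup_right : ⁅A, B⁆ ≤ N) hc, fun b hb => hBC b hb c hc⟩
    obtain ⟨hxN, hxB⟩ := mem_fixIn.1 hx
    obtain ⟨a, ha, c, hc, rfl⟩ := mem_sup_of_comm (rcc_comm_left h1) hxN
    obtain ⟨b, hb, hb1⟩ := rs_exists_ne_one hS hB
    have hab : b * a = a * b := by
      have h0 := hxB b hb
      rw [← mul_assoc, mul_assoc a c b, ← hBC b hb c hc, ← mul_assoc] at h0
      exact mul_right_cancel h0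
    rw [rcc_inj hS hB ⟨D, hD, hr⟩ (rcc_symm h1) hb hb1 ha hab, one_mul]
    exact hc
  have fixD : fixIn N D = A := by
    refine le_antisymm (fun x hx => ?_) fun a ha => mem_fixIn.2
      ⟨(le_sup_left : A ≤ N) ha, fun d hd => hDA d hd a ha⟩
    obtain ⟨hxN, hxD⟩ := mem_fixIn.1 hx
    obtain ⟨a, ha, c, hc, rfl⟩ := mem_sup_of_comm (rcc_comm_left h1) hxN
    obtain ⟨d, hd, hd1⟩ := rs_exists_ne_one hS hD
    have hdc : d * c = c * d := by
      have h0 := hxD d hd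
      rw [← mul_assoc, hDA d hd a ha, mul_assoc, mul_assoc] at h0
      exact mul_left_cancel h0
    rw [rcc_inj hS hD ⟨B, hB, rop_symm hr⟩ h2 hd hd1 hc hdc, mul_one]
    exact ha
  have hmap : ∀ (U : Subgroup G), ∀ x ∈ B ⊔ D,
      fixIn N (conjBy U x) = conjBy (fixIn N U) x := fun U x hx => fixIn_conjBy (hX x hx)
  -- orbits as images of the unipotent subgroups
  have eA : {E | ∃ x ∈ B ⊔ D, E = conjBy A x} = fixIn N '' unipotentSubgroups D B := by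
    ext E
    constructor
    · rintro ⟨x, hx, rfl⟩
      exact ⟨conjBy D x, ⟨x, by rwa [sup_comm], rfl⟩, by rw [hmap D x hx, fixD]⟩
    · rintro ⟨_, ⟨x, hx, rfl⟩, rfl⟩
      rw [sup_comm] at hx
      exact ⟨x, hx, by rw [hmap D x hx, fixD]⟩
  have eC : {E | ∃ x ∈ B ⊔ D, E = conjBy ⁅A, B⁆ x} = fixIn N '' unipotentSubgroups B D := by
    ext E
    constructor
    · rintro ⟨x, hx, rfl⟩
      exact ⟨conjBy B x, ⟨x, hx, rfl⟩, by rw [hmap B x hx, fixB]⟩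
    · rintro ⟨_, ⟨x, hx, rfl⟩, rfl⟩
      exact ⟨x, hx, by rw [hmap B x hx, fixB]⟩
  have eAC : {E | ∃ x ∈ B ⊔ D, E = conjBy A x} = {E | ∃ x ∈ B ⊔ D, E = conjBy ⁅A, B⁆ x} := by
    rw [eA, eC, rop_unipotent_symm hr]
  have e1 : {E | ∃ x ∈ B ⊔ D, E = conjBy A x} =
      (fun b : G => conjBy A b) '' (B : Set G) ∪ {⁅A, B⁆} := by
    rw [eA, ← rop_unipotent_symm hr]
    ext E
    constructor
    · rintro ⟨U, hU, rfl⟩
      rcases (rop_mem_unipotent_iff hr).1 hU with rfl | ⟨b, hb, rfl⟩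
      · exact Or.inr fixB
      · exact Or.inl ⟨b, hb, by rw [hmap D b ((le_sup_left : B ≤ B ⊔ D) hb), fixD]⟩
    · rintro (⟨b, hb, rfl⟩ | rfl)
      · exact ⟨conjBy D b, (rop_mem_unipotent_iff hr).2 (Or.inr ⟨b, hb, rfl⟩),
          by rw [hmap D b ((le_sup_left : B ≤ B ⊔ D) hb), fixD]⟩
      · exact ⟨B, left_mem_unipotent B D, fixB⟩
  have e2 : {E | ∃ x ∈ B ⊔ D, E = conjBy A x} =
      (fun d : G => conjBy ⁅A, B⁆ d) '' (D : Set G) ∪ {A} := by
    rw [eA]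
    ext E
    constructor
    · rintro ⟨U, hU, rfl⟩
      rcases (rop_mem_unipotent_iff (rop_symm hr)).1 hU with rfl | ⟨d, hd, rfl⟩
      · exact Or.inr fixD
      · exact Or.inl ⟨d, hd, by rw [hmap B d ((le_sup_right : D ≤ B ⊔ D) hd), fixB]⟩
    · rintro (⟨d, hd, rfl⟩ | rfl)
      · exact ⟨conjBy B d, (rop_mem_unipotent_iff (rop_symm hr)).2 (Or.inr ⟨d, hd, rfl⟩),
          by rw [hmap B d ((le_sup_right : D ≤ B ⊔ D) hd), fixB]⟩
      · exact ⟨D, left_mem_unipotent D B, fixD⟩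
  -- different unipotent subgroups have disjoint fixed points
  have hdisj : ∀ U ∈ unipotentSubgroups B D, ∀ V ∈ unipotentSubgroups B D, U ≠ V →
      fixIn N U ⊓ fixIn N V = ⊥ := by
    intro U hU V hV hne
    rw [eq_bot_iff]
    rintro x ⟨hxU, hxV⟩
    obtain ⟨hxN, hxU⟩ := mem_fixIn.1 hxU
    have hc := commute_sup (g := x) (fun u hu => (hxU u hu).symm)
      (fun v hv => ((mem_fixIn.1 hxV).2 v hv).symm)
    rw [(rop_of_mem_mem hr hU hV hne).2] at hc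
    have hxB : x ∈ fixIn N B := mem_fixIn.2
      ⟨hxN, fun b hb => (hc b ((le_sup_left : B ≤ B ⊔ D) hb)).symm⟩
    have hxD : x ∈ fixIn N D := mem_fixIn.2
      ⟨hxN, fun d hd => (hc d ((le_sup_right : D ≤ B ⊔ D) hd)).symm⟩
    rw [fixB] at hxB
    rw [fixD] at hxD
    obtain ⟨b, hb, hb1⟩ := rs_exists_ne_one hS hB
    exact Subgroup.mem_bot.2
      (rcc_inj hS hB ⟨D, hD, hr⟩ (rcc_symm h1) hb hb1 hxD (hBC b hb x hxB))
  refine ⟨hr, eAC, e1, e2, ⟨?_, ?_, ?_⟩, ?_⟩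
  · rintro _ ⟨x, hx, rfl⟩
    calc conjBy A x ≤ conjBy N x := conjBy_le_iff.2 le_sup_left
      _ = N := hX x hx
  · intro x hx _
    rw [e1]
    obtain ⟨a, ha, c, hc, rfl⟩ := mem_sup_of_comm (rcc_comm_left h1) hx
    by_cases ha1 : a = 1
    · exact ⟨_, Or.inr rfl, by rw [ha1, one_mul]; exact hc⟩
    · obtain ⟨b, hb, hmem⟩ := rcc_mul_mem h1 ha ha1 hc
      exact ⟨_, Or.inl ⟨b, hb, rfl⟩, hmem⟩
  · rw [eA, ← rop_unipotent_symm hr]
    rintro _ ⟨U, hU, rfl⟩ _ ⟨V, hV, rfl⟩ hne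
    exact hdisj U hU V hV fun e => hne (by rw [e])
  · have hfixU : ∀ x ∈ (B ⊔ D) ⊓ Subgroup.centralizer (N : Set G),
        conjBy B x = B ∧ conjBy D x = D := by
      rintro x ⟨hx, hxc⟩
      have hid : ∀ E : Subgroup G, E ≤ N → conjBy E x = E := fun E hE =>
        conjBy_of_commute fun e he => (Subgroup.mem_centralizer_iff.1 hxc e (hE he)).symm
      have key : ∀ {U : Subgroup G}, U ∈ unipotentSubgroups B D → fixIn N U ≠ ⊥ →
          conjBy U x = U := by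
        intro U hU hne
        by_contra h
        have h0 := hdisj _ (conjBy_mem_unipotent hU hx) U hU h
        rw [hmap U x hx, hid (fixIn N U) inf_le_left, inf_idem] at h0
        exact hne h0
      exact ⟨key (left_mem_unipotent B D) (by rw [fixB]; exact hS.ne_bot _ hC),
        key (rop_right_mem_unipotent hr) (by rw [fixD]; exact hS.ne_bot _ hA)⟩
    intro x hx y hy
    obtain ⟨hx1, hx2⟩ := Subgroup.mem_inf.1 hx
    have hnorm : ∀ g ∈ B ⊔ D, x * g * x⁻¹ * g⁻¹ ∈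
        (B ⊔ D) ⊓ Subgroup.centralizer (N : Set G) := by
      intro g hg
      refine Subgroup.mem_inf.2 ⟨mul_mem (mul_mem (mul_mem hx1 hg) (inv_mem hx1)) (inv_mem hg), ?_⟩
      rw [mul_assoc x g x⁻¹, mul_assoc x]
      refine mul_mem hx2 (Subgroup.mem_centralizer_iff.2 fun n hn => ?_)
      have hn' : g⁻¹ * n * g ∈ N := by
        rw [← mem_conjBy, hX g hg]; exact hn
      have h0 := Subgroup.mem_centralizer_iff.1 (inv_mem hx2) _ hn'
      have h3 := congrArg (fun t => g * t * g⁻¹) h0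
      simpa [mul_assoc] using h3
    exact rop_kernel_commutes hr (hfixU x hx).1 (hfixU x hx).2
      (fun b hb => (hfixU _ (hnorm b ((le_sup_left : B ≤ B ⊔ D) hb))).2)
      (fun d hd => (hfixU _ (hnorm d ((le_sup_right : D ≤ B ⊔ D) hd))).1) y hy

end CfsgLib.ThreeTransp
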