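import Cfsg.Agent.Lib.ThreeTransp.RootLines
import Cfsg.Agent.Lib.ThreeTransp.RootTriangle

/-!
Non-degenerate classes of root subgroups: generation, connectivity, weak TI-subsets; lines.
-/

set_option autoImplicit false

namespace CfsgLib.ThreeTransp

open Cfsg
open scoped commutatorElement

variable {G : Type*} [Group G] {S : Set (Subgroup G)}

/-- A commutator case can be turned back along its line. -/
theorem rcc_back (hS : IsRootSubgroupSet S) (hpart : ∀ X ∈ S, ∃ D ∈ S, IsRankOnePair X D)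
    {P Q : Subgroup G} (hP : P ∈ S) (h : RootCommutatorCase S P Q) :
    ∃ W ∈ S, ⁅⁅P, Q⁆, W⁆ = P := by
  obtain ⟨D₀, hD₀, hr⟩ := hpart _ h.1
  obtain ⟨P', hP', hP'B, heq, hsup, -⟩ := line_structure hS hpart h.1 hD₀ hr (rcc_line hS hP (hpart P hP) h)
  have hmem : P' ∈ membersIn S (P ⊔ ⁅P, Q⁆) := ⟨hP'.1.1, by rw [sup_comm, hsup]; exact le_sup_right⟩
  rw [rcc_membersIn hS hP (hpart P hP) h] at hmem
  rcases hmem with ⟨q, hq, hqe⟩ | hqe
  · refine ⟨conjBy ⁅P', D₀⁆ q⁻¹, hS.conj_mem _ hP'B.1 _, ?_⟩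
    have hfix : conjBy ⁅P, Q⁆ q⁻¹ = ⁅P, Q⁆ := conjBy_of_commute fun x hx =>
      (rcc_central h hx ((le_sup_right : Q ≤ P ⊔ Q) (inv_mem hq))).symm
    calc ⁅⁅P, Q⁆, conjBy ⁅P', D₀⁆ q⁻¹⁆ = conjBy ⁅⁅P, Q⁆, ⁅P', D₀⁆⁆ q⁻¹ := by
          conv_lhs => rw [← hfix]
          rw [conjBy_commutator _ ⁅P', D₀⁆]
      _ = P := by
          rw [heq, ← hqe]
          exact conjBy_inv_conjBy P q
  · exact absurd hqe hP'.1.2.1

theorem rcc_back_line (hS : IsRootSubgroupSet S) (hpart : ∀ X ∈ S, ∃ D ∈ S, IsRankOnePair X D)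
    {D P W : Subgroup G} (hD : D ∈ S) (hP : P ∈ S) (hW : W ∈ S) (h : ⁅D, W⁆ = P) :
    W ∈ linePartners S P := by
  have hc := rcc_of_mem hS hD hW (h.symm ▸ hP)
  have h1 := rcc_line hS hW (hpart W hW) (rcc_symm hc)
  rwa [Subgroup.commutator_comm W D, h] at h1

/-- The two elements rotating a line through `A`. -/
theorem line_rotation (hS : IsRootSubgroupSet S) (hpart : ∀ X ∈ S, ∃ D ∈ S, IsRankOnePair X D)
    {A B P : Subgroup G} (hA : A ∈ S) (hB : B ∈ S) (hr : IsRankOnePair A B)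
    (hP : P ∈ linePartners S A) :
    ∃ C W, C ∈ linePartners S A ∧ W ∈ linePartners S A ∧ RootCommutatorCase S C B ∧
      ⁅A, ⁅C, B⁆⁆ = C ∧ ⁅C, W⁆ = A ∧ A ⊔ P = A ⊔ C ∧
      membersIn S (A ⊔ P) = (fun m : G => conjBy A m) '' ((⁅C, B⁆ : Subgroup G) : Set G) ∪ {C} ∧
      ∃ x ∈ W ⊔ ⁅C, B⁆, C = conjBy A x := by
  obtain ⟨C, hC, hCB, heq, hsup, hmem⟩ := line_structure hS hpart hA hB hr hP
  have h2 : RootCommutatorCase S A ⁅C, B⁆ := rcc_of_mem hS hA hCB.1 (heq.symm ▸ hC.1.1)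
  obtain ⟨W, hW, hWe⟩ := rcc_back hS hpart hA h2
  rw [heq] at hWe
  refine ⟨C, W, hC, rcc_back_line hS hpart hC.1.1 hA hW hWe, hCB, heq, hWe, hsup, hmem, ?_⟩
  obtain ⟨-, horb, -⟩ := tri_main hS hC.1.1 hW (hWe.symm ▸ hA) hCB.1
    (by rw [hWe, Subgroup.commutator_comm]; exact heq)
  rw [hWe] at horb
  have h0 : C ∈ {E | ∃ x ∈ W ⊔ ⁅C, B⁆, E = conjBy C x} := ⟨1, one_mem _, (conjBy_one C).symm⟩
  rw [horb] at h0
  exact h0

/-- The members normalizing a line act doubly transitively on its members. -/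
theorem line_two_transitive (hS : IsRootSubgroupSet S) (hpart : ∀ X ∈ S, ∃ D ∈ S, IsRankOnePair X D)
    {A P : Subgroup G} (hA : A ∈ S) (hP : P ∈ linePartners S A) :
    ∀ C₁ ∈ membersIn S (A ⊔ P), ∀ C₂ ∈ membersIn S (A ⊔ P), ∀ D₁ ∈ membersIn S (A ⊔ P),
      ∀ D₂ ∈ membersIn S (A ⊔ P), C₁ ≠ C₂ → D₁ ≠ D₂ →
        ∃ x ∈ ⨆ E ∈ normalizingMembers S (A ⊔ P), E, conjBy C₁ x = D₁ ∧ conjBy C₂ x = D₂ := by
  obtain ⟨B, hB, hr⟩ := hpart A hA
  obtain ⟨C, W, hC, hW, hCB, heq, hWe, hsup, hmem, x₀, hx₀, hCx⟩ := line_rotation hS hpart hA hB hr hP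
  set M := ⁅C, B⁆ with hM
  set N := A ⊔ P with hN
  set R := ⨆ E ∈ normalizingMembers S N, E with hR
  have h2 : RootCommutatorCase S A M := rcc_of_mem hS hA hCB.1 (heq.symm ▸ hC.1.1)
  have h3 : RootCommutatorCase S C W := rcc_of_mem hS hC.1.1 hW.1.1 (hWe.symm ▸ hA)
  have hnorm : ∀ {U V : Subgroup G}, U ∈ S → V ∈ S → RootCommutatorCase S U V → U ⊔ ⁅U, V⁆ = N → V ≤ R := by
    intro U V hU hV hc he
    refine le_iSup₂_of_le V ⟨hV, fun v hv => conjBy_eq_self_iff.1 ?_⟩ le_rfl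
    have hstep : ∀ v ∈ V, conjBy N v ≤ N := by
      intro v hv
      rw [← he, conjBy_sup, conjBy_of_commute (A := ⁅U, V⁆) fun y hy =>
        (rcc_central hc hy ((le_sup_right : V ≤ U ⊔ V) hv)).symm]
      exact sup_le (rcc_conjBy_le hv) le_sup_right
    refine le_antisymm (hstep v hv) ?_
    conv_lhs => rw [← conjBy_conjBy_inv N v]
    exact conjBy_le_iff.2 (hstep _ (inv_mem hv))
  have hMR : M ≤ R := hnorm hA hCB.1 h2 (by rw [heq, hsup])
  have hWR : W ≤ R := hnorm hC.1.1 hW.1.1 h3 (by rw [hWe, sup_comm, hsup])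
  have hRN : ∀ x ∈ R, ∀ D ∈ membersIn S N, conjBy D x ∈ membersIn S N := by
    intro x hx D hD
    have hle : R ≤ Subgroup.normalizer (N : Set G) := iSup₂_le fun E hE => hE.2
    have := membersIn_conj hS x hD
    rwa [conjBy_eq_self_iff.2 (hle hx)] at this
  -- to the standard pair
  have hstd : ∀ C₁ ∈ membersIn S N, ∀ C₂ ∈ membersIn S N, C₁ ≠ C₂ →
      ∃ x ∈ R, conjBy C₁ x = C ∧ conjBy C₂ x = A := by
    intro C₁ h₁ C₂ h₂ hne
    obtain ⟨g, hg, hgC⟩ : ∃ g ∈ R, conjBy C₁ g = C := by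
      have h1 := h₁
      rw [hmem] at h1
      rcases h1 with ⟨m, hm, rfl⟩ | rfl
      · refine ⟨x₀ * m⁻¹, mul_mem ((sup_le hWR hMR) hx₀) (inv_mem (hMR hm)), ?_⟩
        rw [conjBy_mul, conjBy_inv_conjBy, ← hCx]
      · exact ⟨1, one_mem _, conjBy_one _⟩
    have h4 := hRN g hg C₂ h₂
    rw [hmem] at h4
    rcases h4 with ⟨m, hm, hme⟩ | hme
    · refine ⟨m⁻¹ * g, mul_mem (inv_mem (hMR hm)) hg, ?_, ?_⟩
      · rw [conjBy_mul, hgC]
        exact conjBy_of_commute fun y hy => (rcc_central h2 (heq.symm ▸ hy)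
          ((le_sup_right : M ≤ A ⊔ M) (inv_mem hm))).symm
      · rw [conjBy_mul, ← hme, conjBy_inv_conjBy]
    · exact absurd (conjBy_inj ((hgC.trans (Set.mem_singleton_iff.1 hme).symm))) hne
  intro C₁ h₁ C₂ h₂ D₁ h₃ D₂ h₄ hC12 hD12
  obtain ⟨x, hx, e1, e2⟩ := hstd C₁ h₁ C₂ h₂ hC12
  obtain ⟨y, hy, e3, e4⟩ := hstd D₁ h₃ D₂ h₄ hD12
  refine ⟨y⁻¹ * x, mul_mem (inv_mem hy) hx, ?_, ?_⟩
  · rw [conjBy_mul, e1, ← e3, conjBy_inv_conjBy]
  · rw [conjBy_mul, e2, ← e4, conjBy_inv_conjBy]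

theorem class_line_graph_connected (hS : IsRootSubgroupSet S) (hcl : IsConjClassOfSubgroups S)
    (hcc : ∃ U ∈ S, ∃ V ∈ S, RootCommutatorCase S U V)
    (hex : ∃ A ∈ S, ∃ B ∈ S, IsRankOnePair A B) : IsConnectedFamily (EAdj S S) S := by
  have hpart := class_has_partners hS hcl hex
  have hpath : ∀ A ∈ S, ∀ B ∈ S, IsRankOnePair A B → Relation.ReflTransGen (EAdj S S) A B := by
    intro A hA B hB hr
    obtain ⟨C, hC, hCB⟩ := class_line_rcc hS hcl hcc hA hB hr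
    have h1 := rcc_line hS hC.1.1 (hpart C hC.1.1) hCB
    have h2 := rcc_line hS hB (hpart B hB) (rcc_symm hCB)
    rw [Subgroup.commutator_comm B C] at h2
    have e1 : EAdj S S A C := ⟨hA, hC.1.1, hC⟩
    have e2 : EAdj S S C ⁅C, B⁆ := ⟨hC.1.1, hCB.1, line_symm hCB.1 h1⟩
    have e3 : EAdj S S ⁅C, B⁆ B := ⟨hCB.1, hB, h2⟩
    exact ((Relation.ReflTransGen.single e1).tail e2).tail e3
  have hstep : ∀ E ∈ S, ∀ e ∈ E, ∀ A ∈ S, Relation.ReflTransGen (EAdj S S) A (conjBy A e) := by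
    intro E hE e he A hA
    rcases hS.pair A hA E hE with hc | hr | h
    · rw [conjBy_of_commute fun a ha => (comm_of_bot hc ha he).symm]
    · refine (hpath A hA E hE hr).trans (hpath E hE _ (hS.conj_mem A hA e) ?_)
      have := rop_conjBy hr e
      rw [conjBy_of_mem he] at this
      exact rop_symm this
    · by_cases he1 : e = 1
      · rw [he1, conjBy_one]
      · exact .single ⟨hA, hS.conj_mem A hA e, rcc_conj_line hS hA (hpart A hA) h he he1⟩
  have hall : ∀ g : G, ∀ A ∈ S, Relation.ReflTransGen (EAdj S S) A (conjBy A g) := by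
    intro g
    have hg : g ∈ Subgroup.closure (⋃ E ∈ S, (E : Set G)) := by
      have h0 : g ∈ (⨆ E ∈ S, E) := by rw [hS.generates]; trivial
      simpa [Subgroup.closure_iUnion] using h0
    refine Subgroup.closure_induction'' ?_ ?_ ?_ ?_ hg
    · intro x hx A hA
      simp only [Set.mem_iUnion] at hx
      obtain ⟨E, hE, hxE⟩ := hx
      exact hstep E hE x hxE A hA
    · intro x hx A hA
      simp only [Set.mem_iUnion] at hx
      obtain ⟨E, hE, hxE⟩ := hx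
      exact hstep E hE x⁻¹ (inv_mem (show x ∈ E from hxE)) A hA
    · intro A _; rw [conjBy_one]
    · intro x y _ _ hx hy A hA
      rw [conjBy_mul]
      exact (hy A hA).trans (hx _ (hS.conj_mem A hA y))
  intro A hA B hB
  obtain ⟨g, rfl⟩ := hcl.2 A hA B hB
  exact hall g A hA

theorem class_generated (hS : IsRootSubgroupSet S) (hcl : IsConjClassOfSubgroups S)
    (hcc : ∃ U ∈ S, ∃ V ∈ S, RootCommutatorCase S U V) {A B : Subgroup G} (hA : A ∈ S) (hB : B ∈ S)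
    (hr : IsRankOnePair A B) : (⨆ C ∈ linePartners S A, C) ⊔ B = ⊤ := by
  set R := (⨆ C ∈ linePartners S A, C) ⊔ B with hR
  have hpart := class_has_partners hS hcl ⟨A, hA, B, hB, hr⟩
  have hL : ∀ C ∈ linePartners S A, C ≤ R := fun C hC => le_sup_of_le_left (le_iSup₂_of_le C hC le_rfl)
  have hBR : B ≤ R := le_sup_right
  have hAR : A ≤ R := by
    obtain ⟨C₀, hC₀, -⟩ := class_line_rcc hS hcl hcc hA hB hr
    obtain ⟨C, W, hC, hW, -, -, hWe, -⟩ := line_rotation hS hpart hA hB hr hC₀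
    rw [← hWe, Subgroup.commutator_le]
    intro u hu v hv
    have h1 := hL C hC hu
    have h2 := hL W hW hv
    exact mul_mem (mul_mem (mul_mem h1 h2) (inv_mem h1)) (inv_mem h2)
  have hT : ∀ D, Relation.ReflTransGen (EAdj S S) A D → ∃ x ∈ R, D = conjBy A x := by
    intro D hD
    induction hD with
    | refl => exact ⟨1, one_mem _, (conjBy_one A).symm⟩
    | tail _ hstep ih =>
      rename_i D E _
      obtain ⟨x, hx, rfl⟩ := ih
      have hE := line_conj hS x⁻¹ hstep.2.2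
      rw [conjBy_inv_conjBy] at hE
      obtain ⟨C, W, hC, hW, hCB, heq, hWe, hsup, hmem, y, hy, hCy⟩ := line_rotation hS hpart hA hB hr hE
      have hMR : ⁅C, B⁆ ≤ R := by
        rw [Subgroup.commutator_le]
        intro u hu v hv
        have h1 := hL C hC hu
        exact mul_mem (mul_mem (mul_mem h1 (hBR hv)) (inv_mem h1)) (inv_mem (hBR hv))
      have hmE : conjBy E x⁻¹ ∈ membersIn S (A ⊔ conjBy E x⁻¹) := ⟨hE.1.1, le_sup_right⟩
      rw [hmem] at hmE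
      rcases hmE with ⟨m, hm, hme⟩ | hme
      · refine ⟨x * m, mul_mem hx (hMR hm), ?_⟩
        rw [conjBy_mul]
        exact (by rw [show conjBy A m = conjBy E x⁻¹ from hme, conjBy_conjBy_inv])
      · refine ⟨x * y, mul_mem hx ((sup_le (hL W hW) hMR) hy), ?_⟩
        rw [conjBy_mul, ← hCy, ← Set.mem_singleton_iff.1 hme, conjBy_conjBy_inv]
  refine top_le_iff.1 (hS.generates ▸ iSup₂_le fun D hD => ?_)
  obtain ⟨x, hx, rfl⟩ := hT D (class_line_graph_connected hS hcl hcc ⟨A, hA, B, hB, hr⟩ A hA D hD)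
  rintro _ ⟨a, ha, rfl⟩
  exact mul_mem (mul_mem hx (hAR ha)) (inv_mem hx)

theorem class_weakTI_abelian (hS : IsRootSubgroupSet S) (hcl : IsConjClassOfSubgroups S)
    (hcc : ∃ U ∈ S, ∃ V ∈ S, RootCommutatorCase S U V)
    (hex : ∃ A ∈ S, ∃ B ∈ S, IsRankOnePair A B) {Δ : Set (Subgroup G)} (hΔ : IsWeakTISubset S Δ) :
    IsAbelianFamily Δ := by
  have hpart := class_has_partners hS hcl hex
  obtain ⟨hsub, -, hne, hTI⟩ := hΔ
  -- root elements fixing a member of `Δ`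
  let Kset : Set G := {d | d ∈ rootElements S ∧ ∃ P ∈ Δ, conjBy P d = P}
  have hK : ∀ g ∈ Subgroup.closure Kset, ∀ C, C ∈ Δ ↔ conjBy C g ∈ Δ := by
    intro g hg
    induction hg using Subgroup.closure_induction with
    | mem d hd =>
      obtain ⟨hd, P, hP, hPd⟩ := hd
      have himg : (fun A => conjBy A d) '' Δ = Δ := by
        rcases hTI d hd with h | h
        · exact h
        · exact absurd ⟨P, hP, hPd⟩ fun hP' => Set.disjoint_left.1 h hP' hP
      intro C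
      constructor
      · intro hC; rw [← himg]; exact ⟨C, hC, rfl⟩
      · intro hC; rw [← himg] at hC
        obtain ⟨C', hC', he⟩ := hC
        exact conjBy_inj he ▸ hC'
    | one => intro C; rw [conjBy_one]
    | mul u v _ _ hu hv => intro C; rw [conjBy_mul, ← hu, ← hv]
    | inv u _ hu => intro C; rw [hu (conjBy C u⁻¹), conjBy_conjBy_inv]
  have hfix : ∀ {P X : Subgroup G}, P ∈ Δ → X ∈ S → (∀ x ∈ X, conjBy P x = P) → X ≤ Subgroup.closure Kset := by
    intro P X hP hX hPX x hx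
    by_cases hx1 : x = 1
    · rw [hx1]; exact one_mem _
    · exact Subgroup.subset_closure ⟨⟨hx1, X, hX, hx⟩, P, hP, hPX x hx⟩
  have hcom : ∀ {P X : Subgroup G}, P ∈ Δ → X ∈ S → ⁅P, X⁆ = ⊥ → X ≤ Subgroup.closure Kset := fun hP hX hc =>
    hfix hP hX fun x hx => conjBy_of_commute fun p hp => (comm_of_bot hc hp hx).symm
  have hno : ∀ {P W : Subgroup G}, P ∈ Δ → W ∈ S → IsRankOnePair P W → ¬ W ≤ Subgroup.closure Kset := by
    intro P W hP hW hr hle
    have htop : Subgroup.closure Kset = ⊤ := by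
      refine top_le_iff.1 ((class_generated hS hcl hcc (hsub hP) hW hr).symm.le.trans (sup_le ?_ hle))
      exact iSup₂_le fun C hC => hcom hP hC.1.1 hC.1.2.2
    refine hne (Set.Subset.antisymm hsub fun C hC => ?_)
    obtain ⟨g, rfl⟩ := hcl.2 P (hsub hP) C hC
    exact (hK g (htop.symm ▸ Subgroup.mem_top g) P).1 hP
  intro P hP Q hQ
  rcases hS.pair P (hsub hP) Q (hsub hQ) with hc | hr | h
  · exact fun a ha b hb => comm_of_bot hc ha hb
  · exact absurd (hfix hQ (hsub hQ) fun x hx => conjBy_of_mem hx) (hno hP (hsub hQ) hr)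
  · exfalso
    obtain ⟨W, hW, hWe⟩ := rcc_back hS hpart (hsub hP) h
    have h2 : RootCommutatorCase S ⁅P, Q⁆ W := rcc_of_mem hS h.1 hW (hWe.symm ▸ hsub hP)
    have hr : IsRankOnePair Q W := tri_rankOne hS (hsub hP) (hsub hQ) hW h (rcc_symm h2)
      ((Subgroup.commutator_comm W ⁅P, Q⁆).trans hWe)
    refine hno hQ hW hr (hcom hP hW ?_)
    exact (rcc_back_line hS hpart h.1 (hsub hP) hW hWe).1.2.2

end CfsgLib.ThreeTransp
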