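import Cfsg.Agent.Lib.ThreeTransp.RankOneGroup

/-!
Special rank one pairs with abelian unipotent subgroups: the braid element, the identity of Hua type,
roots, and the action of the diagonal subgroup.
-/

set_option autoImplicit false

namespace CfsgLib.ThreeTransp

open Cfsg
open scoped commutatorElement

variable {G : Type*} [Group G] {A B : Subgroup G}

/-- `a` and `c` are opposite: `c A c⁻¹ = a⁻¹ B a`. -/
def Opp (A B : Subgroup G) (a c : G) : Prop :=
  a ∈ A ∧ a ≠ 1 ∧ c ∈ B ∧ c ≠ 1 ∧ conjBy A c = conjBy B a⁻¹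

theorem opp_exists_left (h : IsRankOnePair A B) {a : G} (ha : a ∈ A) (ha1 : a ≠ 1) :
    ∃ c, Opp A B a c := by
  obtain ⟨b, hb, hb1, he⟩ := h.cond_left a ha ha1
  exact ⟨b⁻¹, ha, ha1, inv_mem hb, inv_ne_one.2 hb1, he⟩

theorem opp_exists_right (h : IsRankOnePair A B) {c : G} (hc : c ∈ B) (hc1 : c ≠ 1) :
    ∃ a, Opp A B a c := by
  obtain ⟨a, ha, ha1, he⟩ := h.cond_right c⁻¹ (inv_mem hc) (inv_ne_one.2 hc1)
  exact ⟨a, ha, ha1, hc, hc1, by rw [he, inv_inv]⟩

theorem opp_unique_right (h : IsRankOnePair A B) {a c d : G} (h1 : Opp A B a c) (h2 : Opp A B a d) :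
    c = d := by
  have h3 := rop_eq_one_of_normalizes (rop_symm h) (mul_mem (inv_mem h2.2.2.1) h1.2.2.1)
    (by rw [conjBy_mul, h1.2.2.2.2, ← h2.2.2.2.2, conjBy_inv_conjBy])
  exact (inv_mul_eq_one.1 h3).symm

theorem opp_unique_left (h : IsRankOnePair A B) {a a' c : G} (h1 : Opp A B a c) (h2 : Opp A B a' c) :
    a = a' := by
  have h3 := rop_eq_one_of_normalizes h (mul_mem h1.1 (inv_mem h2.1))
    (by rw [conjBy_mul, ← h2.2.2.2.2, h1.2.2.2.2, conjBy_conjBy_inv])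
  exact mul_inv_eq_one.1 h3

theorem opp_braid (hs : IsSpecialRankOnePair A B) {a c : G} (h : Opp A B a c) :
    a * c * a = c * a * c := by
  have h1 := hs.2 a h.1 h.2.1 c⁻¹ (inv_mem h.2.2.1) (inv_ne_one.2 h.2.2.2.1)
    (by rw [inv_inv]; exact h.2.2.2.2)
  rw [inv_inv] at h1
  calc a * c * a = a * (c * a * c⁻¹) * c := by simp [mul_assoc]
    _ = a * (a⁻¹ * c * a) * c := by rw [h1]
    _ = c * a * c := by simp [mul_assoc]

theorem opp_conj_left (hs : IsSpecialRankOnePair A B) {a c : G} (h : Opp A B a c) :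
    (a * c * a) * a * (a * c * a)⁻¹ = c := by
  rw [mul_inv_eq_iff_eq_mul]
  calc a * c * a * a = c * a * c * a := by rw [opp_braid hs h]
    _ = c * (a * c * a) := by simp [mul_assoc]

theorem opp_conj_right (hs : IsSpecialRankOnePair A B) {a c : G} (h : Opp A B a c) :
    (a * c * a) * c * (a * c * a)⁻¹ = a := by
  rw [mul_inv_eq_iff_eq_mul]
  calc a * c * a * c = a * (c * a * c) := by simp [mul_assoc]
    _ = a * (a * c * a) := by rw [opp_braid hs h]

theorem opp_swap_left (hA : IsMulCommutative A) {a c : G} (h : Opp A B a c) :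
    conjBy A (a * c * a) = B := by
  rw [conjBy_mul, conjBy_of_mem h.1, conjBy_mul, h.2.2.2.2, conjBy_conjBy_inv]

theorem opp_swap_right (hs : IsSpecialRankOnePair A B) {a c : G} (h : Opp A B a c) :
    conjBy B (a * c * a) = A := by
  have hn : a * c * a ∈ A ⊔ B :=
    mul_mem (mul_mem (Subgroup.mem_sup_left h.1) (Subgroup.mem_sup_right h.2.2.1))
      (Subgroup.mem_sup_left h.1)
  have hmem := conjBy_mem_unipotent (rop_right_mem_unipotent hs.1) hn
  by_contra hne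
  refine h.2.1 (rop_eq_one_of_mem_normalizes hs.1 hmem (left_mem_unipotent A B) hne
    (c := a) ?_ (conjBy_of_mem h.1))
  have := conj_mem_conjBy h.2.2.1 (a * c * a)
  rwa [opp_conj_right hs h] at this

theorem opp_inv (hs : IsSpecialRankOnePair A B) (hA : IsMulCommutative A) {a c : G}
    (h : Opp A B a c) : Opp A B a⁻¹ c⁻¹ := by
  refine ⟨inv_mem h.1, inv_ne_one.2 h.2.1, inv_mem h.2.2.1, inv_ne_one.2 h.2.2.2.1, ?_⟩
  have h2 := opp_swap_right hs h
  rw [inv_inv]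
  calc conjBy A c⁻¹ = conjBy (conjBy A a⁻¹) c⁻¹ := by rw [conjBy_of_mem (inv_mem h.1)]
    _ = conjBy (conjBy (conjBy (conjBy B (a * c * a)) a⁻¹) c⁻¹) 1 := by rw [h2, conjBy_one]
    _ = conjBy B a := by simp only [← conjBy_mul]; simp [mul_assoc]

/-- Transport by an element exchanging `A` and `B`. -/
theorem opp_transport (hs : IsSpecialRankOnePair A B) (hA : IsMulCommutative A) {g x d : G}
    (h : Opp A B x d) (hgA : conjBy A g = B) (hgB : conjBy B g = A) :
    Opp A B (g * d * g⁻¹) (g * x * g⁻¹) := by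
  refine ⟨?_, fun e => h.2.2.2.1 (by simpa using e), ?_, fun e => h.2.1 (by simpa using e), ?_⟩
  · rw [← hgB]; exact conj_mem_conjBy h.2.2.1 g
  · rw [← hgA]; exact conj_mem_conjBy h.1 g
  · have h1 : conjBy A d⁻¹ = conjBy B x := by
      have := (opp_inv hs hA h).2.2.2.2; rwa [inv_inv] at this
    have h2 := congrArg (fun C => conjBy C g) h1
    simp only [← conjBy_mul] at h2
    rw [show g * d⁻¹ = (g * d * g⁻¹)⁻¹ * g by simp [mul_assoc],
      show g * x = g * x * g⁻¹ * g by simp, conjBy_mul, hgA, conjBy_mul, hgB] at h2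
    exact h2.symm

/-- The identity of Hua type. -/
theorem opp_hua (hs : IsSpecialRankOnePair A B) (hA : IsMulCommutative A) {x y w d e : G}
    (hx : Opp A B x d) (hy : Opp A B y e) (hw : Opp A B w (d * e)) (hxy : x * y ≠ 1) :
    Opp A B (x * w⁻¹) ((x * d * x) * (x * y) * (x * d * x)⁻¹) := by
  have hn := opp_swap_left hA hx
  have hn' := opp_swap_right hs hx
  have hb := opp_braid hs hx
  have hcomm : ∀ u v : G, u ∈ A → v ∈ A → u * v = v * u := fun u v hu hv =>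
    congrArg Subtype.val (hA.is_comm.comm (⟨u, hu⟩ : A) ⟨v, hv⟩)
  have hphi : ∀ u : G, u ∈ A → (x * d * x) * u * (x * d * x)⁻¹ ∈ B := fun u hu =>
    hn ▸ conj_mem_conjBy hu _
  have h1 : conjBy B w⁻¹ = conjBy B (d * y⁻¹) := by
    rw [← hw.2.2.2.2, conjBy_mul, hy.2.2.2.2, ← conjBy_mul]
  have hd : d = x⁻¹ * d⁻¹ * (x * d * x) := by rw [hb]; simp [mul_assoc]
  have h2 : conjBy B w⁻¹ =
      conjBy A (x⁻¹ * (d⁻¹ * ((x * d * x) * y * (x * d * x)⁻¹)⁻¹)) := by
    have h0 : x⁻¹ * (d⁻¹ * ((x * d * x) * y * (x * d * x)⁻¹)⁻¹) * (x * d * x) =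
        x⁻¹ * d⁻¹ * (x * d * x) * y⁻¹ := by group
    conv_rhs => rw [← hn', ← conjBy_mul]
    rw [h1, h0, ← hd]
  have hφx : (x * d * x) * x * (x * d * x)⁻¹ = d := opp_conj_left hs hx
  have h3 : d⁻¹ * ((x * d * x) * y * (x * d * x)⁻¹)⁻¹ =
      ((x * d * x) * (x * y) * (x * d * x)⁻¹)⁻¹ := by
    rw [hcomm x y hx.1 hy.1,
      show x * d * x * (y * x) * (x * d * x)⁻¹ =
        (x * d * x) * y * (x * d * x)⁻¹ * ((x * d * x) * x * (x * d * x)⁻¹) by group,
      hφx]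
    exact (mul_inv_rev _ _).symm
  rw [h3, conjBy_mul] at h2
  have h4 : conjBy B (x * w⁻¹) = conjBy A ((x * d * x) * (x * y) * (x * d * x)⁻¹)⁻¹ := by
    rw [conjBy_mul, h2, conjBy_conjBy_inv]
  have hmem : (x * d * x) * (x * y) * (x * d * x)⁻¹ ∈ B := hphi _ (mul_mem hx.1 hy.1)
  have hne : (x * d * x) * (x * y) * (x * d * x)⁻¹ ≠ 1 := fun e => hxy (conj_eq_one_iff.1 e)
  have hxw : x * w⁻¹ ≠ 1 := fun e => by
    rw [e, conjBy_one] at h4
    apply hs.1.ne
    calc A = conjBy (conjBy A ((x * d * x) * (x * y) * (x * d * x)⁻¹)⁻¹)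
          ((x * d * x) * (x * y) * (x * d * x)⁻¹) := (conjBy_conjBy_inv _ _).symm
      _ = B := by rw [← h4, conjBy_of_mem hmem]
  have hopp : Opp A B (x * w⁻¹)⁻¹ ((x * d * x) * (x * y) * (x * d * x)⁻¹)⁻¹ :=
    ⟨inv_mem (mul_mem hx.1 (inv_mem hw.1)), inv_ne_one.2 hxw, inv_mem hmem, inv_ne_one.2 hne,
      by rw [inv_inv]; exact h4.symm⟩
  simpa using opp_inv hs hA hopp

/-- Powers of `x` are `i`-torsion free for `i < k`. -/
def GoodBelow (k : ℕ) (x : G) : Prop := ∀ i, 0 < i → i < k → ∀ m : ℕ, x ^ (i * m) = 1 → x ^ m = 1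

theorem GoodBelow.pow {k : ℕ} {x : G} (h : GoodBelow k x) (r : ℕ) : GoodBelow k (x ^ r) :=
  fun i hi hik m hm => by
    rw [← pow_mul] at hm ⊢
    exact h i hi hik _ (by rwa [mul_left_comm])

theorem GoodBelow.conj {k : ℕ} {x : G} (g : G) (h : GoodBelow k x) : GoodBelow k (g * x * g⁻¹) :=
  fun i hi hik m hm => by
    rw [conj_pow] at hm ⊢
    rw [h i hi hik m (by simpa using hm), mul_one, mul_inv_cancel]

theorem GoodBelow.of_conj {k : ℕ} {x : G} (g : G) (h : GoodBelow k (g * x * g⁻¹)) : GoodBelow k x := by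
  simpa [mul_assoc] using h.conj g⁻¹

/-- Roots of opposite elements. -/
theorem opp_root (hs : IsSpecialRankOnePair A B) (hA : IsMulCommutative A) :
    ∀ k : ℕ, 0 < k → ∀ a c : G, Opp A B a c → GoodBelow k a → a ^ k ≠ 1 →
      ∃ w, Opp A B w (c ^ k) ∧ w ^ k = a ∧ ∀ d, Opp A B (a ^ k) d → d ^ k = c := by
  have hswap : ∀ k : ℕ, ∀ a c w : G, Opp A B a c → Opp A B w (c ^ k) → w ^ k = a →
      ∀ d, Opp A B (a ^ k) d → d ^ k = c := by
    intro k a c w hac hw hwk d hd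
    have h1 := opp_transport hs hA hw (opp_swap_left hA hac) (opp_swap_right hs hac)
    rw [← conj_pow, opp_conj_right hs hac] at h1
    rw [opp_unique_right hs.1 hd h1, conj_pow, hwk, opp_conj_left hs hac]
  intro k hk
  induction k, hk using Nat.le_induction with
  | base =>
    intro a c hac _ _
    exact ⟨a, by rwa [pow_one], pow_one a, hswap 1 a c a hac (by rwa [pow_one]) (pow_one a)⟩
  | succ k hk ih =>
    intro a c hac hgood hk1
    have hgk : GoodBelow k a := fun i hi hik => hgood i hi (by omega)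
    have hak : a ^ k ≠ 1 := fun e => hk1 (by
      have h1 := hgood k hk (by omega) 1 (by rw [mul_one]; exact e)
      rw [pow_one] at h1
      rw [h1, one_pow])
    obtain ⟨w₀, -, -, h0⟩ := ih a c hac hgk hak
    obtain ⟨d, hd⟩ := opp_exists_left hs.1 (pow_mem hac.1 k) hak
    have hdc : d ^ k = c := h0 d hd
    have hcd : c * d = d ^ (k + 1) := by rw [pow_succ, hdc]
    have hnc : ∀ m : ℕ, c ^ m = (a * c * a) * a ^ m * (a * c * a)⁻¹ := fun m => by
      rw [← conj_pow, opp_conj_left hs hac]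
    have hck : c ^ (k + 1) ≠ 1 := fun e => hk1 (conj_eq_one_iff.1 (by rwa [hnc] at e))
    have hdk : (d ^ (k + 1)) ^ k = c ^ (k + 1) := by rw [← pow_mul, mul_comm, pow_mul, hdc]
    have hd1 : d ^ (k + 1) ≠ 1 := fun e => hck (by rw [← hdk, e, one_pow])
    obtain ⟨W, hW⟩ := opp_exists_right hs.1 (pow_mem hd.2.2.1 (k + 1)) hd1
    have hE := opp_hua hs hA hac hd (hcd ▸ hW) (by rw [← pow_succ']; exact hk1)
    rw [← pow_succ', ← hnc] at hE
    -- `W` is good below `k`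
    have hnd : (a ^ k * d * a ^ k) * a ^ k * (a ^ k * d * a ^ k)⁻¹ = d := opp_conj_left hs hd
    have hgd : GoodBelow k d := hnd ▸ (hgk.pow k).conj _
    have hnW : (W * d ^ (k + 1) * W) * W * (W * d ^ (k + 1) * W)⁻¹ = d ^ (k + 1) :=
      opp_conj_left hs hW
    have hgW : GoodBelow k W := GoodBelow.of_conj (W * d ^ (k + 1) * W) (hnW.symm ▸ hgd.pow (k + 1))
    have hWk : W ^ k ≠ 1 := fun e => hck (by rw [← hdk, ← hnW, conj_pow, e, mul_one, mul_inv_cancel])
    obtain ⟨u, hu, huW, -⟩ := ih W _ hW hgW hWk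
    rw [hdk] at hu
    have huE : u = a * W⁻¹ := opp_unique_left hs.1 hu hE
    have hwk : (a * W⁻¹) ^ (k + 1) = a := by
      rw [pow_succ', ← huE, huW, huE, inv_mul_cancel_right]
    exact ⟨_, hE, hwk, hswap (k + 1) a c _ hac hE hwk⟩

/-- Elements of finite order of `A` have prime order. -/
theorem sr_orderOf_prime (hs : IsSpecialRankOnePair A B) (hA : IsMulCommutative A) {a : G}
    (ha : a ∈ A) (ha1 : a ≠ 1) (hfin : IsOfFinOrder a) : (orderOf a).Prime := by
  set N := orderOf a with hN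
  have hN0 : 0 < N := hfin.orderOf_pos
  have hN1 : N ≠ 1 := fun e => ha1 (orderOf_eq_one_iff.1 e)
  obtain ⟨c, hc⟩ := opp_exists_left hs.1 ha ha1
  set p := N.minFac with hp
  have hpp : p.Prime := Nat.minFac_prime hN1
  by_contra hnp
  have hlt : p < N := (Nat.minFac_le hN0).lt_of_ne fun e => hnp (e ▸ hpp)
  have hap : a ^ p ≠ 1 := pow_ne_one_of_lt_orderOf hpp.pos.ne' hlt
  have hgood : GoodBelow p a := fun i hi hip m hm => by
    rw [← orderOf_dvd_iff_pow_eq_one] at hm ⊢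
    refine (Nat.Coprime.dvd_of_dvd_mul_left ?_ hm)
    refine Nat.Coprime.symm ((Nat.coprime_of_dvd fun q hq hqi hqN => ?_))
    have : N.minFac ≤ q := Nat.minFac_le_of_dvd hq.two_le (by rw [hN]; exact hqN)
    have := Nat.le_of_dvd hi hqi
    omega
  obtain ⟨w, hw, hwp, -⟩ := opp_root hs hA p hpp.pos a c hc hgood hap
  obtain ⟨q, hq⟩ : p ∣ N := Nat.minFac_dvd N
  have hq0 : 0 < q := by
    rcases Nat.eq_zero_or_pos q with h | h
    · rw [h, mul_zero] at hq; omega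
    · exact h
  have hcq : (c ^ p) ^ q = 1 := by
    rw [← pow_mul, ← hq, ← opp_conj_left hs hc, conj_pow, hN, pow_orderOf_eq_one, mul_one,
      mul_inv_cancel]
  have hwq : w ^ q = 1 := by
    rw [← opp_conj_left hs hw, conj_pow] at hcq
    exact conj_eq_one_iff.1 hcq
  have haq : a ^ q = 1 := by rw [← hwp, ← pow_mul, mul_comm, pow_mul, hwq, one_pow]
  exact pow_ne_one_of_lt_orderOf hq0.ne'
    (show q < orderOf a by rw [← hN, hq]; exact lt_mul_of_one_lt_left hq0 hpp.one_lt) haq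

theorem goodBelow_of_not_fin {a : G} (h : ¬ IsOfFinOrder a) (k : ℕ) : GoodBelow k a :=
  fun i hi _ m hm => by
    by_cases hm0 : m = 0
    · simp [hm0]
    · exact absurd (isOfFinOrder_iff_pow_eq_one.2 ⟨_, Nat.mul_pos hi (Nat.pos_of_ne_zero hm0), hm⟩) h

theorem sr_elementary_or_divisible (hs : IsSpecialRankOnePair A B) (hA : IsMulCommutative A) :
    (∃ p : ℕ, p.Prime ∧ ∀ a ∈ A, a ^ p = 1) ∨
      ((∀ a ∈ A, a ≠ 1 → ¬ IsOfFinOrder a) ∧ ∀ a ∈ A, ∀ n : ℕ, 0 < n → ∃ c ∈ A, c ^ n = a) := by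
  have hcomm : ∀ u v : G, u ∈ A → v ∈ A → Commute u v := fun u v hu hv =>
    congrArg Subtype.val (hA.is_comm.comm (⟨u, hu⟩ : A) ⟨v, hv⟩)
  have hroot : ∀ x ∈ A, ¬ IsOfFinOrder x → ∀ n : ℕ, 0 < n → ∀ c, Opp A B x c →
      ∃ w, Opp A B w (c ^ n) ∧ w ^ n = x ∧ ∀ d, Opp A B (x ^ n) d → d ^ n = c :=
    fun x hx hinf n hn c hc => opp_root hs hA n hn x c hc (goodBelow_of_not_fin hinf n)
      fun e => hinf (isOfFinOrder_iff_pow_eq_one.2 ⟨n, hn, e⟩)
  by_cases htf : ∀ a ∈ A, a ≠ 1 → ¬ IsOfFinOrder a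
  · refine Or.inr ⟨htf, fun a ha n hn => ?_⟩
    by_cases ha1 : a = 1
    · exact ⟨1, one_mem A, by rw [one_pow, ha1]⟩
    · obtain ⟨c, hc⟩ := opp_exists_left hs.1 ha ha1
      obtain ⟨w, hw, hwn, -⟩ := hroot a ha (htf a ha ha1) n hn c hc
      exact ⟨w, hw.1, hwn⟩
  · left
    push Not at htf
    obtain ⟨a, ha, ha1, hfin⟩ := htf
    have hp := sr_orderOf_prime hs hA ha ha1 hfin
    set p := orderOf a with hpdef
    have hap : a ^ p = 1 := by rw [hpdef]; exact pow_orderOf_eq_one a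
    refine ⟨p, hp, fun x hx => ?_⟩
    by_cases hx1 : x = 1
    · rw [hx1, one_pow]
    by_cases hxf : IsOfFinOrder x
    · have hq := sr_orderOf_prime hs hA hx hx1 hxf
      by_contra hne
      have hpq : Nat.Coprime p (orderOf x) := (Nat.coprime_primes hp hq).2 fun e =>
        hne (by rw [e]; exact pow_orderOf_eq_one x)
      have ho := (hcomm a x ha hx).orderOf_mul_eq_mul_orderOf_of_coprime hpq
      have hax : a * x ≠ 1 := fun e => by
        rw [e, orderOf_one] at ho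
        have h2 := hp.two_le
        rw [← hpdef] at ho
        have := Nat.eq_one_of_mul_eq_one_right ho.symm
        omega
      have hf : IsOfFinOrder (a * x) := (hcomm a x ha hx).isOfFinOrder_mul hfin hxf
      have := sr_orderOf_prime hs hA (mul_mem ha hx) hax hf
      rw [ho, ← hpdef] at this
      exact Nat.not_prime_mul hp.ne_one hq.ne_one this
    · exfalso
      obtain ⟨c, hc⟩ := opp_exists_left hs.1 hx hx1
      obtain ⟨u, hu, hup, -⟩ := hroot x hx hxf p hp.pos c hc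
      have hua : ¬ IsOfFinOrder (u * a) := fun hf => hxf (by
        have := hf.pow (n := p)
        rwa [(hcomm u a hu.1 ha).mul_pow, hup, hap, mul_one] at this)
      have hua1 : u * a ≠ 1 := fun e => hua (by rw [e]; exact IsOfFinOrder.one)
      obtain ⟨e, he⟩ := opp_exists_left hs.1 (mul_mem hu.1 ha) hua1
      obtain ⟨-, -, -, h3⟩ := hroot _ (mul_mem hu.1 ha) hua p hp.pos e he
      have hxp : (u * a) ^ p = x := by rw [(hcomm u a hu.1 ha).mul_pow, hup, hap, mul_one]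
      have hce : c ^ p = e := h3 c (hxp.symm ▸ hc)
      have := opp_unique_left hs.1 (hce ▸ hu) he
      exact ha1 (left_eq_mul.1 this)

theorem comm_identity {C : Type*} [CommGroup C] (w x y p : C) :
    (w * (x * p)⁻¹ * (x * w⁻¹ * (x * y)⁻¹) * (y * p⁻¹)⁻¹)⁻¹ = x * y * y := by
  simp only [mul_inv_rev, inv_inv]
  simp [mul_comm, mul_left_comm, mul_assoc]

/-- A subgroup of `A` containing all `[A, H]` is everything, or `A` has at most three elements. -/
theorem sr_diag_dichotomy (hs : IsSpecialRankOnePair A B) (hA : IsMulCommutative A) (M : Subgroup G)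
    (hMA : M ≤ A) (hM : ∀ t ∈ rankOneDiagonal A B, ∀ y ∈ A, y * t * y⁻¹ * t⁻¹ ∈ M) :
    M = A ∨ ∃ y ∈ A, ∀ x ∈ A, x = 1 ∨ x = y ∨ x = y⁻¹ := by
  have hcomm : ∀ u v : G, u ∈ A → v ∈ A → Commute u v := fun u v hu hv =>
    congrArg Subtype.val (hA.is_comm.comm (⟨u, hu⟩ : A) ⟨v, hv⟩)
  -- the key congruence
  have key : ∀ x ∈ A, ∀ y ∈ A, x ≠ 1 → y ≠ 1 → x * y ≠ 1 → x * y * y ∈ M := by
    intro x hx y hy hx1 hy1 hxy
    obtain ⟨d, hd⟩ := opp_exists_left hs.1 hx hx1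
    obtain ⟨e, he⟩ := opp_exists_left hs.1 hy hy1
    have hde : d * e ≠ 1 := fun h => hxy (by
      have h1 : e = d⁻¹ := eq_inv_of_mul_eq_one_right h
      have h2 : y = x⁻¹ := opp_unique_left hs.1 (h1 ▸ he) (opp_inv hs hA hd)
      rw [h2, mul_inv_cancel])
    obtain ⟨w, hw⟩ := opp_exists_right hs.1 (mul_mem hd.2.2.1 he.2.2.1) hde
    have hu := opp_hua hs hA hd he hw hxy
    set n := x * d * x with hn
    have hnA : conjBy A n = B := opp_swap_left hA hd
    have hnB : conjBy B n = A := opp_swap_right hs hd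
    have hnX : n ∈ A ⊔ B := mul_mem (mul_mem (Subgroup.mem_sup_left hx)
      (Subgroup.mem_sup_right hd.2.2.1)) (Subgroup.mem_sup_left hx)
    -- opposite elements are congruent to the `n`-conjugates
    have hcong : ∀ z f, Opp A B z f → z * (n⁻¹ * f * n)⁻¹ ∈ M := by
      intro z f hzf
      set n' := z * f * z with hn'
      have hn'A : conjBy A n' = B := opp_swap_left hA hzf
      have hn'B : conjBy B n' = A := opp_swap_right hs hzf
      have hn'X : n' ∈ A ⊔ B := mul_mem (mul_mem (Subgroup.mem_sup_left hzf.1)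
        (Subgroup.mem_sup_right hzf.2.2.1)) (Subgroup.mem_sup_left hzf.1)
      have hh : n⁻¹ * n' ∈ rankOneDiagonal A B := by
        refine ⟨⟨(A ⊔ B).mul_mem ((A ⊔ B).inv_mem hnX) hn'X, conjBy_eq_self_iff.1 ?_⟩, conjBy_eq_self_iff.1 ?_⟩
        · rw [conjBy_mul, hn'A, ← hnA, conjBy_inv_conjBy]
        · rw [conjBy_mul, hn'B, ← hnB, conjBy_inv_conjBy]
      have h1 : n⁻¹ * f * n = (n⁻¹ * n') * z * (n⁻¹ * n')⁻¹ := by
        conv_lhs => rw [← opp_conj_left hs hzf, ← hn']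
        simp [mul_assoc]
      rw [h1]
      have := hM _ hh z hzf.1
      rwa [show z * ((n⁻¹ * n') * z * (n⁻¹ * n')⁻¹)⁻¹ =
        z * (n⁻¹ * n') * z⁻¹ * (n⁻¹ * n')⁻¹ by simp [mul_assoc]]
    set ψ := fun f : G => n⁻¹ * f * n with hψ
    have hψB : ∀ f ∈ B, ψ f ∈ A := fun f hf => by
      have h2 : conjBy B n⁻¹ = A := by rw [← hnA, conjBy_inv_conjBy]
      have := conj_mem_conjBy hf n⁻¹
      rwa [h2, inv_inv] at this
    have hψx : ψ d = x := by
      show n⁻¹ * d * n = x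
      conv_lhs => rw [← opp_conj_left hs hd, ← hn]
      simp [mul_assoc]
    have hψxy : ψ (n * (x * y) * n⁻¹) = x * y := by simp [ψ, mul_assoc]
    have m1 := hcong y e he
    have m2 := hcong w _ hw
    have m3 := hcong _ _ hu
    change y * (ψ e)⁻¹ ∈ M at m1
    change w * (ψ (d * e))⁻¹ ∈ M at m2
    change x * w⁻¹ * (ψ (n * (x * y) * n⁻¹))⁻¹ ∈ M at m3
    rw [hψxy] at m3
    rw [show ψ (d * e) = x * ψ e by rw [← hψx]; simp [ψ, mul_assoc]] at m2
    have h4 := inv_mem (mul_mem (mul_mem m2 m3) (inv_mem m1))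
    have hye : ψ e ∈ A := hψB e he.2.2.1
    have h5 : (w * (x * ψ e)⁻¹ * (x * w⁻¹ * (x * y)⁻¹) * (y * (ψ e)⁻¹)⁻¹)⁻¹ = x * y * y := by
      have := congrArg (Subtype.val : A → G) (show
        ((⟨w, hw.1⟩ : A) * (⟨x, hx⟩ * ⟨ψ e, hye⟩)⁻¹ * (⟨x, hx⟩ * ⟨w, hw.1⟩⁻¹ * (⟨x, hx⟩ * ⟨y, hy⟩)⁻¹) *
          (⟨y, hy⟩ * ⟨ψ e, hye⟩⁻¹)⁻¹)⁻¹ = ⟨x, hx⟩ * ⟨y, hy⟩ * ⟨y, hy⟩ by
        letI : CommGroup A := { (inferInstance : Group A) with mul_comm := hA.is_comm.comm }
        exact comm_identity _ _ _ _)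
      simpa using this
    rwa [h5] at h4
  by_cases hMtop : M = A
  · exact Or.inl hMtop
  right
  obtain ⟨y, hy, hyM⟩ := SetLike.exists_of_lt (lt_of_le_of_ne hMA hMtop)
  have hy1 : y ≠ 1 := fun e => hyM (e ▸ one_mem M)
  -- `M` is trivial
  have hM1 : ∀ x ∈ M, x = 1 := by
    intro x hx
    by_contra hx1
    have hxy : x * y ≠ 1 := fun e => hyM (by rw [show y = x⁻¹ from eq_inv_of_mul_eq_one_right e]; exact inv_mem hx)
    have hyy : y * y ∈ M := by
      have h1 := key x (hMA hx) y hy hx1 hy1 hxy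
      rw [mul_assoc] at h1
      exact (Subgroup.mul_mem_cancel_left M hx).1 h1
    by_cases h2 : y * y = 1
    · apply hyM
      have h1 := key y hy x (hMA hx) hy1 hx1 (by rwa [(hcomm y x hy (hMA hx)).eq])
      rw [mul_assoc] at h1
      exact (Subgroup.mul_mem_cancel_right M (mul_mem hx hx)).1 h1
    · apply hyM
      have h1 := key y hy y hy hy1 hy1 h2
      rw [mul_assoc] at h1
      exact (Subgroup.mul_mem_cancel_right M hyy).1 h1
  refine ⟨y, hy, fun x hx => ?_⟩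
  by_contra hne
  push Not at hne
  obtain ⟨hx1, hxy, hxy'⟩ := hne
  have h1 : x * y ≠ 1 := fun e => hxy' (eq_inv_of_mul_eq_one_left e)
  have e1 := hM1 _ (key x hx y hy hx1 hy1 h1)
  have e2 := hM1 _ (key y hy x hx hy1 hx1 (by rwa [(hcomm y x hy hx).eq]))
  rw [(hcomm y x hy hx).eq] at e2
  exact hxy (mul_left_cancel (e2.trans e1.symm))

end CfsgLib.ThreeTransp
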