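import Cfsg.Agent.Lib.ThreeTransp.RootOpposite
import Cfsg.Agent.Lib.ThreeTransp.RootGraph
import Cfsg.Agent.Lib.ThreeTransp.SpecialRankOne
import Cfsg.Agent.Lib.ThreeTransp.SL2
import Cfsg.Agent.Lib.ThreeTransp.RootClass

/-!
Rank one pairs in a class of abstract root subgroups with two commuting members are special.

For members `A ≠ C` commuting with each other, both partners of `B`, and `a`, `c` opposite in `(A, B)`, an element
`n` commuting with `A` and `m = c⁻¹ n⁻¹ c n` satisfy `n = [m, a]`; these two equations force the braid relation.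
If no member commuting with `A` is a partner of `B`, a third difference of `f ↦ m_f a m_f⁻¹` makes `a`
commute with `B`, which is absurd.
-/

set_option autoImplicit false

namespace CfsgLib.ThreeTransp

open Cfsg

variable {G : Type*} [Group G] {S : Set (Subgroup G)} {A B C E D : Subgroup G}

/-- A commutator-like element: `f⁻¹` times the conjugate of `f` by `n⁻¹`. -/
def shiftEl (n f : G) : G := f⁻¹ * (n⁻¹ * f * n)

theorem shiftEl_conjBy {n f a : G} (hn : ∀ x ∈ A, n * x = x * n) (h : Opp A B a f) :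
    conjBy A (shiftEl n f) = conjBy (conjBy B n⁻¹) (f⁻¹ * a⁻¹) := by
  have hfix : conjBy A n = A := conjBy_of_commute hn
  have hc : a⁻¹ * n⁻¹ = n⁻¹ * a⁻¹ := by rw [← mul_inv_rev, ← mul_inv_rev, hn a h.1]
  rw [shiftEl, conjBy_mul, conjBy_mul A (n⁻¹ * f) n, hfix, conjBy_mul A n⁻¹ f, h.2.2.2.2]
  simp only [← conjBy_mul]
  rw [mul_assoc f⁻¹ a⁻¹, hc]

theorem opp_left_eq {a f : G} (h : Opp A B a f) : A = conjBy B (f⁻¹ * a⁻¹) := by
  rw [conjBy_mul, ← h.2.2.2.2, conjBy_inv_conjBy]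

theorem shiftEl_comm_right (hB : IsMulCommutative B) {n f : G} (hf : f ∈ B)
    (hBB : ∀ y ∈ B, ∀ y' ∈ conjBy B n⁻¹, y * y' = y' * y) :
    ∀ y ∈ B, shiftEl n f * y = y * shiftEl n f := by
  intro y hy
  have h1 : y * f⁻¹ = f⁻¹ * y :=
    congrArg Subtype.val (hB.is_comm.comm (⟨y, hy⟩ : B) ⟨f⁻¹, inv_mem hf⟩)
  have h2 : y * (n⁻¹ * f * n) = n⁻¹ * f * n * y :=
    hBB y hy _ (by simpa using conj_mem_conjBy hf n⁻¹)
  rw [shiftEl, ← mul_assoc y f⁻¹, h1, mul_assoc f⁻¹ y, h2, mul_assoc]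

/-- Two commuting members, both partners of `B`. -/
theorem triangle_data (hAc : IsMulCommutative A) (hBc : IsMulCommutative B)
    (hr2 : IsRankOnePair C B) (hAC : ⁅A, C⁆ = ⊥) {a c : G} (h : Opp A B a c) :
    ∃ n : G, n * a ∈ C ∧ (∀ x ∈ A, n * x = x * n) ∧
      (∀ y ∈ B, ∀ y' ∈ conjBy B n⁻¹, y * y' = y' * y) ∧ conjBy A (shiftEl n c) = C ∧
      n = shiftEl n c * a * (shiftEl n c)⁻¹ * a⁻¹ := by
  obtain ⟨a₂, h₂⟩ := opp_exists_right hr2 h.2.2.1 h.2.2.2.1
  set n := a₂ * a⁻¹ with hnd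
  have hna : n * a = a₂ := inv_mul_cancel_right a₂ a
  have hn : ∀ x ∈ A, n * x = x * n := by
    intro x hx
    have h1 : a⁻¹ * x = x * a⁻¹ :=
      congrArg Subtype.val (hAc.is_comm.comm (⟨a⁻¹, inv_mem h.1⟩ : A) ⟨x, hx⟩)
    rw [hnd, mul_assoc, h1, ← mul_assoc, ← comm_of_bot hAC hx h₂.1, mul_assoc]
  have hC2 : conjBy C c = conjBy (conjBy B n⁻¹) a⁻¹ := by
    rw [← conjBy_mul, ← mul_inv_rev, hna]; exact h₂.2.2.2.2
  have hCA : conjBy A (shiftEl n c) = C := by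
    rw [shiftEl_conjBy hn h, conjBy_mul, ← hC2, conjBy_inv_conjBy]
  have hBB : ∀ y ∈ B, ∀ y' ∈ conjBy B n⁻¹, y * y' = y' * y := by
    have h0 : ⁅B, conjBy B n⁻¹⁆ = ⊥ := by
      have := congrArg (fun X => conjBy X (a * c)) hAC
      simp only [conjBy_commutator, conjBy_bot] at this
      rwa [conjBy_mul A a c, conjBy_mul C a c, h.2.2.2.2, hC2, ← conjBy_mul B, ← conjBy_mul _ a a⁻¹,
        mul_inv_cancel, conjBy_one, conjBy_one] at this
    exact fun y hy y' hy' => comm_of_bot h0 hy hy'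
  refine ⟨n, hna ▸ h₂.1, hn, hBB, hCA, ?_⟩
  set m := shiftEl n c with hm
  have hmB := shiftEl_comm_right hBc h.2.2.1 hBB
  have h3 : Opp C B (m * a * m⁻¹) c := by
    refine ⟨hCA ▸ conj_mem_conjBy h.1 m, fun e => h.2.1 (by simpa using e), h.2.2.1, h.2.2.2.1, ?_⟩
    have := congrArg (fun X => conjBy X m) h.2.2.2.2
    simp only [← conjBy_mul] at this
    rw [hmB c h.2.2.1, conjBy_mul A c m, hCA] at this
    rw [this, show m * a⁻¹ = (m * a * m⁻¹)⁻¹ * m by simp [mul_assoc], conjBy_mul,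
      conjBy_of_commute hmB]
  rw [← opp_unique_left hr2 h₂ h3]

theorem rot_step {z m c n : G} (h : m = shiftEl n c) (hc : c * m = m * c)
    (hz : z = c * n * c⁻¹) : z = n * m := by
  subst hz
  rw [mul_inv_eq_iff_eq_mul, mul_assoc, ← hc, h, shiftEl]
  simp [mul_assoc]

/-- The two equations between `n` and `m` make the braid defect commute with `m`. -/
theorem defect_commutes {a c n m : G} (hm : m = shiftEl n c) (hn : n = m * a * m⁻¹ * a⁻¹)
    (hc : c * m = m * c) (ha : n * a = a * n) :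
    c⁻¹ * (a⁻¹ * c * a) * c * a⁻¹ * m = m * (c⁻¹ * (a⁻¹ * c * a) * c * a⁻¹) := by
  have hcn : c * n * c⁻¹ = n * m := rot_step hm hc rfl
  have h1 : n * a * m = m * a := by rw [hn]; simp [mul_assoc]
  have ha1 : a⁻¹ * m * a = n * m := by
    rw [mul_assoc, inv_mul_eq_iff_eq_mul, ← mul_assoc, ← ha]; exact h1.symm
  have ha2 : a * m * a⁻¹ = n⁻¹ * m := by
    rw [mul_inv_eq_iff_eq_mul, mul_assoc n⁻¹, eq_inv_mul_iff_mul_eq, ← mul_assoc]; exact h1
  have han : a * n * a⁻¹ = n := by rw [← ha, mul_inv_cancel_right]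
  have hcm : c * m * c⁻¹ = m := by rw [hc, mul_inv_cancel_right]
  have hcm' : c⁻¹ * m * c = m := by rw [mul_assoc, ← hc, inv_mul_cancel_left]
  have han' : a⁻¹ * n * a = n := by rw [mul_assoc, ha, inv_mul_cancel_left]
  have s2 : c * (n * m) * c⁻¹ = n * m * m := by
    calc c * (n * m) * c⁻¹ = c * n * c⁻¹ * (c * m * c⁻¹) := by simp [mul_assoc]
      _ = n * m * m := by rw [hcn, hcm]
  have s3 : a * (n * m * m) * a⁻¹ = m * n⁻¹ * m := by
    calc a * (n * m * m) * a⁻¹ = a * n * a⁻¹ * (a * m * a⁻¹) * (a * m * a⁻¹) := by simp [mul_assoc]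
      _ = m * n⁻¹ * m := by rw [han, ha2]; simp [mul_assoc]
  have s4 : c * (m * n⁻¹ * m) * c⁻¹ = n⁻¹ * m := by
    calc c * (m * n⁻¹ * m) * c⁻¹ = c * m * c⁻¹ * (c * n * c⁻¹)⁻¹ * (c * m * c⁻¹) := by
          simp [mul_assoc]
      _ = n⁻¹ * m := by rw [hcn, hcm]; simp [mul_assoc]
  have s5 : a⁻¹ * (n⁻¹ * m) * a = m := by
    calc a⁻¹ * (n⁻¹ * m) * a = (a⁻¹ * n * a)⁻¹ * (a⁻¹ * m * a) := by simp [mul_assoc]
      _ = m := by rw [han', ha1, inv_mul_cancel_left]
  refine mul_inv_eq_iff_eq_mul.1 ?_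
  calc _ = c⁻¹ * (a⁻¹ * (c * (a * (c * (a⁻¹ * m * a) * c⁻¹) * a⁻¹) * c⁻¹) * a) * c := by
        simp [mul_assoc]
    _ = m := by rw [ha1, s2, s3, s4, s5, hcm']

/-- Two commuting members that are partners of `B`: the pair `(A, B)` is special. -/
theorem special_of_commuting_partner (hS : IsRootSubgroupSet S) (hA : A ∈ S) (hB : B ∈ S)
    (hr : IsRankOnePair A B) (hne : A ≠ C) (hAC : ⁅A, C⁆ = ⊥) (hr2 : IsRankOnePair C B) :
    IsSpecialRankOnePair A B := by
  refine ⟨hr, fun a ha ha1 b hb hb1 he => ?_⟩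
  have h : Opp A B a b⁻¹ := ⟨ha, ha1, inv_mem hb, inv_ne_one.2 hb1, he⟩
  obtain ⟨n, -, hn, hBB, hCA, hna⟩ :=
    triangle_data (hS.commutative A hA) (hS.commutative B hB) hr2 hAC h
  set c := b⁻¹ with hc
  set m := shiftEl n c with hm
  have hmB := shiftEl_comm_right (hS.commutative B hB) h.2.2.1 hBB
  have hdef := defect_commutes hm hna (hmB c h.2.2.1).symm (hn a ha)
  set z := c⁻¹ * (a⁻¹ * c * a) * c * a⁻¹ with hz
  have hzA : z ∈ A := by
    refine mul_mem ?_ (inv_mem ha)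
    have h1 : a⁻¹ * c * a ∈ conjBy A c := by
      rw [h.2.2.2.2]; simpa using conj_mem_conjBy h.2.2.1 a⁻¹
    exact mem_conjBy.1 h1
  have hz1 : z = 1 := by
    by_contra hz1
    obtain ⟨d, hd⟩ := opp_exists_left hr hzA hz1
    refine hne (conjBy_inj (g := d) ?_)
    have h1 := congrArg (fun X => conjBy X m) hd.2.2.2.2
    simp only [← conjBy_mul] at h1
    have e1 : m * z⁻¹ = z⁻¹ * m := by
      rw [eq_inv_mul_iff_mul_eq, ← mul_assoc, hdef, mul_inv_cancel_right]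
    rw [hmB d hd.2.2.1, e1, conjBy_mul A d m, conjBy_mul B, conjBy_of_commute hmB, hCA] at h1
    rw [hd.2.2.2.2, h1]
  rw [hz, mul_inv_eq_one] at hz1
  have h2 : a⁻¹ * c * a = c * a * c⁻¹ := by
    calc a⁻¹ * c * a = c * (c⁻¹ * (a⁻¹ * c * a) * c) * c⁻¹ := by simp [mul_assoc]
      _ = c * a * c⁻¹ := by rw [hz1]
  rw [hc, inv_inv] at h2
  exact h2.symm

theorem comm_identity_two {L : Type*} [CommGroup L] {a x y u v w : L}
    (h : x * y⁻¹ * (a * u⁻¹) = (v * w⁻¹ * (a * u⁻¹)) ^ 2) :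
    a = x * y⁻¹ * u * (v ^ 2)⁻¹ * w ^ 2 := by
  have h1 : a * u⁻¹ = x * y⁻¹ * ((v * w⁻¹) ^ 2)⁻¹ := by
    rw [mul_pow, pow_two (a * u⁻¹), ← mul_assoc ((v * w⁻¹) ^ 2)] at h
    have := mul_right_cancel h
    rw [eq_mul_inv_iff_mul_eq, mul_comm (a * u⁻¹), ← this]
  rw [mul_inv_eq_iff_eq_mul] at h1
  rw [h1, mul_pow, inv_pow]
  simp [mul_comm, mul_assoc, mul_left_comm]

/-- For opposite `a ∈ A`, `e ∈ E` and a member `C` commuting with `A`: the conjugates `P g = m_g a m_g⁻¹`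
commute with one another and `g ↦ P (g e) (P g)⁻¹ a (P e)⁻¹` is multiplicative. -/
theorem shift_setup (hS : IsRootSubgroupSet S) (hA : A ∈ S) (hE : E ∈ S)
    (hne : A ≠ C) (hAC : ⁅A, C⁆ = ⊥) (hrA : IsRankOnePair A E) (hrC : IsRankOnePair C E)
    {a e : G} (h : Opp A E a e) :
    ∃ n : G, (∀ x ∈ A, n * x = x * n) ∧ (∀ y ∈ E, ∀ y' ∈ conjBy E n⁻¹, y * y' = y' * y) ∧
      conjBy A (shiftEl n e) = C ∧ n = shiftEl n e * a * (shiftEl n e)⁻¹ * a⁻¹ ∧
      (∀ g ∈ E, ∀ g' ∈ E, shiftEl n (g * g') = shiftEl n g * shiftEl n g') ∧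
      (∀ g ∈ E, g ≠ 1 → conjBy A (shiftEl n g) ≠ A ∧ ⁅A, conjBy A (shiftEl n g)⁆ = ⊥) ∧
      (∀ g ∈ E, ∀ g' ∈ E, ∀ x ∈ A, ∀ y ∈ A,
        shiftEl n g * x * (shiftEl n g)⁻¹ * (shiftEl n g' * y * (shiftEl n g')⁻¹) =
          shiftEl n g' * y * (shiftEl n g')⁻¹ * (shiftEl n g * x * (shiftEl n g)⁻¹)) ∧
      (∀ g ∈ E, ∀ g' ∈ E, shiftEl n (g * g') * n * (shiftEl n (g * g'))⁻¹ * n⁻¹ =
        shiftEl n g' * n * (shiftEl n g')⁻¹ * n⁻¹ * (shiftEl n g * n * (shiftEl n g)⁻¹ * n⁻¹)) := by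
  have he : e ∈ E := h.2.2.1
  have hAc := hS.commutative A hA
  have hEc := hS.commutative E hE
  obtain ⟨n, -, hn, hEE, hCA, hna⟩ := triangle_data hAc hEc hrC hAC h
  have hrA' : IsRankOnePair A (conjBy E n⁻¹) := by
    have := rop_conjBy hrA n⁻¹
    rwa [conjBy_of_commute fun x hx => (inv_mul_eq_iff_eq_mul.2 (by
      rw [← mul_assoc, hn x hx, mul_inv_cancel_right]))] at this
  have hmem : ∀ {g : G}, g ∈ E → n⁻¹ * g * n ∈ conjBy E n⁻¹ := fun hg => by
    simpa using conj_mem_conjBy hg n⁻¹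
  have hmE : ∀ g ∈ E, ∀ y ∈ E, shiftEl n g * y = y * shiftEl n g :=
    fun g hg => shiftEl_comm_right hEc hg hEE
  have hadd : ∀ g ∈ E, ∀ g' ∈ E, shiftEl n (g * g') = shiftEl n g * shiftEl n g' := by
    intro g hg g' hg'
    have h1 : n⁻¹ * g * n * g'⁻¹ = g'⁻¹ * (n⁻¹ * g * n) := (hEE _ (inv_mem hg') _ (hmem hg)).symm
    have h2 : g * g' = g' * g := rs_comm hS hE hg hg'
    calc shiftEl n (g * g') = g⁻¹ * (g'⁻¹ * (n⁻¹ * g * n)) * (n⁻¹ * g' * n) := by
          rw [shiftEl]; nth_rw 1 [h2]; simp [mul_assoc]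
      _ = g⁻¹ * (n⁻¹ * g * n * g'⁻¹) * (n⁻¹ * g' * n) := by rw [h1]
      _ = shiftEl n g * shiftEl n g' := by simp [shiftEl, mul_assoc]
  have hone : shiftEl n 1 = 1 := by simp [shiftEl]
  have hEne : conjBy E n⁻¹ ≠ E := by
    intro heq
    refine hne ?_
    rw [← hCA, shiftEl_conjBy hn h, heq]
    exact opp_left_eq h
  have hnew : ∀ g ∈ E, g ≠ 1 → conjBy A (shiftEl n g) ≠ A ∧ ⁅A, conjBy A (shiftEl n g)⁆ = ⊥ := by
    intro g hg hg1
    obtain ⟨a', h'⟩ := opp_exists_right hrA hg hg1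
    rw [shiftEl_conjBy hn h']
    refine ⟨fun heq => hEne (conjBy_inj (heq.trans (opp_left_eq h'))), ?_⟩
    conv_lhs => rw [show A = conjBy E (g⁻¹ * a'⁻¹) from opp_left_eq h']
    rw [← conjBy_commutator, bot_of_comm hEE, conjBy_bot]
  -- all conjugates `m a m⁻¹` commute
  have hAg : ∀ g ∈ E, ∀ x ∈ A, ∀ y ∈ A, x * (shiftEl n g * y * (shiftEl n g)⁻¹) =
      shiftEl n g * y * (shiftEl n g)⁻¹ * x := by
    intro g hg x hx y hy
    by_cases hg1 : g = 1
    · rw [hg1, hone]; simpa using rs_comm hS hA hx hy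
    · exact comm_of_bot (hnew g hg hg1).2 hx (conj_mem_conjBy hy _)
  have hgg : ∀ g ∈ E, ∀ g' ∈ E, ∀ x ∈ A, ∀ y ∈ A,
      shiftEl n g * x * (shiftEl n g)⁻¹ * (shiftEl n g' * y * (shiftEl n g')⁻¹) =
        shiftEl n g' * y * (shiftEl n g')⁻¹ * (shiftEl n g * x * (shiftEl n g)⁻¹) := by
    intro g hg g' hg' x hx y hy
    have h1 : shiftEl n g' = shiftEl n g * shiftEl n (g⁻¹ * g') := by
      rw [← hadd g hg _ (mul_mem (inv_mem hg) hg'), mul_inv_cancel_left]
    have h2 := congrArg (MulAut.conj (shiftEl n g)) (hAg _ (mul_mem (inv_mem hg) hg') x hx y hy)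
    simp only [map_mul, MulAut.conj_apply] at h2
    rw [h1]
    simpa [mul_assoc] using h2
  let P : G → G := fun g => shiftEl n g * a * (shiftEl n g)⁻¹
  have hPP : ∀ g ∈ E, ∀ g' ∈ E, P g * P g' = P g' * P g := fun g hg g' hg' =>
    hgg g hg g' hg' a h.1 a h.1
  have hP1 : P 1 = a := by simp [P, hone]
  have hnP : n = P e * a⁻¹ := hna
  have hcn : ∀ g ∈ E, shiftEl n g * n * (shiftEl n g)⁻¹ = P (g * e) * (P g)⁻¹ := by
    intro g hg
    conv_lhs => arg 1; arg 2; rw [hnP]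
    simp [P, hadd g hg e he, mul_assoc]
  let z : G → G := fun g => shiftEl n g * n * (shiftEl n g)⁻¹ * n⁻¹
  have hzP : ∀ g ∈ E, z g = P (g * e) * (P g)⁻¹ * (a * (P e)⁻¹) := by
    intro g hg
    simp only [z, hcn g hg]
    exact congrArg _ ((congrArg (·⁻¹) hnP).trans (by rw [mul_inv_rev (P e) a⁻¹, inv_inv]))
  -- `z` commutes with `E` and `n`
  have hzE : ∀ g ∈ E, ∀ y ∈ E, y * z g * y⁻¹ = z g := by
    intro g hg y hy
    have hν : y * n * y⁻¹ = n * shiftEl n y := by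
      rw [shiftEl, hEE _ (inv_mem hy) _ (hmem hy)]; simp [mul_assoc]
    have hm : y * shiftEl n g * y⁻¹ = shiftEl n g := by rw [← hmE g hg y hy, mul_inv_cancel_right]
    have hc : shiftEl n y * shiftEl n g = shiftEl n g * shiftEl n y := by
      rw [← hadd y hy g hg, ← hadd g hg y hy, rs_comm hS hE hy hg]
    show MulAut.conj y (z g) = z g
    simp only [z, map_mul, map_inv, MulAut.conj_apply, hm, hν]
    calc shiftEl n g * (n * shiftEl n y) * (shiftEl n g)⁻¹ * (n * shiftEl n y)⁻¹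
        = shiftEl n g * n * (shiftEl n y * (shiftEl n g)⁻¹ * (shiftEl n y)⁻¹) * n⁻¹ := by
          simp [mul_assoc]
      _ = shiftEl n g * n * (shiftEl n g)⁻¹ * n⁻¹ := by
          rw [(Commute.inv_right (show Commute (shiftEl n y) (shiftEl n g) from hc)).eq,
            mul_inv_cancel_right]
  have hzn : ∀ g ∈ E, Commute (z g) n := by
    intro g hg
    have hp : ∀ g ∈ E, Commute (P g) n := fun g hg => by
      rw [hnP, ← hP1]
      exact (show Commute (P g) (P e) from hPP g hg e he).mul_right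
        (show Commute (P g) (P 1) from hPP g hg 1 (one_mem E)).inv_right
    rw [hzP g hg, ← hP1]
    exact ((hp _ (mul_mem hg he)).mul_left (hp g hg).inv_left).mul_left
      ((hp 1 (one_mem E)).mul_left (hp e he).inv_left)
  have hzm : ∀ g ∈ E, ∀ g' ∈ E, Commute (z g) (shiftEl n g') := by
    intro g hg g' hg'
    have h1 : Commute (z g) g' := (mul_inv_eq_iff_eq_mul.1 (hzE g hg g' hg')).symm
    exact h1.inv_right.mul_right (((hzn g hg).inv_right.mul_right h1).mul_right (hzn g hg))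
  have hzmul : ∀ g ∈ E, ∀ g' ∈ E, z (g * g') = z g' * z g := by
    intro g hg g' hg'
    simp only [z]
    rw [hadd g hg g' hg']
    calc shiftEl n g * shiftEl n g' * n * (shiftEl n g * shiftEl n g')⁻¹ * n⁻¹
        = shiftEl n g * z g' * (n * (shiftEl n g)⁻¹ * n⁻¹) := by simp [z, mul_assoc]
      _ = z g' * z g := by
        rw [← (hzm g' hg' g hg).eq]; simp [z, mul_assoc]
  exact ⟨n, hn, hEE, hCA, hna, hadd, hnew, hgg, hzmul⟩

/-- If every member commuting with `A` commutes with `B`, the members are tiny. -/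
theorem not_rankOne_of_separated (hS : IsRootSubgroupSet S) (hA : A ∈ S)
    (hsep : ∀ Y ∈ S, Y ≠ A → ⁅A, Y⁆ = ⊥ → ⁅B, Y⁆ = ⊥) (hC : C ∈ S) (hE : E ∈ S)
    (hne : A ≠ C) (hAC : ⁅A, C⁆ = ⊥) (hrA : IsRankOnePair A E) (hrC : IsRankOnePair C E)
    {e f : G} (he : e ∈ E) (he1 : e ≠ 1) (hf : f ∈ E) (hf1 : f ≠ 1) (hfe : f * e ≠ 1)
    (hcase : (f ^ 2 ≠ 1 ∧ f ^ 2 * e ≠ 1) ∨ (∀ g ∈ E, g * g = 1)) :
    ¬ IsRankOnePair A B := by
  intro hrB
  have hAc := hS.commutative A hA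
  have hEc := hS.commutative E hE
  obtain ⟨a, h⟩ := opp_exists_right hrA he he1
  obtain ⟨n, hn, hEE, hCA, hna, hadd, hnew, hgg, hzmul'⟩ := shift_setup hS hA hE hne hAC hrA hrC h
  have hrA' : IsRankOnePair A (conjBy E n⁻¹) := by
    have := rop_conjBy hrA n⁻¹
    rwa [conjBy_of_commute fun x hx => (inv_mul_eq_iff_eq_mul.2 (by
      rw [← mul_assoc, hn x hx, mul_inv_cancel_right]))] at this
  have hmem : ∀ {g : G}, g ∈ E → n⁻¹ * g * n ∈ conjBy E n⁻¹ := fun hg => by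
    simpa using conj_mem_conjBy hg n⁻¹
  have hmE : ∀ g ∈ E, ∀ y ∈ E, shiftEl n g * y = y * shiftEl n g :=
    fun g hg => shiftEl_comm_right hEc hg hEE
  have hone : shiftEl n 1 = 1 := by simp [shiftEl]
  have hAg : ∀ g ∈ E, ∀ x ∈ A, ∀ y ∈ A, x * (shiftEl n g * y * (shiftEl n g)⁻¹) =
      shiftEl n g * y * (shiftEl n g)⁻¹ * x := by
    intro g hg x hx y hy
    simpa [hone] using hgg 1 (one_mem E) g hg x hx y hy
  let P : G → G := fun g => shiftEl n g * a * (shiftEl n g)⁻¹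
  have hPP : ∀ g ∈ E, ∀ g' ∈ E, P g * P g' = P g' * P g := fun g hg g' hg' =>
    hgg g hg g' hg' a h.1 a h.1
  have hP1 : P 1 = a := by simp [P, hone]
  have hnP : n = P e * a⁻¹ := hna
  have hcn : ∀ g ∈ E, shiftEl n g * n * (shiftEl n g)⁻¹ = P (g * e) * (P g)⁻¹ := by
    intro g hg
    conv_lhs => arg 1; arg 2; rw [hnP]
    simp [P, hadd g hg e he, mul_assoc]
  let z : G → G := fun g => shiftEl n g * n * (shiftEl n g)⁻¹ * n⁻¹
  have hzP : ∀ g ∈ E, z g = P (g * e) * (P g)⁻¹ * (a * (P e)⁻¹) := by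
    intro g hg
    simp only [z, hcn g hg]
    exact congrArg _ ((congrArg (·⁻¹) hnP).trans (by rw [mul_inv_rev (P e) a⁻¹, inv_inv]))
  have hzmul : ∀ g ∈ E, ∀ g' ∈ E, z (g * g') = z g' * z g := hzmul'
  -- every `P g`, `g ≠ 1`, commutes with `B`
  have hPB : ∀ g ∈ E, g ≠ 1 → P g ∈ Subgroup.centralizer (B : Set G) := by
    intro g hg hg1
    refine Subgroup.mem_centralizer_iff.2 fun y hy => ?_
    obtain ⟨h1, h2⟩ := hnew g hg hg1
    exact comm_of_bot (hsep _ (hS.conj_mem A hA _) h1 h2) hy (conj_mem_conjBy h.1 _)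
  suffices ha : a ∈ Subgroup.centralizer (B : Set G) from
    rop_not_commute hrB h.1 h.2.1 fun y hy => (Subgroup.mem_centralizer_iff.1 ha y hy).symm
  have hfe' : f * e ∈ E := mul_mem hf he
  let L : Subgroup G := Subgroup.closure (P '' (E : Set G))
  haveI : IsMulCommutative L := Subgroup.isMulCommutative_closure (by
    rintro _ ⟨g, hg, rfl⟩ _ ⟨g', hg', rfl⟩; exact hPP g hg g' hg')
  let p : (g : G) → g ∈ E → L := fun g hg => ⟨P g, Subgroup.subset_closure ⟨g, hg, rfl⟩⟩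
  let p₀ : L := ⟨a, Subgroup.subset_closure ⟨1, one_mem E, hP1⟩⟩
  rcases hcase with ⟨hf2, hf2e⟩ | hinv
  · have hff : f ^ 2 ∈ E := pow_mem hf 2
    have key := hzmul f hf f hf
    rw [← pow_two, ← pow_two, hzP (f ^ 2) hff, hzP f hf] at key
    have key' : p (f ^ 2 * e) (mul_mem hff he) * (p (f ^ 2) hff)⁻¹ * (p₀ * (p e he)⁻¹) =
        (p (f * e) hfe' * (p f hf)⁻¹ * (p₀ * (p e he)⁻¹)) ^ 2 := Subtype.ext key
    letI : CommGroup L := { (inferInstance : Group L) with mul_comm := fun x y => IsMulCommutative.is_comm.comm x y }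
    have hres : p₀ = p (f ^ 2 * e) (mul_mem hff he) * (p (f ^ 2) hff)⁻¹ * p e he *
        ((p (f * e) hfe') ^ 2)⁻¹ * (p f hf) ^ 2 := comm_identity_two key'
    have hres' := congrArg Subtype.val hres
    simp only [Subgroup.coe_mul, Subgroup.coe_inv, Subgroup.coe_pow] at hres'
    change a = _ at hres'
    show a ∈ _
    rw [hres']
    exact mul_mem (mul_mem (mul_mem (mul_mem (hPB _ (mul_mem hff he) hf2e) (inv_mem (hPB _ hff hf2)))
      (hPB e he he1)) (inv_mem (pow_mem (hPB _ hfe' hfe) 2))) (pow_mem (hPB f hf hf1) 2)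
  · -- in exponent two `z` vanishes
    set m := shiftEl n f with hm
    obtain ⟨a', h'⟩ := opp_exists_right hrA hf hf1
    have hr' : IsRankOnePair (conjBy A m) E := by
      have := rop_conjBy hrA m
      rwa [conjBy_of_commute (hmE f hf)] at this
    obtain ⟨n', -, hn', hEE', hCA', hna'⟩ := triangle_data hAc hEc hr' (hnew f hf hf1).2 h'
    have hE' : conjBy E n'⁻¹ = conjBy E n⁻¹ := by
      rw [hm, shiftEl_conjBy hn' h', shiftEl_conjBy hn h'] at hCA'
      exact conjBy_inj hCA'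
    have hf' : n'⁻¹ * f * n' = n⁻¹ * f * n := by
      have k1 : ∀ {u : G}, (∀ x ∈ A, u * x = x * u) →
          conjBy A (u⁻¹ * f * u) = conjBy (conjBy E u⁻¹) a'⁻¹ := fun {u} hu => by
        rw [conjBy_mul, conjBy_of_commute hu, conjBy_mul, h'.2.2.2.2, ← conjBy_mul, ← conjBy_mul,
          ← mul_inv_rev, ← mul_inv_rev, hu a' h'.1]
      have k2 := rop_eq_one_of_normalizes (rop_symm hrA') (mul_mem (inv_mem (hmem hf))
        (show n'⁻¹ * f * n' ∈ conjBy E n⁻¹ by rw [← hE']; simpa using conj_mem_conjBy hf n'⁻¹))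
        (by rw [conjBy_mul, k1 hn', hE', ← k1 hn, conjBy_inv_conjBy])
      exact (inv_mul_eq_one.1 k2).symm
    have hmm : shiftEl n' f = m := by rw [hm, shiftEl, shiftEl, hf']
    rw [hmm] at hna'
    have hmf : m * m = 1 := by rw [hm, ← hadd f hf f hf, hinv f hf, hone]
    have ha2 : a'⁻¹ = a' := by
      have h1 : f⁻¹ = f := inv_eq_of_mul_eq_one_right (hinv f hf)
      -- the involution property passes to `A` along the conjugation into `E`
      obtain ⟨g, -, hg⟩ := rop_right_mem_unipotent hrA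
      have h2 : g * a' * g⁻¹ ∈ E := hg ▸ conj_mem_conjBy h'.1 g
      have h3 := inv_eq_of_mul_eq_one_right (hinv _ h2)
      simpa [mul_assoc] using h3
    have hn'fix : Commute m n' := by
      show m * n' = n' * m
      have hmi : m⁻¹ = m := inv_eq_of_mul_eq_one_right hmf
      rw [hna', ha2, hmi]
      have hx := hAg f hf a' h'.1 a' h'.1
      rw [← hm, hmi] at hx
      calc m * (m * a' * m * a') = m * (m * a' * m * a') * (m * m) := by rw [hmf, mul_one]
        _ = m * m * (a' * m * a' * m) * m := by simp [mul_assoc]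
        _ = a' * (m * a' * m) * m := by rw [hmf, one_mul]; simp [mul_assoc]
        _ = m * a' * m * a' * m := by rw [hx]
    have hz1 : z f = 1 := by
      have hcm : ∀ g₁ ∈ E, ∀ x ∈ A, Commute n (shiftEl n g₁ * x * (shiftEl n g₁)⁻¹) := by
        intro g₁ hg₁ x hx
        have h0 := (show Commute (P e) _ from hgg e he g₁ hg₁ a h.1 x hx).mul_left
          (show Commute a _ from hAg g₁ hg₁ a h.1 x hx).inv_left
        rwa [← hnP] at h0
      have hnn : Commute n n' := by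
        rw [hna', hm]
        exact (hcm f hf a' h'.1).mul_right
          (show Commute n a' from hn a' h'.1).inv_right
      have hgf : Commute (n' * n⁻¹) f := by
        have e1 : n' * (n⁻¹ * f * n) * n'⁻¹ = f := by rw [← hf']; simp [mul_assoc]
        show n' * n⁻¹ * f = f * (n' * n⁻¹)
        calc n' * n⁻¹ * f = n' * (n⁻¹ * f * n) * n'⁻¹ * (n' * n⁻¹) := by simp [mul_assoc]
          _ = f * (n' * n⁻¹) := by rw [e1]
      have hgn : Commute (n' * n⁻¹) n := hnn.symm.mul_left (Commute.inv_left (Commute.refl n))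
      have hgm : Commute (n' * n⁻¹) m :=
        hgf.inv_right.mul_right ((hgn.inv_right.mul_right hgf).mul_right hgn)
      have hmn : Commute m n := by
        have := hgm.symm.inv_right.mul_right hn'fix
        simpa using this
      show m * n * m⁻¹ * n⁻¹ = 1
      rw [hmn.eq, mul_inv_cancel_right, mul_inv_cancel]
    rw [hzP f hf] at hz1
    have key' : p (f * e) hfe' * (p f hf)⁻¹ * (p₀ * (p e he)⁻¹) = 1 := Subtype.ext hz1
    rw [mul_eq_one_iff_inv_eq, eq_mul_inv_iff_mul_eq] at key'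
    have hres' := congrArg Subtype.val key'
    simp only [Subgroup.coe_mul, Subgroup.coe_inv] at hres'
    change _ = a at hres'
    show a ∈ _
    rw [← hres']
    exact mul_mem (inv_mem (mul_mem (hPB _ hfe' hfe) (inv_mem (hPB f hf hf1)))) (hPB e he he1)

end CfsgLib.ThreeTransp

namespace CfsgLib.ThreeTransp

open Cfsg

variable {G : Type*} [Group G] {S : Set (Subgroup G)} {A B : Subgroup G}

/-- A pair whose right member has only one non-identity element is special. -/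
theorem special_of_tiny (hr : IsRankOnePair A B)
    (ht : ∀ y ∈ B, y ≠ 1 → ∀ y' ∈ B, y' ≠ 1 → y = y') : IsSpecialRankOnePair A B := by
  refine ⟨hr, fun a ha ha1 b hb hb1 he => ?_⟩
  have h1 : b⁻¹ * a * b ∈ conjBy B a⁻¹ := he ▸ by simpa using conj_mem_conjBy ha b⁻¹
  rw [mem_conjBy, inv_inv] at h1
  have h2 : a * (b⁻¹ * a * b) * a⁻¹ ≠ 1 := by
    intro e
    rw [mul_inv_eq_one, mul_eq_left] at e
    exact ha1 (by rwa [mul_assoc, inv_mul_eq_one, right_eq_mul] at e)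
  have h3 := ht _ h1 h2 b⁻¹ (inv_mem hb) (inv_ne_one.2 hb1)
  calc b⁻¹ * a * b = a⁻¹ * (a * (b⁻¹ * a * b) * a⁻¹) * a := by simp [mul_assoc]
    _ = a⁻¹ * b⁻¹ * a := by rw [h3]

theorem sl2_upper_image_injective {k : Type*} [Field k]
    {φ : Matrix.SpecialLinearGroup (Fin 2) k →* G}
    (hφ : φ.ker ≤ Subgroup.center (Matrix.SpecialLinearGroup (Fin 2) k)) :
    Function.Injective fun t : k => φ (sl2U k t) := by
  intro s t hst
  have h1 : sl2U k s * (sl2U k t)⁻¹ ∈ φ.ker := by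
    rw [MonoidHom.mem_ker, map_mul, map_inv, mul_inv_eq_one]; exact hst
  rw [sl2U_inv, sl2U_mul] at h1
  have h2 := Subgroup.mem_center_iff.1 (hφ h1) (sl2L k 1)
  have h3 := congrArg (fun g : Matrix.SpecialLinearGroup (Fin 2) k =>
    (g : Matrix (Fin 2) (Fin 2) k) 0 0) h2
  simp [Matrix.SpecialLinearGroup.coe_mul, sl2U_val, sl2L_val, Matrix.mul_apply,
    Fin.sum_univ_two] at h3
  linear_combination h3

/-- Every rank one pair in a class with two commuting members is special. -/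
theorem class_pair_special (hS : IsRootSubgroupSet S) (hcl : IsConjClassOfSubgroups S)
    (hcomm : ∃ X ∈ S, ∃ Y ∈ S, X ≠ Y ∧ ⁅X, Y⁆ = ⊥)
    (hbig : IsDegenerateRootSet S → (∀ X ∈ S, ∀ x ∈ X, 0 < orderOf x ∧ orderOf x ≤ 3) →
      ∀ X ∈ S, ∀ e ∈ X, e ^ 3 = 1 → e ≠ 1 → (∃ Z ∈ S, IsRankOnePair X Z) →
        ∃ f ∈ X, f ≠ 1 ∧ f ≠ e ∧ f ≠ e ^ 2)
    (hA : A ∈ S) (hB : B ∈ S) (hr : IsRankOnePair A B) : IsSpecialRankOnePair A B := by
  by_cases hd : IsDegenerateRootSet S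
  swap
  · simp only [IsDegenerateRootSet, not_forall, not_not] at hd
    obtain ⟨U, hU, V, hV, hUV⟩ := hd
    exact class_special hS hcl ⟨U, hU, V, hV, hUV⟩ hA hB hr
  by_cases hY : ∃ Y ∈ S, Y ≠ A ∧ ⁅A, Y⁆ = ⊥ ∧ IsRankOnePair Y B
  · obtain ⟨Y, hY, hne, hc, hr2⟩ := hY
    exact special_of_commuting_partner hS hA hB hr hne.symm hc hr2
  push Not at hY
  have hsep : ∀ Y ∈ S, Y ≠ A → ⁅A, Y⁆ = ⊥ → ⁅B, Y⁆ = ⊥ := by
    intro Y hY' hne hc
    rcases hS.pair Y hY' B hB with h | h | h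
    · exact comm_bot_symm h
    · exact absurd h (hY Y hY' hne hc)
    · exact absurd h (hd Y hY' B hB)
  by_cases ht : ∀ y ∈ B, y ≠ 1 → ∀ y' ∈ B, y' ≠ 1 → y = y'
  · exact special_of_tiny hr ht
  -- a common partner `E` of `A` and of a member commuting with `A`
  obtain ⟨C, hC, E, hE, hne, hAC, hrA, hrC⟩ : ∃ C ∈ S, ∃ E ∈ S, A ≠ C ∧ ⁅A, C⁆ = ⊥ ∧
      IsRankOnePair A E ∧ IsRankOnePair C E := by
    obtain ⟨X, hX, Y, hY', hXY, hc⟩ := hcomm
    obtain ⟨g, rfl⟩ := hcl.2 X hX A hA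
    have hne : conjBy Y g ≠ conjBy X g := fun h => hXY (conjBy_inj h).symm
    have hbot : ⁅conjBy X g, conjBy Y g⁆ = ⊥ := by rw [← conjBy_commutator, hc, conjBy_bot]
    by_contra hno
    push Not at hno
    have hclose : ∀ D, Relation.ReflTransGen (FAdj S) (conjBy X g) D →
        D = conjBy X g ∨ IsRankOnePair (conjBy X g) D := by
      intro D hD
      induction hD with
      | refl => exact Or.inl rfl
      | tail _ hstep ih =>
        rename_i P Q _
        rcases ih with rfl | ih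
        · exact Or.inr hstep.2.2
        · rcases hS.pair _ hA Q hstep.2.1 with h | h | h
          · by_cases hQ : Q = conjBy X g
            · exact Or.inl hQ
            · exact absurd (rop_symm hstep.2.2) (hno Q hstep.2.1 P hstep.1 (Ne.symm hQ) h ih)
          · exact Or.inr h
          · exact absurd h (hd _ hA Q hstep.2.1)
    rcases hclose _ (rs_connected_of_class hS hcl
      ⟨_, hA, (rs_exists_partner_iff hA).2 ⟨B, hB, hr⟩⟩ _ hA _ (hS.conj_mem Y hY' g)) with h | h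
    · exact hne h
    · exact rop_commutator_ne_bot h hbot
  obtain ⟨g, rfl⟩ := hcl.2 B hB E hE
  exfalso
  have hkey := fun {e f : G} (he : e ∈ conjBy B g) (he1 : e ≠ 1) (hf : f ∈ conjBy B g) (hf1 : f ≠ 1)
      (hfe : f * e ≠ 1)
      (hcase : (f ^ 2 ≠ 1 ∧ f ^ 2 * e ≠ 1) ∨ (∀ x ∈ conjBy B g, x * x = 1)) =>
    not_rankOne_of_separated hS hA hsep hC hE hne hAC hrA hrC he he1 hf hf1 hfe hcase hr
  by_cases h3 : ∃ e ∈ conjBy B g, e ^ 2 ≠ 1 ∧ e ^ 3 ≠ 1
  · obtain ⟨e, he, h2, h3⟩ := h3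
    have he1 : e ≠ 1 := fun h => h2 (by rw [h, one_pow])
    exact hkey he he1 he he1 (by rwa [← pow_two]) (Or.inl ⟨h2, by rwa [← pow_succ]⟩)
  push Not at h3
  by_cases h2 : ∀ x ∈ conjBy B g, x * x = 1
  · push Not at ht
    obtain ⟨y, hy, hy1, y', hy', hy'1, hyy⟩ := ht
    have m1 := conj_mem_conjBy hy g
    have m2 := conj_mem_conjBy hy' g
    refine hkey m1 (fun e => hy1 (by simpa using e)) m2 (fun e => hy'1 (by simpa using e))
      (fun e => ?_) (Or.inr h2)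
    rw [mul_eq_one_iff_eq_inv, inv_eq_of_mul_eq_one_right (h2 _ m1)] at e
    exact hyy (by simpa using e.symm)
  push Not at h2
  obtain ⟨e, he, he2⟩ := h2
  rw [← pow_two] at he2
  have he1 : e ≠ 1 := fun h => he2 (by rw [h, one_pow])
  have he3 : e ^ 3 = 1 := h3 e he he2
  have hsmall : ∀ X ∈ S, ∀ x ∈ X, 0 < orderOf x ∧ orderOf x ≤ 3 := by
    intro X hX x hx
    obtain ⟨u, hu⟩ := hcl.2 X hX _ hE
    have hm : u * x * u⁻¹ ∈ conjBy B g := hu ▸ conj_mem_conjBy hx u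
    have hor : x ^ 2 = 1 ∨ x ^ 3 = 1 := by
      by_cases hq : (u * x * u⁻¹) ^ 2 = 1
      · left; rw [conj_pow] at hq; simpa using hq
      · have := h3 _ hm hq
        right; rw [conj_pow] at this; simpa using this
    rcases hor with h | h
    · exact ⟨(isOfFinOrder_iff_pow_eq_one.2 ⟨2, by norm_num, h⟩).orderOf_pos,
        (orderOf_le_of_pow_eq_one (by norm_num) h).trans (by norm_num)⟩
    · exact ⟨(isOfFinOrder_iff_pow_eq_one.2 ⟨3, by norm_num, h⟩).orderOf_pos,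
        orderOf_le_of_pow_eq_one (by norm_num) h⟩
  obtain ⟨f, hf, hf1, hfe, hfe2⟩ := hbig hd hsmall _ hE e he he3 he1 ⟨A, hA, rop_symm hrA⟩
  have hcom : Commute f e := rs_comm hS hE hf he
  have hf2 : f ^ 2 ≠ 1 := by
    intro hf2
    by_cases hp : (f * e) ^ 2 = 1
    · rw [hcom.mul_pow, hf2, one_mul] at hp
      exact he2 hp
    · have h := h3 _ (mul_mem hf he) hp
      rw [hcom.mul_pow, he3, mul_one, pow_succ, hf2, one_mul] at h
      exact hf1 h
  refine hkey he he1 hf hf1 (fun h => hfe2 ?_) (Or.inl ⟨hf2, fun h => hfe ?_⟩)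
  · calc f = f * (e * e ^ 2) := by rw [← pow_succ', he3, mul_one]
      _ = f * e * e ^ 2 := (mul_assoc _ _ _).symm
      _ = e ^ 2 := by rw [h, one_mul]
  · have hf3 : f ^ 3 = 1 := h3 f hf hf2
    calc f = f * (f ^ 2 * e) := by rw [h, mul_one]
      _ = f ^ 3 * e := by rw [← mul_assoc, ← pow_succ']
      _ = e := by rw [hf3, one_mul]

end CfsgLib.ThreeTransp

namespace CfsgLib.ThreeTransp

open Cfsg

variable {G : Type*} [Group G] {S : Set (Subgroup G)} {A C D E : Subgroup G}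

/-- A subgroup commuting with every `m^i A m^{-i}`, `i = 1, 2, 3`, commutes with an element of `A`. -/
theorem shift_commutes (hS : IsRootSubgroupSet S) (hA : A ∈ S) (hE : E ∈ S)
    (hne : A ≠ C) (hAC : ⁅A, C⁆ = ⊥) (hrA : IsRankOnePair A E) (hrC : IsRankOnePair C E)
    {a : G} (ha : a ∈ A) (ha1 : a ≠ 1) {D : Subgroup G}
    (hmono : ∀ g : G, conjBy A g = C → ∀ i : ℕ, ⁅conjBy A (g ^ (i + 1)), D⁆ = ⊥) :
    ∀ d ∈ D, a * d = d * a := by
  obtain ⟨e, h⟩ := opp_exists_left hrA ha ha1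
  obtain ⟨n, -, -, hCA, hna, hadd, -, hgg, hzmul⟩ := shift_setup hS hA hE hne hAC hrA hrC h
  set m := shiftEl n e with hm
  intro d hd
  have he := h.2.2.1
  have hpow : ∀ i : ℕ, shiftEl n (e ^ i) = m ^ i := by
    intro i
    induction i with
    | zero => simp [shiftEl]
    | succ k ih => rw [pow_succ, hadd _ (pow_mem he k) e he, ih, pow_succ]
  let Q : Subgroup G := Subgroup.centralizer ({d} : Set G)
  have hQ : ∀ i : ℕ, m ^ (i + 1) * a * (m ^ (i + 1))⁻¹ ∈ Q := fun i =>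
    Subgroup.mem_centralizer_singleton_iff.2
      (comm_of_bot (hmono m hCA i) (conj_mem_conjBy ha _) hd)
  let P : ℕ → G := fun i => m ^ i * a * (m ^ i)⁻¹
  have hPP : ∀ i j, Commute (P i) (P j) := by
    intro i j
    have := hgg _ (pow_mem he i) _ (pow_mem he j) a ha a ha
    rw [hpow, hpow] at this
    exact this
  have hz := hzmul e he e he
  rw [← pow_two, hpow, ← hm] at hz
  have hn' : ∀ i : ℕ, m ^ i * n * (m ^ i)⁻¹ = P (i + 1) * (P i)⁻¹ := by
    intro i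
    conv_lhs => rw [hna]
    simp [P, pow_succ, mul_assoc]
  have hn2 := hn' 2
  have hn1 := hn' 1
  have hn0 := hn' 0
  rw [pow_one] at hn1
  simp only [pow_zero, one_mul, inv_one, mul_one, zero_add] at hn0
  rw [hn1, hn2, hn0] at hz
  let L : Subgroup G := Subgroup.closure (Set.range P)
  haveI : IsMulCommutative L := Subgroup.isMulCommutative_closure (by
    rintro _ ⟨i, rfl⟩ _ ⟨j, rfl⟩; exact hPP i j)
  letI : CommGroup L := { (inferInstance : Group L) with mul_comm := fun x y => IsMulCommutative.is_comm.comm x y }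
  let p : ℕ → L := fun i => ⟨P i, Subgroup.subset_closure ⟨i, rfl⟩⟩
  have key : p 3 * (p 2)⁻¹ * (p 0 * (p 1)⁻¹) = (p 2 * (p 1)⁻¹ * (p 0 * (p 1)⁻¹)) ^ 2 := by
    have h0 : p 3 * (p 2)⁻¹ * (p 1 * (p 0)⁻¹)⁻¹ =
        p 2 * (p 1)⁻¹ * (p 1 * (p 0)⁻¹)⁻¹ * (p 2 * (p 1)⁻¹ * (p 1 * (p 0)⁻¹)⁻¹) := Subtype.ext hz
    rwa [mul_inv_rev, inv_inv, ← pow_two] at h0
  have hres := congrArg Subtype.val (comm_identity_two key)
  simp only [Subgroup.coe_mul, Subgroup.coe_inv, Subgroup.coe_pow] at hres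
  have hP0 : P 0 = a := by simp [P]
  change P 0 = _ at hres
  rw [hP0] at hres
  have : a ∈ Q := by
    rw [hres]
    exact mul_mem (mul_mem (mul_mem (mul_mem (hQ 2) (inv_mem (hQ 1))) (hQ 0))
      (inv_mem (pow_mem (hQ 1) 2))) (pow_mem (hQ 0) 2)
  exact Subgroup.mem_centralizer_singleton_iff.1 this

/-- A partner of `U` that centralizes the line of a commutator case `(P, U)` does not exist. -/
theorem not_rankOne_of_centralizes_line {P U : Subgroup G} (h : RootCommutatorCase S P U)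
    (hne : ⁅P, U⁆ ≠ ⊥) (hCP : ⁅C, P⁆ = ⊥) (hCW : ⁅C, ⁅P, U⁆⁆ = ⊥) : ¬ IsRankOnePair U C := by
  intro hr
  have hC : ∀ c ∈ C, ∀ y ∈ P ⊔ ⁅P, U⁆, c * y = y * c := fun c hc y hy =>
    commute_sup (fun p hp => comm_of_bot hCP hc hp) (fun w hw => comm_of_bot hCW hc hw) y hy
  have hle : U ⊔ C ≤ Subgroup.normalizer ((P ⊔ ⁅P, U⁆ : Subgroup G) : Set G) :=
    sup_le (fun u hu => conjBy_eq_self_iff.1 (tri_conj_line h hu))
      fun c hc => conjBy_eq_self_iff.1 (conjBy_of_commute (hC c hc))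
  obtain ⟨x, hx, hxC⟩ := rop_right_mem_unipotent hr
  have hN : conjBy (P ⊔ ⁅P, U⁆) x = P ⊔ ⁅P, U⁆ := conjBy_eq_self_iff.2 (hle hx)
  refine hne (bot_of_comm fun p hp u hu => ?_)
  have h1 := hC _ (hxC ▸ conj_mem_conjBy hu x) (x * p * x⁻¹)
    (hN ▸ conj_mem_conjBy (le_sup_left (b := ⁅P, U⁆) hp) x)
  have h2 := congrArg (fun t => x⁻¹ * t * x) h1
  simpa [mul_assoc] using h2.symm

theorem cset_eq_of_subset (hS : IsRootSubgroupSet S) (hpart : ∀ X ∈ S, ∃ Z ∈ S, IsRankOnePair X Z)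
    (hA : A ∈ S) (hC : C ∈ S) (hAC : A ≠ C)
    (hsub : centralizingMembers S A ⊆ centralizingMembers S C) :
    centralizingMembers S A = centralizingMembers S C := by
  have hcm : ∀ {X Y : Subgroup G}, Y ∈ S → (⁅X, Y⁆ = ⊥ ↔ Y ∈ centralizingMembers S X) :=
    fun {X Y} hY => ⟨fun h => ⟨hY, fun y hy => Subgroup.mem_centralizer_iff.2 fun x hx =>
      comm_of_bot h hx hy⟩, fun h => bot_of_comm fun x hx y hy =>
      Subgroup.mem_centralizer_iff.1 (h.2 hy) x hx⟩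
  have hstep : ∀ {Y}, Y ∈ S → ⁅A, Y⁆ = ⊥ → ⁅C, Y⁆ = ⊥ := fun hY h =>
    (hcm hY).2 (hsub ((hcm hY).1 h))
  have hbot : ⁅A, C⁆ = ⊥ :=
    comm_bot_symm (hstep hA (bot_of_comm fun x hx y hy => rs_comm hS hA hx hy))
  refine Set.Subset.antisymm hsub fun D hD => (hcm hD.1).1 ?_
  obtain ⟨E, hE, hrC⟩ := hpart C hC
  have hrA : IsRankOnePair A E := by
    rcases hS.pair A hA E hE with h | h | h
    · exact absurd (hstep hE h) (rop_commutator_ne_bot hrC)
    · exact h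
    · exfalso
      refine not_rankOne_of_centralizes_line h (rs_bot_notMem hS |> fun hb e => hb (e ▸ h.1))
        (comm_bot_symm hbot) (hstep h.1 ?_) (rop_symm hrC)
      exact bot_of_comm fun x hx w hw =>
        (rcc_central h hw ((le_sup_left : A ≤ A ⊔ E) hx)).symm
  have hDC : ⁅C, D⁆ = ⊥ := (hcm hD.1).2 hD
  refine bot_of_comm fun a ha d hd => ?_
  by_cases ha1 : a = 1
  · rw [ha1, one_mul, mul_one]
  refine shift_commutes hS hA hE hAC hbot hrA hrC ha ha1 (fun g hg i => ?_) d hd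
  have hmono : ∀ i : ℕ, ∀ Y ∈ S, ⁅C, Y⁆ = ⊥ → ⁅conjBy A (g ^ (i + 1)), Y⁆ = ⊥ := by
    intro i
    induction i with
    | zero => intro Y _ hY; rwa [zero_add, pow_one, hg]
    | succ k ih =>
      intro Y hY hCY
      have h1 := ih Y hY hCY
      have h2 : ⁅A, conjBy Y (g ^ (k + 1))⁻¹⁆ = ⊥ := by
        have := congrArg (fun X => conjBy X (g ^ (k + 1))⁻¹) h1
        simp only [conjBy_commutator, conjBy_bot, conjBy_inv_conjBy] at this
        exact this
      have h3 := congrArg (fun X => conjBy X (g ^ (k + 1)))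
        (hstep (hS.conj_mem Y hY _) h2)
      simp only [conjBy_commutator, conjBy_bot, conjBy_conjBy_inv] at h3
      rwa [← hg, ← conjBy_mul, ← pow_succ] at h3
  exact hmono i D hD.1 hDC

end CfsgLib.ThreeTransp

namespace CfsgLib.ThreeTransp

open Cfsg

variable {G : Type*} [Group G] {S : Set (Subgroup G)} {A C : Subgroup G}

theorem mem_centralizingMembers_iff {X Y : Subgroup G} (hY : Y ∈ S) :
    Y ∈ centralizingMembers S X ↔ ⁅X, Y⁆ = ⊥ :=
  ⟨fun h => bot_of_comm fun x hx y hy => Subgroup.mem_centralizer_iff.1 (h.2 hy) x hx,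
    fun h => ⟨hY, fun _ hy => Subgroup.mem_centralizer_iff.2 fun _ hx => comm_of_bot h hx hy⟩⟩

theorem pset_eq_of_subset (hS : IsRootSubgroupSet S) (hpart : ∀ X ∈ S, ∃ Z ∈ S, IsRankOnePair X Z)
    (hA : A ∈ S) (hC : C ∈ S) (hAC : A ≠ C)
    (hsub : rankOnePartners S A ⊆ rankOnePartners S C) :
    ⁅A, C⁆ = ⊥ ∧ rankOnePartners S A = rankOnePartners S C := by
  have hbot : ⁅A, C⁆ = ⊥ := by
    rcases hS.pair A hA C hC with h | h | h
    · exact h
    · exact absurd rfl (hsub ⟨hC, h⟩).2.ne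
    · exfalso
      have hs := rcc_symm h
      obtain ⟨U, hU, hUe⟩ := rcc_back hS hpart hC hs
      have h2 : RootCommutatorCase S ⁅C, A⁆ U := rcc_of_mem hS hs.1 hU (hUe.symm ▸ hC)
      have hr : IsRankOnePair A U := tri_rankOne hS hC hA hU hs (rcc_symm h2)
        ((Subgroup.commutator_comm U ⁅C, A⁆).trans hUe)
      exact rop_commutator_ne_bot (hsub ⟨hU, hr⟩).2
        (rcc_back_line hS hpart hs.1 hC hU hUe).1.2.2
  have hcs : centralizingMembers S C ⊆ centralizingMembers S A := by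
    intro Y hY
    have hCY := (mem_centralizingMembers_iff hY.1).1 hY
    refine (mem_centralizingMembers_iff hY.1).2 ?_
    rcases hS.pair A hA Y hY.1 with h | h | h
    · exact h
    · exact absurd hCY (rop_commutator_ne_bot (hsub ⟨hY.1, h⟩).2)
    · exfalso
      have hs := rcc_symm h
      obtain ⟨V, hV, hVe⟩ := rcc_back hS hpart hY.1 hs
      have h2 : RootCommutatorCase S ⁅Y, A⁆ V := rcc_of_mem hS hs.1 hV (hVe.symm ▸ hY.1)
      have hr : IsRankOnePair A V := tri_rankOne hS hY.1 hA hV hs (rcc_symm h2)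
        ((Subgroup.commutator_comm V ⁅Y, A⁆).trans hVe)
      have hCW : ⁅C, ⁅Y, A⁆⁆ = ⊥ := by
        have hle : ⁅Y, A⁆ ≤ Subgroup.centralizer (C : Set G) := by
          refine Subgroup.commutator_le.2 fun y hy a ha => ?_
          have k1 : y ∈ Subgroup.centralizer (C : Set G) :=
            Subgroup.mem_centralizer_iff.2 fun c hc => comm_of_bot hCY hc hy
          have k2 : a ∈ Subgroup.centralizer (C : Set G) :=
            Subgroup.mem_centralizer_iff.2 fun c hc => (comm_of_bot hbot ha hc).symm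
          exact mul_mem (mul_mem (mul_mem k1 k2) (inv_mem k1)) (inv_mem k2)
        exact bot_of_comm fun c hc w hw => Subgroup.mem_centralizer_iff.1 (hle hw) c hc
      exact not_rankOne_of_centralizes_line h2 (hVe.symm ▸ hS.ne_bot Y hY.1) hCW
        (hVe.symm ▸ hCY) (rop_symm (hsub ⟨hV, hr⟩).2)
  have heq := cset_eq_of_subset hS hpart hC hA hAC.symm hcs
  refine ⟨hbot, Set.Subset.antisymm hsub fun D hD => ⟨hD.1, ?_⟩⟩
  rcases hS.pair A hA D hD.1 with h | h | h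
  · exact absurd ((mem_centralizingMembers_iff hD.1).1 (heq.symm ▸ (mem_centralizingMembers_iff hD.1).2 h))
      (rop_commutator_ne_bot hD.2)
  · exact h
  · exfalso
    have hCW : ⁅C, ⁅A, D⁆⁆ = ⊥ :=
      (mem_centralizingMembers_iff h.1).1 (heq.symm ▸ (mem_centralizingMembers_iff h.1).2
        (bot_of_comm fun x hx w hw =>
          (rcc_central h hw ((le_sup_left : A ≤ A ⊔ D) hx)).symm))
    exact not_rankOne_of_centralizes_line h (fun e => rs_bot_notMem hS (e ▸ h.1))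
      (comm_bot_symm hbot) hCW (rop_symm hD.2)

end CfsgLib.ThreeTransp
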