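import Cfsg.Agent.Lib.ThreeTransp.PrimeInv
import Cfsg.Agent.Lib.KnownB.Semisimple

/-!
Diagonal models of elements whose `r`th power is a scalar with a root in the field.
-/

set_option autoImplicit false

namespace CfsgLib.ThreeTransp.DiagModel

open Polynomial Matrix

variable {F : Type*} [Field F] [Fintype F] {r n : ℕ} [Fact r.Prime]

theorem exists_roots (hrF : r ∣ Fintype.card F - 1) {c : F} {x : Matrix (Fin n) (Fin n) F}
    (hx : x ^ r = (c ^ r) • 1) :
    ∃ d : Fin n → F, x.charpoly = ∏ i, (X - C (d i)) ∧ ∀ i, d i ^ r = c ^ r := by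
  classical
  obtain ⟨ζu, hζu⟩ := exists_prime_orderOf_dvd_card r (G := Fˣ) (by rw [Fintype.card_units]; exact hrF)
  have hprim : IsPrimitiveRoot (ζu : F) r := by
    rw [← hζu, ← orderOf_units]; exact IsPrimitiveRoot.orderOf _
  have hprod := X_pow_sub_C_eq_prod hprim (Fact.out : r.Prime).pos (α := c) rfl
  let S := UniqueFactorizationMonoid.normalizedFactors x.charpoly
  have hlin : ∀ Q ∈ S, ∃ ω : F, Q = X - C ω ∧ ω ^ r = c ^ r := fun Q hQ => by
    have hQi := UniqueFactorizationMonoid.irreducible_of_normalized_factor Q hQ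
    have hdv : Q ∣ X ^ r - C (c ^ r) := by
      refine (CfsgLib.KnownB.Semisimple.dvd_minpoly_of_dvd_charpoly (Matrix.toLin' x) hQi (by
        rw [Matrix.charpoly_toLin']; exact UniqueFactorizationMonoid.dvd_of_mem_normalizedFactors hQ)).trans
        (minpoly.dvd F _ ?_)
      rw [show Matrix.toLin' x = Matrix.toLinAlgEquiv' x from rfl, aeval_algHom_apply, map_sub, map_pow, aeval_X,
        aeval_C, hx, Algebra.algebraMap_eq_smul_one, sub_self, map_zero]
    rw [hprod] at hdv
    obtain ⟨i, -, hi⟩ := (hQi.prime.dvd_finsetProd_iff _).1 hdv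
    refine ⟨(ζu : F) ^ i * c, eq_of_monic_of_associated
      (CfsgLib.KnownB.PrimeOrder.monic_of_mem_nf hQ) (monic_X_sub_C _)
      (hQi.associated_of_dvd (irreducible_X_sub_C _) hi), ?_⟩
    rw [mul_pow, ← pow_mul, mul_comm i, pow_mul, hprim.pow_eq_one, one_pow, one_mul]
  choose! g hg hg' using hlin
  have hchar : x.charpoly = (S.map fun Q => (X - C (g Q) : F[X])).prod := by
    rw [← Multiset.map_congr rfl hg, Multiset.map_id']
    exact (CfsgLib.KnownB.PrimeOrder.monic_prod_normalizedFactors (Matrix.charpoly_monic _)).symm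
  have hcard : Multiset.card (S.map g) = n := by
    have h := congrArg natDegree hchar
    rw [Matrix.charpoly_natDegree_eq_dim, Fintype.card_fin,
      show (fun Q => (X - C (g Q) : F[X])) = (fun u => (X - C u : F[X])) ∘ g from rfl, ← Multiset.map_map,
      natDegree_multiset_prod_X_sub_C_eq_card] at h
    exact h.symm
  let e : Fin n ≃ Fin (S.map g).toList.length := finCongr (by rw [Multiset.length_toList, hcard])
  refine ⟨fun i => (S.map g).toList.get (e i), ?_, fun i => ?_⟩
  · rw [hchar, Finset.prod_eq_multiset_prod,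
      show (fun i => X - C ((S.map g).toList.get (e i))) = ((fun u => (X - C u : F[X])) ∘ (S.map g).toList.get) ∘ e
        from rfl, ← Multiset.map_map,
      show Multiset.map e (Finset.univ : Finset (Fin n)).val = (Finset.univ : Finset _).val from
        congrArg Finset.val (Finset.map_univ_equiv e),
      ← Multiset.map_map, Fin.univ_val_map,
      (congrArg _ (List.ofFn_get _)).trans (Multiset.coe_toList (S.map g)), Multiset.map_map]
    rfl
  · obtain ⟨Q, hQ, hQe⟩ := Multiset.mem_map.1 (Multiset.mem_toList.1 (List.get_mem (S.map g).toList (e i)))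
    show (S.map g).toList.get (e i) ^ r = c ^ r
    rw [← hQe]
    exact hg' Q hQ

theorem isConj_diag (hr : (r : F) ≠ 0) {x D : GL (Fin n) F} {z : F} (hz0 : z ≠ 0)
    (hx : (x : Matrix (Fin n) (Fin n) F) ^ r = z • 1) {d : Fin n → F} (hd : ∀ i, d i ^ r = z)
    (hD : (D : Matrix (Fin n) (Fin n) F) = Matrix.diagonal d)
    (hchar : (x : Matrix (Fin n) (Fin n) F).charpoly = ∏ i, (X - C (d i))) : IsConj x D := by
  classical
  have hss : ∀ y : GL (Fin n) F, (y : Matrix (Fin n) (Fin n) F) ^ r = z • 1 →
      Module.End.IsSemisimple (Matrix.toLin' (y : Matrix (Fin n) (Fin n) F)) := fun y hy => by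
    refine Module.End.isSemisimple_of_squarefree_aeval_eq_zero (p := X ^ r - C z)
      (separable_X_pow_sub_C _ hr hz0).squarefree ?_
    rw [show Matrix.toLin' (y : Matrix (Fin n) (Fin n) F) = Matrix.toLinAlgEquiv' (y : Matrix (Fin n) (Fin n) F)
      from rfl, aeval_algHom_apply, map_sub, map_pow, aeval_X, aeval_C, hy, Algebra.algebraMap_eq_smul_one,
      sub_self, map_zero]
  refine CfsgLib.KnownB.Semisimple.isConj_of_charpoly (hss x hx) (hss D ?_) ?_
  · rw [hD, Matrix.diagonal_pow, Matrix.smul_one_eq_diagonal]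
    exact congrArg _ (funext hd)
  · rw [hchar, hD, Matrix.charpoly_diagonal]

end CfsgLib.ThreeTransp.DiagModel
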