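import Cfsg.Agent.Lib.Involutions.ZStar.Main
import Cfsg.Agent.Lib.Involutions.Isolated
import Cfsg.Agent.Lib.Transfer.ThompsonTransfer
import Cfsg.Agent.Lib.Transfer.Fusion
import Cfsg.Agent.Lib.PGroups.Basic
import Cfsg.Agent.Lib.Geometry.SmallQuot

/-!
# Simple groups with an involution centralizer a Sylow 2-subgroup with small Frattini subgroup

If `R = C(z)` is a Sylow 2-subgroup of a non-abelian simple group and `Φ(R) = ⟨z⟩`, then `R`
is dihedral of order eight.
-/

set_option autoImplicit false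

open Subgroup
open scoped commutatorElement

namespace CfsgLib.ThreeTransp

theorem eq_one_or_of_mem_zpowers {L : Type*} [Group L] {z r : L} (hzz : z * z = 1)
    (hr : r ∈ zpowers z) : r = 1 ∨ r = z := by
  obtain ⟨k, rfl⟩ := mem_zpowers_iff.mp hr
  rcases Int.even_or_odd' k with ⟨m, rfl | rfl⟩
  · left; simp [zpow_mul, pow_two, hzz]
  · right; simp [zpow_add, zpow_mul, pow_two, hzz]

theorem commute_conjugate_iff {L : Type*} [Group L] (g : L) {a b : L} :
    Commute (g * a * g⁻¹) (g * b * g⁻¹) ↔ Commute a b := by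
  simp [Commute, SemiconjBy, mul_assoc]
  simp [← mul_assoc]

/-- `R = C(z)` is a Sylow 2-subgroup, all squares and commutators of `R` lie in `⟨z⟩`. -/
structure SFC {L : Type*} [Group L] (z : L) (R : Sylow 2 L) : Prop where
  hz : orderOf z = 2
  mem_iff : ∀ r, r ∈ (R : Subgroup L) ↔ Commute r z
  sq : ∀ r ∈ (R : Subgroup L), r * r = 1 ∨ r * r = z
  comm : ∀ a ∈ (R : Subgroup L), ∀ b ∈ (R : Subgroup L),
    a * b * a⁻¹ = b ∨ a * b * a⁻¹ = b * z
  norm : ∀ n ∈ normalizer ((R : Subgroup L) : Set L), n * z * n⁻¹ = z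

section Build

variable {L : Type*} [Group L] [Finite L]

theorem sfc_of_frattini {z : L} (hz : orderOf z = 2) (R : Sylow 2 L)
    (hR : (R : Subgroup L) = centralizer ({z} : Set L))
    (hΦ : (frattini ↥(R : Subgroup L)).map (R : Subgroup L).subtype = zpowers z) : SFC z R := by
  have hzz : z * z = 1 := by rw [← sq, ← hz]; exact pow_orderOf_eq_one z
  have h2 : ∀ r, r ∈ zpowers z → r = 1 ∨ r = z := fun r hr => eq_one_or_of_mem_zpowers hzz hr
  have hmem : ∀ r, r ∈ (R : Subgroup L) ↔ Commute r z := by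
    intro r
    rw [hR, mem_centralizer_singleton_iff]
    exact Iff.rfl
  have hF : ∀ r : ↥(R : Subgroup L), r ∈ frattini ↥(R : Subgroup L) → (r : L) = 1 ∨ (r : L) = z :=
    fun r hr => h2 r (hΦ ▸ mem_map.mpr ⟨r, hr, rfl⟩)
  refine ⟨hz, hmem, fun r hr => ?_, fun a ha b hb => ?_, fun n hn => ?_⟩
  · simpa [sq] using hF (⟨r, hr⟩ ^ 2) (PGroups.pow_mem_frattini R.isPGroup' _)
  · have h := hF ⁅(⟨a, ha⟩ : ↥(R : Subgroup L)), ⟨b, hb⟩⁆
      (PGroups.commutator_le_frattini R.isPGroup'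
        (commutator_mem_commutator (mem_top _) (mem_top _)))
    have hbz : b * z = z * b := ((hmem b).mp hb).eq
    rcases h with h | h
    · left
      rw [commutatorElement_def] at h
      simpa [mul_inv_eq_one] using h
    · right
      rw [commutatorElement_def] at h
      have h' : a * b * a⁻¹ * b⁻¹ = z := by simpa using h
      rw [hbz, ← h']; group
  · have hn' : ∀ r, r ∈ (R : Subgroup L) ↔ n * r * n⁻¹ ∈ (R : Subgroup L) :=
      fun r => mem_normalizer_iff.mp hn r
    let φ : ↥(R : Subgroup L) ≃* ↥(R : Subgroup L) :=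
      { toFun := fun r => ⟨n * r * n⁻¹, (hn' r).mp r.2⟩
        invFun := fun r => ⟨n⁻¹ * r * n, (hn' _).mpr (by simp [mul_assoc])⟩
        left_inv := fun r => by ext; simp [mul_assoc]
        right_inv := fun r => by ext; simp [mul_assoc]
        map_mul' := fun r s => by ext; simp [mul_assoc] }
    obtain ⟨z', hz', hzz'⟩ := mem_map.mp (show z ∈ (frattini ↥(R : Subgroup L)).map _ from
      hΦ.symm ▸ mem_zpowers z)
    have hfix : (frattini ↥(R : Subgroup L)).comap φ.toMonoidHom = frattini ↥(R : Subgroup L) :=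
      (inferInstance : (frattini ↥(R : Subgroup L)).Characteristic).fixed φ
    rw [← hfix, mem_comap] at hz'
    have h : n * (z' : L) * n⁻¹ = 1 ∨ n * (z' : L) * n⁻¹ = z := hF (φ z') hz'
    rw [show (z' : L) = z from hzz'] at h
    refine h.resolve_left fun h1 => ?_
    have h0 : z = 1 := by simpa using h1
    rw [h0, orderOf_one] at hz
    norm_num at hz

end Build

/-- adjoin an element `a` with `a * a ∈ H` normalising `H` -/
def adjoinInv {L : Type*} [Group L] (H : Subgroup L) (a : L) (haa : a * a ∈ H)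
    (hn : ∀ h ∈ H, a * h * a⁻¹ ∈ H) : Subgroup L where
  carrier := {r | r ∈ H ∨ a⁻¹ * r ∈ H}
  one_mem' := Or.inl H.one_mem
  mul_mem' := by
    rintro r s (hr | hr) (hs | hs)
    · exact Or.inl (mul_mem hr hs)
    · right
      have h1 : a⁻¹ * r * a ∈ H := by
        have := mul_mem (mul_mem (inv_mem haa) (hn r hr)) haa
        simpa [mul_assoc] using this
      simpa [mul_assoc] using mul_mem h1 hs
    · exact Or.inr (by simpa [mul_assoc] using mul_mem hr hs)
    · left
      have h1 := mul_mem (mul_mem (hn _ hr) haa) hs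
      simpa [mul_assoc] using h1
  inv_mem' := by
    rintro r (hr | hr)
    · exact Or.inl (inv_mem hr)
    · right
      have h1 := mul_mem (inv_mem haa) (hn _ (inv_mem hr))
      simpa [mul_assoc] using h1

theorem mem_adjoinInv {L : Type*} [Group L] {H : Subgroup L} {a : L} {haa : a * a ∈ H}
    {hn : ∀ h ∈ H, a * h * a⁻¹ ∈ H} {r : L} :
    r ∈ adjoinInv H a haa hn ↔ r ∈ H ∨ a⁻¹ * r ∈ H := Iff.rfl

namespace SFC

variable {L : Type*} [Group L] {z : L} {R : Sylow 2 L} (H : SFC z R)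
include H

theorem zz : z * z = 1 := by rw [← _root_.sq, ← H.hz]; exact pow_orderOf_eq_one z

theorem z_ne : z ≠ 1 := fun h => by simpa [h] using H.hz

theorem z_mem : z ∈ (R : Subgroup L) := (H.mem_iff z).mpr (Commute.refl z)

theorem conj_ne_one (g : L) : g * z * g⁻¹ ≠ 1 := fun h => H.z_ne (by simpa using h)

theorem conj_sq (g : L) : g * z * g⁻¹ * (g * z * g⁻¹) = 1 := by
  simp [mul_assoc, ← mul_assoc z z, H.zz]

theorem conj_mem_iff {g r : L} :
    g⁻¹ * r * g ∈ (R : Subgroup L) ↔ Commute r (g * z * g⁻¹) := by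
  rw [H.mem_iff, ← commute_conjugate_iff g]
  simp [mul_assoc]

theorem conj_eq_or {g r : L} (hr : Commute r (g * z * g⁻¹)) {s : L}
    (hs : Commute s (g * z * g⁻¹)) :
    r * s * r⁻¹ = s ∨ r * s * r⁻¹ = s * (g * z * g⁻¹) := by
  rcases H.comm _ (H.conj_mem_iff.mpr hr) _ (H.conj_mem_iff.mpr hs) with h | h
  · left
    have := congrArg (fun v => g * v * g⁻¹) h
    simpa [mul_assoc] using this
  · right
    have := congrArg (fun v => g * v * g⁻¹) h
    simpa [mul_assoc] using this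

theorem sq_eq_one {g r : L} (hne : g * z * g⁻¹ ≠ z) (hr : r ∈ (R : Subgroup L))
    (hrc : Commute r (g * z * g⁻¹)) : r * r = 1 := by
  rcases H.sq r hr with h | h
  · exact h
  rcases H.sq _ (H.conj_mem_iff.mpr hrc) with h' | h'
  · have := congrArg (fun v => g * v * g⁻¹) h'
    simpa [mul_assoc] using this
  · have : r * r = g * z * g⁻¹ := by
      have := congrArg (fun v => g * v * g⁻¹) h'
      simpa [mul_assoc] using this
    exact absurd (this.symm.trans h) hne

theorem commute_of_commute {g a b : L} (hne : g * z * g⁻¹ ≠ z) (ha : a ∈ (R : Subgroup L))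
    (hat : Commute a (g * z * g⁻¹)) (hb : b ∈ (R : Subgroup L))
    (hbt : Commute b (g * z * g⁻¹)) : Commute a b := by
  have h1 := H.sq_eq_one hne ha hat
  have h2 := H.sq_eq_one hne hb hbt
  have h3 := H.sq_eq_one hne (mul_mem ha hb) (hat.mul_left hbt)
  have e1 : a⁻¹ = a := inv_eq_of_mul_eq_one_right h1
  have e2 : b⁻¹ = b := inv_eq_of_mul_eq_one_right h2
  have e3 : (a * b)⁻¹ = a * b := inv_eq_of_mul_eq_one_right h3
  rw [mul_inv_rev, e1, e2] at e3
  exact e3.symm

variable [Finite L]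

/-- Burnside -/
theorem eq_of_central {a b g : L} (ha : a ∈ (R : Subgroup L))
    (hac : ∀ r ∈ (R : Subgroup L), Commute r a) (hb : b ∈ (R : Subgroup L))
    (hbc : ∀ r ∈ (R : Subgroup L), Commute r b) (hg : g * a * g⁻¹ = b) : a = b := by
  obtain ⟨n, hn, hn'⟩ := Transfer.exists_mem_normalizer_conj R
    (mem_centralizer_iff.mpr fun r hr => (hac r hr).eq)
    (mem_centralizer_iff.mpr fun r hr => (hbc r hr).eq) hg
  have hnR : n ∈ (R : Subgroup L) := by
    rw [H.mem_iff]
    exact mul_inv_eq_iff_eq_mul.mp (H.norm n hn)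
  rw [(hac n hnR).eq] at hn'
  simpa using hn'

theorem exists_moves {g : L} (hmem : g * z * g⁻¹ ∈ (R : Subgroup L))
    (hne : g * z * g⁻¹ ≠ z) :
    ∃ x ∈ (R : Subgroup L), x * (g * z * g⁻¹) * x⁻¹ = g * z * g⁻¹ * z := by
  by_contra! h
  refine hne (H.eq_of_central H.z_mem (fun r hr => (H.mem_iff r).mp hr) hmem
    (fun r hr => ?_) rfl).symm
  exact mul_inv_eq_iff_eq_mul.mp ((H.comm r hr _ hmem).resolve_right (h r hr))

theorem exists_partner {g : L} (hmem : g * z * g⁻¹ ∈ (R : Subgroup L))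
    (hne : g * z * g⁻¹ ≠ z) :
    ∃ y : L, Commute y (g * z * g⁻¹) ∧ y * z * y⁻¹ = z * (g * z * g⁻¹) := by
  have hm : g⁻¹ * z * g⁻¹⁻¹ ∈ (R : Subgroup L) := by
    rw [inv_inv, H.conj_mem_iff]; exact ((H.mem_iff _).mp hmem).symm
  have hne' : g⁻¹ * z * g⁻¹⁻¹ ≠ z := fun h => hne (by
    rw [inv_inv] at h
    conv_lhs => rw [← h]
    group)
  obtain ⟨x, hx, hxz⟩ := H.exists_moves hm hne'
  refine ⟨g * x * g⁻¹, ?_, ?_⟩
  · rw [commute_conjugate_iff]; exact (H.mem_iff x).mp hx
  · have := congrArg (fun v => g * v * g⁻¹) hxz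
    simpa [mul_assoc] using this

/-- the coset decomposition of `R` by an element moving `t` -/
theorem commute_or_inv_mul {t x r : L} (htR : t ∈ (R : Subgroup L)) (hx : x * t * x⁻¹ = t * z)
    (hr : r ∈ (R : Subgroup L)) : Commute r t ∨ Commute (x⁻¹ * r) t := by
  rcases H.comm r hr t htR with h | h
  · exact Or.inl (mul_inv_eq_iff_eq_mul.mp h)
  · refine Or.inr (mul_inv_eq_iff_eq_mul.mp ?_)
    calc x⁻¹ * r * t * (x⁻¹ * r)⁻¹ = x⁻¹ * (r * t * r⁻¹) * x := by group
      _ = x⁻¹ * (x * t * x⁻¹) * x := by rw [h, hx]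
      _ = t := by group

theorem central_of_commute {g x : L} (hmem : g * z * g⁻¹ ∈ (R : Subgroup L))
    (hne : g * z * g⁻¹ ≠ z) (hxR : x ∈ (R : Subgroup L))
    (hx : x * (g * z * g⁻¹) * x⁻¹ = g * z * g⁻¹ * z) {a : L} (ha : a ∈ (R : Subgroup L))
    (hat : Commute a (g * z * g⁻¹)) (hax : Commute x a) :
    ∀ r ∈ (R : Subgroup L), Commute r a := by
  intro r hr
  rcases H.commute_or_inv_mul hmem hx hr with h | h
  · exact H.commute_of_commute hne hr h ha hat
  · have := hax.mul_left (H.commute_of_commute hne (mul_mem (inv_mem hxR) hr) h ha hat)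
    simpa using this

/-- the conjugates of `z` in `R` commuting with one of them -/
theorem eq_or_eq {g k : L} (hmem : g * z * g⁻¹ ∈ (R : Subgroup L))
    (hne : g * z * g⁻¹ ≠ z) (hs : k * z * k⁻¹ ∈ (R : Subgroup L)) (hsne : k * z * k⁻¹ ≠ z)
    (hst : Commute (k * z * k⁻¹) (g * z * g⁻¹)) :
    k * z * k⁻¹ = g * z * g⁻¹ ∨ k * z * k⁻¹ = g * z * g⁻¹ * z := by
  obtain ⟨x, hxR, hx⟩ := H.exists_moves hmem hne
  obtain ⟨y, hyt, hy⟩ := H.exists_partner hmem hne
  set t := g * z * g⁻¹ with ht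
  have htz : Commute t z := (H.mem_iff t).mp hmem
  have hy' : ∀ v : L, v ∈ (R : Subgroup L) → Commute v t → (∃ m, v = m * z * m⁻¹) →
      Commute y v → v = t := by
    rintro v hv hvt ⟨m, hm⟩ hyv
    have hcen : ∀ c, Commute c t → Commute c v := by
      intro c hc
      rcases H.conj_eq_or hc htz.symm with h | h
      · exact H.commute_of_commute hne ((H.mem_iff c).mpr (mul_inv_eq_iff_eq_mul.mp h)) hc hv hvt
      · have h' : Commute (y⁻¹ * c) z := by
          refine mul_inv_eq_iff_eq_mul.mp ?_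
          calc y⁻¹ * c * z * (y⁻¹ * c)⁻¹ = y⁻¹ * (c * z * c⁻¹) * y := by group
            _ = y⁻¹ * (y * z * y⁻¹) * y := by rw [h, hy]
            _ = z := by group
        have := hyv.mul_left (H.commute_of_commute hne ((H.mem_iff _).mpr h')
          (hyt.inv_left.mul_left hc) hv hvt)
        simpa using this
    have h1 : g⁻¹ * v * g ∈ (R : Subgroup L) := H.conj_mem_iff.mpr hvt
    have h2 : ∀ r ∈ (R : Subgroup L), Commute r (g⁻¹ * v * g) := fun r hr => by
      rw [← commute_conjugate_iff g]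
      have := hcen (g * r * g⁻¹) ((commute_conjugate_iff g).mpr ((H.mem_iff r).mp hr))
      simpa [mul_assoc] using this
    have h3 := H.eq_of_central H.z_mem (fun r hr => (H.mem_iff r).mp hr) h1 h2
      (g := g⁻¹ * m) (by rw [hm]; group)
    rw [ht]
    conv_rhs => rw [h3]
    group
  set s := k * z * k⁻¹ with hs0
  have hsz : Commute s z := (H.mem_iff s).mp hs
  by_cases hys : Commute y s
  · exact Or.inl (hy' s hs hst ⟨k, hs0⟩ hys)
  right
  have hys' : y * s * y⁻¹ = s * t :=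
    (H.conj_eq_or hyt hst).resolve_left fun h => hys (mul_inv_eq_iff_eq_mul.mp h)
  have hxs : x * s * x⁻¹ = s * z := by
    refine (H.comm x hxR s hs).resolve_left fun h => hsne ?_
    exact (H.eq_of_central H.z_mem (fun r hr => (H.mem_iff r).mp hr) hs
      (H.central_of_commute hmem hne hxR hx hs hst (mul_inv_eq_iff_eq_mul.mp h)) rfl).symm
  have hty : t * (z * t) = z := by
    rw [htz.symm.eq, ← mul_assoc, ht, H.conj_sq, one_mul]
  have hc : Commute y (s * z) := by
    refine mul_inv_eq_iff_eq_mul.mp ?_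
    calc y * (s * z) * y⁻¹ = y * s * y⁻¹ * (y * z * y⁻¹) := by group
      _ = s * z := by rw [hys', hy, mul_assoc, hty]
  have := hy' (s * z) (mul_mem hs H.z_mem) (hst.mul_left htz.symm)
    ⟨x * k, by rw [← hxs, hs0]; group⟩ hc
  rw [← this, mul_assoc, H.zz, mul_one]

/-- three conjugates of `z` in `R`, two of them not commuting -/
theorem commute_or {g h k : L} (hg : g * z * g⁻¹ ∈ (R : Subgroup L))
    (hh : h * z * h⁻¹ ∈ (R : Subgroup L)) (hk : k * z * k⁻¹ ∈ (R : Subgroup L))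
    (hgh : ¬ Commute (g * z * g⁻¹) (h * z * h⁻¹)) :
    Commute (k * z * k⁻¹) (g * z * g⁻¹) ∨ Commute (k * z * k⁻¹) (h * z * h⁻¹) := by
  by_contra! hc
  obtain ⟨hc1, hc2⟩ := hc
  have hkne : k * z * k⁻¹ ≠ z := fun he => hc1 (by rw [he]; exact ((H.mem_iff _).mp hg).symm)
  have e : ∀ m, m * z * m⁻¹ ∈ (R : Subgroup L) → ¬ Commute (k * z * k⁻¹) (m * z * m⁻¹) →
      m * z * m⁻¹ * (k * z * k⁻¹) * (m * z * m⁻¹)⁻¹ = k * z * k⁻¹ * z := fun m hm hn =>
    (H.comm _ hm _ hk).resolve_left fun h => hn (Commute.symm (mul_inv_eq_iff_eq_mul.mp h))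
  have hz' : g * z * g⁻¹ * z * (g * z * g⁻¹)⁻¹ = z :=
    mul_inv_eq_iff_eq_mul.mpr ((H.mem_iff _).mp hg)
  have hcm : Commute (g * z * g⁻¹ * (h * z * h⁻¹)) (k * z * k⁻¹) := by
    refine mul_inv_eq_iff_eq_mul.mp ?_
    have e1 := e g hg hc1
    have e2 := e h hh hc2
    revert e1 e2 hz'
    generalize g * z * g⁻¹ = a
    generalize h * z * h⁻¹ = b
    generalize k * z * k⁻¹ = c
    intro hz' e1 e2
    calc a * b * c * (a * b)⁻¹ = a * (b * c * b⁻¹) * a⁻¹ := by group
      _ = (a * c * a⁻¹) * (a * z * a⁻¹) := by rw [e2]; group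
      _ = c := by rw [e1, hz', mul_assoc, H.zz, mul_one]
  have h1 := H.sq_eq_one hkne (mul_mem hg hh) hcm
  have h2 := inv_eq_of_mul_eq_one_right h1
  rw [mul_inv_rev, inv_eq_of_mul_eq_one_right (H.conj_sq h),
    inv_eq_of_mul_eq_one_right (H.conj_sq g)] at h2
  exact hgh h2.symm

/-- a central element outside a subgroup containing the conjugates of `z` in `R` is fused into
every index two subgroup containing them, and this is impossible -/
theorem false_of_avoid {w : L} (hw : w ∈ (R : Subgroup L))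
    (hwc : ∀ r ∈ (R : Subgroup L), Commute r w) (hw2 : w * w = 1)
    (hno : ∀ M : Subgroup L, M.Normal → M.index ≠ 2)
    {D : Subgroup L} (hD : D ≤ (R : Subgroup L)) (hzD : z ∈ D) (hwD : w ∉ D)
    (hall : ∀ k : L, k * z * k⁻¹ ∈ (R : Subgroup L) → k * z * k⁻¹ ∈ D) : False := by
  classical
  obtain ⟨Q, hQ⟩ := (Set.toFinite {Q : Subgroup L | D ≤ Q ∧ Q ≤ (R : Subgroup L) ∧ w ∉ Q}
    ).exists_maximal ⟨D, le_rfl, hD, hwD⟩
  obtain ⟨⟨hDQ, hQR, hwQ⟩, hQmax⟩ := hQ
  have hzQ : z ∈ Q := hDQ hzD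
  have hcoset : ∀ a ∈ (R : Subgroup L), a ∉ Q → a⁻¹ * w ∈ Q := by
    intro a ha haQ
    have haa : a * a ∈ Q := by
      rcases H.sq a ha with h | h <;> rw [h]
      exacts [one_mem _, hzQ]
    have hn : ∀ v ∈ Q, a * v * a⁻¹ ∈ Q := by
      intro v hv
      rcases H.comm a ha v (hQR hv) with h | h <;> rw [h]
      exacts [hv, mul_mem hv hzQ]
    by_contra hc
    have hle : adjoinInv Q a haa hn ≤ Q := hQmax ⟨fun v hv => Or.inl (hDQ hv), fun v hv => by
        rcases hv with hv | hv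
        · exact hQR hv
        · simpa using mul_mem ha (hQR hv), fun hv => hv.elim hwQ hc⟩ (fun v hv => Or.inl hv)
    exact haQ (hle (Or.inr (by simp)))
  have hidx : Q.relIndex (R : Subgroup L) = 2 := by
    refine relIndex_eq_two_iff.mpr ⟨w, hw, fun b hb => ?_⟩
    by_cases hbQ : b ∈ Q
    · exact Or.inr ⟨hbQ, fun h => hwQ (by simpa using mul_mem (inv_mem hbQ) h)⟩
    · refine Or.inl ⟨?_, hbQ⟩
      have h1 := mul_mem (show b * b ∈ Q by
        rcases H.sq b hb with h | h <;> rw [h]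
        exacts [one_mem _, hzQ]) (hcoset b hb hbQ)
      simpa [mul_assoc] using h1
  have hwo : orderOf w = 2 :=
    orderOf_eq_prime (by rw [_root_.sq, hw2]) fun h => hwQ (h ▸ one_mem Q)
  obtain ⟨k, hk⟩ : ∃ k : L, k * w * k⁻¹ ∈ Q := by
    by_contra! h
    obtain ⟨M, hM, hMi, -⟩ := Transfer.exists_index_two_of_not_conj_mem R hQR hidx hwo h
    exact hno M hM hMi
  by_cases hcen : ∀ r ∈ (R : Subgroup L), Commute r (k * w * k⁻¹)
  · exact hwQ ((H.eq_of_central hw hwc (hQR hk) hcen rfl).symm ▸ hk)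
  -- move `C_R(u)` into `R`
  obtain ⟨u, hu⟩ : ∃ u, u = k * w * k⁻¹ := ⟨_, rfl⟩
  rw [← hu] at hk hcen
  have hRC : (R : Subgroup L) ≤ centralizer ({w} : Set L) := fun r hr =>
    mem_centralizer_singleton_iff.mpr (hwc r hr).eq
  set V : Subgroup L := ((R : Subgroup L) ⊓ centralizer ({u} : Set L)).map
    (MulAut.conj k⁻¹).toMonoidHom with hV
  have hVp : IsPGroup 2 V := (R.isPGroup'.to_le inf_le_left).map _
  have hVK : V ≤ centralizer ({w} : Set L) := by
    rintro v ⟨r, hr, rfl⟩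
    rw [mem_centralizer_singleton_iff]
    have hru : Commute r u := mem_centralizer_singleton_iff.mp hr.2
    have := (commute_conjugate_iff k⁻¹).mpr hru
    rw [hu] at this
    simpa [mul_assoc, Commute, SemiconjBy] using this
  obtain ⟨c, hc, hcV⟩ := Transfer.exists_conj_le_of_isPGroup R.isPGroup' hRC
    (fun h => R.not_dvd_index (h.trans (relIndex_dvd_index_of_le hRC))) hVp hVK
  have hcw : Commute c w := mem_centralizer_singleton_iff.mp hc
  obtain ⟨g, hg⟩ : ∃ g, g = k * c := ⟨_, rfl⟩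
  have hgu : g * w * g⁻¹ = u := by
    rw [hg, hu, show k * c * w * (k * c)⁻¹ = k * (c * w * c⁻¹) * k⁻¹ by group,
      mul_inv_eq_iff_eq_mul.mpr hcw]
  have hgR : ∀ r ∈ (R : Subgroup L), Commute r u → g⁻¹ * r * g ∈ (R : Subgroup L) := by
    intro r hr hru
    have := hcV (k⁻¹ * r * k) ⟨r, ⟨hr, mem_centralizer_singleton_iff.mpr hru⟩, by simp⟩
    rw [hg]
    simpa [mul_assoc] using this
  have huz : Commute z u := ((H.mem_iff u).mp (hQR hk)).symm
  have hzt : Commute z (g * z * g⁻¹) := H.conj_mem_iff.mp (hgR z H.z_mem huz)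
  have htR : g * z * g⁻¹ ∈ (R : Subgroup L) := (H.mem_iff _).mpr hzt.symm
  have htne : g * z * g⁻¹ ≠ z := fun he => hcen (fun r hr => by
    have hg' : g ∈ (R : Subgroup L) := (H.mem_iff g).mpr (mul_inv_eq_iff_eq_mul.mp he)
    rw [(hwc g hg').eq, mul_inv_cancel_right] at hgu
    exact hgu ▸ hwc r hr)
  obtain ⟨x, hxR, hx⟩ := H.exists_moves htR htne
  obtain ⟨y, hyt, hy⟩ := H.exists_partner htR htne
  obtain ⟨t, ht⟩ : ∃ t, t = g * z * g⁻¹ := ⟨_, rfl⟩
  have hut : Commute u (g * z * g⁻¹) := by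
    rw [← hgu, commute_conjugate_iff]
    exact (H.mem_iff w).mp hw
  have huc : ∀ v, Commute v (g * z * g⁻¹) → Commute v u := fun v hv => by
    have := (commute_conjugate_iff g).mpr (hwc _ (H.conj_mem_iff.mpr hv))
    rw [hgu] at this
    simpa [mul_assoc] using this
  have hxu : x * u * x⁻¹ = u * z := (H.comm x hxR u (hQR hk)).resolve_left fun h =>
    hcen (H.central_of_commute htR htne hxR hx (hQR hk) hut (mul_inv_eq_iff_eq_mul.mp h))
  rw [← ht] at hzt htR htne hx hy hyt hut huc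
  have htt : t * t = 1 := ht ▸ H.conj_sq g
  have hxz : x * z * x⁻¹ = z := mul_inv_eq_iff_eq_mul.mpr ((H.mem_iff x).mp hxR)
  have hxc : Commute x (u * t) := by
    refine mul_inv_eq_iff_eq_mul.mp ?_
    calc x * (u * t) * x⁻¹ = x * u * x⁻¹ * (x * t * x⁻¹) := by group
      _ = u * (z * t) * z := by rw [hxu, hx]; simp [mul_assoc]
      _ = u * t := by rw [hzt.eq]; simp [mul_assoc, H.zz]
  have hyc : Commute y (u * t) := (huc y hyt).mul_right hyt
  have hcR : u * t ∈ (R : Subgroup L) := mul_mem (hQR hk) htR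
  have hcc : ∀ r ∈ (R : Subgroup L), Commute r (u * t) := by
    subst ht
    exact H.central_of_commute htR htne hxR hx hcR (hut.mul_left (Commute.refl _)) hxc
  -- `x y` maps `z` to `t` and fixes `u t`
  have hmap : x * y * (u * t * z) * (x * y)⁻¹ = u := by
    have e1 : x * y * z * (x * y)⁻¹ = t := by
      calc x * y * z * (x * y)⁻¹ = x * (y * z * y⁻¹) * x⁻¹ := by group
        _ = x * z * x⁻¹ * (x * t * x⁻¹) := by rw [hy]; group
        _ = t := by rw [hxz, hx, ← mul_assoc, hzt.eq, mul_assoc, H.zz, mul_one]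
    have e2 : x * y * (u * t) * (x * y)⁻¹ = u * t :=
      mul_inv_eq_iff_eq_mul.mpr (hxc.mul_left hyc)
    calc x * y * (u * t * z) * (x * y)⁻¹
        = x * y * (u * t) * (x * y)⁻¹ * (x * y * z * (x * y)⁻¹) := by group
      _ = u := by rw [e1, e2, mul_assoc, htt, mul_one]
  have hwe := H.eq_of_central hw hwc (mul_mem hcR H.z_mem)
    (fun r hr => (hcc r hr).mul_right ((H.mem_iff r).mp hr)) (g := (x * y)⁻¹ * g) (by
      rw [show (x * y)⁻¹ * g * w * ((x * y)⁻¹ * g)⁻¹ = (x * y)⁻¹ * (g * w * g⁻¹) * (x * y) by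
        group, hgu]
      conv_lhs => rw [← hmap]
      group)
  exact hwQ (hwe ▸ mul_mem (mul_mem hk (ht ▸ hDQ (hall g (ht ▸ htR)))) hzQ)

theorem centre_eq {g w : L} (hg : g * z * g⁻¹ ∈ (R : Subgroup L)) (hne : g * z * g⁻¹ ≠ z)
    (hno : ∀ M : Subgroup L, M.Normal → M.index ≠ 2)
    (hw : w ∈ (R : Subgroup L)) (hwc : ∀ r ∈ (R : Subgroup L), Commute r w) :
    w = 1 ∨ w = z := by
  classical
  by_contra! hw'
  obtain ⟨hw1, hwz⟩ := hw'
  set t := g * z * g⁻¹ with ht
  have htz : Commute t z := (H.mem_iff t).mp hg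
  have hwt : Commute w t := (hwc t hg).symm
  have hw2 := H.sq_eq_one hne hw hwt
  have hZ : ∀ v, v ∈ zpowers z → v = 1 ∨ v = z := fun v hv => eq_one_or_of_mem_zpowers H.zz hv
  set D₁ := adjoinInv (zpowers z) t (by rw [ht, H.conj_sq]; exact one_mem _)
    (fun v hv => by
      rcases hZ v hv with rfl | rfl
      · simp
      · rw [mul_inv_eq_iff_eq_mul.mpr htz]; exact hv) with hD₁
  have hD₁R : D₁ ≤ (R : Subgroup L) := by
    rintro v (hv | hv)
    · exact zpowers_le.mpr H.z_mem hv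
    · simpa using mul_mem hg (zpowers_le.mpr H.z_mem hv)
  have hD₁t : ∀ v ∈ D₁, Commute v t := by
    rintro v (hv | hv)
    · rcases hZ v hv with rfl | rfl
      exacts [Commute.one_left t, htz.symm]
    · rcases hZ _ hv with h | h
      · rw [← inv_mul_eq_one.mp h]
      · rw [inv_mul_eq_iff_eq_mul.mp h]
        exact (Commute.refl t).mul_left htz.symm
  have hwD₁ : w ∉ D₁ := by
    obtain ⟨x, hxR, hx⟩ := H.exists_moves hg hne
    rintro (hv | hv)
    · rcases hZ _ hv with h | h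
      exacts [hw1 h, hwz h]
    · refine H.z_ne (show z = 1 from ?_)
      have hxt : Commute x t := by
        have he : t = w * (t⁻¹ * w)⁻¹ := by group
        have hxv : Commute x (t⁻¹ * w) := by
          rcases hZ _ hv with h | h <;> rw [h]
          exacts [Commute.one_right x, (H.mem_iff x).mp hxR]
        rw [he]
        exact (hwc x hxR).mul_right hxv.inv_right
      rw [mul_inv_eq_iff_eq_mul.mpr hxt] at hx
      exact (left_eq_mul.mp hx)
  have hz₁ : z ∈ D₁ := Or.inl (mem_zpowers z)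
  have hin : ∀ k : L, k * z * k⁻¹ ∈ (R : Subgroup L) → Commute (k * z * k⁻¹) t →
      k * z * k⁻¹ ∈ D₁ := by
    intro k hk hc
    by_cases hkz : k * z * k⁻¹ = z
    · rw [hkz]; exact hz₁
    rcases H.eq_or_eq hg hne hk hkz hc with h | h <;> rw [h]
    · exact Or.inr (by rw [inv_mul_cancel]; exact one_mem _)
    · exact Or.inr (by rw [inv_mul_cancel_left]; exact mem_zpowers z)
  by_cases hex : ∃ h : L, h * z * h⁻¹ ∈ (R : Subgroup L) ∧ ¬ Commute t (h * z * h⁻¹)
  swap
  · push_neg at hex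
    exact H.false_of_avoid hw hwc hw2 hno hD₁R hz₁ hwD₁ fun k hk => hin k hk (hex k hk).symm
  obtain ⟨h, hh, hth⟩ := hex
  obtain ⟨t', ht'⟩ : ∃ t', t' = h * z * h⁻¹ := ⟨_, rfl⟩
  have hhne : h * z * h⁻¹ ≠ z := fun he => hth (by rw [he]; exact htz)
  set D₂ := adjoinInv D₁ t' (by rw [ht', H.conj_sq]; exact one_mem _) (fun v hv => by
    rcases H.comm t' (ht' ▸ hh) v (hD₁R hv) with e | e <;> rw [e]
    exacts [hv, mul_mem hv hz₁]) with hD₂
  refine H.false_of_avoid hw hwc hw2 hno (D := D₂) ?_ (Or.inl hz₁) ?_ ?_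
  · rintro v (hv | hv)
    · exact hD₁R hv
    · have := mul_mem (ht' ▸ hh : t' ∈ (R : Subgroup L)) (hD₁R hv)
      rwa [mul_inv_cancel_left] at this
  · rintro (hv | hv)
    · exact hwD₁ hv
    · refine hth (Commute.symm ?_)
      rw [← ht', show t' = w * (t'⁻¹ * w)⁻¹ by group]
      exact hwt.mul_left (hD₁t _ hv).inv_left
  · intro k hk
    rcases H.commute_or hg hh hk hth with hc | hc
    · exact Or.inl (hin k hk hc)
    by_cases hkz : k * z * k⁻¹ = z
    · rw [hkz]; exact Or.inl hz₁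
    rcases H.eq_or_eq hh hhne hk hkz hc with e | e <;> rw [e]
    · exact Or.inr (by rw [← ht', inv_mul_cancel]; exact one_mem _)
    · exact Or.inr (by rw [← ht', inv_mul_cancel_left]; exact hz₁)

theorem nonempty_dihedral {g : L} (hg : g * z * g⁻¹ ∈ (R : Subgroup L))
    (hne : g * z * g⁻¹ ≠ z) (hno : ∀ M : Subgroup L, M.Normal → M.index ≠ 2) :
    Nonempty (↥(R : Subgroup L) ≃* DihedralGroup 4) := by
  obtain ⟨x, hxR, hx⟩ := H.exists_moves hg hne
  obtain ⟨t, ht⟩ : ∃ t, t = g * z * g⁻¹ := ⟨_, rfl⟩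
  have htz : Commute t z := ht ▸ (H.mem_iff _).mp hg
  have htR : t ∈ (R : Subgroup L) := ht ▸ hg
  rw [← ht] at hx
  have htt : t * t = 1 := ht ▸ H.conj_sq g
  have hxz : x * z * x⁻¹ = z := mul_inv_eq_iff_eq_mul.mpr ((H.mem_iff x).mp hxR)
  refine CfsgLib.Geometry.nonempty_dihedral (a := (⟨t, htR⟩ : ↥(R : Subgroup L)))
    (g := ⟨x, hxR⟩) (fun h => H.conj_ne_one g (ht ▸ congrArg Subtype.val h)) (Subtype.ext htt)
    (fun h => ?_) ?_ ?_ ?_
  · have h' : x * t * x⁻¹ = t := congrArg Subtype.val h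
    rw [hx] at h'
    exact H.z_ne (by simpa using h')
  · refine Subtype.ext ?_
    show t * (x * t * x⁻¹) = x * t * x⁻¹ * t
    rw [hx, mul_assoc, ← htz.eq]
  · rcases H.sq x hxR with h | h
    · exact Or.inl (Subtype.ext h)
    · refine Or.inr (Subtype.ext ?_)
      show x * x = t * (x * t * x⁻¹)
      rw [hx, ← mul_assoc, htt, one_mul, h]
  · set C := closure {(⟨t, htR⟩ : ↥(R : Subgroup L)), ⟨x, hxR⟩} with hC
    have ht1 : (⟨t, htR⟩ : ↥(R : Subgroup L)) ∈ C := subset_closure (Or.inl rfl)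
    have hx1 : (⟨x, hxR⟩ : ↥(R : Subgroup L)) ∈ C := subset_closure (Or.inr rfl)
    have hz1 : (⟨z, H.z_mem⟩ : ↥(R : Subgroup L)) ∈ C := by
      convert mul_mem ht1 (mul_mem (mul_mem hx1 ht1) (inv_mem hx1)) using 1
      refine Subtype.ext ?_
      show z = t * (x * t * x⁻¹)
      rw [hx, ← mul_assoc, htt, one_mul]
    have key : ∀ (a : L) (ha : a ∈ (R : Subgroup L)), Commute a t →
        (⟨a, ha⟩ : ↥(R : Subgroup L)) ∈ C := by
      intro a ha hat
      subst ht
      rcases H.comm x hxR a ha with h | h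
      · rcases H.centre_eq hg hne hno ha
          (H.central_of_commute hg hne hxR hx ha hat (mul_inv_eq_iff_eq_mul.mp h)) with rfl | rfl
        exacts [one_mem C, hz1]
      · set t := g * z * g⁻¹
        have h' : Commute x (a * t) := by
          refine mul_inv_eq_iff_eq_mul.mp ?_
          calc x * (a * t) * x⁻¹ = x * a * x⁻¹ * (x * t * x⁻¹) := by group
            _ = a * (z * t) * z := by rw [h, hx]; simp [mul_assoc]
            _ = a * t := by rw [← htz.eq]; simp [mul_assoc, H.zz]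
        have hc := H.centre_eq hg hne hno (mul_mem ha hg)
          (H.central_of_commute hg hne hxR hx (mul_mem ha hg) (hat.mul_left (Commute.refl t)) h')
        have : (⟨a, ha⟩ : ↥(R : Subgroup L)) * ⟨t, hg⟩ ∈ C := by
          rcases hc with hc | hc
          · convert one_mem C using 1; exact Subtype.ext hc
          · convert hz1 using 1; exact Subtype.ext hc
        have h2 := mul_mem this (inv_mem ht1)
        rwa [mul_inv_cancel_right] at h2
    refine eq_top_iff.mpr fun r _ => ?_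
    rcases H.commute_or_inv_mul htR hx r.2 with h | h
    · exact key r r.2 h
    · have := mul_mem hx1 (key _ (mul_mem (inv_mem hxR) r.2) h)
      convert this using 1
      exact Subtype.ext (mul_inv_cancel_left x r).symm

end SFC

theorem simple_dihedral_centralizer {L : Type*} [Group L] [Finite L] [IsSimpleGroup L]
    (hL : ¬ IsMulCommutative L) (z : L) (hz : orderOf z = 2) (R : Sylow 2 L)
    (hR : (R : Subgroup L) = centralizer ({z} : Set L))
    (hΦ : (frattini ↥(R : Subgroup L)).map (R : Subgroup L).subtype = zpowers z) :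
    Nonempty (↥(R : Subgroup L) ≃* DihedralGroup 4) := by
  have H := sfc_of_frattini hz R hR hΦ
  have hne : ¬ ∀ a b : L, a * b = b * a := fun h => hL ⟨⟨h⟩⟩
  obtain ⟨g, hg, hgz⟩ : ∃ g : L, g * z * g⁻¹ ∈ (R : Subgroup L) ∧ g * z * g⁻¹ ≠ z := by
    by_contra! h
    have hiso := Involutions.isolated_of_sylow R hz h
    have hO : Cfsg.oddCore L = ⊥ := by
      refine (Subgroup.Normal.eq_bot_or_eq_top (inferInstance : (Cfsg.oddCore L).Normal)
        ).resolve_right fun ht => ?_
      have ho := Base.odd_card_oddCore L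
      rw [ht, card_top] at ho
      exact Nat.not_even_iff_odd.mpr ho
        (even_iff_two_dvd.mpr (hz ▸ orderOf_dvd_natCard z))
    have hc := Involutions.ZStar.mem_center_of_oddCore_eq_bot hiso hO
    rcases Subgroup.Normal.eq_bot_or_eq_top (inferInstance : (center L).Normal) with hb | hb
    · rw [hb, mem_bot] at hc
      exact H.z_ne hc
    · exact hne fun a b => (mem_center_iff.mp (hb ▸ mem_top b : b ∈ center L) a)
  refine H.nonempty_dihedral hg hgz fun M hM hMi => ?_
  rcases hM.eq_bot_or_eq_top with hb | hb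
  · rw [hb, index_bot] at hMi
    have : Fact (Nat.Prime 2) := ⟨Nat.prime_two⟩
    have := isCyclic_of_prime_card hMi
    exact hne fun a b => (IsCyclic.commGroup (α := L)).mul_comm a b
  · rw [hb, index_top] at hMi
    omega

end CfsgLib.ThreeTransp
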