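import Cfsg.Agent.Lib.ThreeTransp.PrimeInv

/-!
Symmetric and asymmetric multisets of roots of unity.
-/

set_option autoImplicit false
set_option maxHeartbeats 1000000

namespace CfsgLib.ThreeTransp.EigenSym

private theorem sym_three : ∀ c0 c1 : Fin 4, (c0 : ℕ) + c1 ≤ 3 →
    ((c1 : ℕ) + 2 * (3 - c0 - c1)) % 3 = 0 →
    ∃ b : Fin 3, ∀ a : Fin 3, ![(c0 : ℕ), c1, 3 - c0 - c1] (b + b - a) = ![(c0 : ℕ), c1, 3 - c0 - c1] a := by
  decide +kernel

private theorem sym_five : ∀ c0 c1 c2 c3 : Fin 6, (c0 : ℕ) + c1 + c2 + c3 ≤ 5 →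
    ((c1 : ℕ) + 2 * c2 + 3 * c3 + 4 * (5 - c0 - c1 - c2 - c3)) % 5 = 0 →
    ∃ b : Fin 5, ∀ a : Fin 5, ![(c0 : ℕ), c1, c2, c3, 5 - c0 - c1 - c2 - c3] (b + b - a) =
      ![(c0 : ℕ), c1, c2, c3, 5 - c0 - c1 - c2 - c3] a := by
  decide +kernel

/-- A multiset of size `n` in `ZMod n` of sum zero is symmetric, for `n = 3, 5`. -/
theorem exists_sym {n : ℕ} [NeZero n] (hn : n = 3 ∨ n = 5) (c : ZMod n → ℕ) (hc : ∑ a, c a = n)
    (hs : ∑ a, (c a : ZMod n) * a = 0) : ∃ b : ZMod n, ∀ a, c (b + b - a) = c a := by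
  rcases hn with rfl | rfl
  · have h1 : c 0 + c 1 + c 2 = 3 := (Fin.sum_univ_three (c : Fin 3 → ℕ)).symm.trans hc
    have h2 : (c 0 : ZMod 3) * 0 + (c 1 : ZMod 3) * 1 + (c 2 : ZMod 3) * 2 = 0 :=
      (Fin.sum_univ_three ((fun a => (c a : ZMod 3) * a) : ZMod 3 → ZMod 3)).symm.trans hs
    have h3 : ((c 1 + 2 * c 2 : ℕ) : ZMod 3) = 0 := by
      rw [← h2]; push_cast; ring
    rw [ZMod.natCast_eq_zero_iff] at h3
    obtain ⟨b, hb⟩ := sym_three ⟨c 0, by omega⟩ ⟨c 1, by omega⟩ (show c 0 + c 1 ≤ 3 by omega)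
      (show (c 1 + 2 * (3 - c 0 - c 1)) % 3 = 0 by rw [show 3 - c 0 - c 1 = c 2 by omega]; omega)
    have hv : ∀ a : Fin 3, ![c 0, c 1, 3 - c 0 - c 1] a = c a := fun a =>
      match a with
      | 0 => rfl
      | 1 => rfl
      | 2 => show 3 - c 0 - c 1 = c 2 by omega
    exact ⟨b, fun a => (hv _).symm.trans ((hb a).trans (hv a))⟩
  · have h1 : c 0 + c 1 + c 2 + c 3 + c 4 = 5 := (Fin.sum_univ_five (c : Fin 5 → ℕ)).symm.trans hc
    have h2 : (c 0 : ZMod 5) * 0 + (c 1 : ZMod 5) * 1 + (c 2 : ZMod 5) * 2 + (c 3 : ZMod 5) * 3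
        + (c 4 : ZMod 5) * 4 = 0 :=
      (Fin.sum_univ_five ((fun a => (c a : ZMod 5) * a) : ZMod 5 → ZMod 5)).symm.trans hs
    have h3 : ((c 1 + 2 * c 2 + 3 * c 3 + 4 * c 4 : ℕ) : ZMod 5) = 0 := by
      rw [← h2]; push_cast; ring
    rw [ZMod.natCast_eq_zero_iff] at h3
    obtain ⟨b, hb⟩ := sym_five ⟨c 0, by omega⟩ ⟨c 1, by omega⟩ ⟨c 2, by omega⟩ ⟨c 3, by omega⟩
      (show c 0 + c 1 + c 2 + c 3 ≤ 5 by omega)
      (show (c 1 + 2 * c 2 + 3 * c 3 + 4 * (5 - c 0 - c 1 - c 2 - c 3)) % 5 = 0 by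
        rw [show 5 - c 0 - c 1 - c 2 - c 3 = c 4 by omega]; omega)
    have hv : ∀ a : Fin 5, ![c 0, c 1, c 2, c 3, 5 - c 0 - c 1 - c 2 - c 3] a = c a := fun a =>
      match a with
      | 0 => rfl
      | 1 => rfl
      | 2 => rfl
      | 3 => rfl
      | 4 => show 5 - c 0 - c 1 - c 2 - c 3 = c 4 by omega
    exact ⟨b, fun a => (hv _).symm.trans ((hb a).trans (hv a))⟩

/-- A family with counts invariant under an involution of the values. -/
theorem exists_invol {A : Type*} [Fintype A] [DecidableEq A] {n : ℕ} (cnt : A → ℕ) (hcard : ∑ a, cnt a = n)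
    (s : A → A) (hs : Function.Involutive s) (hinv : ∀ a, cnt (s a) = cnt a) :
    ∃ (v : Fin n → A) (π : Fin n → Fin n), Function.Involutive π ∧ (∀ i, v (π i) = s (v i)) ∧
      ∀ a, Multiset.count a (Multiset.map v (Finset.univ : Finset (Fin n)).val) = cnt a := by
  classical
  let e : ((a : A) × Fin (cnt a)) ≃ Fin n := Fintype.equivFinOfCardEq (by simp [hcard])
  let P : ((a : A) × Fin (cnt a)) → (a : A) × Fin (cnt a) := fun x => ⟨s x.1, Fin.cast (hinv x.1).symm x.2⟩
  have hP : ∀ x, P (P x) = x := fun ⟨a, k⟩ => by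
    refine Sigma.ext (hs a) ?_
    exact (Fin.heq_ext_iff (congrArg cnt (hs a))).2 rfl
  refine ⟨fun i => (e.symm i).1, fun i => e (P (e.symm i)), fun i => by simp [hP], fun i => by simp [P], fun a => ?_⟩
  rw [Multiset.count_map, ← Finset.filter_val, Finset.card_val, ← Fintype.card_subtype]
  refine (Fintype.card_congr ?_).trans (Fintype.card_fin (cnt a))
  exact
    { toFun := fun i => Fin.cast (congrArg cnt i.2.symm) (e.symm i.1).2
      invFun := fun k => ⟨e ⟨a, k⟩, by simp⟩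
      left_inv := fun ⟨i, hi⟩ => by
        refine Subtype.ext ?_
        subst hi
        simp
      right_inv := fun k => by
        refine Fin.ext ?_
        show ((e.symm (e ⟨a, k⟩)).2 : ℕ) = k
        rw [e.symm_apply_apply] }

variable {F : Type*} [Field F] {r : ℕ} [Fact r.Prime]

open CfsgLib.ThreeTransp.PrimeInv in
/-- For `s ≡ 1 (mod r)` there is a multiset of `r`th roots of one scalar, of product one, which is not stable
under `a ↦ c / a ^ s`, outside the small exceptions. -/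
theorem exists_asym [Fintype F] (hr2 : r ≠ 2) (hrF : r ∣ Fintype.card F - 1) {s : ℕ} (hs : (s : ZMod r) = 1)
    {n : ℕ} (hn : 3 ≤ n) (hgap : ¬ (n = 6 ∧ r = 3))
    (hexc : r = n → (n = 3 ∨ n = 5) → 2 ≤ padicValNat r (Fintype.card F - 1)) :
    ∃ (M : Multiset F) (z : F), M.card = n ∧ M.prod = 1 ∧ z ≠ 0 ∧ (∀ a ∈ M, a ^ r = z) ∧
      (∃ a ∈ M, ∃ b ∈ M, a ≠ b) ∧ ∀ c : F, M.map (fun a => a ^ s) ≠ M.map (fun a => c / a) := by
  classical
  have hrprime : r.Prime := Fact.out
  obtain ⟨ζu, hζu⟩ := exists_prime_orderOf_dvd_card r (G := Fˣ) (by rw [Fintype.card_units]; exact hrF)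
  set ζ : F := (ζu : F) with hζ
  have hζord : orderOf ζ = r := by rw [hζ, orderOf_units, hζu]
  have hζr : ζ ^ r = 1 := by rw [← hζord, pow_orderOf_eq_one]
  have hζpow : ∀ a : ℕ, ζ ^ a = 1 → r ∣ a := fun a h => hζord ▸ orderOf_dvd_of_pow_eq_one h
  have hζ0 : ζ ≠ 0 := ζu.ne_zero
  have hζ1 : ζ ≠ 1 := fun h => by
    have := hζpow 1 (by rw [pow_one, h]); rw [Nat.dvd_one] at this; exact hrprime.ne_one this
  have hs1 : s % r = 1 := by
    have h := congrArg ZMod.val hs
    rwa [ZMod.val_natCast, ZMod.val_one] at h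
  have hid : ∀ u : F, u ^ r = 1 → u ^ s = u := fun u hu => by
    rw [pow_eq_pow_mod s hu, hs1, pow_one]
  have hsq : ∀ u : F, u ^ r = 1 → u * u = 1 → u = 1 := fun u hu hu2 => by
    have := pow_gcd_eq_one.2 ⟨hu, (pow_two u).trans hu2⟩
    rwa [(hrprime.coprime_iff_not_dvd.2 fun h => hr2 ((Nat.prime_dvd_prime_iff_eq hrprime Nat.prime_two).1 h)),
      pow_one] at this
  suffices H : ∃ (M : Multiset F) (z : F), M.card = n ∧ M.prod = 1 ∧ z ≠ 0 ∧ (∀ a ∈ M, a ^ r = z) ∧
      (∃ a ∈ M, ∃ b ∈ M, a ≠ b) ∧ ∀ c : F, (∀ a ∈ M, ∃ b ∈ M, a ^ s = c / b ∧ M.count b = M.count a) → False by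
    obtain ⟨M, z, h1, h2, hz, h3, h4, h5⟩ := H
    refine ⟨M, z, h1, h2, hz, h3, h4, fun c hc => h5 c fun a ha => ?_⟩
    have hne : ∀ b ∈ M, b ≠ 0 := fun b hb h0 => hz (by rw [← h3 b hb, h0, zero_pow hrprime.ne_zero])
    have hmem : a ^ s ∈ M.map (fun a => c / a) := hc ▸ Multiset.mem_map_of_mem _ ha
    obtain ⟨b, hb, hbe⟩ := Multiset.mem_map.1 hmem
    refine ⟨b, hb, hbe.symm, ?_⟩
    have hc0 : c ≠ 0 := fun h0 => by
      rw [h0, zero_div] at hbe
      exact pow_ne_zero _ (hne a ha) hbe.symm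
    have i1 : Set.InjOn (fun a : F => a ^ s) {x | x ∈ M} := fun u hu v hv huv => by
      have hv0 := hne v hv
      refine (div_eq_one_iff_eq hv0).1 ?_
      rw [← hid (u / v) (by rw [div_pow, h3 u hu, h3 v hv, div_self hz]), div_pow, show u ^ s = v ^ s from huv,
        div_self (pow_ne_zero _ hv0)]
    have i2 : Set.InjOn (fun a : F => c / a) {x | x ∈ M} := fun u _ v _ huv => by
      simpa [div_eq_mul_inv, hc0] using huv
    rw [← Multiset.count_map_eq_count _ _ i1 a ha, ← Multiset.count_map_eq_count _ _ i2 b hb, hc, hbe]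
  -- consequences
  have hfixed : ∀ {M : Multiset F} {c : F}, (∀ a ∈ M, ∃ b ∈ M, a ^ s = c / b ∧ M.count b = M.count a) →
      ∀ a ∈ M, (∀ b ∈ M, M.count b = M.count a → b = a) → a ^ s = c / a := fun {M c} hM a ha huniq => by
    obtain ⟨b, hb, he, hc⟩ := hM a ha
    rw [he, huniq b hb hc]
  have hratio : ∀ {c a b a' b' z : F}, z ≠ 0 → a ^ r = z → b ^ r = z → a ^ s = c / a' → b ^ s = c / b' →
      a / b = b' / a' := fun {c a b a' b' z} hz ha hb h1 h2 => by
    have hc : c ≠ 0 := fun h => by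
      rw [h, zero_div] at h1
      exact pow_ne_zero _ (fun h0 => hz (by rw [← ha, h0, zero_pow hrprime.ne_zero])) h1
    rw [← hid (a / b) (by rw [div_pow, ha, hb, div_self hz]), div_pow, h1, h2, div_div_div_cancel_left' _ _ hc]
  have htwo : ∀ {c a b z : F}, z ≠ 0 → a ^ r = z → b ^ r = z → a ^ s = c / a → b ^ s = c / b → a = b :=
    fun {c a b z} hz ha hb h1 h2 => by
    have hb0 : b ≠ 0 := fun h => hz (by rw [← hb, h, zero_pow hrprime.ne_zero])
    have ha0 : a ≠ 0 := fun h => hz (by rw [← ha, h, zero_pow hrprime.ne_zero])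
    refine (div_eq_one_iff_eq hb0).1 (hsq _ (by rw [div_pow, ha, hb, div_self hz]) ?_)
    nth_rewrite 2 [hratio hz ha hb h1 h2]
    field_simp
  by_cases hnr : r = n ∧ (n = 3 ∨ n = 5)
  · obtain ⟨rfl, hn35⟩ := hnr
    have he := hexc rfl hn35
    set k := r / 2 + r % 2 - 1 with hk
    have hk' : 1 ≤ k ∧ k ≠ r - k ∧ k < r := by rcases hn35 with rfl | rfl <;> decide
    obtain ⟨w, hw⟩ : ∃ w : F, w ^ r = ((ζ⁻¹) ^ k : F) := by
      by_contra hno
      push Not at hno
      have := padic_le_of_pow hno (k := r)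
        (by rw [← pow_mul, mul_comm, pow_mul, inv_pow, hζr, inv_one, one_pow]) hrprime.ne_zero
      rw [padicValNat.self hrprime.one_lt] at this
      omega
    have hw0 : w ≠ 0 := fun h => by
      rw [h, zero_pow hrprime.ne_zero] at hw
      exact pow_ne_zero _ (inv_ne_zero hζ0) hw.symm
    have hne : w ≠ w * ζ := fun h => hζ1 (mul_left_cancel₀ hw0 (by rw [mul_one]; exact h.symm))
    refine ⟨Multiset.replicate (r - k) w + Multiset.replicate k (w * ζ), w ^ r, by simp; omega, ?_,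
      pow_ne_zero r hw0, ?_, ⟨w, by simp [Multiset.mem_replicate]; omega, w * ζ,
        by simp [Multiset.mem_replicate]; omega, hne⟩, fun c hM => ?_⟩
    · rw [Multiset.prod_add, Multiset.prod_replicate, Multiset.prod_replicate, mul_pow, ← mul_assoc, ← pow_add,
        Nat.sub_add_cancel hk'.2.2.le, hw, ← mul_pow, inv_mul_cancel₀ hζ0, one_pow]
    · intro a ha
      simp only [Multiset.mem_add, Multiset.mem_replicate] at ha
      rcases ha with ⟨-, rfl⟩ | ⟨-, rfl⟩
      · rfl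
      · rw [mul_pow, hζr, mul_one]
    · have hu : ∀ a ∈ Multiset.replicate (r - k) w + Multiset.replicate k (w * ζ), a ^ s = c / a := fun a ha =>
        hfixed hM a ha fun b hb hcb => by
          simp only [Multiset.mem_add, Multiset.mem_replicate] at ha hb
          rcases ha with ⟨-, rfl⟩ | ⟨-, rfl⟩ <;> rcases hb with ⟨-, rfl⟩ | ⟨-, rfl⟩ <;>
            simp [Multiset.count_replicate, hne, hne.symm] at hcb ⊢ <;> omega
      exact hne (htwo (pow_ne_zero r hw0) rfl (by rw [mul_pow, hζr, mul_one])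
        (hu w (by simp [Multiset.mem_replicate]; omega)) (hu (w * ζ) (by simp [Multiset.mem_replicate]; omega)))
  by_cases hr3 : r = 3
  · subst hr3
    refine ⟨Multiset.replicate (n - 3) 1 + Multiset.replicate 3 ζ, 1, by simp; omega,
      by rw [Multiset.prod_add, Multiset.prod_replicate, Multiset.prod_replicate, one_pow, one_mul, hζr],
      one_ne_zero, ?_, ⟨1, by simp [Multiset.mem_replicate]; omega, ζ, by simp [Multiset.mem_replicate], hζ1.symm⟩,
      fun c hM => ?_⟩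
    · intro a ha
      simp only [Multiset.mem_add, Multiset.mem_replicate] at ha
      rcases ha with ⟨-, rfl⟩ | ⟨-, rfl⟩ <;> simp [hζr]
    · have hu : ∀ a ∈ Multiset.replicate (n - 3) 1 + Multiset.replicate 3 ζ, a ^ s = c / a := fun a ha =>
        hfixed hM a ha fun b hb hcb => by
          simp only [Multiset.mem_add, Multiset.mem_replicate] at ha hb
          rcases ha with ⟨-, rfl⟩ | ⟨-, rfl⟩ <;> rcases hb with ⟨-, rfl⟩ | ⟨-, rfl⟩ <;>
            simp [Multiset.count_replicate, hζ1, hζ1.symm] at hcb ⊢ <;> omega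
      exact hζ1.symm (htwo one_ne_zero (one_pow 3) hζr (hu 1 (by simp [Multiset.mem_replicate]; omega))
        (hu ζ (by simp [Multiset.mem_replicate])))
  have hr5 : 5 ≤ r := by
    have h4 : r ≠ 4 := fun h => absurd (h ▸ hrprime) (by norm_num)
    have := hrprime.two_le
    omega
  set η : F := ζ⁻¹ ^ 2 with hη
  have hηr : η ^ r = 1 := by rw [hη, ← pow_mul, mul_comm, pow_mul, inv_pow, hζr, inv_one, one_pow]
  have hζη : ζ ^ 2 * η = 1 := by rw [hη, ← mul_pow, mul_inv_cancel₀ hζ0, one_pow]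
  have hη1 : η ≠ 1 := fun h => by
    have e := hζη
    rw [h, mul_one] at e
    have := Nat.le_of_dvd (by norm_num) (hζpow 2 e); omega
  have hηζ : ζ ≠ η := fun h => by
    have e := hζη
    rw [← h, ← pow_succ] at e
    have := Nat.le_of_dvd (by norm_num) (hζpow 3 e); omega
  have hζη' : ζ * (ζ * η) = 1 := by rw [← mul_assoc, ← pow_two, hζη]
  obtain hn' | hn' | hn' | hn' : n = 3 ∨ n = 4 ∨ n = 5 ∨ 6 ≤ n := by omega
  · refine ⟨Multiset.replicate 2 ζ + {η}, 1, by simp [hn'], by simp [hζη'], one_ne_zero, ?_,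
      ⟨ζ, by simp [Multiset.mem_replicate], η, by simp, hηζ⟩, fun c hM => ?_⟩
    · intro a ha
      simp only [Multiset.mem_add, Multiset.mem_replicate, Multiset.mem_singleton] at ha
      rcases ha with ⟨-, rfl⟩ | rfl <;> simp [hζr, hηr]
    · have hu : ∀ a ∈ Multiset.replicate 2 ζ + {η}, a ^ s = c / a := fun a ha => hfixed hM a ha fun b hb hcb => by
        simp only [Multiset.mem_add, Multiset.mem_replicate, Multiset.mem_singleton] at ha hb
        rcases ha with ⟨-, rfl⟩ | rfl <;> rcases hb with ⟨-, rfl⟩ | rfl <;>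
          simp [Multiset.count_replicate, hηζ, hηζ.symm] at hcb ⊢
      exact hηζ (htwo one_ne_zero hζr hηr (hu ζ (by simp [Multiset.mem_replicate])) (hu η (by simp)))
  · refine ⟨Multiset.replicate 2 ζ + {1, η}, 1, by simp [hn'], by simp [hζη'], one_ne_zero, ?_,
      ⟨ζ, by simp [Multiset.mem_replicate], η, by simp, hηζ⟩, fun c hM => ?_⟩
    · intro a ha
      simp only [Multiset.mem_add, Multiset.mem_replicate, Multiset.insert_eq_cons, Multiset.mem_cons,
        Multiset.mem_singleton] at ha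
      rcases ha with ⟨-, rfl⟩ | rfl | rfl <;> simp [hζr, hηr]
    · have hz' : ζ ^ s = c / ζ := hfixed hM ζ (by simp [Multiset.mem_replicate]) fun b hb hcb => by
        simp only [Multiset.mem_add, Multiset.mem_replicate, Multiset.insert_eq_cons, Multiset.mem_cons,
          Multiset.mem_singleton] at hb
        rcases hb with ⟨-, rfl⟩ | rfl | rfl <;>
          simp [Multiset.count_replicate, hζ1, hζ1.symm, hηζ, hηζ.symm, hη1, hη1.symm] at hcb ⊢
      obtain ⟨b, hb, heb, hcb⟩ := hM 1 (by simp)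
      simp only [Multiset.mem_add, Multiset.mem_replicate, Multiset.insert_eq_cons, Multiset.mem_cons,
        Multiset.mem_singleton] at hb
      rcases hb with ⟨-, rfl⟩ | rfl | rfl
      · simp [Multiset.count_replicate, hζ1, hζ1.symm, hηζ, hηζ.symm, hη1, hη1.symm] at hcb
      · exact hζ1 (htwo one_ne_zero hζr (one_pow r) hz' heb)
      · have h := hratio one_ne_zero hζr (one_pow r) hz' heb
        rw [div_one, eq_div_iff hζ0] at h
        have h4 : ζ ^ 4 = 1 := by rw [show (4 : ℕ) = 2 + 2 from rfl, pow_add]; nth_rewrite 2 [pow_two]; rw [h, hζη]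
        have := Nat.le_of_dvd (by norm_num) (hζpow 4 h4)
        omega
  · refine ⟨Multiset.replicate 2 1 + Multiset.replicate 2 ζ + {η}, 1, by simp [hn'], by simp [hζη'], one_ne_zero,
      ?_, ⟨ζ, by simp [Multiset.mem_replicate], η, by simp, hηζ⟩, fun c hM => ?_⟩
    · intro a ha
      simp only [Multiset.mem_add, Multiset.mem_replicate, Multiset.mem_singleton] at ha
      rcases ha with (⟨-, rfl⟩ | ⟨-, rfl⟩) | rfl <;> simp [hζr, hηr]
    · have he' : η ^ s = c / η := hfixed hM η (by simp) fun b hb hcb => by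
        simp only [Multiset.mem_add, Multiset.mem_replicate, Multiset.mem_singleton] at hb
        rcases hb with (⟨-, rfl⟩ | ⟨-, rfl⟩) | rfl <;>
          simp [Multiset.count_replicate, hζ1, hζ1.symm, hηζ, hηζ.symm, hη1, hη1.symm] at hcb ⊢
      obtain ⟨b, hb, heb, hcb⟩ := hM 1 (by simp [Multiset.mem_replicate])
      simp only [Multiset.mem_add, Multiset.mem_replicate, Multiset.mem_singleton] at hb
      rcases hb with (⟨-, rfl⟩ | ⟨-, rfl⟩) | rfl
      · exact hη1 (htwo one_ne_zero hηr (one_pow r) he' heb)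
      · have h := hratio one_ne_zero hηr (one_pow r) he' heb
        have hη0 : η ≠ 0 := right_ne_zero_of_mul_eq_one hζη
        rw [div_one, eq_div_iff hη0] at h
        have h5 : ζ ^ 5 = 1 := by
          calc ζ ^ 5 = ζ ^ 4 * (η * η) := by rw [h, ← pow_succ]
            _ = (ζ ^ 2 * η) * (ζ ^ 2 * η) := by ring
            _ = 1 := by rw [hζη, one_mul]
        have := Nat.le_of_dvd (by norm_num) (hζpow 5 h5)
        exact absurd ⟨by omega, Or.inr hn'⟩ hnr
      · simp [Multiset.count_replicate, hζ1, hζ1.symm, hηζ, hηζ.symm, hη1, hη1.symm] at hcb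
  · refine ⟨Multiset.replicate (n - 3) 1 + Multiset.replicate 2 ζ + {η}, 1, by simp; omega, by simp [hζη'],
      one_ne_zero, ?_, ⟨ζ, by simp [Multiset.mem_replicate], η, by simp, hηζ⟩, fun c hM => ?_⟩
    · intro a ha
      simp only [Multiset.mem_add, Multiset.mem_replicate, Multiset.mem_singleton] at ha
      rcases ha with (⟨-, rfl⟩ | ⟨-, rfl⟩) | rfl <;> simp [hζr, hηr]
    · have hu : ∀ a ∈ Multiset.replicate (n - 3) 1 + Multiset.replicate 2 ζ + {η}, a ≠ 1 → a ^ s = c / a :=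
        fun a ha hne => hfixed hM a ha fun b hb hcb => by
        simp only [Multiset.mem_add, Multiset.mem_replicate, Multiset.mem_singleton] at ha hb
        rcases ha with (⟨-, rfl⟩ | ⟨-, rfl⟩) | rfl <;> rcases hb with (⟨-, rfl⟩ | ⟨-, rfl⟩) | rfl <;>
          simp [Multiset.count_replicate, hζ1, hζ1.symm, hηζ, hηζ.symm, hη1, hη1.symm] at hcb hne ⊢ <;> omega
      exact hηζ (htwo one_ne_zero hζr hηr (hu ζ (by simp [Multiset.mem_replicate]) hζ1) (hu η (by simp) hη1))

end CfsgLib.ThreeTransp.EigenSym
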