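import Cfsg.Prelude.Def_Spor_Fi24

/-!
The presented group on the Y542 generators has abelianization of order two.
-/

set_option autoImplicit false

namespace CfsgLib.ThreeTransp.FiSign

open Cfsg.Spor Fi24

/-- The parity character. -/
theorem parity_rel : ∀ r ∈ coxRelators Fi24.edges ∪ {r | r ∈ Fi24.extra},
    FreeGroup.lift (fun _ : Gen => Multiplicative.ofAdd (1 : ZMod 2)) r = 1 := by
  intro r hr
  rcases hr with hr | hr
  · obtain ⟨x, -, y, -, rfl⟩ := hr
    rw [map_pow, map_mul, FreeGroup.lift_apply_of, FreeGroup.lift_apply_of,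
      show Multiplicative.ofAdd (1 : ZMod 2) * Multiplicative.ofAdd (1 : ZMod 2) = 1 from rfl, one_pow]
  · simp only [Fi24.extra, Set.mem_setOf_eq, List.mem_cons, List.not_mem_nil, or_false] at hr
    rcases hr with rfl | rfl <;>
      simp only [map_mul, map_inv, map_pow, FreeGroup.lift_apply_of] <;> decide

/-- The parity homomorphism. -/
def parity : Fi24 →* Multiplicative (ZMod 2) := PresentedGroup.toGroup parity_rel

theorem node_eq {A : Type*} [CommGroup A] (f : Fi24 →* A) (x y : Gen) (hx : x ∈ coxNodes Fi24.edges)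
    (hy : y ∈ coxNodes Fi24.edges) :
    (f (PresentedGroup.of x) * f (PresentedGroup.of y)) ^ coxLabel Fi24.edges x y = 1 := by
  rw [← map_mul, ← map_pow]
  have h : PresentedGroup.mk (coxRelators Fi24.edges ∪ {r | r ∈ Fi24.extra})
      ((FreeGroup.of x * FreeGroup.of y) ^ coxLabel Fi24.edges x y) = 1 :=
    PresentedGroup.one_of_mem (Or.inl ⟨x, hx, y, hy, rfl⟩)
  rw [map_pow, map_mul] at h
  exact (congrArg f h).trans (map_one f)

theorem commutator_index : (commutator Fi24).index = 2 := by
  set q : Fi24 →* Abelianization Fi24 := Abelianization.of with hq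
  have hnode : ∀ x : Gen, x ∈ coxNodes Fi24.edges := by intro x; cases x <;> decide
  have hsq : ∀ x, q (PresentedGroup.of x) * q (PresentedGroup.of x) = 1 := fun x => by
    have h := node_eq q x x (hnode x) (hnode x)
    rwa [coxLabel, if_pos rfl, pow_one] at h
  have hedge : ∀ x y, coxLabel Fi24.edges x y = 3 → q (PresentedGroup.of x) = q (PresentedGroup.of y) := by
    intro x y hl
    have h := node_eq q x y (hnode x) (hnode y)
    rw [hl] at h
    have h2 : (q (PresentedGroup.of x) * q (PresentedGroup.of y)) ^ 2 = 1 := by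
      rw [mul_pow, pow_two, pow_two, hsq, hsq, one_mul]
    rw [pow_succ, h2, one_mul] at h
    calc q (PresentedGroup.of x) = q (PresentedGroup.of x) * (q (PresentedGroup.of y) * q (PresentedGroup.of y)) := by
          rw [hsq, mul_one]
      _ = q (PresentedGroup.of y) := by rw [← mul_assoc, h, one_mul]
  have hd : ∀ x, q (PresentedGroup.of x) = q (PresentedGroup.of Gen.d) := by
    have e1 := hedge .l .k rfl; have e2 := hedge .k .a rfl; have e3 := hedge .a .b rfl
    have e4 := hedge .b .c rfl; have e5 := hedge .c .d rfl; have e6 := hedge .d .e rfl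
    have e7 := hedge .d .h rfl; have e8 := hedge .e .f rfl; have e9 := hedge .f .g rfl
    have e10 := hedge .g .j rfl; have e11 := hedge .h .i rfl
    intro x
    cases x <;> simp only [e1, e2, e3, e4, e5, ← e6, ← e7, ← e8, ← e9, ← e10, ← e11]
  have hsurj : Function.Surjective (fun i : Fin 2 => q (PresentedGroup.of Gen.d) ^ (i : ℕ)) := by
    intro z
    obtain ⟨g, rfl⟩ := (QuotientGroup.mk'_surjective (commutator Fi24)) z
    exact PresentedGroup.generated_by _ (Subgroup.comap q
        { carrier := {z | ∃ i : Fin 2, q (PresentedGroup.of Gen.d) ^ (i : ℕ) = z}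
          one_mem' := ⟨0, pow_zero _⟩
          mul_mem' := by
            rintro _ _ ⟨i, rfl⟩ ⟨j, rfl⟩
            fin_cases i <;> fin_cases j
            exacts [⟨0, by simp⟩, ⟨1, by simp⟩, ⟨1, by simp⟩, ⟨0, by simp [hsq]⟩]
          inv_mem' := by
            rintro _ ⟨i, rfl⟩
            fin_cases i
            exacts [⟨0, by simp⟩, ⟨1, by simpa using (eq_inv_of_mul_eq_one_left (hsq _))⟩] })
      (fun x => ⟨1, by rw [hd x]; exact pow_one _⟩) g
  haveI : Finite (Fi24 ⧸ commutator Fi24) := Finite.of_surjective _ hsurj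
  have hle : (commutator Fi24).index ≤ 2 :=
    (Nat.card_le_card_of_surjective _ hsurj).trans
      (le_of_eq (Nat.card_eq_fintype_card.trans (Fintype.card_fin 2)))
  refine le_antisymm hle ?_
  have h2 : parity.ker.index = 2 := by
    rw [Subgroup.index_ker, MonoidHom.range_eq_top.2, Subgroup.card_top]
    · simp
    · intro z
      obtain rfl | rfl : z = 1 ∨ z = Multiplicative.ofAdd 1 := by revert z; decide
      exacts [⟨1, map_one _⟩, ⟨PresentedGroup.of .d, PresentedGroup.toGroup.of _⟩]
  calc 2 = parity.ker.index := h2.symm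
    _ ≤ (commutator Fi24).index :=
      Nat.le_of_dvd Nat.card_pos
        (Subgroup.index_dvd_of_le (Abelianization.commutator_subset_ker parity))

end CfsgLib.ThreeTransp.FiSign
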