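import Mathlib
import Cfsg.Prelude.Def_FischerSpaces

/-!
The two planes of a Fischer space as reflection models.
-/

set_option autoImplicit false

namespace CfsgLib.ThreeTransp

open Cfsg

/-- A binary operation describing the third point maps of a line system. -/
structure ReflModel {Y : Type*} (M : Set (Set Y)) (op : Y → Y → Y) : Prop where
  third : ∀ s ∈ M, ∀ u ∈ s, ∀ v ∈ s, u ≠ v → s = {u, v, op u v} ∧ op u v ≠ u ∧ op u v ≠ v
  fixed : ∀ u v, (¬ ∃ s ∈ M, u ∈ s ∧ v ∈ s ∧ u ≠ v) → op u v = v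
  preserve : ∀ u, ∀ s ∈ M, op u '' s ∈ M

/-! ### The affine plane -/

/-- The reflection operation of the affine plane. -/
def affOp (u v : Fin 2 → ZMod 3) : Fin 2 → ZMod 3 := -u - v

theorem zmod3_third : ∀ v w : ZMod 3, v + (2 : ZMod 3) * w = -v - (v + w) := by decide

theorem mem_affinePlane {s : Set (Fin 2 → ZMod 3)} :
    s ∈ affinePlaneThree ↔ ∃ u v, u ≠ v ∧ s = {u, v, affOp u v} := by
  have key : ∀ v w : Fin 2 → ZMod 3,
      {x | ∃ c : ZMod 3, x = v + c • w} = ({v, v + w, affOp v (v + w)} : Set _) := by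
    intro v w
    have h2 : v + (2 : ZMod 3) • w = affOp v (v + w) := by
      ext i; exact zmod3_third (v i) (w i)
    ext x
    simp only [Set.mem_ofPred_eq, Set.mem_insert_iff, Set.mem_singleton_iff]
    constructor
    · rintro ⟨c, rfl⟩
      have hc : c = 0 ∨ c = 1 ∨ c = 2 := by revert c; decide
      rcases hc with rfl | rfl | rfl
      · simp
      · simp
      · exact Or.inr (Or.inr h2)
    · rintro (rfl | rfl | rfl)
      · exact ⟨0, by simp⟩
      · exact ⟨1, by simp⟩
      · exact ⟨2, h2.symm⟩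
  constructor
  · rintro ⟨v, w, hw, rfl⟩
    exact ⟨v, v + w, fun e => hw (by simpa using e), key v w⟩
  · rintro ⟨u, v, huv, rfl⟩
    refine ⟨u, v - u, sub_ne_zero.2 (Ne.symm huv), ?_⟩
    rw [key, add_sub_cancel]

theorem affOp_ne : ∀ u v : Fin 2 → ZMod 3, u ≠ v → affOp u v ≠ u ∧ affOp u v ≠ v := by
  decide +kernel

theorem affOp_op : ∀ u v : Fin 2 → ZMod 3,
    affOp u (affOp u v) = v ∧ affOp v u = affOp u v ∧ affOp v (affOp u v) = u := by
  decide +kernel

theorem affModel : ReflModel affinePlaneThree affOp := by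
  refine ⟨fun s hs u hu v hv huv => ?_, fun u v h => ?_, fun u s hs => ?_⟩
  · obtain ⟨x, y, hxy, rfl⟩ := mem_affinePlane.1 hs
    refine ⟨?_, affOp_ne u v huv⟩
    obtain ⟨e1, e2, e3⟩ := affOp_op x y
    have e4 : affOp (affOp x y) x = y := by rw [(affOp_op x (affOp x y)).2.1, e1]
    have e5 : affOp (affOp x y) y = x := by rw [(affOp_op y (affOp x y)).2.1, e3]
    simp only [Set.mem_insert_iff, Set.mem_singleton_iff] at hu hv
    ext z
    rcases hu with rfl | rfl | rfl <;> rcases hv with rfl | rfl | rfl <;>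
      simp only [Set.mem_insert_iff, Set.mem_singleton_iff, e1, e2, e3, e4, e5, ne_eq] at * <;>
      tauto
  · by_contra hne
    refine h ⟨{u, v, affOp u v}, mem_affinePlane.2 ⟨u, v, ?_, rfl⟩, by simp, by simp, ?_⟩
    all_goals
      intro e
      apply hne
      subst e
      ext i
      exact (by decide : ∀ a : ZMod 3, -a - a = a) (u i)
  · obtain ⟨x, y, hxy, rfl⟩ := mem_affinePlane.1 hs
    refine mem_affinePlane.2 ⟨affOp u x, affOp u y, fun e => hxy ?_, ?_⟩
    · have := congrArg (affOp u) e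
      rwa [(affOp_op u x).1, (affOp_op u y).1] at this
    · simp only [Set.image_insert_eq, Set.image_singleton]
      have : affOp u (affOp x y) = affOp (affOp u x) (affOp u y) := by
        ext i
        exact (by decide : ∀ a b c : ZMod 3, -a - (-b - c) = -(-a - b) - (-a - c)) (u i) (x i) (y i)
      rw [this]

/-! ### The dual affine plane -/

/-- The transposition of a point of the dual affine plane. -/
def dualSwap (s : DualAffinePoint) : Equiv.Perm (Fin 4) :=
  Equiv.swap (s.val.min' (Finset.card_pos.1 (by rw [s.2]; norm_num)))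
    (s.val.max' (Finset.card_pos.1 (by rw [s.2]; norm_num)))

/-- The reflection operation of the dual affine plane. -/
def dualOp (u v : DualAffinePoint) : DualAffinePoint :=
  ⟨v.val.image (dualSwap u), by rw [Finset.card_image_of_injective _ (dualSwap u).injective, v.2]⟩

theorem dualSwap_inj : ∀ u v, dualSwap u = dualSwap v → u = v := by decide +kernel

theorem dualSwap_op : ∀ u v, dualSwap u * dualSwap v * dualSwap u = dualSwap (dualOp u v) := by
  decide +kernel

theorem dual_line : ∀ u v : DualAffinePoint, dualSwap u * dualSwap v ≠ dualSwap v * dualSwap u →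
    ∃ i : Fin 4, Finset.univ.filter (fun s : DualAffinePoint => i ∉ s.val) =
      ({u, v, dualOp v u} : Finset DualAffinePoint) := by
  decide +kernel

theorem dual_line' : ∀ i : Fin 4, ∃ u v : DualAffinePoint,
    dualSwap u * dualSwap v ≠ dualSwap v * dualSwap u ∧
    Finset.univ.filter (fun s : DualAffinePoint => i ∉ s.val) =
      ({u, v, dualOp v u} : Finset DualAffinePoint) := by
  decide +kernel

theorem dual_third : ∀ (i : Fin 4) (u v : DualAffinePoint), i ∉ u.val → i ∉ v.val → u ≠ v →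
    Finset.univ.filter (fun s : DualAffinePoint => i ∉ s.val) =
      ({u, v, dualOp u v} : Finset DualAffinePoint) ∧
    dualOp u v ≠ u ∧ dualOp u v ≠ v := by
  decide +kernel

theorem dual_fixed : ∀ u v : DualAffinePoint,
    (∀ i : Fin 4, ¬ (i ∉ u.val ∧ i ∉ v.val ∧ u ≠ v)) → dualOp u v = v := by
  decide +kernel

theorem dual_preserve : ∀ (u : DualAffinePoint) (i : Fin 4) (s : DualAffinePoint),
    (i ∉ s.val ↔ dualSwap u i ∉ (dualOp u s).val) ∧ dualOp u (dualOp u s) = s := by
  decide +kernel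

theorem mem_dualPlane {s : Set DualAffinePoint} :
    s ∈ dualAffinePlaneTwo ↔
      ∃ u v, dualSwap u * dualSwap v ≠ dualSwap v * dualSwap u ∧ s = {u, v, dualOp v u} := by
  constructor
  · rintro ⟨i, rfl⟩
    obtain ⟨u, v, h, hs⟩ := dual_line' i
    exact ⟨u, v, h, Set.ext fun s => by simpa using Finset.ext_iff.1 hs s⟩
  · rintro ⟨u, v, h, rfl⟩
    obtain ⟨i, hs⟩ := dual_line u v h
    exact ⟨i, Set.ext fun s => by simpa using (Finset.ext_iff.1 hs s).symm⟩

theorem dualModel : ReflModel dualAffinePlaneTwo dualOp := by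
  refine ⟨?_, fun u v h => ?_, ?_⟩
  · rintro s ⟨i, rfl⟩ u hu v hv huv
    obtain ⟨h1, h2⟩ := dual_third i u v hu hv huv
    exact ⟨Set.ext fun s => by simpa using Finset.ext_iff.1 h1 s, h2⟩
  · exact dual_fixed u v fun i hi => h ⟨_, ⟨i, rfl⟩, hi.1, hi.2.1, hi.2.2⟩
  · rintro u s ⟨i, rfl⟩
    refine ⟨dualSwap u i, Set.ext fun t => ⟨?_, fun ht => ⟨dualOp u t, ?_, ?_⟩⟩⟩
    · rintro ⟨w, hw, rfl⟩; exact (dual_preserve u i w).1.1 hw
    · show i ∉ (dualOp u t).val
      rw [(dual_preserve u i (dualOp u t)).1, (dual_preserve u i t).2]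
      exact ht
    · exact (dual_preserve u i t).2

end CfsgLib.ThreeTransp
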