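import Mathlib
import Cfsg.Prelude.Def_FischerSpaces
import Cfsg.Agent.Lib.ThreeTransp.FischerModels

/-!
The reflections of a Fischer space.
-/

set_option autoImplicit false

namespace CfsgLib.ThreeTransp

open Cfsg

variable {X : Type*} {L : Set (Set X)}

theorem three_mem_third {l : Set X} (h : l.ncard = 3) {x y : X} (hx : x ∈ l) (hy : y ∈ l)
    (hne : x ≠ y) : ∃ z, z ≠ x ∧ z ≠ y ∧ l = {x, y, z} := by
  obtain ⟨a, b, c, hab, hac, hbc, rfl⟩ := Set.ncard_eq_three.1 h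
  simp only [Set.mem_insert_iff, Set.mem_singleton_iff] at hx hy
  rcases hx with rfl | rfl | rfl <;> rcases hy with rfl | rfl | rfl
  all_goals first
    | exact absurd rfl hne
    | exact ⟨c, hac.symm, hbc.symm, rfl⟩
    | exact ⟨b, hab.symm, hbc, by ext; simp; tauto⟩
    | exact ⟨c, hbc.symm, hac.symm, by ext; simp; tauto⟩
    | exact ⟨a, hab, hac, by ext; simp; tauto⟩
    | exact ⟨b, hbc, hab.symm, by ext; simp; tauto⟩
    | exact ⟨a, hac, hab, by ext; simp; tauto⟩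

theorem fs_lineMap_eq (hL : IsFischerSpace L) {x y z : X} {l : Set X} (hl : l ∈ L) (hx : x ∈ l)
    (hy : y ∈ l) (hz : z ∈ l) (hxy : x ≠ y) (hzx : z ≠ x) (hzy : z ≠ y) :
    LineSystem.lineMap L x y = z := by
  obtain ⟨z', hz'x, hz'y, he⟩ := three_mem_third (hL.2.1 l hl) hx hy hxy
  have hzz : z = z' := by
    have := he ▸ hz
    simpa [hzx, hzy] using this
  subst hzz
  have hex : ∃ w, w ≠ x ∧ w ≠ y ∧ x ≠ y ∧ ({x, y, w} : Set X) ∈ L :=
    ⟨z, hzx, hzy, hxy, he ▸ hl⟩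
  unfold LineSystem.lineMap
  rw [dif_pos hex]
  obtain ⟨h1, h2, -, h3⟩ := hex.choose_spec
  have hline := hL.1 _ h3 l hl x y hxy (by simp) (by simp) hx hy
  have h4 : hex.choose ∈ l := hline ▸ (by simp)
  rw [he] at h4
  simpa [h1, h2] using h4

theorem fs_lineMap_fixed {x y : X} (h : ¬ LineSystem.Collinear L x y) :
    LineSystem.lineMap L x y = y :=
  dif_neg fun ⟨z, _, _, hxy, hz⟩ => h ⟨hxy, _, hz, by simp, by simp⟩

theorem fs_lineMap_spec (hL : IsFischerSpace L) {x y : X} (h : LineSystem.Collinear L x y) :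
    ∃ l ∈ L, ∃ z, z = LineSystem.lineMap L x y ∧ z ≠ x ∧ z ≠ y ∧ l = {x, y, z} := by
  obtain ⟨hne, l, hl, hx, hy⟩ := h
  obtain ⟨z, hzx, hzy, he⟩ := three_mem_third (hL.2.1 l hl) hx hy hne
  exact ⟨l, hl, z, (fs_lineMap_eq hL hl hx hy (by simp [he]) hne hzx hzy).symm, hzx, hzy, he⟩

theorem fs_lineMap_invol (hL : IsFischerSpace L) (x : X) :
    Function.Involutive (LineSystem.lineMap L x) := by
  intro y
  by_cases h : LineSystem.Collinear L x y
  · obtain ⟨l, hl, z, hz, hzx, hzy, he⟩ := fs_lineMap_spec hL h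
    rw [← hz]
    exact fs_lineMap_eq hL hl (by simp [he]) (by simp [he]) (by simp [he]) hzx.symm h.1.symm
      hzy.symm
  · rw [fs_lineMap_fixed h, fs_lineMap_fixed h]

theorem span_isSubspace (L : Set (Set X)) (S : Set X) :
    LineSystem.IsSubspace L (LineSystem.span L S) := by
  intro l hl x hx y hy hne hxl hyl
  refine Set.subset_sInter fun T hT => hT.2 l hl x (Set.mem_sInter.1 hx T hT) y
    (Set.mem_sInter.1 hy T hT) hne hxl hyl

theorem subset_span (L : Set (Set X)) (S : Set X) : S ⊆ LineSystem.span L S :=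
  Set.subset_sInter fun _ hT => hT.1

theorem fs_lineMap_line_aux (hL : IsFischerSpace L) {S : Set X} (hS : LineSystem.IsSubspace L S)
    {Y : Type*} {M : Set (Set Y)} {op : Y → Y → Y} (hM : ReflModel M op)
    (hiso : LineSystem.Isomorphic (LineSystem.restrict L S) M) {x : X} (hxS : x ∈ S)
    {m : Set X} (hm : m ∈ L) (hmS : m ⊆ S) : LineSystem.lineMap L x '' m ∈ L := by
  obtain ⟨e, he⟩ := hiso
  have hrestrict : ∀ {l : Set X}, l ∈ L → l ⊆ S → e '' {z : S | (z : X) ∈ l} ∈ M :=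
    fun {l} hl hlS => (he _).1 ⟨l, hl, hlS, rfl⟩
  have hmap : ∀ w : S, LineSystem.lineMap L x w = (e.symm (op (e ⟨x, hxS⟩) (e w)) : S) := by
    intro w
    by_cases hc : LineSystem.Collinear L x w
    · obtain ⟨l, hl, z, hz, hzx, hzw, hle⟩ := fs_lineMap_spec hL hc
      have hlS : l ⊆ S := hS l hl x hxS w w.2 hc.1 (by simp [hle]) (by simp [hle])
      have hs := hrestrict hl hlS
      have hne : e ⟨x, hxS⟩ ≠ e w := fun h => hc.1 (congrArg Subtype.val (e.injective h))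
      obtain ⟨h1, h2, h3⟩ := hM.third _ hs (e ⟨x, hxS⟩) ⟨⟨x, hxS⟩, by simp [hle], rfl⟩ (e w)
        ⟨w, by simp [hle], rfl⟩ hne
      have hzS : z ∈ S := hlS (by simp [hle])
      have hmem : e ⟨z, hzS⟩ ∈ ({e ⟨x, hxS⟩, e w, op (e ⟨x, hxS⟩) (e w)} : Set Y) :=
        h1 ▸ ⟨⟨z, hzS⟩, by simp [hle], rfl⟩
      simp only [Set.mem_insert_iff, Set.mem_singleton_iff] at hmem
      rcases hmem with h | h | h
      · exact absurd (congrArg Subtype.val (e.injective h)) hzx
      · exact absurd (congrArg Subtype.val (e.injective h)) hzw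
      · rw [← hz, ← h, Equiv.symm_apply_apply]
    · rw [fs_lineMap_fixed hc, hM.fixed, Equiv.symm_apply_apply]
      rintro ⟨s, hs, hx, hw, hne⟩
      have hs' : e.symm '' s ∈ LineSystem.restrict L S :=
        (he _).2 (by rwa [Equiv.image_symm_eq_preimage, Equiv.image_preimage])
      obtain ⟨l, hl, -, hls⟩ := hs'
      have hx' : (⟨x, hxS⟩ : S) ∈ e.symm '' s := ⟨_, hx, e.symm_apply_apply _⟩
      have hw' : w ∈ e.symm '' s := ⟨_, hw, e.symm_apply_apply _⟩
      rw [hls] at hx' hw'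
      refine hc ⟨fun h => hne ?_, l, hl, hx', hw'⟩
      rw [show w = ⟨x, hxS⟩ from Subtype.ext h.symm]
  have h1 := hM.preserve (e ⟨x, hxS⟩) _ (hrestrict hm hmS)
  set s := op (e ⟨x, hxS⟩) '' (e '' {z : S | (z : X) ∈ m}) with hsdef
  have h2 : e.symm '' s ∈ LineSystem.restrict L S :=
    (he _).2 (by rwa [Equiv.image_symm_eq_preimage, Equiv.image_preimage])
  obtain ⟨l, hl, hlS, hls⟩ := h2
  convert hl using 1
  ext y
  constructor
  · rintro ⟨w, hw, rfl⟩
    rw [hmap ⟨w, hmS hw⟩]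
    have : e.symm (op (e ⟨x, hxS⟩) (e ⟨w, hmS hw⟩)) ∈ e.symm '' s :=
      ⟨_, ⟨_, ⟨⟨w, hmS hw⟩, hw, rfl⟩, rfl⟩, rfl⟩
    rw [hls] at this
    exact this
  · intro hy
    have : (⟨y, hlS hy⟩ : S) ∈ e.symm '' s := by rw [hls]; exact hy
    obtain ⟨_, ⟨_, ⟨w, hw, rfl⟩, rfl⟩, hyw⟩ := this
    exact ⟨w, hw, by rw [hmap w, hyw]⟩

theorem fs_lineMap_line (hL : IsFischerSpace L) (x : X) {m : Set X} (hm : m ∈ L) :
    LineSystem.lineMap L x '' m ∈ L := by
  by_cases hex : ∃ y ∈ m, LineSystem.Collinear L x y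
  swap
  · push Not at hex
    convert hm using 1
    exact (Set.image_congr fun y hy => fs_lineMap_fixed (hex y hy)).trans (Set.image_id' m)
  obtain ⟨y, hy, hxy, l, hl, hxl, hyl⟩ := hex
  by_cases hlm : l = m
  · subst hlm
    convert hl using 1
    ext w
    constructor
    · rintro ⟨v, hv, rfl⟩
      by_cases hc : LineSystem.Collinear L x v
      · obtain ⟨k, hk, z, hz, -, -, hke⟩ := fs_lineMap_spec hL hc
        rw [← hz, hL.1 l hl k hk x v hc.1 hxl hv (by simp [hke]) (by simp [hke]), hke]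
        simp
      · rwa [fs_lineMap_fixed hc]
    · intro hw
      refine ⟨LineSystem.lineMap L x w, ?_, fs_lineMap_invol hL x w⟩
      by_cases hc : LineSystem.Collinear L x w
      · obtain ⟨k, hk, z, hz, -, -, hke⟩ := fs_lineMap_spec hL hc
        rw [← hz, hL.1 l hl k hk x w hc.1 hxl hw (by simp [hke]) (by simp [hke]), hke]
        simp
      · rwa [fs_lineMap_fixed hc]
  · have hsub := subset_span L (l ∪ m)
    have hmS : m ⊆ LineSystem.span L (l ∪ m) := fun w hw => hsub (Or.inr hw)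
    rcases hL.2.2 l hl m hm hlm ⟨y, hyl, hy⟩ with hiso | hiso
    · exact fs_lineMap_line_aux hL (span_isSubspace L _) dualModel hiso (hsub (Or.inl hxl)) hm hmS
    · exact fs_lineMap_line_aux hL (span_isSubspace L _) affModel hiso (hsub (Or.inl hxl)) hm hmS

/-- The reflection of a point as a permutation. -/
noncomputable def fsPerm (hL : IsFischerSpace L) (x : X) : Equiv.Perm X :=
  (fs_lineMap_invol hL x).toPerm

theorem fsPerm_apply (hL : IsFischerSpace L) (x y : X) :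
    fsPerm hL x y = LineSystem.lineMap L x y := rfl

theorem fsPerm_iso (hL : IsFischerSpace L) (x : X) : LineSystem.IsIso L L (fsPerm hL x) := by
  intro l
  refine ⟨fun hl => fs_lineMap_line hL x hl, fun hl => ?_⟩
  have h := fs_lineMap_line hL x hl
  rwa [show (fsPerm hL x : X → X) = LineSystem.lineMap L x from rfl,
    ← Set.image_comp, (fs_lineMap_invol hL x).comp_self, Set.image_id] at h

theorem fsPerm_conj (hL : IsFischerSpace L) (x y : X) :
    fsPerm hL x * fsPerm hL y * fsPerm hL x = fsPerm hL (fsPerm hL x y) := by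
  ext w
  simp only [Equiv.Perm.mul_apply, fsPerm_apply]
  set τ := LineSystem.lineMap L x with hτ
  have hinv : ∀ v, τ (τ v) = v := fs_lineMap_invol hL x
  by_cases hc : LineSystem.Collinear L y (τ w)
  · obtain ⟨l, hl, z, hz, hzy, hzw, hle⟩ := fs_lineMap_spec hL hc
    rw [← hz]
    symm
    refine fs_lineMap_eq hL (fs_lineMap_line hL x hl) ⟨y, by simp [hle], rfl⟩
      ⟨τ w, by simp [hle], hinv w⟩ ⟨z, by simp [hle], rfl⟩ ?_ ?_ ?_
    · intro h; exact hc.1 (by rw [← h, hinv])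
    · exact fun h => hzy ((fs_lineMap_invol hL x).injective h)
    · intro h; exact hzw (by rw [← h, hinv])
  · rw [fs_lineMap_fixed hc, hinv, fs_lineMap_fixed]
    rintro ⟨hne, l, hl, h1, h2⟩
    exact hc ⟨fun h => hne (by rw [h, hinv]), _, fs_lineMap_line hL x hl, ⟨_, h1, hinv y⟩,
      ⟨_, h2, rfl⟩⟩

theorem fsPerm_sq (hL : IsFischerSpace L) (x : X) : fsPerm hL x * fsPerm hL x = 1 := by
  ext w
  exact fs_lineMap_invol hL x w

theorem fsPerm_order (hL : IsFischerSpace L) (hnd : LineSystem.IsNondegenerate L) (x : X) :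
    orderOf (fsPerm hL x) = 2 := by
  refine orderOf_eq_prime (by rw [pow_two, fsPerm_sq]) fun h => ?_
  obtain ⟨l, hl, hx⟩ := hnd x
  obtain ⟨y, hy, hne⟩ : ∃ y ∈ l, y ≠ x :=
    Set.exists_ne_of_one_lt_ncard (by rw [hL.2.1 l hl]; norm_num) x
  obtain ⟨k, -, z, hz, -, hzy, -⟩ := fs_lineMap_spec hL ⟨Ne.symm hne, l, hl, hx, hy⟩
  apply hzy
  rw [hz, ← fsPerm_apply hL, h]
  rfl

theorem fsPerm_pair (hL : IsFischerSpace L) (x y : X) :
    (fsPerm hL x * fsPerm hL y) ^ 2 = 1 ∨ (fsPerm hL x * fsPerm hL y) ^ 3 = 1 := by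
  by_cases hc : LineSystem.Collinear L x y
  · right
    obtain ⟨l, hl, z, hz, hzx, hzy, hle⟩ := fs_lineMap_spec hL hc
    have h1 := fsPerm_conj hL x y
    have h2 := fsPerm_conj hL y x
    have h3 : fsPerm hL y x = z :=
      fs_lineMap_eq hL hl (by simp [hle]) (by simp [hle]) (by simp [hle]) hc.1.symm hzy hzx
    rw [fsPerm_apply, ← hz] at h1
    rw [h3] at h2
    calc (fsPerm hL x * fsPerm hL y) ^ 3
        = (fsPerm hL x * fsPerm hL y * fsPerm hL x) * (fsPerm hL y * fsPerm hL x * fsPerm hL y) := by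
          simp [pow_succ, mul_assoc]
      _ = 1 := by rw [h1, h2, fsPerm_sq]
  · left
    have h1 := fsPerm_conj hL x y
    rw [fsPerm_apply, fs_lineMap_fixed hc] at h1
    rw [pow_two, ← mul_assoc, h1, fsPerm_sq]

theorem fischer_reflections (hL : IsFischerSpace L) (hnd : LineSystem.IsNondegenerate L) :
    (∀ x : X, ∃ σ : Equiv.Perm X, ⇑σ = LineSystem.lineMap L x ∧ orderOf σ = 2 ∧
      LineSystem.IsIso L L σ) ∧
    IsThreeTranspositionSet {σ : Equiv.Perm X | ∃ x : X, ⇑σ = LineSystem.lineMap L x} := by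
  refine ⟨fun x => ⟨fsPerm hL x, rfl, fsPerm_order hL hnd x, fsPerm_iso hL x⟩, ?_, ?_⟩
  · rintro σ ⟨x, hx⟩
    rw [show σ = fsPerm hL x from Equiv.ext (congrFun hx)]
    exact fsPerm_order hL hnd x
  · rintro σ ⟨x, hx⟩ τ ⟨y, hy⟩
    rw [show σ = fsPerm hL x from Equiv.ext (congrFun hx),
      show τ = fsPerm hL y from Equiv.ext (congrFun hy)]
    exact fsPerm_pair hL x y

end CfsgLib.ThreeTransp
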