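import Mathlib
import Cfsg.Agent.Lib.ThreeTransp.S4
import Cfsg.Agent.Lib.ThreeTransp.FischerModels

/-!
The line system of a set of 3-transpositions, and the reflections of a Fischer space.
-/

set_option autoImplicit false

namespace CfsgLib.ThreeTransp

open Cfsg CfsgLib.Involutions

variable {G : Type*} [Group G] {D : Set G}

/-- The line through two members. -/
def tsLine (D : Set G) (x y : G) : Set D := {z | (z : G) = x ∨ (z : G) = y ∨ (z : G) = y * x * y⁻¹}

theorem tsLine_comm (hD : IsThreeTranspositionSet D) {x y : G} (hx : x ∈ D) (hy : y ∈ D)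
    (h : ¬ Commute x y) : tsLine D x y = tsLine D y x := by
  ext z
  simp only [tsLine, Set.mem_ofPred_eq, ts_inv hD hx, ts_inv hD hy, ts_braid hD hx hy h]
  tauto

theorem ts_third_not_commute (hD : IsThreeTranspositionSet D) {x y : G} (hx : x ∈ D) (hy : y ∈ D)
    (h : ¬ Commute x y) : ¬ Commute x (y * x * y) ∧ ¬ Commute y (y * x * y) := by
  have hb := ts_braid hD hx hy h
  constructor
  · intro hc
    apply h
    have h1 := commute_mul_self (ts_invol hD hx) hc
    rw [← hb] at h1
    -- `y = x y x`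
    have h2 : x * y * x = y := by
      have : x * (x * y * x) * x = y := by
        simp [← mul_assoc, ts_mul_self hD hx, mul_assoc y x x]
      rw [← h1]; exact this
    calc x * y = x * y * x * x := by rw [mul_assoc (x * y) x x, ts_mul_self hD hx, mul_one]
      _ = y * x := by rw [h2]
  · intro hc
    apply h
    have h1 := (commute_conj_iff (y⁻¹) (x := y) (y := y * x * y)).2 hc
    rw [inv_inv, ts_inv hD hy, ts_mul_self hD hy, one_mul] at h1
    have h2 : y * (y * x * y) * y = x := by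
      simp [← mul_assoc, ts_mul_self hD hy, mul_assoc x y y]
    rw [h2] at h1
    exact h1.symm

theorem ts_line_eq (hD : IsThreeTranspositionSet D) (hconj : ∀ g : G, ∀ d ∈ D, g * d * g⁻¹ ∈ D)
    {l : Set D} (hl : l ∈ threeTranspositionLines D) {u v : D} (hu : u ∈ l) (hv : v ∈ l)
    (huv : u ≠ v) : l = tsLine D u v ∧ ¬ Commute (u : G) (v : G) := by
  obtain ⟨⟨x, hx⟩, ⟨y, hy⟩, hnc, rfl⟩ := hl
  have hz : y * x * y ∈ D := by
    have := hconj y x hx; rwa [ts_inv hD hy] at this
  obtain ⟨n1, n2⟩ := ts_third_not_commute hD hx hy hnc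
  have hb := ts_braid hD hx hy hnc
  have e1 : tsLine D x (y * x * y) = tsLine D x y := by
    ext z
    simp only [tsLine, Set.mem_ofPred_eq, ts_inv hD hy, ts_inv hD hz]
    rw [← ts_braid hD hx hz n1]
    have : x * (y * x * y) * x = y := by
      rw [← hb]; simp [← mul_assoc, ts_mul_self hD hx, mul_assoc y x x]
    rw [this]; tauto
  have e2 : tsLine D y (y * x * y) = tsLine D x y := by
    ext z
    simp only [tsLine, Set.mem_ofPred_eq, ts_inv hD hy, ts_inv hD hz]
    rw [← ts_braid hD hy hz n2]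
    have : y * (y * x * y) * y = x := by
      simp [← mul_assoc, ts_mul_self hD hy, mul_assoc x y y]
    rw [this]; tauto
  have hu' : (u : G) = x ∨ (u : G) = y ∨ (u : G) = y * x * y := by
    simpa [ts_inv hD hy] using hu
  have hv' : (v : G) = x ∨ (v : G) = y ∨ (v : G) = y * x * y := by
    simpa [ts_inv hD hy] using hv
  have hne : (u : G) ≠ v := fun e => huv (Subtype.ext e)
  show tsLine D x y = _ ∧ _
  rcases hu' with h1 | h1 | h1 <;> rcases hv' with h2 | h2 | h2 <;> rw [h1, h2] at hne ⊢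
  all_goals first
    | exact absurd rfl hne
    | exact ⟨rfl, hnc⟩
    | exact ⟨tsLine_comm hD hx hy hnc, fun h => hnc h.symm⟩
    | exact ⟨e1.symm, n1⟩
    | exact ⟨e2.symm, n2⟩
    | exact ⟨(tsLine_comm hD hx hz n1 ▸ e1).symm, fun h => n1 h.symm⟩
    | exact ⟨(tsLine_comm hD hy hz n2 ▸ e2).symm, fun h => n2 h.symm⟩

theorem tsLine_mem {x y : D} (h : ¬ Commute (x : G) (y : G)) :
    tsLine D x y ∈ threeTranspositionLines D := ⟨x, y, h, rfl⟩

theorem ts_partial_linear (hD : IsThreeTranspositionSet D)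
    (hconj : ∀ g : G, ∀ d ∈ D, g * d * g⁻¹ ∈ D) :
    LineSystem.IsPartialLinear (threeTranspositionLines D) := fun _ hl _ hm _ _ hxy h1 h2 h3 h4 =>
  (ts_line_eq hD hconj hl h1 h2 hxy).1.trans (ts_line_eq hD hconj hm h3 h4 hxy).1.symm

theorem ts_line_ncard (hD : IsThreeTranspositionSet D)
    (hconj : ∀ g : G, ∀ d ∈ D, g * d * g⁻¹ ∈ D) {l : Set D}
    (hl : l ∈ threeTranspositionLines D) : l.ncard = 3 := by
  obtain ⟨⟨x, hx⟩, ⟨y, hy⟩, hnc, rfl⟩ := hl
  obtain ⟨n1, n2⟩ := ts_third_not_commute hD hx hy hnc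
  refine Set.ncard_eq_three.2 ⟨⟨x, hx⟩, ⟨y, hy⟩, ⟨y * x * y⁻¹, hconj y x hx⟩, ?_, ?_, ?_, ?_⟩
  · intro e; cases e; exact hnc (Commute.refl x)
  · intro e
    refine n1 ?_
    have : x = y * x * y⁻¹ := congrArg Subtype.val e
    rw [ts_inv hD hy] at this
    rw [← this]
  · intro e
    refine n2 ?_
    have : y = y * x * y⁻¹ := congrArg Subtype.val e
    rw [ts_inv hD hy] at this
    rw [← this]
  · ext z; simp [Subtype.ext_iff]

/-- A copy of a plane inside `D`. -/
theorem ts_iso_of_model {Y : Type*} {M : Set (Set Y)} {op : Y → Y → Y} {P : Y → Y → Prop}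
    (hM : ∀ {s}, s ∈ M ↔ ∃ u v, P u v ∧ s = {u, v, op u v})
    (hD : IsThreeTranspositionSet D) (hconj : ∀ g : G, ∀ d ∈ D, g * d * g⁻¹ ∈ D)
    {f : Y → D} (hf : Function.Injective f)
    (hP : ∀ u v, P u v ↔ ¬ Commute (f u : G) (f v : G))
    (hop : ∀ u v, P u v → (f (op u v) : G) = (f v : G) * f u * (f v : G)⁻¹)
    {S₀ : Set D} (hS₀ : S₀ ⊆ Set.range f)
    (hgen : ∀ T : Set D, S₀ ⊆ T →
      (∀ u v, P u v → f u ∈ T → f v ∈ T → f (op u v) ∈ T) → Set.range f ⊆ T) :
    LineSystem.Isomorphic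
      (LineSystem.restrict (threeTranspositionLines D)
        (LineSystem.span (threeTranspositionLines D) S₀)) M := by
  set L := threeTranspositionLines D
  have himage : ∀ u v, P u v → f '' {u, v, op u v} = tsLine D (f u) (f v) := by
    intro u v h
    ext z
    simp only [Set.image_insert_eq, Set.image_singleton, Set.mem_insert_iff, Set.mem_singleton_iff,
      tsLine, Set.mem_ofPred_eq, Subtype.ext_iff, hop u v h]
  have hsub : LineSystem.IsSubspace L (Set.range f) := by
    rintro l hl _ ⟨u, rfl⟩ _ ⟨v, rfl⟩ hne hu hv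
    obtain ⟨rfl, hnc⟩ := ts_line_eq hD hconj hl hu hv hne
    rw [← himage u v ((hP u v).2 hnc)]
    exact Set.image_subset_range _ _
  have hspan : LineSystem.span L S₀ = Set.range f := by
    refine le_antisymm (Set.sInter_subset_of_mem ⟨hS₀, hsub⟩) (Set.subset_sInter ?_)
    rintro T ⟨hT₀, hT⟩
    refine hgen T hT₀ fun u v h hu hv => ?_
    have hne : f u ≠ f v := fun e => (hP u v).1 h (by rw [e])
    refine hT _ (tsLine_mem ((hP u v).1 h)) _ hu _ hv hne (Or.inl rfl) (Or.inr (Or.inl rfl)) ?_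
    exact Or.inr (Or.inr (hop u v h))
  rw [hspan]
  refine ⟨(Equiv.ofInjective f hf).symm, fun m => ?_⟩
  have hpre : ∀ y, y ∈ (Equiv.ofInjective f hf).symm '' m ↔ (⟨f y, y, rfl⟩ : Set.range f) ∈ m := by
    intro y
    rw [Equiv.image_eq_preimage_symm, Equiv.symm_symm, Set.mem_preimage]
    rfl
  constructor
  · rintro ⟨l, hl, hlS, rfl⟩
    obtain ⟨a, b, c, hab, -, -, habc⟩ := Set.ncard_eq_three.1 (ts_line_ncard hD hconj hl)
    have ha : a ∈ l := by simp [habc]
    have hb : b ∈ l := by simp [habc]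
    obtain ⟨u, rfl⟩ := hlS ha
    obtain ⟨v, rfl⟩ := hlS hb
    obtain ⟨rfl, hnc⟩ := ts_line_eq hD hconj hl ha hb hab
    refine hM.2 ⟨u, v, (hP u v).2 hnc, Set.ext fun y => ?_⟩
    rw [hpre, ← himage u v ((hP u v).2 hnc)]
    exact hf.mem_set_image
  · intro h
    obtain ⟨u, v, huv, he⟩ := hM.1 h
    refine ⟨f '' ((Equiv.ofInjective f hf).symm '' m), ?_, Set.image_subset_range _ _, ?_⟩
    · rw [he, himage u v huv]
      exact tsLine_mem ((hP u v).1 huv)
    · ext ⟨_, y, rfl⟩
      rw [Set.mem_ofPred_eq, hf.mem_set_image, hpre]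

/-! ### The affine plane case -/

/-- The nine points of an affine plane. -/
def ninePts (p a c : G) (i j : ZMod 3) : G :=
  ((![![p, c, p * c * p],
    ![a, (p * a * p) * (p * c * p) * (p * a * p), (p * a * p) * c * (p * a * p)],
    ![p * a * p, a * (p * c * p) * a, a * c * a]] : Fin 3 → Fin 3 → G) i) j

theorem ninePts00 (p a c : G) : ninePts p a c 0 0 = p := rfl

theorem ninePts01 (p a c : G) : ninePts p a c 0 1 = c := rfl

theorem ninePts02 (p a c : G) : ninePts p a c 0 2 = p * c * p := rfl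

theorem ninePts10 (p a c : G) : ninePts p a c 1 0 = a := rfl

theorem ninePts11 (p a c : G) : ninePts p a c 1 1 = (p * a * p) * (p * c * p) * (p * a * p) := rfl

theorem ninePts12 (p a c : G) : ninePts p a c 1 2 = (p * a * p) * c * (p * a * p) := rfl

theorem ninePts20 (p a c : G) : ninePts p a c 2 0 = p * a * p := rfl

theorem ninePts21 (p a c : G) : ninePts p a c 2 1 = a * (p * c * p) * a := rfl

theorem ninePts22 (p a c : G) : ninePts p a c 2 2 = a * c * a := rfl

theorem ninePts_conj {p a c : G} (pp : p * p = 1) (aa : a * a = 1) (hpa : a * p * a = p * a * p)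
    (i j : ZMod 3) :
    p * ninePts p a c i j * p = ninePts p a c (-i) (-j) ∧
      a * ninePts p a c i j * a = ninePts p a c (-1 - i) (-j) := by
  have three : ∀ i : ZMod 3, i = 0 ∨ i = 1 ∨ i = 2 := by decide
  have p1 : ∀ x, p * (p * x) = x := fun x => by rw [← mul_assoc, pp, one_mul]
  have a1 : ∀ x, a * (a * x) = x := fun x => by rw [← mul_assoc, aa, one_mul]
  have pap : a * (p * a) = p * (a * p) := by simpa [mul_assoc] using hpa
  have pap' : ∀ x, a * (p * (a * x)) = p * (a * (p * x)) := fun x => by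
    simpa [mul_assoc] using congrArg (· * x) pap
  rcases three i with rfl | rfl | rfl <;> rcases three j with rfl | rfl | rfl <;>
    simp [ninePts00, ninePts01, ninePts02, ninePts10, ninePts11, ninePts12, ninePts20, ninePts21, ninePts22, mul_assoc, pp, p1, aa, a1, pap, pap',
       
      (by decide : (-1 : ZMod 3) = 2), (by decide : (-2 : ZMod 3) = 1),  
      (by decide : (2 - 1 : ZMod 3) = 1)]

theorem ninePts_swap {p a c : G} (pp : p * p = 1) (hac : a * c * a = c * a * c)
    (hac' : a * (p * c * p) * a = p * c * p * a * (p * c * p)) (i j : ZMod 3) :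
    ninePts p a c i j = ninePts p c a j i := by
  have three : ∀ i : ZMod 3, i = 0 ∨ i = 1 ∨ i = 2 := by decide
  have p1 : ∀ x, p * (p * x) = x := fun x => by rw [← mul_assoc, pp, one_mul]
  have h11 : p * a * p * (p * c * p) * (p * a * p) = p * c * p * (p * a * p) * (p * c * p) := by
    simpa [mul_assoc, pp, p1] using congrArg (fun t => p * t * p) hac
  have h12 : p * a * p * c * (p * a * p) = c * (p * a * p) * c := by
    simpa [mul_assoc, pp, p1] using congrArg (fun t => p * t * p) hac'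
  rcases three i with rfl | rfl | rfl <;> rcases three j with rfl | rfl | rfl
  all_goals first
    | rfl
    | exact hac
    | exact hac'
    | exact h11
    | exact h12

theorem ts_affine_plane (hD : IsThreeTranspositionSet D)
    (hconj : ∀ g : G, ∀ d ∈ D, g * d * g⁻¹ ∈ D) {p a c : D}
    (hpa : ¬ Commute (p : G) (a : G)) (hpc : ¬ Commute (p : G) (c : G))
    (hac : ¬ Commute (a : G) (c : G))
    (hac' : ¬ Commute (a : G) ((p : G) * c * p)) :
    LineSystem.Isomorphic
      (LineSystem.restrict (threeTranspositionLines D)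
        (LineSystem.span (threeTranspositionLines D) (tsLine D p a ∪ tsLine D p c)))
      affinePlaneThree := by
  obtain ⟨p, hp⟩ := p
  obtain ⟨a, ha⟩ := a
  obtain ⟨c, hc⟩ := c
  simp only at hpa hpc hac hac' ⊢
  have cm : ∀ {x y : G}, x ∈ D → y ∈ D → x * y * x ∈ D := fun {x y} hx hy => by
    have := hconj x y hy; rwa [ts_inv hD hx] at this
  let g : ZMod 3 → ZMod 3 → G := ninePts p a c
  have hgD : ∀ i j, g i j ∈ D := by
    intro i j
    have three : ∀ i : ZMod 3, i = 0 ∨ i = 1 ∨ i = 2 := by decide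
    rcases three i with rfl | rfl | rfl <;> rcases three j with rfl | rfl | rfl
    exacts [hp, hc, cm hp hc, ha, cm (cm hp ha) (cm hp hc), cm (cm hp ha) hc, cm hp ha,
      cm ha (cm hp hc), cm ha hc]
  let f : (Fin 2 → ZMod 3) → D := fun v => ⟨g (v 0) (v 1), hgD _ _⟩
  have hn := fun i j => ninePts_conj (c := c) (ts_mul_self hD hp) (ts_mul_self hD ha)
    (ts_braid hD hp ha hpa).symm i j
  have hn' := fun i j => ninePts_conj (c := a) (ts_mul_self hD hp) (ts_mul_self hD hc)
    (ts_braid hD hp hc hpc).symm i j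
  have hsw := ninePts_swap (ts_mul_self hD hp) (ts_braid hD ha hc hac)
    (ts_braid hD ha (cm hp hc) hac')
  have e0 : ∀ i j, p * g i j * p = g (-i) (-j) := fun i j => (hn i j).1
  have ea : ∀ i j, a * g i j * a = g (-1 - i) (-j) := fun i j => (hn i j).2
  have ec : ∀ i j, c * g i j * c = g (-i) (-1 - j) := fun i j => by
    show c * ninePts p a c i j * c = ninePts p a c (-i) (-1 - j)
    rw [hsw, hsw]; exact (hn' j i).2
  have hU : ∀ u v, (f u : G) * f v * f u = f (affOp u v) := by
    have hmul : ∀ u w, (∀ v, (f u : G) * f v * f u = f (affOp u v)) →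
        (∀ v, (f w : G) * f v * f w = f (affOp w v)) →
        ∀ v, (f (affOp u w) : G) * f v * f (affOp u w) = f (affOp (affOp u w) v) := by
      intro u w hu hw v
      have e : affOp (affOp u w) v = affOp u (affOp w (affOp u v)) := by
        ext i
        exact (by decide : ∀ a b c : ZMod 3, -(-a - b) - c = -a - (-b - (-a - c))) (u i) (w i) (v i)
      rw [e, ← hu, ← hu, ← hw, ← hu]
      group
    have h00 : ∀ v, (f ![0, 0] : G) * f v * f ![0, 0] = f (affOp ![0, 0] v) := fun v => by
      simpa [f, affOp, g, ninePts00, ninePts10, ninePts01] using e0 (v 0) (v 1)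
    have h10 : ∀ v, (f ![1, 0] : G) * f v * f ![1, 0] = f (affOp ![1, 0] v) := fun v => by
      simpa [f, affOp, g, ninePts00, ninePts10, ninePts01] using ea (v 0) (v 1)
    have h01 : ∀ v, (f ![0, 1] : G) * f v * f ![0, 1] = f (affOp ![0, 1] v) := fun v => by
      simpa [f, affOp, g, ninePts00, ninePts10, ninePts01] using ec (v 0) (v 1)
    have h20 := hmul _ _ h00 h10
    have h02 := hmul _ _ h00 h01
    have h22 := hmul _ _ h10 h01
    have h11 := hmul _ _ h20 h02
    have h21 := hmul _ _ h10 h02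
    have h12 := hmul _ _ h20 h01
    intro u
    have hcases : u = ![0, 0] ∨ u = ![1, 0] ∨ u = ![0, 1] ∨ u = affOp ![0, 0] ![1, 0] ∨
        u = affOp ![0, 0] ![0, 1] ∨ u = affOp ![1, 0] ![0, 1] ∨
        u = affOp (affOp ![0, 0] ![1, 0]) (affOp ![0, 0] ![0, 1]) ∨
        u = affOp ![1, 0] (affOp ![0, 0] ![0, 1]) ∨
        u = affOp (affOp ![0, 0] ![1, 0]) ![0, 1] := by revert u; decide +kernel
    rcases hcases with rfl | rfl | rfl | rfl | rfl | rfl | rfl | rfl | rfl
    exacts [h00, h10, h01, h20, h02, h22, h11, h21, h12]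
  have hop : ∀ u v, (f (affOp u v) : G) = (f v : G) * f u * (f v : G)⁻¹ := by
    intro u v
    rw [ts_inv hD (f v).2, hU, (affOp_op u v).2.1]
  -- injectivity
  have hf : Function.Injective f := by
    intro u w huw
    by_contra hne
    have htr : ∀ v, f (v + (w - u)) = f v := by
      intro v
      set d := v - u with hd
      have h1 := congrArg (fun x : D =>
        (f 0 : G) * ((f d : G) * (x : G) * f d) * f 0) huw
      simp only [hU] at h1
      have e : ∀ z, affOp 0 (affOp d z) = d + z := fun z => by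
        ext i; simp [affOp, sub_eq_add_neg, add_comm]
      rw [e, e] at h1
      have e1 : d + u = v := by rw [hd]; abel
      have e2 : d + w = v + (w - u) := by rw [hd]; abel
      rw [e1, e2] at h1
      exact Subtype.ext h1.symm
    have hδ : w - u ≠ 0 := sub_ne_zero.2 (Ne.symm hne)
    have hcases : ∀ d : Fin 2 → ZMod 3, d ≠ 0 → d = ![1, 0] ∨ d = ![2, 0] ∨ d = ![0, 1] ∨
        d = ![0, 2] ∨ d = ![2, 1] ∨ d = ![1, 2] ∨ d = ![1, 1] ∨ d = ![2, 2] := by decide +kernel
    have hk : ∀ x y, x + (w - u) = y → (f x : G) = f y := fun x y e => by rw [← e, htr]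
    rcases hcases _ hδ with e | e | e | e | e | e | e | e <;> simp only [e] at hk
    · exact hpa (by rw [show p = a from hk ![0, 0] ![1, 0] (by decide)])
    · exact hpa (by rw [show a = p from hk ![1, 0] ![0, 0] (by decide)])
    · exact hpc (by rw [show p = c from hk ![0, 0] ![0, 1] (by decide)])
    · exact hpc (by rw [show c = p from hk ![0, 1] ![0, 0] (by decide)])
    · exact hac (by rw [show a = c from hk ![1, 0] ![0, 1] (by decide)])
    · exact hac (by rw [show c = a from hk ![0, 1] ![1, 0] (by decide)])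
    · exact hac' (by rw [show p * c * p = a from hk ![0, 2] ![1, 0] (by decide)])
    · exact hac' (by rw [show a = p * c * p from hk ![1, 0] ![0, 2] (by decide)])
  refine ts_iso_of_model (op := affOp) (P := fun u v => u ≠ v) mem_affinePlane hD hconj hf
    (fun u v => ?_) (fun u v _ => hop u v) ?_ ?_
  · constructor
    · intro huv hc'
      have h2 : f (affOp u v) = f u := Subtype.ext (by rw [hop, ← hc'.eq, mul_inv_cancel_right])
      exact (affOp_ne u v huv).1 (hf h2)
    · rintro h rfl; exact h (Commute.refl _)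
  · rintro z ((h | h | h) | (h | h | h))
    · exact ⟨![0, 0], Subtype.ext h.symm⟩
    · exact ⟨![1, 0], Subtype.ext h.symm⟩
    · refine ⟨![2, 0], Subtype.ext ?_⟩
      rw [h, ts_inv hD ha]; exact ts_braid hD hp ha hpa
    · exact ⟨![0, 0], Subtype.ext h.symm⟩
    · exact ⟨![0, 1], Subtype.ext h.symm⟩
    · refine ⟨![0, 2], Subtype.ext ?_⟩
      rw [h, ts_inv hD hc]; exact ts_braid hD hp hc hpc
  · intro T hT hcl
    have h00 : f ![0, 0] ∈ T := hT (Or.inl (Or.inl rfl))
    have h10 : f ![1, 0] ∈ T := hT (Or.inl (Or.inr (Or.inl rfl)))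
    have h01 : f ![0, 1] ∈ T := hT (Or.inr (Or.inr (Or.inl rfl)))
    have h20 := hcl _ _ (by decide) h00 h10
    have h02 := hcl _ _ (by decide) h00 h01
    have h22 := hcl _ _ (by decide) h10 h01
    have h11 := hcl _ _ (by decide) h20 h02
    have h21 := hcl _ _ (by decide) h10 h02
    have h12 := hcl _ _ (by decide) h20 h01
    rintro z ⟨u, rfl⟩
    have hcases : ∀ u, u = ![0, 0] ∨ u = ![1, 0] ∨ u = ![0, 1] ∨ u = affOp ![0, 0] ![1, 0] ∨
        u = affOp ![0, 0] ![0, 1] ∨ u = affOp ![1, 0] ![0, 1] ∨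
        u = affOp (affOp ![0, 0] ![1, 0]) (affOp ![0, 0] ![0, 1]) ∨
        u = affOp ![1, 0] (affOp ![0, 0] ![0, 1]) ∨
        u = affOp (affOp ![0, 0] ![1, 0]) ![0, 1] := by decide +kernel
    rcases hcases u with rfl | rfl | rfl | rfl | rfl | rfl | rfl | rfl | rfl <;> assumption

/-! ### The dual affine plane case -/

theorem ts_dual_plane (hD : IsThreeTranspositionSet D)
    (hconj : ∀ g : G, ∀ d ∈ D, g * d * g⁻¹ ∈ D) {p a c : D}
    (hpa : ¬ Commute (p : G) (a : G)) (hpc : ¬ Commute (p : G) (c : G))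
    (hne : a ≠ c) (hac : Commute (a : G) (c : G)) :
    LineSystem.Isomorphic
      (LineSystem.restrict (threeTranspositionLines D)
        (LineSystem.span (threeTranspositionLines D) (tsLine D p a ∪ tsLine D p c)))
      dualAffinePlaneTwo := by
  obtain ⟨φ, hφ, h0, h1, h2⟩ := exists_s4_hom hD a.2 p.2 c.2 (fun e => hne (Subtype.ext e)) hac
    (fun h => hpa h.symm) hpc
  have hpt : ∀ s : DualAffinePoint, ∃ ρ : Equiv.Perm (Fin 4),
      dualSwap s = ρ * Equiv.swap 0 1 * ρ⁻¹ := by decide +kernel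
  have hfD : ∀ s, φ (dualSwap s) ∈ D := by
    intro s
    obtain ⟨ρ, hρ⟩ := hpt s
    rw [hρ, map_mul, map_mul, map_inv, h0]
    exact hconj _ _ a.2
  let f : DualAffinePoint → D := fun s => ⟨φ (dualSwap s), hfD s⟩
  have hf : Function.Injective f := fun u v h => dualSwap_inj u v (hφ (congrArg Subtype.val h))
  have hinv : ∀ v, (dualSwap v)⁻¹ = dualSwap v := fun v => Equiv.swap_inv _ _
  let P01 : DualAffinePoint := ⟨{0, 1}, by decide⟩
  let P12 : DualAffinePoint := ⟨{1, 2}, by decide⟩
  let P23 : DualAffinePoint := ⟨{2, 3}, by decide⟩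
  have fa : f P01 = a := Subtype.ext <| by
    show φ (dualSwap P01) = _
    rw [show dualSwap P01 = Equiv.swap 0 1 by decide +kernel, h0]
  have fp : f P12 = p := Subtype.ext <| by
    show φ (dualSwap P12) = _
    rw [show dualSwap P12 = Equiv.swap 1 2 by decide +kernel, h1]
  have fc : f P23 = c := Subtype.ext <| by
    show φ (dualSwap P23) = _
    rw [show dualSwap P23 = Equiv.swap 2 3 by decide +kernel, h2]
  have hop : ∀ u v, (f (dualOp v u) : G) = (f v : G) * f u * (f v : G)⁻¹ := by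
    intro u v
    show φ _ = φ _ * φ _ * (φ _)⁻¹
    rw [← map_inv, hinv, ← map_mul, ← map_mul, dualSwap_op]
  refine ts_iso_of_model (op := fun u v => dualOp v u)
    (P := fun u v => dualSwap u * dualSwap v ≠ dualSwap v * dualSwap u) mem_dualPlane hD hconj hf
    (fun u v => ?_) (fun u v _ => hop u v) ?_ ?_
  · show _ ↔ ¬ (φ _ * φ _ = φ _ * φ _)
    rw [← map_mul, ← map_mul, hφ.eq_iff]
  · rintro z ((h | h | h) | (h | h | h))
    · exact ⟨P12, fp.trans (Subtype.ext h.symm)⟩
    · exact ⟨P01, fa.trans (Subtype.ext h.symm)⟩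
    · exact ⟨dualOp P01 P12, Subtype.ext (by rw [hop, fa, fp, h])⟩
    · exact ⟨P12, fp.trans (Subtype.ext h.symm)⟩
    · exact ⟨P23, fc.trans (Subtype.ext h.symm)⟩
    · exact ⟨dualOp P23 P12, Subtype.ext (by rw [hop, fc, fp, h])⟩
  · intro T hT hcl
    have m01 : f P01 ∈ T := hT (Or.inl (Or.inr (Or.inl (congrArg Subtype.val fa))))
    have m12 : f P12 ∈ T := hT (Or.inl (Or.inl (congrArg Subtype.val fp)))
    have m23 : f P23 ∈ T := hT (Or.inr (Or.inr (Or.inl (congrArg Subtype.val fc))))
    have m02 := hcl _ _ (by decide +kernel) m12 m01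
    have m13 := hcl _ _ (by decide +kernel) m12 m23
    have m03 := hcl _ _ (by decide +kernel) m13 m01
    rintro z ⟨u, rfl⟩
    have hcases : ∀ u, u = P01 ∨ u = P12 ∨ u = P23 ∨ u = dualOp P01 P12 ∨
        u = dualOp P23 P12 ∨ u = dualOp P01 (dualOp P23 P12) := by decide +kernel
    rcases hcases u with rfl | rfl | rfl | rfl | rfl | rfl <;> assumption

theorem ts_fischer_space (hD : IsThreeTranspositionSet D)
    (hconj : ∀ g : G, ∀ d ∈ D, g * d * g⁻¹ ∈ D) :
    IsFischerSpace (threeTranspositionLines D) := by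
  refine ⟨ts_partial_linear hD hconj, fun l hl => ts_line_ncard hD hconj hl, ?_⟩
  rintro l hl m hm hne ⟨p, hpl, hpm⟩
  have key : ∀ {l m : Set D}, l ∈ threeTranspositionLines D → m ∈ threeTranspositionLines D →
      l ≠ m → p ∈ l → p ∈ m → ∀ {a c : D}, a ∈ l → c ∈ m → a ≠ p → c ≠ p →
      Commute (a : G) (c : G) →
      LineSystem.Isomorphic (LineSystem.restrict (threeTranspositionLines D)
        (LineSystem.span (threeTranspositionLines D) (l ∪ m))) dualAffinePlaneTwo := by
    intro l m hl hm hne hpl hpm a c ha hc hap hcp hac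
    obtain ⟨rfl, hpa⟩ := ts_line_eq hD hconj hl hpl ha (Ne.symm hap)
    obtain ⟨rfl, hpc⟩ := ts_line_eq hD hconj hm hpm hc (Ne.symm hcp)
    exact ts_dual_plane hD hconj hpa hpc (fun e => hne (by rw [e])) hac
  by_cases hex : ∃ a c : D, a ∈ l ∧ c ∈ m ∧ a ≠ p ∧ c ≠ p ∧ Commute (a : G) (c : G)
  · obtain ⟨a, c, ha, hc, hap, hcp, hac⟩ := hex
    exact Or.inl (key hl hm hne hpl hpm ha hc hap hcp hac)
  · push Not at hex
    right
    obtain ⟨a, ha, hap⟩ : ∃ a ∈ l, a ≠ p := Set.exists_ne_of_one_lt_ncard (by rw [ts_line_ncard hD hconj hl]; norm_num) p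
    obtain ⟨c, hc, hcp⟩ : ∃ c ∈ m, c ≠ p := Set.exists_ne_of_one_lt_ncard (by rw [ts_line_ncard hD hconj hm]; norm_num) p
    obtain ⟨el, hpa⟩ := ts_line_eq hD hconj hl hpl ha (Ne.symm hap)
    obtain ⟨em, hpc⟩ := ts_line_eq hD hconj hm hpm hc (Ne.symm hcp)
    let c' : D := ⟨(p : G) * c * p, by
      have := hconj p c c.2; rwa [ts_inv hD p.2] at this⟩
    have hc' : c' ∈ m := by
      rw [em]; refine Or.inr (Or.inr ?_)
      rw [ts_inv hD c.2]; exact ts_braid hD p.2 c.2 hpc
    have hc'p : c' ≠ p := fun e => by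
      have h1 : (p : G) * c * p = p := congrArg Subtype.val e
      refine (ts_third_not_commute hD c.2 p.2 (fun h => hpc h.symm)).2 ?_
      rw [h1]
    rw [el, em]
    exact ts_affine_plane hD hconj hpa hpc (hex a c ha hc hap hcp) (hex a c' ha hc' hap hc'p)

end CfsgLib.ThreeTransp
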