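import Mathlib
import Cfsg.Agent.Lib.ThreeTransp.FischerCore

/-!
Classes of 3-transpositions in which commuting is an equivalence relation.
-/

set_option autoImplicit false

namespace CfsgLib.ThreeTransp

open Cfsg CfsgLib.Involutions

universe u

variable {G : Type u} [Group G] {D : Set G} [Finite G]

/-- An element of `p`-power order, central modulo `O_p`, lies in `O_p`. -/
theorem mem_pCore_of_central_mod {p : ℕ} [Fact p.Prime] {x : G} (hx : IsPGroup p (Subgroup.zpowers x))
    (h : ∀ g : G, g * x * g⁻¹ * x⁻¹ ∈ pCore p G) : x ∈ pCore p G := by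
  set O := pCore p G with hO
  haveI hOn : O.Normal := inferInstance
  haveI hn : (O ⊔ Subgroup.zpowers x).Normal := by
    refine ⟨fun z hz g => ?_⟩
    have hle : O ⊔ Subgroup.zpowers x ≤ (O ⊔ Subgroup.zpowers x).comap (MulAut.conj g).toMonoidHom := by
      refine sup_le (fun o ho => Subgroup.mem_sup_left (hOn.conj_mem o ho g)) ?_
      rw [Subgroup.zpowers_le]
      show g * x * g⁻¹ ∈ O ⊔ Subgroup.zpowers x
      have := Subgroup.mul_mem_sup (h g) (Subgroup.mem_zpowers x)
      rwa [inv_mul_cancel_right] at this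
    exact hle hz
  exact Base.le_pCore (IsPGroup.to_sup_of_normal_left (Base.isPGroup_pCore p G) hx)
    (Subgroup.mem_sup_right (Subgroup.mem_zpowers x))

/-- When commuting is transitive, commuting members are congruent modulo `O₂`. -/
theorem TClass.mul_mem_two_of_trans (hC : TClass D)
    (htr : ∀ a ∈ D, ∀ b ∈ D, ∀ c ∈ D, Commute a b → Commute b c → Commute a c) {a b : G} (ha : a ∈ D)
    (hb : b ∈ D) (hab : Commute a b) : a * b ∈ pCore 2 G := by
  haveI : Fact (Nat.Prime 2) := ⟨Nat.prime_two⟩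
  have hT := hC.ts
  let K : Subgroup G :=
    { carrier := {g | ∀ c ∈ D, Commute (g * c * g⁻¹) c}
      one_mem' := fun c _ => by simp
      mul_mem' := fun {g g'} hg hg' c hc => by
        have h1 := (commute_conj_iff g).2 (hg' c hc)
        rw [show g * (g' * c * g'⁻¹) * g⁻¹ = g * g' * c * (g * g')⁻¹ by group] at h1
        exact htr _ (hC.conj _ c hc) _ (hC.conj g c hc) _ hc h1 (hg c hc)
      inv_mem' := fun {g} hg c hc => by
        have h1 := (commute_conj_iff g⁻¹).2 (hg c hc)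
        rw [show g⁻¹ * (g * c * g⁻¹) * g⁻¹⁻¹ = c by group] at h1
        exact h1.symm }
  haveI hKn : K.Normal := ⟨fun n hn g c hc => by
    have h1 := (commute_conj_iff g).2 (hn _ (hC.conj g⁻¹ c hc))
    rw [show g * (n * (g⁻¹ * c * g⁻¹⁻¹) * n⁻¹) * g⁻¹ = g * n * g⁻¹ * c * (g * n * g⁻¹)⁻¹ by group,
      show g * (g⁻¹ * c * g⁻¹⁻¹) * g⁻¹ = c by group] at h1
    exact h1⟩
  have hxK : a * b ∈ K := by
    intro c hc
    show Commute (a * b * c * (a * b)⁻¹) c
    by_cases hac : Commute a c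
    · have hbc : Commute b c := htr b hb a ha c hc hab.symm hac
      rw [show a * b * c * (a * b)⁻¹ = a * (b * c * b⁻¹) * a⁻¹ by group, hbc.eq, mul_inv_cancel_right,
        hac.eq, mul_inv_cancel_right]
    · have hbc : ¬ Commute b c := fun h => hac (htr a ha b hb c hc hab h)
      rw [← commute_conj_iff a⁻¹, show a⁻¹ * (a * b * c * (a * b)⁻¹) * a⁻¹⁻¹ = b * c * b⁻¹ by group,
        ts_inv hT hb, ts_braid hT hb hc hbc, ts_inv hT ha, ts_inv hT ha,
        ts_braid hT ha hc hac]
      have := (commute_conj_iff c).2 hab.symm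
      rwa [ts_inv hT hc] at this
  have hcent : ∀ c ∈ D, ∀ k ∈ K, k * c * k⁻¹ * c ∈ pCore 2 G := by
    intro c hc k hk
    set S : Set G := {e | ∃ g ∈ K, e = g * c * g⁻¹} with hS
    set A := Subgroup.closure S with hA
    have hcomm : ∀ e ∈ S, ∀ f ∈ S, e * f = f * e := by
      rintro _ ⟨g, hg, rfl⟩ _ ⟨g', hg', rfl⟩
      exact (htr _ (hC.conj g c hc) c hc _ (hC.conj g' c hc) (hg c hc) (hg' c hc).symm).eq
    have hA2 : IsPGroup 2 A := by
      intro x
      refine ⟨1, Subtype.ext ?_⟩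
      obtain ⟨x, hx⟩ := x
      rw [SubmonoidClass.coe_pow, OneMemClass.coe_one, pow_one]
      haveI := Subgroup.isMulCommutative_closure hcomm
      induction hx using Subgroup.closure_induction with
      | mem e he =>
        obtain ⟨g, -, rfl⟩ := he
        rw [pow_two, ts_mul_self hT (hC.conj g c hc)]
      | one => exact one_pow _
      | mul p q hp hq ihp ihq =>
        have hpq : Commute p q :=
          congrArg Subtype.val ((inferInstance : IsMulCommutative A).is_comm.comm ⟨p, hp⟩ ⟨q, hq⟩)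
        rw [hpq.mul_pow, ihp, ihq, one_mul]
      | inv p _ ihp => rw [inv_pow, ihp, inv_one]
    have hKA : K ≤ Subgroup.normalizer (A : Set G) := by
      have key : ∀ y ∈ K, ∀ e ∈ A, y * e * y⁻¹ ∈ A := by
        intro y hy e he
        have hle : A ≤ A.comap (MulAut.conj y).toMonoidHom := by
          refine (Subgroup.closure_le _).2 ?_
          rintro _ ⟨x, hx, rfl⟩
          exact Subgroup.subset_closure ⟨y * x, mul_mem hy hx, by simp [mul_assoc]⟩
        exact hle he
      intro y hy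
      refine Subgroup.mem_normalizer_iff.2 fun e => ⟨key y hy e, fun he => ?_⟩
      have := key y⁻¹ (inv_mem hy) _ he
      simpa [mul_assoc] using this
    have hle : A ⊓ K ≤ (pCore 2 K).map K.subtype :=
      Base.le_map_pCore inf_le_right
        ((le_inf hKA Subgroup.le_normalizer).trans Subgroup.inf_normalizer_le_normalizer_inf)
        (hA2.to_le inf_le_left)
    have hm : k * c * k⁻¹ * c ∈ A ⊓ K := by
      refine ⟨mul_mem (Subgroup.subset_closure ⟨k, hk, rfl⟩)
        (Subgroup.subset_closure ⟨1, one_mem _, by simp⟩), ?_⟩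
      have h1 : k * (c * k⁻¹ * c⁻¹) ∈ K := mul_mem hk (hKn.conj_mem _ (inv_mem hk) c)
      rw [ts_inv hT hc] at h1
      simpa [mul_assoc] using h1
    exact (Base.map_pCore_eq_inf K ▸ hle hm : k * c * k⁻¹ * c ∈ pCore 2 G ⊓ K).1
  set O := pCore 2 G with hO
  haveI hOn : O.Normal := inferInstance
  set x := a * b with hx
  let Z : Subgroup G :=
    { carrier := {g | g * x * g⁻¹ * x⁻¹ ∈ O}
      one_mem' := by simp
      mul_mem' := fun {g g'} hg hg' => by
        show g * g' * x * (g * g')⁻¹ * x⁻¹ ∈ O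
        have := mul_mem (hOn.conj_mem _ hg' g) hg
        rwa [show g * (g' * x * g'⁻¹ * x⁻¹) * g⁻¹ * (g * x * g⁻¹ * x⁻¹) =
          g * g' * x * (g * g')⁻¹ * x⁻¹ by group] at this
      inv_mem' := fun {g} hg => by
        show g⁻¹ * x * g⁻¹⁻¹ * x⁻¹ ∈ O
        have := inv_mem (hOn.conj_mem _ hg g⁻¹)
        rwa [show (g⁻¹ * (g * x * g⁻¹ * x⁻¹) * g⁻¹⁻¹)⁻¹ = g⁻¹ * x * g⁻¹⁻¹ * x⁻¹ by group] at this }
  have hZ : (⊤ : Subgroup G) ≤ Z := by
    rw [← hC.gen]
    refine (Subgroup.closure_le _).2 fun c hc => ?_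
    show c * x * c⁻¹ * x⁻¹ ∈ O
    have h1 := inv_mem (hcent c hc x hxK)
    simpa [mul_assoc, ts_inv hT hc] using h1
  refine mem_pCore_of_central_mod ?_ fun g => hZ (Subgroup.mem_top g)
  have hcard : Nat.card (Subgroup.zpowers x) ∣ 2 := by
    rw [Nat.card_zpowers]
    exact orderOf_dvd_of_pow_eq_one ((invol_commute_iff (ts_invol hT ha) (ts_invol hT hb)).1 hab)
  rcases (Nat.dvd_prime Nat.prime_two).1 hcard with h | h
  · exact IsPGroup.of_card (n := 0) (by simpa using h)
  · exact IsPGroup.of_card (n := 1) (by simpa using h)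

/-- Congruent members are conjugate under `O₂`. -/
theorem TClass.exists_two_conj (hC : TClass D) {d e : G} (hd : d ∈ D) (he : e ∈ D)
    (hde : d * e ∈ pCore 2 G) : ∃ r ∈ pCore 2 G, r * d * r⁻¹ = e := by
  haveI hn : (pCore 2 G).Normal := inferInstance
  have hT := hC.ts
  have hcde : Commute d e := ts_commute_of_mem_two hT (Base.isPGroup_pCore 2 G) hd he hde
  obtain ⟨c, hc, hcd⟩ := hC.exists_noncommute hd
  have hce : ¬ Commute c e := by
    intro hce
    refine hcd ?_
    have h3 := ts_cube hT hc hd hcd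
    have h2 := (invol_commute_iff (ts_invol hT hc) (ts_invol hT he)).1 hce
    refine ts_commute_of_mem_two hT (Base.isPGroup_pCore 2 G) hc hd ?_
    rw [← QuotientGroup.eq_one_iff] at hde ⊢
    have e1 : ((c * d : G) : G ⧸ pCore 2 G) = ((c * e : G) : G ⧸ pCore 2 G) := by
      have e2 : ((d : G) : G ⧸ pCore 2 G) = e := by
        rw [QuotientGroup.mk_mul, mul_eq_one_iff_inv_eq] at hde
        rw [← hde, ← QuotientGroup.mk_inv, ts_inv hT hd]
      rw [QuotientGroup.mk_mul, QuotientGroup.mk_mul, e2]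
    have h3' : ((c * d : G) : G ⧸ pCore 2 G) ^ 3 = 1 := by rw [← QuotientGroup.mk_pow, h3]; rfl
    have h2' : ((c * d : G) : G ⧸ pCore 2 G) ^ 2 = 1 := by rw [e1, ← QuotientGroup.mk_pow, h2]; rfl
    rwa [pow_succ, h2', one_mul] at h3'
  refine ⟨c * (d * e) * c⁻¹, hn.conj_mem _ hde c, ?_⟩
  have cc : c * c = 1 := ts_mul_self hT hc
  have dd : d * d = 1 := ts_mul_self hT hd
  have ee : e * e = 1 := ts_mul_self hT he
  have bd := ts_braid hT hc hd hcd
  have be := ts_braid hT hc he hce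
  rw [mul_inv_rev, mul_inv_rev, mul_inv_rev, inv_inv, ts_inv hT hc, ts_inv hT hd, ts_inv hT he]
  calc c * (d * e) * c * d * (c * (e * d * c))
      = c * d * e * (c * d * c) * e * d * c := by group
    _ = c * d * e * (d * c * d) * e * d * c := by rw [bd]
    _ = c * (d * e * d) * c * (d * e * d) * c := by group
    _ = c * e * c * e * c := by rw [show d * e * d = e by rw [hcde.eq, mul_assoc, dd, mul_one]]
    _ = (c * e * c) * e * c := by group
    _ = (e * c * e) * e * c := by rw [be]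
    _ = e := by rw [mul_assoc (e * c), ee, mul_one, mul_assoc, cc, mul_one]

/-- The structure when commuting is transitive. -/
theorem TClass.two_split (hC : TClass D) {d : G} (hd : d ∈ D)
    (hV : ∀ y ∈ D, Commute d y → ∀ e ∈ D, (Commute y e ↔ Commute d e)) :
    ∃ P : Sylow 3 G, d ∈ Subgroup.normalizer (P : Set G) ∧
      Subgroup.zpowers d ⊔ (P : Subgroup G) ⊔ pCore 2 G = ⊤ := by
  haveI : Fact (Nat.Prime 2) := ⟨Nat.prime_two⟩
  haveI : Fact (Nat.Prime 3) := ⟨Nat.prime_three⟩
  have hT := hC.ts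
  have htr : ∀ a ∈ D, ∀ b ∈ D, ∀ c ∈ D, Commute a b → Commute b c → Commute a c := by
    intro a ha b hb c hc hab hbc
    obtain ⟨g, rfl⟩ := hC.trans d hd b hb
    have key : ∀ y ∈ D, Commute (g * d * g⁻¹) y → Commute d (g⁻¹ * y * g) := fun y _ h => by
      have := (commute_conj_iff g⁻¹).2 h
      rwa [inv_inv, show g⁻¹ * (g * d * g⁻¹) * g = d by group] at this
    have h1 := (hV _ (by simpa using hC.conj g⁻¹ a ha) (key a ha hab.symm) (g⁻¹ * c * g)
      (by simpa using hC.conj g⁻¹ c hc)).2 (key c hc hbc)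
    rw [← commute_conj_iff g] at h1
    rwa [show g * (g⁻¹ * a * g) * g⁻¹ = a by group, show g * (g⁻¹ * c * g) * g⁻¹ = c by group] at h1
  set R := pCore 2 G with hR
  haveI hRn : R.Normal := inferInstance
  have hR2 : IsPGroup 2 R := Base.isPGroup_pCore 2 G
  -- the quotient has width one
  have hdR : d ∉ R := fun h => by
    refine hC.not_all_commute fun a ha b hb => ts_commute_of_mem_two hT hR2 ha hb ?_
    have key : ∀ e ∈ D, e ∈ R := fun e he => by
      obtain ⟨g, rfl⟩ := hC.trans d hd e he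
      exact hRn.conj_mem d h g
    exact mul_mem (key a ha) (key b hb)
  set q := QuotientGroup.mk' R with hq
  have hqd : orderOf (q d) = 2 := orderOf_eq_prime (by rw [← map_pow, pow_two, ts_mul_self hT hd, map_one])
    fun h => hdR ((QuotientGroup.eq_one_iff d).1 h)
  have hprod : ∀ a ∈ conjugatesOf (q d), ∀ b ∈ conjugatesOf (q d), ∃ k : ℕ, orderOf (a * b) = 3 ^ k := by
    intro a ha b hb
    obtain ⟨ga, rfl⟩ := isConj_iff.1 ha
    obtain ⟨gb, rfl⟩ := isConj_iff.1 hb
    obtain ⟨ga, rfl⟩ := QuotientGroup.mk'_surjective R ga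
    obtain ⟨gb, rfl⟩ := QuotientGroup.mk'_surjective R gb
    rw [← map_inv, ← map_inv, ← map_mul, ← map_mul, ← map_mul, ← map_mul, ← map_mul]
    have ha := hC.conj ga d hd
    have hb := hC.conj gb d hd
    by_cases hc : Commute (ga * d * ga⁻¹) (gb * d * gb⁻¹)
    · refine ⟨0, ?_⟩
      rw [pow_zero, orderOf_eq_one_iff]
      exact (QuotientGroup.eq_one_iff _).2 (hC.mul_mem_two_of_trans htr ha hb hc)
    · have h3 := ts_cube hT ha hb hc
      rcases (Nat.dvd_prime Nat.prime_three).1 (orderOf_dvd_of_pow_eq_one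
        (show (q (ga * d * ga⁻¹ * (gb * d * gb⁻¹))) ^ 3 = 1 by rw [← map_pow, h3, map_one])) with h | h
      · exact ⟨0, h⟩
      · exact ⟨1, h⟩
  set M := (pCore 3 (G ⧸ R)).comap q with hM
  haveI hMn : M.Normal := inferInstance
  have hRM : R ≤ M := fun r hr => by
    show q r ∈ pCore 3 (G ⧸ R)
    rw [show q r = 1 from (QuotientGroup.eq_one_iff r).2 hr]; exact one_mem _
  have hdM : ∀ e ∈ D, d * e ∈ M := by
    intro e he
    obtain ⟨g, rfl⟩ := hC.trans d hd e he
    show q (d * (g * d * g⁻¹)) ∈ pCore 3 (G ⧸ R)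
    rw [map_mul]
    refine mul_mem_pCore_of_pPower (by norm_num) (by norm_num) hqd hprod mem_conjugatesOf_self ?_
    exact isConj_iff.2 ⟨q g, by simp⟩
  have htop : Subgroup.zpowers d ⊔ M = ⊤ := by
    refine top_unique (hC.gen ▸ (Subgroup.closure_le _).2 fun e he => ?_)
    have e1 : e = d * (d * e) := by rw [← mul_assoc, ts_mul_self hT hd, one_mul]
    rw [SetLike.mem_coe, e1]
    exact Subgroup.mul_mem_sup (Subgroup.mem_zpowers d) (hdM e he)
  have hM3 : IsPGroup 3 (M.map q) :=
    (Base.isPGroup_pCore 3 (G ⧸ R)).to_le (Subgroup.map_comap_le _ _)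
  have hpow : ∀ x ∈ M, ∃ k : ℕ, x ^ 3 ^ k ∈ R := by
    intro x hx
    obtain ⟨k, hk⟩ := hM3 ⟨q x, x, hx, rfl⟩
    refine ⟨k, (QuotientGroup.eq_one_iff _).1 ?_⟩
    have := congrArg Subtype.val hk
    simpa [hq] using this
  have hsmall : ∀ {p : ℕ} [Fact p.Prime] (H : Subgroup G), IsPGroup p H → p ≠ 2 → ∀ x ∈ H, x ∈ R → x = 1 := by
    intro p _ H hH hp x hxH hxR
    have hd := IsPGroup.disjoint_of_ne p 2 hp H R hH hR2
    exact Subgroup.mem_bot.1 (hd.eq_bot ▸ (⟨hxH, hxR⟩ : x ∈ H ⊓ R))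
  -- a Sylow subgroup of the centraliser
  set C := M ⊓ Subgroup.centralizer ({d} : Set G) with hCdef
  obtain ⟨U₀⟩ : Nonempty (Sylow 3 C) := inferInstance
  set U := (U₀ : Subgroup C).map C.subtype with hU
  have hUC : U ≤ C := Subgroup.map_subtype_le _
  have hCU : ∀ c ∈ C, ∃ u ∈ U, u⁻¹ * c ∈ R := by
    intro c hc
    have hco : (R.subgroupOf C).index.Coprime (U₀ : Subgroup C).index := by
      refine Nat.coprime_of_dvd fun p hp hpR hpU => ?_
      haveI : Fact p.Prime := ⟨hp⟩
      have hp3 : p ≠ 3 := fun e => U₀.not_dvd_index (e ▸ hpU)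
      obtain ⟨Q⟩ : Nonempty (Sylow p C) := inferInstance
      refine Q.not_dvd_index (hpR.trans (Subgroup.index_dvd_of_le fun x hx => ?_))
      obtain ⟨k, hk⟩ := hpow x x.2.1
      obtain ⟨j, hj⟩ := IsPGroup.iff_orderOf.1 Q.2 ⟨x, hx⟩
      rw [Subgroup.orderOf_mk, ← Subgroup.orderOf_coe] at hj
      have hcop : Nat.Coprime (p ^ j) (3 ^ k) :=
        Nat.Coprime.pow _ _ ((Nat.coprime_primes hp Nat.prime_three).2 hp3)
      obtain ⟨m, hm⟩ := exists_pow_eq_self_of_coprime (x := (x : G)) (n := 3 ^ k) (hj ▸ hcop.symm)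
      show (x : G) ∈ R
      rw [← hm]
      exact pow_mem hk m
    obtain ⟨u, hu, huc⟩ := exists_mul_of_coprime_index hco ⟨c, hc⟩
    exact ⟨u, ⟨u, hu, rfl⟩, huc⟩
  -- a maximal invariant 3-subgroup
  set fam : Set (Subgroup G) := {S | IsPGroup 3 S ∧ U ≤ S ∧ S ≤ M ∧ ∀ x ∈ S, d * x * d⁻¹ ∈ S} with hfam
  have hUfam : U ∈ fam := by
    refine ⟨U₀.2.map C.subtype, le_rfl, hUC.trans inf_le_left, fun x hx => ?_⟩
    rw [← (Subgroup.mem_centralizer_singleton_iff.1 (hUC hx).2), mul_inv_cancel_right]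
    exact hx
  obtain ⟨S, hSmem, hSmax⟩ := (Set.toFinite fam).exists_maximal ⟨U, hUfam⟩
  obtain ⟨hS3, hUS, hSM, hSd⟩ := hSmem
  have key : ∀ n ∈ M, n ∈ Subgroup.normalizer (S : Set G) → (∃ k : ℕ, n ^ 3 ^ k ∈ S) → n ∈ S := by
    intro n hnM hnS hnk
    set x := d * n * d⁻¹ * n⁻¹ with hx
    have hdn : d ∈ Subgroup.normalizer (S : Set G) := by
      refine Subgroup.mem_normalizer_iff.2 fun y => ⟨hSd y, fun hy => ?_⟩
      have := hSd _ hy
      rw [ts_inv hT hd] at this
      rwa [show d * (d * y * d) * d = (d * d) * y * (d * d) by group, ts_mul_self hT hd, one_mul,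
        mul_one] at this
    have hxM : x ∈ M := mul_mem (hMn.conj_mem n hnM d) (inv_mem hnM)
    have hxN : x ∈ Subgroup.normalizer (S : Set G) :=
      mul_mem (mul_mem (mul_mem hdn hnS) (inv_mem hdn)) (inv_mem hnS)
    have hxe : x = d * (n * d * n⁻¹) := by rw [hx, ts_inv hT hd]; group
    have hxSR : x ∈ S ⊔ R := by
      rcases hT.2 d hd _ (hC.conj n d hd) with h | h
      · refine Subgroup.mem_sup_right ?_
        obtain ⟨k, hk⟩ := hpow x hxM
        obtain ⟨t, ht⟩ : Odd (3 ^ k) := (by decide : Odd 3).pow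
        rw [← hxe] at h
        rwa [ht, pow_succ, pow_mul, h, one_pow, one_mul] at hk
      · refine Subgroup.mem_sup_left ?_
        have hx3 : IsPGroup 3 (Subgroup.zpowers x) := by
          rw [hxe]
          refine fun y => ⟨1, ?_⟩
          obtain ⟨i, hi⟩ := y.2
          refine Subtype.ext ?_
          rw [SubmonoidClass.coe_pow, OneMemClass.coe_one, ← hi, pow_one, ← zpow_natCast, ← zpow_mul,
            mul_comm, zpow_mul, zpow_natCast, h, one_zpow]
        have hnew : S ⊔ Subgroup.zpowers x ∈ fam := by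
          refine ⟨?_, hUS.trans le_sup_left, sup_le hSM (Subgroup.zpowers_le.2 hxM), ?_⟩
          · exact hS3.to_sup_of_normal_left' hx3 (Subgroup.zpowers_le.2 hxN)
          · intro y hy
            have hle : S ⊔ Subgroup.zpowers x ≤ (S ⊔ Subgroup.zpowers x).comap (MulAut.conj d).toMonoidHom := by
              refine sup_le (fun z hz => Subgroup.mem_sup_left (hSd z hz)) ?_
              rw [Subgroup.zpowers_le]
              refine Subgroup.mem_sup_right ?_
              show d * x * d⁻¹ ∈ Subgroup.zpowers x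
              have e : d * x * d⁻¹ = x⁻¹ := by
                rw [hxe, mul_inv_rev, ts_inv hT hd, ts_inv hT (hC.conj n d hd)]
                calc d * (d * (n * d * n⁻¹)) * d = (d * d) * (n * d * n⁻¹) * d := by group
                  _ = n * d * n⁻¹ * d := by rw [ts_mul_self hT hd, one_mul]
              rw [e]; exact inv_mem (Subgroup.mem_zpowers x)
            exact hle hy
        exact hSmax hnew le_sup_left (Subgroup.mem_sup_right (Subgroup.mem_zpowers x))
    -- a fixed point of `d` in the coset modulo `R`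
    set Sb := S.map q with hSb
    have hSb3 : IsPGroup 3 Sb := hS3.map q
    have hAS : Subgroup.zpowers (q d) ≤ Subgroup.normalizer (Sb : Set (G ⧸ R)) := by
      rw [Subgroup.zpowers_le]
      have := Subgroup.le_normalizer_map (H := S) q ⟨d, hdn, rfl⟩
      rwa [Subgroup.coe_map] at this ⊢
    have hcop : (Nat.card (Subgroup.zpowers (q d))).Coprime (Nat.card Sb) := by
      obtain ⟨k, hk⟩ := hSb3.exists_card_eq
      rw [Nat.card_zpowers, hqd, hk]
      exact Nat.Coprime.pow_right _ (by norm_num)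
    have hqn : (q n)⁻¹ * (q d * q n * (q d)⁻¹) ∈ Sb := by
      obtain ⟨s, hs, r, hr, hsr⟩ := Subgroup.mem_sup_of_normal_right.1 hxSR
      refine ⟨n⁻¹ * s * n, (Subgroup.mem_normalizer_iff''.1 hnS s).1 hs, ?_⟩
      have hqr : q r = 1 := (QuotientGroup.eq_one_iff r).2 hr
      have e : q x = q s := by rw [← hsr, map_mul, hqr, mul_one]
      rw [map_mul, map_mul, ← e, hx]
      simp only [map_mul, map_inv]
      group
    obtain ⟨c, hc, hnc⟩ := Coprime.exists_centralizing_in_coset hAS hcop (Or.inl inferInstance) (k := q n)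
      (fun a ha => by
        obtain ⟨i, rfl⟩ := Subgroup.mem_zpowers_iff.1 ha
        have hz : q d ^ (2 : ℤ) = 1 := by
          rw [zpow_two, ← map_mul, ts_mul_self hT hd, map_one]
        rcases Int.even_or_odd i with ⟨j, rfl⟩ | ⟨j, rfl⟩
        · rw [← two_mul, zpow_mul, hz, one_zpow, one_mul, inv_one, mul_one, inv_mul_cancel]
          exact one_mem _
        · rw [zpow_add, zpow_mul, hz, one_zpow, one_mul, zpow_one]
          exact hqn)
    obtain ⟨s, hs, hsn⟩ := hnc
    have hcm : c = q (n * s) := by rw [map_mul, hsn, mul_inv_cancel_left]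
    set m := n * s with hm
    have hmM : m ∈ M := mul_mem hnM (hSM hs)
    have hce : d * (m * d * m⁻¹) ∈ R := by
      rw [← QuotientGroup.eq_one_iff]
      show q (d * (m * d * m⁻¹)) = 1
      have hcd : c * q d = q d * c :=
        (Subgroup.mem_centralizer_iff.1 hc _ (Subgroup.mem_zpowers _)).symm
      simp only [map_mul, map_inv, ← hcm]
      rw [hcd, mul_inv_cancel_right, ← map_mul, ts_mul_self hT hd, map_one]
    obtain ⟨r, hr, hre⟩ := hC.exists_two_conj hd (hC.conj m d hd) hce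
    have hrm : r⁻¹ * m ∈ C := by
      have hrm1 : r⁻¹ * m ∈ M := mul_mem (inv_mem (hRM hr)) hmM
      refine ⟨hrm1, Subgroup.mem_centralizer_singleton_iff.2 ?_⟩
      calc r⁻¹ * m * d = r⁻¹ * (m * d * m⁻¹) * m := by group
        _ = r⁻¹ * (r * d * r⁻¹) * m := by rw [hre]
        _ = d * (r⁻¹ * m) := by group
    obtain ⟨u, hu, hur⟩ := hCU _ hrm
    have hnSR : n ∈ S ⊔ R := by
      have hm' : m ∈ S ⊔ R := by
        have e : m = r * (u * (u⁻¹ * (r⁻¹ * m))) := by group
        rw [e]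
        exact mul_mem (Subgroup.mem_sup_right hr)
          (mul_mem (Subgroup.mem_sup_left (hUS hu)) (Subgroup.mem_sup_right hur))
      have := mul_mem hm' (Subgroup.mem_sup_left (inv_mem hs))
      rwa [hm, mul_inv_cancel_right] at this
    obtain ⟨s', hs', r', hr', rfl⟩ := Subgroup.mem_sup_of_normal_right.1 hnSR
    obtain ⟨k, hk⟩ := hnk
    have hr'S : r' ∈ Subgroup.normalizer (S : Set G) := by
      have := mul_mem (inv_mem (Subgroup.le_normalizer hs')) hnS
      rwa [inv_mul_cancel_left] at this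
    -- `r'` has 3-power order modulo `S`
    have hr'k : r' ^ 3 ^ k ∈ S := by
      have hst : ∀ j : ℕ, ∃ s'' ∈ S, (s' * r') ^ j = s'' * r' ^ j := by
        intro j
        induction j with
        | zero => exact ⟨1, one_mem _, by simp⟩
        | succ j ih =>
          obtain ⟨s'', hs'', e⟩ := ih
          refine ⟨s'' * (r' ^ j * s' * (r' ^ j)⁻¹),
            mul_mem hs'' ((Subgroup.mem_normalizer_iff.1 (pow_mem hr'S j) s').1 hs'), ?_⟩
          rw [pow_succ, e, pow_succ]; group
      obtain ⟨s'', hs'', e⟩ := hst (3 ^ k)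
      rw [e] at hk
      have := mul_mem (inv_mem hs'') hk
      rwa [inv_mul_cancel_left] at this
    have h1 := hsmall S hS3 (by norm_num) _ hr'k (pow_mem hr' _)
    obtain ⟨j, hj⟩ := IsPGroup.iff_orderOf.1 hR2 ⟨r', hr'⟩
    rw [Subgroup.orderOf_mk] at hj
    have h2 := Nat.dvd_gcd (dvd_of_eq hj) (orderOf_dvd_of_pow_eq_one h1)
    have hcop2 : Nat.Coprime (2 ^ j) (3 ^ k) := Nat.Coprime.pow _ _ (by norm_num)
    have hr1 : r' = 1 := by
      have := Nat.dvd_gcd (dvd_of_eq hj) (orderOf_dvd_of_pow_eq_one h1)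
      rw [hcop2.gcd_eq_one, Nat.dvd_one] at this
      exact orderOf_eq_one_iff.1 this
    rw [hr1, mul_one]
    exact hs'
  obtain ⟨P, hSP⟩ := hS3.exists_le_sylow
  have hPM : (P : Subgroup G) ≤ M := by
    intro x hx
    obtain ⟨j, hj⟩ := IsPGroup.iff_orderOf.1 P.2 ⟨x, hx⟩
    rw [Subgroup.orderOf_mk] at hj
    obtain ⟨y, hy, z, hz, rfl⟩ := Subgroup.mem_sup_of_normal_right.1 (htop ▸ Subgroup.mem_top x)
    refine mul_mem ?_ hz
    obtain ⟨i, rfl⟩ := Subgroup.mem_zpowers_iff.1 hy
    have hz2 : d ^ (2 : ℤ) = 1 := by rw [zpow_two, ts_mul_self hT hd]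
    rcases Int.even_or_odd i with ⟨l, rfl⟩ | ⟨l, rfl⟩
    · rw [← two_mul, zpow_mul, hz2, one_zpow]; exact one_mem _
    · rw [zpow_add, zpow_mul, hz2, one_zpow, one_mul, zpow_one] at hj ⊢
      rw [← QuotientGroup.eq_one_iff (N := M)]
      have h3' : ((d * z : G) : G ⧸ M) ^ 3 ^ j = 1 := by
        rw [← QuotientGroup.mk_pow, ← hj, pow_orderOf_eq_one]; rfl
      have e : ((d * z : G) : G ⧸ M) = (d : G ⧸ M) := by
        rw [QuotientGroup.mk_mul, (QuotientGroup.eq_one_iff z).2 hz, mul_one]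
      have h2' : (d : G ⧸ M) ^ 2 = 1 := by rw [← QuotientGroup.mk_pow, pow_two, ts_mul_self hT hd]; rfl
      rw [e] at h3'
      obtain ⟨t, ht⟩ : Odd (3 ^ j) := (by decide : Odd 3).pow
      rwa [ht, pow_succ, pow_mul, h2', one_pow, one_mul] at h3'
  have hPS : (P : Subgroup G) ≤ S := by
    by_contra hne
    haveI : Group.IsNilpotent (P : Subgroup G) := P.2.isNilpotent
    have hlt : S.subgroupOf P < ⊤ := lt_top_iff_ne_top.2 fun h => hne (Subgroup.subgroupOf_eq_top.1 h)
    obtain ⟨y, hy, hyS⟩ := Set.exists_of_ssubset (Group.normalizerCondition_of_isNilpotent _ hlt)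
    obtain ⟨j, hj⟩ := P.2 y
    refine hyS (key y (hPM y.2) ?_ ⟨j, ?_⟩)
    · rw [Subgroup.mem_normalizer_iff]
      intro z
      have h := Subgroup.mem_normalizer_iff.1 hy
      constructor
      · intro hz
        exact (h ⟨z, hSP hz⟩).1 hz
      · intro hz
        have hzP : z ∈ (P : Subgroup G) := by
          have := mul_mem (mul_mem (inv_mem y.2) (hSP hz)) y.2
          simpa [mul_assoc] using this
        exact (h ⟨z, hzP⟩).2 hz
    · rw [show (y : G) ^ 3 ^ j = 1 by simpa using congrArg Subtype.val hj]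
      exact one_mem _
  have hSeq : (P : Subgroup G) = S := le_antisymm hPS hSP
  refine ⟨P, Subgroup.mem_normalizer_iff.2 fun x => ?_, ?_⟩
  · show x ∈ (P : Subgroup G) ↔ d * x * d⁻¹ ∈ (P : Subgroup G)
    rw [hSeq]
    refine ⟨hSd x, fun hx => ?_⟩
    have := hSd _ hx
    rw [ts_inv hT hd] at this
    rwa [show d * (d * x * d) * d = (d * d) * x * (d * d) by group, ts_mul_self hT hd, one_mul,
      mul_one] at this
  · refine top_unique (htop ▸ sup_le (le_sup_left.trans le_sup_left) fun m hm => ?_)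
    set P' := P.subtype hPM with hP'
    have hco : (R.subgroupOf M).index.Coprime (P' : Subgroup M).index := by
      refine Nat.coprime_of_dvd fun p hp hpR hpU => ?_
      haveI : Fact p.Prime := ⟨hp⟩
      have hp3 : p ≠ 3 := fun e => P'.not_dvd_index (e ▸ hpU)
      obtain ⟨Q⟩ : Nonempty (Sylow p M) := inferInstance
      refine Q.not_dvd_index (hpR.trans (Subgroup.index_dvd_of_le fun x hx => ?_))
      obtain ⟨k, hk⟩ := hpow x x.2
      obtain ⟨j, hj⟩ := IsPGroup.iff_orderOf.1 Q.2 ⟨x, hx⟩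
      rw [Subgroup.orderOf_mk, ← Subgroup.orderOf_coe] at hj
      have hcop : Nat.Coprime (p ^ j) (3 ^ k) :=
        Nat.Coprime.pow _ _ ((Nat.coprime_primes hp Nat.prime_three).2 hp3)
      obtain ⟨t, ht⟩ := exists_pow_eq_self_of_coprime (x := (x : G)) (n := 3 ^ k) (hj ▸ hcop.symm)
      show (x : G) ∈ R
      rw [← ht]
      exact pow_mem hk t
    obtain ⟨y, hy, hym⟩ := exists_mul_of_coprime_index hco ⟨m, hm⟩
    have e : m = (y : G) * ((y : G)⁻¹ * m) := by group
    rw [e]
    exact mul_mem (Subgroup.mem_sup_left (Subgroup.mem_sup_right hy)) (Subgroup.mem_sup_right hym)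

end CfsgLib.ThreeTransp
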