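import Mathlib
import Cfsg.Agent.Lib.KnownB.RestrictScalars
import Cfsg.Agent.S5957

/-!
An operator with scalar square is, up to conjugation, a similarity of an alternating form.
-/

set_option autoImplicit false

namespace CfsgLib.ThreeTransp.InvolSympl

open Matrix CfsgLib.ThreeTransp.InvolDecomp

/-- Pairing the points: orbits of size two of an involution, and fixed points with equal labels. -/
theorem exists_pairs {α β : Type*} [DecidableEq α] [DecidableEq β] (π : α → α) (hπ : Function.Involutive π)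
    (c : α → β) : ∀ U : Finset α, (∀ x ∈ U, π x ∈ U) →
      (∀ b : β, Even (U.filter fun x => π x = x ∧ c x = b).card) →
      ∃ τ : α → α, ∀ x ∈ U, τ x ∈ U ∧ τ (τ x) = x ∧ τ x ≠ x ∧
        (π x ≠ x → τ x = π x) ∧ (π x = x → π (τ x) = τ x ∧ c (τ x) = c x) := by
  intro U
  induction U using Finset.strongInduction with
  | H U ih =>
    intro hU hev
    rcases U.eq_empty_or_nonempty with rfl | ⟨x, hx⟩
    · exact ⟨id, by simp⟩
    obtain ⟨y, hy, hxy, hy1, hy2⟩ : ∃ y ∈ U, y ≠ x ∧ (π x ≠ x → y = π x) ∧ (π x = x → π y = y ∧ c y = c x) := by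
      by_cases h : π x = x
      · have h1 : x ∈ U.filter fun z => π z = z ∧ c z = c x := by simp [hx, h]
        have h2 : 1 < (U.filter fun z => π z = z ∧ c z = c x).card := by
          have := Finset.card_pos.2 ⟨x, h1⟩
          obtain ⟨k, hk⟩ := hev (c x); omega
        obtain ⟨y, hy, hyx⟩ := Finset.exists_mem_ne h2 x
        simp only [Finset.mem_filter] at hy
        exact ⟨y, hy.1, hyx, fun h' => absurd h h', fun _ => hy.2⟩
      · exact ⟨π x, hU x hx, h, fun _ => rfl, fun h' => absurd h' h⟩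
    let U' := (U.erase x).erase y
    have hsub : U' ⊂ U := (Finset.erase_subset _ _).trans_ssubset (Finset.erase_ssubset hx)
    have hU' : ∀ z ∈ U', π z ∈ U' := fun z hz => by
      simp only [U', Finset.mem_erase] at hz ⊢
      refine ⟨fun e => ?_, fun e => ?_, hU z hz.2.2⟩
      · by_cases h : π x = x
        · exact hz.1 (by rw [← hπ z, e, (hy2 h).1])
        · exact hz.2.1 (by rw [← hπ z, e, hy1 h, hπ x])
      · by_cases h : π x = x
        · exact hz.2.1 (by rw [← hπ z, e, h])
        · exact hz.1 (by rw [← hπ z, e, hy1 h])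
    have hev' : ∀ b, Even (U'.filter fun z => π z = z ∧ c z = b).card := by
      intro b
      have hcomm : U'.filter (fun z => π z = z ∧ c z = b) =
          ((U.filter fun z => π z = z ∧ c z = b).erase x).erase y := by
        rw [Finset.filter_erase, Finset.filter_erase]
      rw [hcomm]
      by_cases h : π x = x ∧ c x = b
      · have h1 : x ∈ U.filter fun z => π z = z ∧ c z = b := by simp [hx, h]
        have h2 : y ∈ (U.filter fun z => π z = z ∧ c z = b).erase x := by
          simp [hy, hxy, hy2 h.1, h.2]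
        rw [Finset.card_erase_of_mem h2, Finset.card_erase_of_mem h1]
        obtain ⟨k, hk⟩ := hev b
        exact ⟨k - 1, by omega⟩
      · have h1 : x ∉ U.filter fun z => π z = z ∧ c z = b := by simp [h]
        have h2 : y ∉ U.filter fun z => π z = z ∧ c z = b := by
          simp only [Finset.mem_filter, not_and]
          intro _ hpy
          by_cases h' : π x = x
          · exact fun hc => h ⟨h', (hy2 h').2 ▸ hc⟩
          · exact absurd (by rw [hy1 h', hπ x] at hpy; exact hpy.symm) h'
        rw [Finset.erase_eq_of_notMem h1, Finset.erase_eq_of_notMem h2]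
        exact hev b
    obtain ⟨τ, hτ⟩ := ih U' hsub hU' hev'
    refine ⟨fun z => if z = x then y else if z = y then x else τ z, fun z hz => ?_⟩
    by_cases h : z = x
    · subst h
      simp [hy, hxy, hy1, hy2]
      exact ⟨hy1, hy2⟩
    by_cases h' : z = y
    · subst h'
      simp only [h, if_false, if_true]
      refine ⟨hx, trivial, Ne.symm hxy, fun hz' => ?_, fun hz' => ?_⟩
      · by_cases h'' : π x = x
        · exact absurd (hy2 h'').1 hz'
        · rw [hy1 h'', hπ x]
      · by_cases h'' : π x = x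
        · exact ⟨h'', (hy2 h'').2.symm⟩
        · exact absurd (by rw [hy1 h'', hπ x] at hz'; exact hz'.symm) h''
    obtain ⟨t1, t2, t3, t4, t5⟩ := hτ z (by simp [U', h, h', hz])
    simp only [U', Finset.mem_erase] at t1
    simp [h, h', t1.1, t1.2.1, t1.2.2, t2, t3]
    exact ⟨t4, t5⟩

/-- A fixed point free involution splits a type into a product with two. -/
theorem exists_equiv_two {α : Type*} [Fintype α] [DecidableEq α] [LinearOrder α] (τ : α → α)
    (hτ : ∀ x, τ (τ x) = x) (hne : ∀ x, τ x ≠ x) {d : ℕ} (hd : Fintype.card α = 2 * d) :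
    ∃ e : Fin 2 × Fin d ≃ α, ∀ i, e (1, i) = τ (e (0, i)) := by
  let S := {x : α // x < τ x}
  let e₁ : Fin 2 × S ≃ α :=
    { toFun := fun p => if p.1 = 0 then p.2.1 else τ p.2.1
      invFun := fun x => if h : x < τ x then (0, ⟨x, h⟩) else
        (1, ⟨τ x, by rw [hτ]; exact lt_of_le_of_ne (not_lt.1 h) (hne x)⟩)
      left_inv := fun ⟨j, s, hs⟩ => by
        fin_cases j
        · simp [hs]
        · have : ¬ τ s < τ (τ s) := by rw [hτ]; exact hs.not_gt
          simp [hτ] at this ⊢
          simp [this.trans_lt' , not_lt.2 this]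
      right_inv := fun x => by
        by_cases h : x < τ x <;> simp [h, hτ] }
  have hS : Fintype.card S = d := by
    have := Fintype.card_congr e₁
    rw [Fintype.card_prod, Fintype.card_fin, hd] at this; omega
  refine ⟨(Equiv.prodCongr (Equiv.refl _) (Fintype.equivFinOfCardEq hS).symm).trans e₁, fun i => ?_⟩
  simp [e₁]

variable {F : Type*} [Field F]

/-- The sum of the determinant forms of the planes. -/
def planeForm (d : ℕ) (u v : Fin 2 × Fin d → F) : F :=
  ∑ i, (u (0, i) * v (1, i) - u (1, i) * v (0, i))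

theorem planeForm_blockDiagonal {d : ℕ} (M : Fin d → Matrix (Fin 2) (Fin 2) F) {lam : F}
    (hM : ∀ i, (M i).det = lam) (u v : Fin 2 × Fin d → F) :
    planeForm d (blockDiagonal M *ᵥ u) (blockDiagonal M *ᵥ v) = lam * planeForm d u v := by
  have h : ∀ (w : Fin 2 × Fin d → F) (j : Fin 2) (i : Fin d),
      (blockDiagonal M *ᵥ w) (j, i) = M i j 0 * w (0, i) + M i j 1 * w (1, i) := fun w j i => by
    simp [Matrix.mulVec, dotProduct, Fintype.sum_prod_type, blockDiagonal_apply, Fin.sum_univ_two]
  rw [planeForm, planeForm, Finset.mul_sum]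
  refine Finset.sum_congr rfl fun i _ => ?_
  rw [h, h, h, h, ← hM i, Matrix.det_fin_two]
  ring

/-- Every element is a value of the norm form of a plane with trace zero. -/
theorem exists_norm [Fintype F] {lam : F} (hl : lam ≠ 0) (d : F) : ∃ a b : F, a ^ 2 + lam * b ^ 2 = d := by
  by_cases h2 : ringChar F = 2
  · obtain ⟨a, ha⟩ := FiniteField.isSquare_of_char_two (F := F) h2 d
    exact ⟨a, 0, by rw [ha]; ring⟩
  · obtain ⟨a, b, hab⟩ := FiniteField.exists_root_sum_quadratic (f := Polynomial.X ^ 2)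
      (g := Polynomial.C lam * Polynomial.X ^ 2 - Polynomial.C d) (Polynomial.degree_X_pow 2) (by
        rw [Polynomial.degree_sub_C (by rw [Polynomial.degree_C_mul_X_pow 2 hl]; norm_num),
          Polynomial.degree_C_mul_X_pow 2 hl]; rfl)
      (FiniteField.odd_card_of_char_ne_two h2)
    refine ⟨a, b, ?_⟩
    simp at hab
    linear_combination hab

/-- A matrix in block form with constant block determinants is conjugate into the similarities. -/
theorem exists_conj [Fintype F] {n d : ℕ} (hd : 0 < d) (e : Fin 2 × Fin d ≃ Fin n)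
    (f : (Fin n → F) → (Fin n → F) → F) (hf : Cfsg.Geo.IsSymplecticForm f)
    (M : Fin d → Matrix (Fin 2) (Fin 2) F) {lam : F} (hl : lam ≠ 0) (hM : ∀ i, (M i).det = lam)
    (hM2 : ∀ i, (M i).trace = 0 ∨ ∃ c : F, M i = c • (1 : Matrix (Fin 2) (Fin 2) F))
    (x : Matrix (Fin n) (Fin n) F) (Q : GL (Fin n) F)
    (hQ : x * (Q : Matrix (Fin n) (Fin n) F) = (Q : Matrix (Fin n) (Fin n) F) * reindex e e (blockDiagonal M)) :
    ∃ P : GL (Fin n) F, (P : Matrix (Fin n) (Fin n) F).det = 1 ∧
      ∀ u v, f (((P⁻¹ : GL (Fin n) F) : Matrix (Fin n) (Fin n) F) *ᵥ (x *ᵥ ((P : Matrix (Fin n) (Fin n) F) *ᵥ u)))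
        (((P⁻¹ : GL (Fin n) F) : Matrix (Fin n) (Fin n) F) *ᵥ (x *ᵥ ((P : Matrix (Fin n) (Fin n) F) *ᵥ v))) = lam * f u v := by
  classical
  let D := reindex e e (blockDiagonal M)
  let B₁ : LinearMap.BilinForm F (Fin n → F) := LinearMap.mk₂ F (fun u v => planeForm d (u ∘ e) (v ∘ e))
    (fun a b v => by simp only [planeForm, Function.comp_apply, Pi.add_apply, ← Finset.sum_add_distrib]; congr 1; funext i; ring)
    (fun c a v => by simp only [planeForm, Function.comp_apply, Pi.smul_apply, smul_eq_mul, Finset.mul_sum]; congr 1; funext i; ring)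
    (fun u a b => by simp only [planeForm, Function.comp_apply, Pi.add_apply, ← Finset.sum_add_distrib]; congr 1; funext i; ring)
    (fun c u a => by simp only [planeForm, Function.comp_apply, Pi.smul_apply, smul_eq_mul, Finset.mul_sum]; congr 1; funext i; ring)
  have hA₁ : B₁.IsAlt := fun u => by simp [B₁, planeForm, mul_comm]
  have hnd₁ : ∀ u, (∀ v, B₁ u v = 0) → u = 0 := fun u h => by
    funext k
    obtain ⟨⟨j, i⟩, rfl⟩ := e.surjective k
    fin_cases j
    · have := h (Pi.single (e (1, i)) 1)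
      simpa [B₁, planeForm, Pi.single_apply, Finset.sum_ite_eq'] using this
    · have := h (Pi.single (e (0, i)) 1)
      simpa [B₁, planeForm, Pi.single_apply, Finset.sum_ite_eq'] using this
  let B₂ : LinearMap.BilinForm F (Fin n → F) := LinearMap.mk₂ F f hf.bilinear.add_left hf.bilinear.smul_left
    hf.bilinear.add_right hf.bilinear.smul_right
  have hA₂ : B₂.IsAlt := fun u => hf.alternating u
  have hnd₂ : ∀ u, (∀ v, B₂ u v = 0) → u = 0 := fun u h => by
    by_contra hu
    obtain ⟨v, hv⟩ := (hf.nondegenerate u hu).2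
    exact hv (h v)
  have hdim : Module.finrank F (Fin n → F) = 2 * d := by
    rw [Module.finrank_fin_fun]
    simpa using (Fintype.card_congr e).symm
  obtain ⟨E₁, hE₁⟩ := CfsgLib.KnownB.RestrictScalars.alt_coords B₁ hA₁ hnd₁ hdim
  obtain ⟨E₂, hE₂⟩ := CfsgLib.KnownB.RestrictScalars.alt_coords B₂ hA₂ hnd₂ hdim
  let T : (Fin n → F) ≃ₗ[F] (Fin n → F) := E₁.symm.trans E₂
  have hT : ∀ u v, B₁ u v = f (T u) (T v) := fun u v => by
    conv_lhs => rw [← E₁.apply_symm_apply u, ← E₁.apply_symm_apply v, hE₁, ← hE₂]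
    rfl
  let R : GL (Fin n) F :=
    ⟨LinearMap.toMatrix' T.toLinearMap, LinearMap.toMatrix' T.symm.toLinearMap,
      by rw [← LinearMap.toMatrix'_comp]; simp, by rw [← LinearMap.toMatrix'_comp]; simp⟩
  have hR : ∀ u, (R : Matrix (Fin n) (Fin n) F) *ᵥ u = T u := fun u => LinearMap.toMatrix'_mulVec _ _
  -- a commuting matrix of prescribed determinant
  let δ := (R : Matrix (Fin n) (Fin n) F).det / (Q : Matrix (Fin n) (Fin n) F).det
  let i₀ : Fin d := ⟨0, hd⟩
  obtain ⟨N, hN, hNM⟩ : ∃ N : Matrix (Fin 2) (Fin 2) F, N.det = δ ∧ N * M i₀ = M i₀ * N := by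
    rcases hM2 i₀ with h | ⟨c, h⟩
    · obtain ⟨a, b, hab⟩ := exists_norm hl δ
      refine ⟨a • 1 + b • M i₀, ?_, by simp [add_mul, mul_add]⟩
      have h0 := hM i₀
      rw [Matrix.det_fin_two] at h0
      rw [Matrix.trace_fin_two] at h
      simp [Matrix.det_fin_two]
      linear_combination hab + a * b * h + b ^ 2 * h0
    · exact ⟨!![δ, 0; 0, 1], by simp [Matrix.det_fin_two], by simp [h]⟩
  let N' : Fin d → Matrix (Fin 2) (Fin 2) F := fun i => if i = i₀ then N else 1
  let K := reindex e e (blockDiagonal N')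
  have hKdet : K.det = δ := by
    simp only [K, Matrix.det_reindex_self, det_blockDiagonal, N', apply_ite Matrix.det, Matrix.det_one, hN,
      Finset.prod_ite_eq', Finset.mem_univ, if_true]
  have hδ : δ ≠ 0 := div_ne_zero (Matrix.GeneralLinearGroup.det R).ne_zero (Matrix.GeneralLinearGroup.det Q).ne_zero
  let K' : GL (Fin n) F := Matrix.GeneralLinearGroup.mkOfDetNeZero K (hKdet ▸ hδ)
  have hKD : K * D = D * K := by
    simp only [K, D, reindex_apply, submatrix_mul_equiv, ← blockDiagonal_mul]
    congr 2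
    funext i
    by_cases h : i = i₀
    · simp [N', h, hNM]
    · simp [N', h]
  let P : GL (Fin n) F := Q * K' * R⁻¹
  refine ⟨P, ?_, ?_⟩
  · have h1 : (R : Matrix (Fin n) (Fin n) F).det * ((R⁻¹ : GL (Fin n) F) : Matrix (Fin n) (Fin n) F).det = 1 := by
      rw [← Matrix.det_mul, ← Units.val_mul, mul_inv_cancel, Units.val_one, Matrix.det_one]
    simp only [P, Units.val_mul, Matrix.det_mul]
    rw [show (K' : Matrix (Fin n) (Fin n) F) = K from rfl, hKdet]
    simp only [δ]
    have hQ0 : (Q : Matrix (Fin n) (Fin n) F).det ≠ 0 := (Matrix.GeneralLinearGroup.det Q).ne_zero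
    rw [mul_div_cancel₀ _ hQ0, h1]
  · have key : x * (P : Matrix (Fin n) (Fin n) F) =
        (P : Matrix (Fin n) (Fin n) F) * ((R : Matrix (Fin n) (Fin n) F) * D * ((R⁻¹ : GL (Fin n) F) : Matrix (Fin n) (Fin n) F)) := by
      simp only [P, Units.val_mul]
      rw [show (K' : Matrix (Fin n) (Fin n) F) = K from rfl, ← mul_assoc, ← mul_assoc, hQ]
      simp only [mul_assoc, Units.inv_mul_cancel_left]
      rw [← mul_assoc K D, hKD, mul_assoc]
    intro u v
    have hy : ∀ w, ((P⁻¹ : GL (Fin n) F) : Matrix (Fin n) (Fin n) F) *ᵥ (x *ᵥ ((P : Matrix (Fin n) (Fin n) F) *ᵥ w))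
        = T (D *ᵥ T.symm w) := fun w => by
      rw [mulVec_mulVec, mulVec_mulVec, mul_assoc, key, Units.inv_mul_cancel_left, ← mulVec_mulVec, ← mulVec_mulVec, hR]
      congr 2
      exact LinearMap.toMatrix'_mulVec _ _
    rw [hy, hy, ← hT]
    conv_rhs => rw [← T.apply_symm_apply u, ← T.apply_symm_apply v, ← hT]
    have hc : ∀ w, (D *ᵥ w) ∘ e = blockDiagonal M *ᵥ (w ∘ e) := fun w => by
      funext k
      simp [D, reindex_apply, submatrix_mulVec_equiv]
    show planeForm d ((D *ᵥ _) ∘ e) ((D *ᵥ _) ∘ e) = lam * planeForm d (T.symm u ∘ e) (T.symm v ∘ e)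
    rw [hc, hc, planeForm_blockDiagonal M hM]

end CfsgLib.ThreeTransp.InvolSympl
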