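import Mathlib
import Cfsg.Agent.Lib.ThreeTransp.InvolSympl

/-!
Operators with scalar square in normal form, and the conjugation into their normal form by matrices
of determinant one.
-/

set_option autoImplicit false

namespace CfsgLib.ThreeTransp.InvolNormal

open Matrix CfsgLib.ThreeTransp.InvolDecomp

variable {F : Type*} [Field F]

/-- The monomial matrix of an involution with signs. -/
def monMat {n : ℕ} (π : Fin n → Fin n) (ε : Fin n → F) : Matrix (Fin n) (Fin n) F :=
  Matrix.of fun r s => if r = π s then ε s else 0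

/-- Splitting by eigenvalues, or monomial with constant coefficient: an operator with square `μ²`. -/
theorem exists_signed {n : ℕ} (Φ : Module.End F (Fin n → F)) {μ : F} (hμ : μ ≠ 0)
    (hff : ∀ v, Φ (Φ v) = (μ * μ) • v) :
    ∃ (b : Fin n → Fin n → F) (π : Fin n → Fin n) (ε : Fin n → F), Function.Involutive π ∧
      LinearIndependent F b ∧ (∀ i, Φ (b i) = (μ * ε i) • b (π i)) ∧ (∀ i, ε i = 1 ∨ ε i = -1) ∧
      (∀ i, ε (π i) = ε i) ∧ ((2 : F) = 0 ∨ ∀ i, π i = i) := by
  classical
  by_cases h2 : (2 : F) = 0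
  · obtain ⟨b, π, c, hπ, hb, -, hbc⟩ := exists_monomial Φ (μ * μ) (mul_ne_zero hμ hμ) hff n ⊤
      (fun _ _ => Submodule.mem_top) (by rw [finrank_top, Module.finrank_fin_fun])
    have hcz : ∀ i, c i * c (π i) = μ * μ := fun i => by
      have h := hff (b i)
      rw [(hbc i).2, map_smul, (hbc _).2, hπ i, smul_smul] at h
      exact smul_left_injective F (hb.ne_zero i) h
    let w : Fin n → Fˣ := fun i =>
      if π i < i then Units.mk0 (c (π i) / μ) (div_ne_zero (hbc _).1 hμ) else 1
    refine ⟨w • b, π, fun _ => 1, hπ, hb.units_smul w, fun i => ?_, fun _ => Or.inl rfl, fun _ => rfl, Or.inl h2⟩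
    simp only [Pi.smul_apply', Units.smul_def, map_smul, (hbc i).2, smul_smul, mul_one]
    congr 1
    rcases lt_trichotomy (π i) i with h | h | h
    · have h' : ¬ π (π i) < π i := by rw [hπ i]; exact h.not_gt
      simp only [w, if_pos h, if_neg h', Units.val_mk0, Units.val_one, mul_one]
      rw [div_mul_eq_mul_div, mul_comm, hcz, mul_div_cancel_right₀ _ hμ]
    · have h1 : c i * c i = μ * μ := by have := hcz i; rwa [h] at this
      have : c i = μ := by
        have h3 : (c i - μ) * (c i + μ) = 0 := by linear_combination h1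
        rcases mul_eq_zero.1 h3 with h4 | h4
        · exact sub_eq_zero.1 h4
        · linear_combination h4 - μ * h2
      simp [w, h, this]
    · have h' : π (π i) < π i := by rw [hπ i]; exact h
      simp only [w, if_pos h', if_neg h.not_gt, Units.val_mk0, Units.val_one, one_mul, hπ i]
      rw [mul_div_cancel₀ _ hμ]
  let Kp := LinearMap.ker (Φ - μ • LinearMap.id)
  let Km := LinearMap.ker (Φ + μ • LinearMap.id)
  have mKp : ∀ v, v ∈ Kp ↔ Φ v = μ • v := fun v => by simp [Kp, sub_eq_zero]
  have mKm : ∀ v, v ∈ Km ↔ Φ v = -μ • v := fun v => by simp [Km, add_eq_zero_iff_eq_neg]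
  have hcompl : IsCompl Kp Km := by
    constructor
    · rw [Submodule.disjoint_def]
      intro v hv hv'
      rw [mKp] at hv; rw [mKm, hv, neg_smul, eq_neg_iff_add_eq_zero, ← two_smul F, smul_smul] at hv'
      exact (smul_eq_zero.1 hv').resolve_left (mul_ne_zero h2 hμ)
    · rw [codisjoint_iff, eq_top_iff]
      intro v _
      have hh : (2 * μ)⁻¹ * μ + (2 * μ)⁻¹ * μ = 1 := by field_simp; ring
      refine Submodule.mem_sup.2 ⟨(2 * μ)⁻¹ • (μ • v + Φ v), ?_, (2 * μ)⁻¹ • (μ • v - Φ v), ?_, ?_⟩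
      · rw [mKp, map_smul, map_add, map_smul, hff]; module
      · rw [mKm, map_smul, map_sub, map_smul, hff]; module
      · calc _ = ((2 * μ)⁻¹ * μ + (2 * μ)⁻¹ * μ) • v := by module
          _ = v := by rw [hh, one_smul]
  let Bp := Module.finBasis F Kp
  let Bm := Module.finBasis F Km
  let BB := (Bp.prod Bm).map (Submodule.prodEquivOfIsCompl Kp Km hcompl)
  have hsum : Module.finrank F Kp + Module.finrank F Km = n := by
    rw [Submodule.finrank_add_eq_of_isCompl hcompl, Module.finrank_fin_fun]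
  let ee : Fin n ≃ Fin (Module.finrank F Kp) ⊕ Fin (Module.finrank F Km) :=
    (finCongr hsum.symm).trans finSumFinEquiv.symm
  refine ⟨fun i => BB (ee i), id, fun i => Sum.elim (fun _ => 1) (fun _ => -1) (ee i), fun _ => rfl,
    BB.linearIndependent.comp ee ee.injective, fun i => ?_, fun i => ?_, fun _ => rfl, Or.inr fun _ => rfl⟩
  · simp only [id_eq]
    rcases ee i with j | j
    · simpa [BB, Module.Basis.prod_apply] using (mKp _).1 (Bp j).2
    · simpa [BB, Module.Basis.prod_apply] using (mKm _).1 (Bm j).2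
  · rcases h : ee i with j | j <;> simp [h]

/-- An operator with non-square `z` as square is a direct sum of companion matrices. -/
theorem exists_companion {d : ℕ} (Φ : Module.End F (Fin (2 * d) → F)) {z : F} (hz : ¬ IsSquare z)
    (hff : ∀ v, Φ (Φ v) = z • v) :
    ∃ (e : Fin 2 × Fin d ≃ Fin (2 * d)) (b : Fin (2 * d) → Fin (2 * d) → F), LinearIndependent F b ∧
      ∀ i, Φ (b (e (0, i))) = b (e (1, i)) ∧ Φ (b (e (1, i))) = z • b (e (0, i)) := by
  classical
  have hz0 : z ≠ 0 := fun h => hz (h ▸ IsSquare.zero)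
  obtain ⟨b, π, c, hπ, hb, -, hbc⟩ := exists_monomial Φ z hz0 hff (2 * d) ⊤ (fun _ _ => Submodule.mem_top)
    (by rw [finrank_top, Module.finrank_fin_fun])
  have hnf : ∀ i, π i ≠ i := fun i hi => hz ⟨c i, by
    have h := hff (b i)
    rw [(hbc i).2, map_smul, hi, (hbc i).2, hi, smul_smul] at h
    exact (smul_left_injective F (hb.ne_zero i) h).symm⟩
  obtain ⟨e, he⟩ := InvolSympl.exists_equiv_two π hπ hnf (d := d) (by simp)
  let w : Fin (2 * d) → Fˣ := fun i => if (e.symm i).1 = 0 then 1 else Units.mk0 (c (π i)) (hbc _).1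
  have key : ∀ i, (w • b) (e (1, i)) = Φ ((w • b) (e (0, i))) := fun i => by
    have h : π (e (1, i)) = e (0, i) := by rw [he i, hπ]
    simp [w, Units.smul_def, h, (hbc _).2, ← he i]
  refine ⟨e, w • b, hb.units_smul w, fun i => ⟨(key i).symm, ?_⟩⟩
  rw [key i, hff]

/-- Conjugating to the normal form by a matrix of determinant one. -/
theorem exists_conj_sl [Fintype F] {n : ℕ} (hn : 0 < n) (x : Matrix (Fin n) (Fin n) F) {μ : F}
    (b : Fin n → Fin n → F) (hb : LinearIndependent F b) (π : Fin n → Fin n) (hπ : Function.Involutive π)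
    (ε : Fin n → F) (hεπ : ∀ i, ε (π i) = ε i) (h2 : (2 : F) = 0 ∨ ∀ i, π i = i)
    (hbc : ∀ i, Matrix.toLin' x (b i) = (μ * ε i) • b (π i)) :
    ∃ P : Matrix (Fin n) (Fin n) F, P.det = 1 ∧ x * P = P * (μ • monMat π ε) := by
  classical
  let Q : Matrix (Fin n) (Fin n) F := Matrix.of fun i j => b j i
  have hQ : IsUnit Q := Matrix.linearIndependent_cols_iff_isUnit.1 hb
  have hQd : Q.det ≠ 0 := ((Matrix.isUnit_iff_isUnit_det Q).1 hQ).ne_zero
  obtain ⟨κ, hκ, hκd⟩ : ∃ κ : Fin n → F, (∀ i, κ (π i) = κ i) ∧ ∏ i, κ i = Q.det⁻¹ := by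
    by_cases hf : ∃ i, π i = i
    · obtain ⟨i₀, hi₀⟩ := hf
      refine ⟨fun i => if i = i₀ then Q.det⁻¹ else 1, fun i => ?_, by simp⟩
      have h : π i = i₀ ↔ i = i₀ :=
        ⟨fun h => hπ.injective (h.trans hi₀.symm), fun h => h ▸ hi₀⟩
      simp [h]
    · push Not at hf
      have hc : ringChar F = 2 := CharP.ringChar_of_prime_eq_zero Nat.prime_two
        (by exact_mod_cast h2.resolve_right fun h => hf ⟨0, hn⟩ (h _))
      obtain ⟨s, hs⟩ := FiniteField.isSquare_of_char_two (F := F) hc Q.det⁻¹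
      let i₀ : Fin n := ⟨0, hn⟩
      refine ⟨fun i => if i = i₀ ∨ i = π i₀ then s else 1, fun i => ?_, ?_⟩
      · have h : (π i = i₀ ∨ π i = π i₀) ↔ (i = i₀ ∨ i = π i₀) := by
          rw [hπ.injective.eq_iff, or_comm]
          refine or_congr Iff.rfl ⟨fun h => by rw [← h, hπ i], fun h => by rw [h, hπ i₀]⟩
        simp [h]
      · rw [Finset.prod_ite, Finset.prod_const, Finset.prod_const, one_pow, mul_one,
          show (Finset.univ.filter fun i => i = i₀ ∨ i = π i₀) = {i₀, π i₀} by ext; simp,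
          Finset.card_pair (Ne.symm (hf i₀)), pow_two, ← hs]
  refine ⟨Q * diagonal κ, by rw [Matrix.det_mul, det_diagonal, hκd, mul_inv_cancel₀ hQd], ?_⟩
  have hx : x * Q = Q * (μ • monMat π ε) := by
    ext r s
    have h := congrFun (hbc s) r
    rw [Matrix.toLin'_apply, Pi.smul_apply, smul_eq_mul] at h
    simp only [Matrix.mul_apply, monMat, Matrix.smul_apply, Matrix.of_apply, smul_eq_mul, mul_ite, mul_zero,
      Finset.sum_ite_eq', Finset.mem_univ, if_true]
    simpa [Q, Matrix.mulVec, dotProduct, mul_comm, mul_left_comm] using h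
  have hcomm : (μ • monMat π ε) * diagonal κ = diagonal κ * (μ • monMat π ε) := by
    ext r s
    simp only [mul_diagonal, diagonal_mul, monMat, Matrix.smul_apply, Matrix.of_apply, smul_eq_mul]
    by_cases h : r = π s
    · simp [h, hκ, mul_comm]
    · simp [h]
  rw [← mul_assoc, hx, mul_assoc, hcomm, ← mul_assoc]

end CfsgLib.ThreeTransp.InvolNormal
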