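import Mathlib
import Cfsg.Agent.Lib.ThreeTransp.CubicCyclic
import Cfsg.Agent.Lib.ThreeTransp.InvolNormal

/-!
The Heisenberg group of order twenty seven in three by three matrices.
-/

set_option autoImplicit false

namespace CfsgLib.ThreeTransp.HeisThree

open Matrix CfsgLib.ThreeTransp.CubicCyclic

variable {F : Type*} [Field F]

local notation "M3" => Matrix (Fin 3) (Fin 3) F

theorem comp_cube : CubicCyclic.comp (1 : F) * (CubicCyclic.comp 1 * CubicCyclic.comp 1) = (1 : M3) := by
  ext i j; fin_cases i <;> fin_cases j <;> simp [CubicCyclic.comp, Matrix.mul_apply, Fin.sum_univ_three, Matrix.one_apply]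

/-- The centraliser of the cyclic permutation matrix is abelian. -/
theorem commute_comp {M N : M3} (hM : M * CubicCyclic.comp 1 = CubicCyclic.comp 1 * M) (hN : N * CubicCyclic.comp 1 = CubicCyclic.comp 1 * N) : M * N = N * M := by
  have key : ∀ A : M3, A * CubicCyclic.comp 1 = CubicCyclic.comp 1 * A → A = A 0 0 • 1 + A 1 0 • CubicCyclic.comp 1 + A 2 0 • (CubicCyclic.comp 1 * CubicCyclic.comp 1) := by
    intro A h
    have e00 := congrFun (congrFun h 0) 0
    have e10 := congrFun (congrFun h 1) 0
    have e20 := congrFun (congrFun h 2) 0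
    have e01 := congrFun (congrFun h 0) 1
    have e11 := congrFun (congrFun h 1) 1
    have e21 := congrFun (congrFun h 2) 1
    simp [CubicCyclic.comp, Matrix.mul_apply, Fin.sum_univ_three] at e00 e10 e20 e01 e11 e21
    ext i j; fin_cases i <;> fin_cases j <;>
      simp [CubicCyclic.comp, Matrix.mul_apply, Fin.sum_univ_three, Matrix.one_apply, e00, e10, e20, e01, e11, e21]
  rw [key M hM, key N hN]
  simp only [add_mul, mul_add, smul_mul_assoc, mul_smul_comm, one_mul, mul_one, mul_assoc]
  module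

/-- A matrix of order three is regular, or diagonalisable with a repeated eigenvalue. -/
theorem regular_or (h3 : (3 : F) ≠ 0) {Y : M3} (hY : Y * (Y * Y) = 1) :
    (∀ (c : F) (u v : Fin 3 → F), Y *ᵥ u = c • u → Y *ᵥ v = c • v → ¬ LinearIndependent F ![u, v]) ∨
      ∃ (c d : F) (Q : M3), Q.det ≠ 0 ∧ c ^ 3 = 1 ∧ d ^ 3 = 1 ∧ Y * Q = Q * diagonal ![c, c, d] := by
  refine or_iff_not_imp_left.2 fun h => ?_
  push Not at h
  obtain ⟨c, u, v, hu, hv, hli⟩ := h
  obtain ⟨w, hw⟩ : ∃ w, w ∉ Submodule.span F (Set.range ![u, v]) := by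
    by_contra h
    push Not at h
    have h' : Submodule.span F (Set.range ![u, v]) = ⊤ := eq_top_iff.2 fun w _ => h w
    have h2 := finrank_span_eq_card hli
    rw [h', finrank_top, Module.finrank_fin_fun, Fintype.card_fin] at h2
    omega
  have hu0 : u ≠ 0 := hli.ne_zero 0
  have hcube : ∀ a, Y *ᵥ (Y *ᵥ (Y *ᵥ a)) = a := fun a => by
    rw [mulVec_mulVec, mulVec_mulVec, mul_assoc, hY, one_mulVec]
  have hc : c ^ 3 = 1 := by
    have h := hcube u
    rw [hu, mulVec_smul, hu, smul_smul, mulVec_smul, hu, smul_smul] at h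
    exact smul_left_injective F hu0 (show c ^ 3 • u = (1 : F) • u by
      rw [one_smul, show c ^ 3 = c * c * c by ring]; exact h)
  have hc0 : c ≠ 0 := fun h => by rw [h, zero_pow (by norm_num)] at hc; exact zero_ne_one hc
  have hli3 : LinearIndependent F ![w, u, v] := linearIndependent_finCons.2 ⟨hli, hw⟩
  let B := basisOfLinearIndependentOfCardEqFinrank hli3 (by simp)
  have hB : ⇑B = ![w, u, v] := coe_basisOfLinearIndependentOfCardEqFinrank hli3 _
  obtain ⟨co, hco⟩ := (Submodule.mem_span_range_iff_exists_fun F).1 (show Y *ᵥ w ∈ Submodule.span F (Set.range ![w, u, v]) by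
    rw [← hB, B.span_eq]; trivial)
  simp only [Fin.sum_univ_three, Matrix.cons_val_zero, Matrix.cons_val_one, Matrix.cons_val_two, Matrix.head_cons,
    Matrix.tail_cons] at hco
  set d := co 0
  have hrel := hcube w
  rw [← hco] at hrel
  simp only [mulVec_add, mulVec_smul, hu, hv, ← hco, smul_add, smul_smul] at hrel
  have hcoef := Fintype.linearIndependent_iff.1 hli3
    ![d * d * d - 1, d * d * co 1 + d * co 1 * c + co 1 * (c * c), d * d * co 2 + d * co 2 * c + co 2 * (c * c)] (by
      simp only [Fin.sum_univ_three, Matrix.cons_val_zero, Matrix.cons_val_one, Matrix.cons_val_two, Matrix.head_cons,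
        Matrix.tail_cons]
      linear_combination (norm := module) hrel)
  have hd : d ^ 3 = 1 := by have := hcoef 0; simp at this; linear_combination this
  obtain ⟨s, t, hs⟩ : ∃ s t : F, Y *ᵥ (w + s • u + t • v) = d • (w + s • u + t • v) := by
    by_cases hdc : d = c
    · have k1 := hcoef 1; have k2 := hcoef 2
      simp [hdc] at k1 k2
      have h3c : (3 : F) * (c * c) ≠ 0 := mul_ne_zero h3 (mul_ne_zero hc0 hc0)
      have e1 : co 1 = 0 := (mul_eq_zero.1 (show (3 : F) * (c * c) * co 1 = 0 by linear_combination k1)).resolve_left h3c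
      have e2 : co 2 = 0 := (mul_eq_zero.1 (show (3 : F) * (c * c) * co 2 = 0 by linear_combination k2)).resolve_left h3c
      exact ⟨0, 0, by simp [← hco, e1, e2]⟩
    · refine ⟨co 1 / (d - c), co 2 / (d - c), ?_⟩
      have hne := sub_ne_zero.2 hdc
      rw [mulVec_add, mulVec_add, mulVec_smul, mulVec_smul, hu, hv, ← hco]
      match_scalars <;> field_simp <;> ring
  let Q : M3 := Matrix.of fun i j => ![u, v, w + s • u + t • v] j i
  have hliQ : LinearIndependent F ![u, v, w + s • u + t • v] := by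
    rw [Fintype.linearIndependent_iff]
    intro g hg
    simp only [Fin.sum_univ_three, Matrix.cons_val_zero, Matrix.cons_val_one, Matrix.cons_val_two, Matrix.head_cons,
      Matrix.tail_cons] at hg
    have h := Fintype.linearIndependent_iff.1 hli3 ![g 2, g 0 + g 2 * s, g 1 + g 2 * t] (by
      simp only [Fin.sum_univ_three, Matrix.cons_val_zero, Matrix.cons_val_one, Matrix.cons_val_two, Matrix.head_cons,
        Matrix.tail_cons]
      linear_combination (norm := module) hg)
    have g2 := h 0; have g0 := h 1; have g1 := h 2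
    simp at g2 g0 g1
    intro i; fin_cases i
    · show g 0 = 0
      linear_combination g0 - s * g2
    · show g 1 = 0
      linear_combination g1 - t * g2
    · exact g2
  refine ⟨c, d, Q, ((Matrix.isUnit_iff_isUnit_det Q).1 (Matrix.linearIndependent_cols_iff_isUnit.1 hliQ)).ne_zero, hc, hd, ?_⟩
  ext i j
  show (Y *ᵥ ![u, v, w + s • u + t • v] j) i = _
  rw [mul_diagonal]
  fin_cases j <;> simp only [Matrix.cons_val_zero, Matrix.cons_val_one, Matrix.cons_val_two, Matrix.head_cons,
    Matrix.tail_cons, Fin.mk_zero, Fin.mk_one, Fin.reduceFinMk, hu, hv, hs]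
  all_goals simp [Q, mul_comm]

/-- Matrices with the same diagonal form are conjugate by a matrix of determinant one. -/
theorem exists_conj_diag {x y Qx Qy : M3} (dg : Fin 3 → F) (hQx : Qx.det ≠ 0) (hQy : Qy.det ≠ 0)
    (hx : x * Qx = Qx * diagonal dg) (hy : y * Qy = Qy * diagonal dg) : ∃ P : M3, P.det = 1 ∧ x * P = P * y := by
  set δ := Qy.det / Qx.det with hδ
  let N : M3 := diagonal ![δ, 1, 1]
  have hN : N.det = δ := by simp [N, det_diagonal, Fin.prod_univ_three]
  have hNC : N * diagonal dg = diagonal dg * N := by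
    simp [N, diagonal_mul_diagonal, mul_comm]
  have hu : IsUnit Qy.det := isUnit_iff_ne_zero.2 hQy
  refine ⟨Qx * N * Qy⁻¹, ?_, ?_⟩
  · rw [det_mul, det_mul, hN, hδ, det_nonsing_inv, Ring.inverse_eq_inv', mul_div_cancel₀ _ hQx, mul_inv_cancel₀ hQy]
  · have hy' : Qy⁻¹ * y = diagonal dg * Qy⁻¹ := by
      calc Qy⁻¹ * y = Qy⁻¹ * (y * Qy) * Qy⁻¹ := by rw [mul_assoc, mul_assoc, mul_nonsing_inv _ hu, mul_one]
        _ = Qy⁻¹ * Qy * diagonal dg * Qy⁻¹ := by rw [hy, ← mul_assoc]
        _ = _ := by rw [nonsing_inv_mul _ hu, one_mul]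
    rw [mul_assoc (Qx * N) Qy⁻¹ y, hy', ← mul_assoc, ← mul_assoc, ← mul_assoc, hx, mul_assoc Qx (diagonal dg), ← hNC]
    simp [mul_assoc]

/-- A non-scalar involution of determinant one has eigenvalues `1, -1, -1`. -/
theorem involution_form (h2 : (2 : F) ≠ 0) {J : M3} (hJ : J * J = 1) (hd : J.det = 1) (hns : ∀ c : F, J ≠ c • 1) :
    ∃ Q : M3, Q.det ≠ 0 ∧ J * Q = Q * diagonal ![1, -1, -1] := by
  classical
  obtain ⟨b, π, ε, -, hb, hbc, hε, -, hπ⟩ := InvolNormal.exists_signed (μ := (1 : F)) (Matrix.toLin' J) one_ne_zero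
    fun v => by rw [← Matrix.toLin'_mul_apply, hJ, Matrix.toLin'_one, one_mul, one_smul, LinearMap.id_apply]
  have hid : ∀ i, π i = i := hπ.resolve_left h2
  let Q₀ : M3 := Matrix.of fun i j => b j i
  have hQu : IsUnit Q₀.det := (Matrix.isUnit_iff_isUnit_det Q₀).1 (Matrix.linearIndependent_cols_iff_isUnit.1 hb)
  have hJQ : J * Q₀ = Q₀ * diagonal ε := by
    ext i j
    show (J *ᵥ b j) i = _
    rw [mul_diagonal, ← Matrix.toLin'_apply, hbc, one_mul, hid, Pi.smul_apply, smul_eq_mul, mul_comm]
    rfl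
  have hprod : ε 0 * ε 1 * ε 2 = 1 := by
    have h := congrArg Matrix.det hJQ
    rw [det_mul, det_mul, hd, one_mul, det_diagonal, Fin.prod_univ_three] at h
    exact mul_left_cancel₀ hQu.ne_zero (by rw [mul_one]; exact h.symm)
  have hJc : ∀ c : F, (∀ i, ε i = c) → False := fun c hc => hns c (by
    calc J = J * Q₀ * Q₀⁻¹ := by rw [mul_assoc, mul_nonsing_inv _ hQu, mul_one]
      _ = c • 1 := by
        rw [hJQ, show ε = fun _ => c from funext hc, show diagonal (fun _ : Fin 3 => c) = c • (1 : M3) by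
          rw [← diagonal_one, ← diagonal_smul]; congr 1; funext i; simp, mul_smul_comm, mul_one, smul_mul_assoc,
          mul_nonsing_inv _ hQu])
  obtain ⟨i₀, h0, hj⟩ : ∃ i₀, ε i₀ = 1 ∧ ∀ j, j ≠ i₀ → ε j = -1 := by
    have hne : (1 : F) ≠ -1 := fun h => h2 (by linear_combination h)
    rcases hε 0 with a | a <;> rcases hε 1 with b | b <;> rcases hε 2 with c | c <;> rw [a, b, c] at hprod
    · exact (hJc 1 fun i => by fin_cases i <;> assumption).elim
    · exact (hne (by linear_combination -hprod)).elim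
    · exact (hne (by linear_combination -hprod)).elim
    · exact ⟨0, a, fun j hj => by fin_cases j <;> simp_all⟩
    · exact (hne (by linear_combination -hprod)).elim
    · exact ⟨1, b, fun j hj => by fin_cases j <;> simp_all⟩
    · exact ⟨2, c, fun j hj => by fin_cases j <;> simp_all⟩
    · exact (hJc (-1) fun i => by fin_cases i <;> assumption).elim
  let e := Equiv.swap (0 : Fin 3) i₀
  refine ⟨Q₀.submatrix id e, ?_, ?_⟩
  · rw [det_permute']
    exact mul_ne_zero (by rcases Int.units_eq_one_or (Equiv.Perm.sign e) with h | h <;> simp [h]) hQu.ne_zero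
  · ext i j
    have h := congrFun (congrFun hJQ i) (e j)
    rw [mul_diagonal] at h
    rw [mul_diagonal]
    have hval : ![(1 : F), -1, -1] j = ε (e j) := by
      by_cases hj0 : j = 0
      · subst hj0; simp [e, h0]
      · rw [hj (e j) (fun hh => hj0 (e.injective (hh.trans (Equiv.swap_apply_left 0 i₀).symm)))]
        fin_cases j <;> simp_all
    rw [hval]
    simpa [Matrix.mul_apply] using h

end CfsgLib.ThreeTransp.HeisThree
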