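import Mathlib
import Cfsg.Agent.Lib.ThreeTransp.Basic
import Cfsg.Agent.Lib.PGroups.Basic
import Cfsg.Agent.Lib.Classical.PSU32
import Cfsg.Prelude.Def_Solvable

/-!
Complements to a normal 2-subgroup of a 3-transposition group with a small 3-by-2 quotient.
-/

set_option autoImplicit false
set_option linter.style.haveILetI false

namespace CfsgLib.ThreeTransp

open Cfsg CfsgLib.Involutions
open scoped commutatorElement

variable {G : Type*} [Group G]

/-- Two elements of order three with both products cubing to one generate a 3-group. -/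
theorem isPGroup_closure_pair [Finite G] {u v : G} (hu : u ^ 3 = 1) (hv : v ^ 3 = 1)
    (h1 : (u * v) ^ 3 = 1) (h2 : (u * v⁻¹) ^ 3 = 1) :
    IsPGroup 3 (Subgroup.closure ({u, v} : Set G)) := by
  have hv2 : v * v = v⁻¹ := by
    apply eq_inv_of_mul_eq_one_left; rw [← hv, pow_succ, pow_two]
  have e1 : u * v * u = v⁻¹ * u⁻¹ * v⁻¹ := by
    have : u * v * u * (v * u * v) = 1 := by
      rw [← h1, pow_succ, pow_two]; simp [mul_assoc]
    rw [eq_inv_of_mul_eq_one_left this]; simp [mul_assoc]
  have e2 : u * v⁻¹ * u = v * u⁻¹ * v := by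
    have : u * v⁻¹ * u * (v⁻¹ * u * v⁻¹) = 1 := by
      rw [← h2, pow_succ, pow_two]; simp [mul_assoc]
    rw [eq_inv_of_mul_eq_one_left this]; simp [mul_assoc]
  set w := v * u * v⁻¹ with hw
  set w' := v * w * v⁻¹ with hw'
  have c1 : Commute u w := by
    show u * (v * u * v⁻¹) = v * u * v⁻¹ * u
    calc u * (v * u * v⁻¹) = (u * v * u) * v⁻¹ := by simp [mul_assoc]
      _ = v⁻¹ * u⁻¹ * (v⁻¹ * v⁻¹) := by rw [e1]; simp [mul_assoc]
      _ = v⁻¹ * u⁻¹ * v := by rw [← mul_inv_rev v v, hv2, inv_inv]
      _ = v * (v * u⁻¹ * v) := by rw [← hv2]; simp [mul_assoc]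
      _ = v * u * v⁻¹ * u := by rw [← e2]; simp [mul_assoc]
  have c2 : Commute w w' := by
    have := congrArg (fun t => v * t * v⁻¹) c1.eq
    show v * u * v⁻¹ * (v * w * v⁻¹) = v * w * v⁻¹ * (v * u * v⁻¹)
    simpa [mul_assoc] using this
  have hv3 : v * v * v = 1 := by rw [← hv, pow_succ, pow_two]
  have hw'' : v * w' * v⁻¹ = u := by
    calc v * w' * v⁻¹ = (v * v * v) * u * (v * v * v)⁻¹ := by simp [hw', hw, mul_assoc]
      _ = u := by simp [hv3]
  have c3 : Commute w' u := by
    have := congrArg (fun t => v * t * v⁻¹) c2.eq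
    rw [show v * (w * w') * v⁻¹ = (v * w * v⁻¹) * (v * w' * v⁻¹) by simp [mul_assoc],
      show v * (w' * w) * v⁻¹ = (v * w' * v⁻¹) * (v * w * v⁻¹) by simp [mul_assoc], hw''] at this
    exact this
  set T := Subgroup.closure ({u, w, w'} : Set G) with hT
  have hgen : ∀ a ∈ ({u, w, w'} : Set G), ∀ b ∈ ({u, w, w'} : Set G), a * b = b * a := by
    rintro a (rfl | rfl | rfl) b (rfl | rfl | rfl)
    exacts [rfl, c1.eq, c3.eq.symm, c1.eq.symm, rfl, c2.eq, c3.eq, c2.eq.symm, rfl]
  have hcube : ∀ a ∈ ({u, w, w'} : Set G), a ^ 3 = 1 := by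
    rintro a (rfl | rfl | rfl)
    · exact hu
    · rw [hw, conj_pow, hu]; simp
    · rw [hw', conj_pow, hw, conj_pow, hu]; simp
  haveI : IsMulCommutative T := Subgroup.isMulCommutative_closure hgen
  have hTp : IsPGroup 3 T := fun x => ⟨1, by
    rw [pow_one]
    apply Subtype.ext
    obtain ⟨x, hx⟩ := x
    show x ^ 3 = 1
    induction hx using Subgroup.closure_induction with
    | mem t ht => exact hcube t ht
    | one => simp
    | mul a b ha hb iha ihb =>
        have hab : Commute a b :=
          congrArg Subtype.val (IsMulCommutative.is_comm.comm (⟨a, ha⟩ : T) ⟨b, hb⟩)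
        rw [hab.mul_pow, iha, ihb, one_mul]
    | inv a _ iha => rw [inv_pow, iha, inv_one]⟩
  have hvp : IsPGroup 3 (Subgroup.zpowers v) := fun x => ⟨1, by
    rw [pow_one]
    obtain ⟨x, hx⟩ := x
    obtain ⟨n, rfl⟩ := Subgroup.mem_zpowers_iff.1 hx
    apply Subtype.ext
    show (v ^ n) ^ 3 = 1
    rw [← zpow_natCast, ← zpow_mul, mul_comm, zpow_mul, zpow_natCast, hv, one_zpow]⟩
  have hle : Subgroup.zpowers v ≤ Subgroup.normalizer (T : Set G) := by
    rw [Subgroup.zpowers_le]
    have hmap : T.map (MulAut.conj v).toMonoidHom ≤ T := by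
      rw [hT, Subgroup.map_le_iff_le_comap, Subgroup.closure_le]
      rintro a (rfl | rfl | rfl)
      · exact Subgroup.subset_closure (Or.inr (Or.inl rfl))
      · exact Subgroup.subset_closure (Or.inr (Or.inr rfl))
      · show v * w' * v⁻¹ ∈ Subgroup.closure _
        rw [hw'']; exact Subgroup.subset_closure (Or.inl rfl)
    have heq := Subgroup.eq_of_le_of_card_ge hmap
      (by rw [Subgroup.card_map_of_injective (MulAut.conj v).injective])
    rw [Subgroup.mem_normalizer_iff]
    intro t
    conv_rhs => rw [← heq, Subgroup.mem_map_equiv, MulAut.conj_symm_apply]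
    simp [mul_assoc]
  refine (hTp.to_sup_of_normal_left' hvp hle).to_le ?_
  rw [Subgroup.closure_le]
  rintro a (rfl | rfl)
  · exact Subgroup.mem_sup_left (Subgroup.subset_closure (Or.inl rfl))
  · exact Subgroup.mem_sup_right (Subgroup.mem_zpowers _)

/-- The complement. -/
theorem exists_complement_three [Finite G] {H : Type*} [Group H] [Finite H] {D : Set G}
    (hD : IsThreeTranspositionClass D) (φ : G →* H) (hφ : Function.Surjective φ)
    (hker : IsPGroup 2 φ.ker) (M : Subgroup H) (hM : IsPGroup 3 M) (hidx : M.index ≤ 2)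
    (hcard : Nat.card M ≤ 27)
    (hcen : Nat.card M = 27 → ∃ w ∈ M, w ≠ 1 ∧ ∀ h : H, h * w = w * h) :
    ∃ K : Subgroup G, φ.ker.IsComplement' K := by
  haveI : Fact (Nat.Prime 3) := ⟨Nat.prime_three⟩
  obtain ⟨hset, ⟨d, hd, hDd⟩, hgen⟩ := hD
  by_cases htriv : φ d = 1
  · have hall : ∀ e ∈ D, φ e = 1 := by
      intro e he
      rw [hDd] at he
      obtain ⟨g, rfl⟩ := isConj_iff.1 (show IsConj d e from he)
      simp [map_mul, htriv]
    have htop : φ.ker = ⊤ := by
      rw [eq_top_iff, ← hgen, Subgroup.closure_le]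
      exact fun e he => hall e he
    exact ⟨⊥, htop ▸ Subgroup.isComplement'_top_bot⟩
  have hne : ∀ e ∈ D, φ e ≠ 1 := by
    intro e he h1
    rw [hDd] at he
    obtain ⟨g, rfl⟩ := isConj_iff.1 (show IsConj d e from he)
    exact htriv (by simpa [map_mul] using h1)
  have hsq : ∀ e ∈ D, φ e * φ e = 1 := fun e he => by
    rw [← map_mul, ts_mul_self hset he, map_one]
  have hM2 : ∀ m ∈ M, m * m = 1 → m = 1 := by
    intro m hm h2
    obtain ⟨n, hn⟩ := hM ⟨m, hm⟩
    have hn' : m ^ 3 ^ n = 1 := congrArg Subtype.val hn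
    have h4 := Nat.dvd_gcd (orderOf_dvd_of_pow_eq_one hn')
      (orderOf_dvd_of_pow_eq_one (show m ^ 2 = 1 by rw [pow_two, h2]))
    have h5 : Nat.gcd (3 ^ n) 2 = 1 := Nat.Coprime.pow_left n (by norm_num)
    rw [h5, Nat.dvd_one, orderOf_eq_one_iff] at h4
    exact h4
  have hout : ∀ e ∈ D, φ e ∉ M := fun e he hm => hne e he (hM2 _ hm (hsq e he))
  have hidx2 : M.index = 2 := by
    have h0 : M.index ≠ 0 := Subgroup.index_ne_zero_of_finite
    have h1 : M.index ≠ 1 := fun h => hout d hd (by rw [Subgroup.index_eq_one.1 h]; trivial)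
    omega
  have hprod : ∀ a ∈ D, ∀ b ∈ D, φ (a * b) ∈ M := fun a ha b hb => by
    rw [map_mul, Subgroup.mul_mem_iff_of_index_two hidx2]
    exact iff_of_false (hout a ha) (hout b hb)
  have hconjD : ∀ a ∈ D, ∀ g : G, g * a * g⁻¹ ∈ D := by
    intro a ha g
    rw [hDd] at ha ⊢
    exact (show IsConj d a from ha).trans (isConj_iff.2 ⟨g, rfl⟩)
  -- the products with `d` generate `M`
  set S : Set H := {m | ∃ b ∈ D, φ (d * b) = m} with hS
  have hinv : ∀ b ∈ D, φ d * φ (d * b) * φ d = (φ (d * b))⁻¹ := fun b hb => by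
    rw [← map_mul, ← map_mul, ← map_inv]
    congr 1
    rw [← mul_assoc d d b, ts_mul_self hset hd, one_mul, mul_inv_rev, ts_inv hset hd,
      ts_inv hset hb]
  have hL : Subgroup.closure S = M := by
    refine le_antisymm ((Subgroup.closure_le _).2 ?_) fun m hm => ?_
    · rintro _ ⟨b, hb, rfl⟩; exact hprod d hd b hb
    set L := Subgroup.closure S
    have hLconj : ∀ l ∈ L, φ d * l * φ d ∈ L := by
      intro l hl
      induction hl using Subgroup.closure_induction with
      | mem t ht =>
          obtain ⟨b, hb, rfl⟩ := ht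
          rw [hinv b hb]
          exact inv_mem (Subgroup.subset_closure ⟨b, hb, rfl⟩)
      | one => rw [mul_one, hsq d hd]; exact one_mem _
      | mul a b _ _ iha ihb =>
          have : φ d * (a * b) * φ d = (φ d * a * φ d) * (φ d * b * φ d) := by
            simp only [mul_assoc]; rw [← mul_assoc (φ d) (φ d), hsq d hd, one_mul]
          rw [this]; exact mul_mem iha ihb
      | inv a _ iha =>
          have : φ d * a⁻¹ * φ d = (φ d * a * φ d)⁻¹ := by
            rw [mul_inv_rev, mul_inv_rev, inv_eq_of_mul_eq_one_right (hsq d hd), mul_assoc]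
          rw [this]; exact inv_mem iha
    have hall : ∀ g : G, φ g ∈ L ∨ φ d * φ g ∈ L := by
      intro g
      have hg : g ∈ Subgroup.closure D := by rw [hgen]; trivial
      induction hg using Subgroup.closure_induction with
      | mem t ht =>
          right; rw [← map_mul]; exact Subgroup.subset_closure ⟨t, ht, rfl⟩
      | one => left; rw [map_one]; exact one_mem _
      | mul a b _ _ iha ihb =>
          rw [map_mul]
          rcases iha with ha | ha <;> rcases ihb with hb | hb
          · left; exact mul_mem ha hb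
          · right
            have := mul_mem (hLconj _ ha) hb
            simp only [mul_assoc] at this
            rwa [← mul_assoc (φ d) (φ d) (φ b), hsq d hd, one_mul] at this
          · right; rw [← mul_assoc]; exact mul_mem ha hb
          · left
            have := mul_mem (hLconj _ ha) hb
            simp only [mul_assoc] at this
            rwa [← mul_assoc (φ d) (φ d) (φ b), hsq d hd, one_mul, ← mul_assoc (φ d) (φ d),
              hsq d hd, one_mul] at this
      | inv a _ iha =>
          rw [map_inv]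
          rcases iha with ha | ha
          · left; exact inv_mem ha
          · right
            have := hLconj _ (inv_mem ha)
            rwa [mul_inv_rev, inv_eq_of_mul_eq_one_right (hsq d hd), ← mul_assoc, mul_assoc,
              hsq d hd, mul_one] at this
    obtain ⟨g, rfl⟩ := hφ m
    rcases hall g with h | h
    · exact h
    · exfalso
      have h1 : φ d * φ g ∈ M := by
        refine ((Subgroup.closure_le M).2 ?_) h
        rintro _ ⟨b, hb, rfl⟩; exact hprod d hd b hb
      exact hout d hd ((Subgroup.mul_mem_iff_of_index_two hidx2).1 h1 |>.2 hm)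
  -- choice of two generators
  obtain ⟨b, hb, c, hc, hM', hbc⟩ : ∃ b ∈ D, ∃ c ∈ D,
      M ≤ Subgroup.closure {φ (d * b), φ (d * c)} ∧
      (b = c ∧ (b = d ∨ φ (d * b) ≠ 1) ∨ φ (d * c) ∉ Subgroup.zpowers (φ (d * b)) ∧
        φ (d * b) ≠ 1) := by
    by_cases h0 : ∀ b ∈ D, φ (d * b) = 1
    · refine ⟨d, hd, d, hd, ?_, Or.inl ⟨rfl, Or.inl rfl⟩⟩
      rw [← hL, Subgroup.closure_le]
      rintro _ ⟨b, hb, rfl⟩
      rw [h0 b hb]; exact one_mem _
    push Not at h0
    obtain ⟨b₀, hb₀, hb₀1⟩ := h0
    have hScl : ∀ m ∈ S, m ∈ M := fun m hm => hL ▸ Subgroup.subset_closure hm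
    set T : Set M := {m | (m : H) ∈ S} with hT
    have hTtop : Subgroup.closure T = ⊤ := by
      apply Subgroup.map_injective M.subtype_injective
      rw [MonoidHom.map_closure, ← MonoidHom.range_eq_map, M.range_subtype]
      conv_rhs => rw [← hL]
      congr 1
      ext m
      constructor
      · rintro ⟨x, hx, rfl⟩; exact hx
      · intro hm; exact ⟨⟨m, hScl m hm⟩, hm, rfl⟩
    haveI : Nontrivial M := ⟨⟨⟨_, hprod d hd b₀ hb₀⟩, 1, fun hh => hb₀1 (congrArg Subtype.val hh)⟩⟩
    set F := frattini M with hF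
    obtain ⟨x, hxT, hx⟩ : ∃ x ∈ T, x ∉ F := by
      by_contra hno
      push Not at hno
      exact CfsgLib.PGroups.frattini_ne_top (G := M)
        (eq_top_iff.2 (hTtop ▸ (Subgroup.closure_le _).2 hno))
    have hxne : (x : H) ≠ 1 := fun hh => hx (by rw [show x = 1 from Subtype.ext hh]; exact one_mem _)
    by_cases h1 : Subgroup.zpowers x ⊔ F = ⊤
    · obtain ⟨b, hb, hbx⟩ := hxT
      refine ⟨b, hb, b, hb, fun m hm => ?_, Or.inl ⟨rfl, Or.inr (hbx ▸ hxne)⟩⟩
      have hz : Subgroup.zpowers x = ⊤ := frattini_nongenerating h1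
      obtain ⟨n, hn⟩ := Subgroup.mem_zpowers_iff.1
        (show (⟨m, hm⟩ : M) ∈ Subgroup.zpowers x by rw [hz]; trivial)
      have hmn : (x : H) ^ n = m := congrArg Subtype.val hn
      rw [← hmn, hbx]
      exact Subgroup.zpow_mem _ (Subgroup.subset_closure (Set.mem_insert _ _)) n
    obtain ⟨y, hyT, hy⟩ : ∃ y ∈ T, y ∉ Subgroup.zpowers x ⊔ F := by
      by_contra hno
      push Not at hno
      exact h1 (eq_top_iff.2 (hTtop ▸ (Subgroup.closure_le _).2 hno))
    have hjoin : Subgroup.closure ({x, y} : Set M) ⊔ F = ⊤ := by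
      by_contra hne'
      set J := Subgroup.closure ({x, y} : Set M) ⊔ F
      have l1 : F < Subgroup.zpowers x ⊔ F := lt_of_le_of_ne le_sup_right
        (fun he => hx (he ▸ Subgroup.mem_sup_left (Subgroup.mem_zpowers x)))
      have l2 : Subgroup.zpowers x ⊔ F < J := by
        refine lt_of_le_of_ne (sup_le_sup_right ?_ _) (fun he => hy ?_)
        · rw [Subgroup.zpowers_le]; exact Subgroup.subset_closure (Or.inl rfl)
        · rw [he]; exact Subgroup.mem_sup_left (Subgroup.subset_closure (Or.inr rfl))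
      have l3 : J < ⊤ := lt_top_iff_ne_top.2 hne'
      have step : ∀ A B : Subgroup M, A < B → 3 * Nat.card A ≤ Nat.card B := by
        intro A B hAB
        obtain ⟨i, hi⟩ := CfsgLib.PGroups.card_subgroup_eq_pow hM A
        obtain ⟨j, hj⟩ := CfsgLib.PGroups.card_subgroup_eq_pow hM B
        have hlt : Nat.card A < Nat.card B := by
          refine lt_of_le_of_ne (Nat.le_of_dvd Nat.card_pos (Subgroup.card_dvd_of_le hAB.le)) ?_
          exact fun he => hAB.ne (Subgroup.eq_of_le_of_card_ge hAB.le he.ge)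
        rw [hi, hj] at hlt ⊢
        rw [← pow_succ']
        exact Nat.pow_le_pow_right (by norm_num)
          ((Nat.pow_lt_pow_iff_right (by norm_num)).1 hlt)
      have s1 := step _ _ l1
      have s2 := step _ _ l2
      have s3 := step _ _ l3
      rw [Subgroup.card_top] at s3
      have hFpos : 0 < Nat.card F := Nat.card_pos
      have hF1 : Nat.card F = 1 := by omega
      have hM27 : Nat.card M = 27 := by omega
      have hFbot : F = ⊥ := Subgroup.card_eq_one.1 hF1
      obtain ⟨w, hwM, hw1, hwc⟩ := hcen hM27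
      have hab : ∀ a b : M, a * b = b * a := by
        intro a b
        have h : ⁅a, b⁆ ∈ F := CfsgLib.PGroups.commutator_le_frattini hM
          (Subgroup.commutator_mem_commutator (Subgroup.mem_top a) (Subgroup.mem_top b))
        rw [hFbot, Subgroup.mem_bot] at h
        exact commutatorElement_eq_one_iff_mul_comm.1 h
      have hinvM : ∀ m ∈ M, φ d * m * φ d = m⁻¹ := by
        intro m hm
        rw [← hL] at hm
        induction hm using Subgroup.closure_induction with
        | mem t ht => obtain ⟨b, hb, rfl⟩ := ht; exact hinv b hb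
        | one => rw [mul_one, hsq d hd, inv_one]
        | mul a b ha hb iha ihb =>
            have hcomm : a * b = b * a :=
              congrArg Subtype.val (hab ⟨a, hL ▸ ha⟩ ⟨b, hL ▸ hb⟩)
            have : φ d * (a * b) * φ d = (φ d * a * φ d) * (φ d * b * φ d) := by
              simp only [mul_assoc]; rw [← mul_assoc (φ d) (φ d), hsq d hd, one_mul]
            rw [this, iha, ihb, ← mul_inv_rev, hcomm]
        | inv a _ iha =>
            rw [inv_inv]
            have := congrArg Inv.inv iha
            rwa [inv_inv, mul_inv_rev, mul_inv_rev, inv_eq_of_mul_eq_one_right (hsq d hd),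
              ← mul_assoc] at this
      refine hw1 (hM2 w hwM ?_)
      have h' := hinvM w hwM
      rw [hwc (φ d), mul_assoc, hsq d hd, mul_one] at h'
      nth_rw 1 [h']
      exact inv_mul_cancel w
    obtain ⟨b, hb, hbx⟩ := hxT
    obtain ⟨c, hc, hcy⟩ := hyT
    refine ⟨b, hb, c, hc, fun m hm => ?_, Or.inr ⟨fun hh => hy ?_, hbx ▸ hxne⟩⟩
    · have hz := frattini_nongenerating hjoin
      have hm' : (⟨m, hm⟩ : M) ∈ Subgroup.closure ({x, y} : Set M) := by rw [hz]; trivial
      have := Subgroup.mem_map_of_mem M.subtype hm'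
      rw [MonoidHom.map_closure, Set.image_pair] at this
      rw [hbx, hcy]
      exact this
    · rw [hbx, hcy] at hh
      obtain ⟨n, hn⟩ := Subgroup.mem_zpowers_iff.1 hh
      exact Subgroup.mem_sup_left ⟨n, Subtype.ext hn⟩
  -- cube relations
  have hcub : ∀ a ∈ D, ∀ e ∈ D, φ (a * e) ≠ 1 → (a * e) ^ 3 = 1 := by
    intro a ha e he h1
    refine (hset.2 a ha e he).resolve_left fun h2 => h1 (hM2 _ (hprod a ha e he) ?_)
    rw [← map_mul, ← pow_two, h2, map_one]
  set u := d * b with hu
  set v := d * c with hv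
  have hrel : u ^ 3 = 1 ∧ v ^ 3 = 1 ∧ (u * v) ^ 3 = 1 ∧ (u * v⁻¹) ^ 3 = 1 := by
    rcases hbc with ⟨hbceq, hb'⟩ | ⟨hvu, hu1⟩
    · have hu3 : u ^ 3 = 1 := by
        rcases hb' with rfl | hb'
        · rw [hu, ts_mul_self hset hd, one_pow]
        · exact hcub d hd b hb hb'
      have : v = u := by rw [hu, hv, hbceq]
      rw [this]
      refine ⟨hu3, hu3, ?_, by simp⟩
      rw [(Commute.refl u).mul_pow, hu3, one_mul]
    · have hv1 : φ v ≠ 1 := fun hh => hvu (hh ▸ one_mem _)
      refine ⟨hcub d hd b hb hu1, hcub d hd c hc hv1, ?_, ?_⟩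
      · have e : u * v = (d * b * d⁻¹) * c := by
          rw [ts_inv hset hd]; simp [hu, hv, mul_assoc]
        have hne' : φ (u * v) ≠ 1 := fun hh => hvu (by
          rw [map_mul] at hh
          rw [eq_inv_of_mul_eq_one_right hh]
          exact inv_mem (Subgroup.mem_zpowers _))
        rw [e] at hne' ⊢
        exact hcub _ (hconjD b hb d) c hc hne'
      · have e : u * v⁻¹ = d * (b * c) * d⁻¹ := by
          rw [hu, hv, mul_inv_rev, ts_inv hset hc, ts_inv hset hd]; simp [mul_assoc]
        rw [e, conj_pow, hcub b hb c hc (fun hh => hvu ?_)]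
        · simp
        have : φ (u * v⁻¹) = 1 := by rw [e, map_mul, map_mul, hh, mul_one, ← map_mul]; simp
        rw [map_mul, map_inv, mul_inv_eq_one] at this
        rw [← this]; exact Subgroup.mem_zpowers _
  set N₀ := Subgroup.closure ({u, v} : Set G) with hN₀
  have hN₀p : IsPGroup 3 N₀ := isPGroup_closure_pair hrel.1 hrel.2.1 hrel.2.2.1 hrel.2.2.2
  set K := Subgroup.zpowers d ⊔ N₀ with hK
  have hdn : Subgroup.zpowers d ≤ Subgroup.normalizer (N₀ : Set G) := by
    rw [Subgroup.zpowers_le]
    have hgen' : ∀ y, y = u ∨ y = v → d * y * d⁻¹ = y⁻¹ := by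
      rintro y (rfl | rfl)
      · rw [hu, mul_inv_rev, ts_inv hset hd, ts_inv hset hb, ← mul_assoc d d b,
          ts_mul_self hset hd, one_mul]
      · rw [hv, mul_inv_rev, ts_inv hset hd, ts_inv hset hc, ← mul_assoc d d c,
          ts_mul_self hset hd, one_mul]
    have hmap : N₀.map (MulAut.conj d).toMonoidHom ≤ N₀ := by
      rw [hN₀, Subgroup.map_le_iff_le_comap, Subgroup.closure_le]
      intro y hy
      show d * y * d⁻¹ ∈ Subgroup.closure _
      rw [hgen' y hy]
      exact inv_mem (Subgroup.subset_closure hy)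
    have heq := Subgroup.eq_of_le_of_card_ge hmap
      (by rw [Subgroup.card_map_of_injective (MulAut.conj d).injective])
    rw [Subgroup.mem_normalizer_iff]
    intro t
    conv_rhs => rw [← heq, Subgroup.mem_map_equiv, MulAut.conj_symm_apply]
    simp [mul_assoc]
  have hKdec : ∀ k ∈ K, k ∈ N₀ ∨ ∃ n ∈ N₀, k = d * n := by
    intro k hk
    rw [hK, ← SetLike.mem_coe, Subgroup.coe_mul_of_left_le_normalizer_right _ _ hdn,
      Set.mem_mul] at hk
    obtain ⟨z, hz, n, hn, rfl⟩ := hk
    obtain ⟨i, rfl⟩ := Subgroup.mem_zpowers_iff.1 hz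
    rcases Int.even_or_odd i with ⟨j, rfl⟩ | ⟨j, rfl⟩
    · left
      rw [← two_mul, zpow_mul, zpow_two, ts_mul_self hset hd, one_zpow, one_mul]; exact hn
    · right
      exact ⟨n, hn, by
        rw [zpow_add, zpow_mul, zpow_two, ts_mul_self hset hd, one_zpow, one_mul, zpow_one]⟩
  have hN₀M : ∀ n ∈ N₀, φ n ∈ M := by
    intro n hn
    refine ((Subgroup.closure_le (M.comap φ)).2 ?_) hn
    rintro y (rfl | rfl)
    exacts [hprod d hd b hb, hprod d hd c hc]
  refine ⟨K, Subgroup.isComplement'_of_disjoint_and_mul_eq_univ ?_ ?_⟩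
  · rw [Subgroup.disjoint_def]
    intro k hk hkK
    rcases hKdec k hkK with hn | ⟨n, hn, rfl⟩
    · obtain ⟨i, hi⟩ := hker ⟨k, hk⟩
      obtain ⟨j, hj⟩ := hN₀p ⟨k, hn⟩
      have hi' : k ^ 2 ^ i = 1 := congrArg Subtype.val hi
      have hj' : k ^ 3 ^ j = 1 := congrArg Subtype.val hj
      have h4 := Nat.dvd_gcd (orderOf_dvd_of_pow_eq_one hi') (orderOf_dvd_of_pow_eq_one hj')
      have h5 : Nat.gcd (2 ^ i) (3 ^ j) = 1 := Nat.Coprime.pow i j (by norm_num)
      rw [h5, Nat.dvd_one, orderOf_eq_one_iff] at h4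
      exact h4
    · exfalso
      rw [MonoidHom.mem_ker, map_mul] at hk
      exact hout d hd (by rw [eq_inv_of_mul_eq_one_left hk]; exact inv_mem (hN₀M n hn))
  · have hKd : d ∈ K := Subgroup.mem_sup_left (Subgroup.mem_zpowers d)
    have hmem : ∀ h : H, h ∈ K.map φ := by
      intro h
      have hM'' : M ≤ K.map φ := by
        refine hM'.trans ?_
        rw [Subgroup.closure_le]
        rintro y (rfl | rfl)
        · exact ⟨u, Subgroup.mem_sup_right (Subgroup.subset_closure (Or.inl rfl)), rfl⟩
        · exact ⟨v, Subgroup.mem_sup_right (Subgroup.subset_closure (Or.inr rfl)), rfl⟩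
      by_cases hh : h ∈ M
      · exact hM'' hh
      · have h1 : φ d * h ∈ M := (Subgroup.mul_mem_iff_of_index_two hidx2).2
          (iff_of_false (hout d hd) hh)
        have h2 := mul_mem (show φ d ∈ K.map φ from ⟨d, hKd, rfl⟩) (hM'' h1)
        rwa [← mul_assoc, hsq d hd, one_mul] at h2
    rw [Set.eq_univ_iff_forall]
    intro g
    obtain ⟨k, hk, hkg⟩ := hmem (φ g)
    exact ⟨g * k⁻¹, by simp [MonoidHom.mem_ker, hkg], k, hk, by simp⟩

open CfsgLib.Classical in
/-- Structure of the derived subgroup of `SU₃(2)`. -/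
theorem su32_derived {F : Type*} [Field F] [Fintype F] (hF : Fintype.card F = 4) :
    ∃ M : Subgroup ↥(commutator ↥(Cfsg.SU 3 F 2)), IsPGroup 3 M ∧ M.index ≤ 2 ∧
      Nat.card M ≤ 27 ∧ (Nat.card M = 27 → ∃ w ∈ M, w ≠ 1 ∧ ∀ h, h * w = w * h) := by
  haveI : Fact (Nat.Prime 3) := ⟨Nat.prime_three⟩
  have hF' : Nat.card F = 2 ^ 2 := by rw [Nat.card_eq_fintype_card, hF]; norm_num
  obtain ⟨hc, N, hN, hN9, -, ⟨e⟩⟩ := Unitary.psu32_structure (q := 2) hF' rfl
  have hZ : Nat.card (Subgroup.center (Cfsg.SU 3 F 2)) = 3 := by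
    rw [card_center_SU hF' (by norm_num)]; rfl
  set S := ↥(Cfsg.SU 3 F 2)
  let π := QuotientGroup.mk' (Subgroup.center S)
  set P := N.comap π with hP
  have hPc : Nat.card P = 27 := by
    have h2 := P.card_mul_index
    rw [hP, Subgroup.index_comap_of_surjective _ (QuotientGroup.mk'_surjective _)] at h2
    have h3 := N.card_mul_index
    rw [hN9, hc] at h3
    rw [Subgroup.card_eq_card_quotient_mul_card_subgroup (Subgroup.center S), hZ,
      show Nat.card (S ⧸ Subgroup.center S) = 72 from hc] at h2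
    have hi : N.index = 8 := by omega
    rw [hi] at h2
    rw [hP]
    omega
  let ψ : ↥(commutator S) →* QuaternionGroup 2 :=
    e.toMonoidHom.comp ((QuotientGroup.mk' N).comp (π.comp (commutator S).subtype))
  have hker : ψ.ker = P.subgroupOf (commutator S) := by
    ext x
    rw [MonoidHom.mem_ker, Subgroup.mem_subgroupOf, hP, Subgroup.mem_comap]
    show e (QuotientGroup.mk' N (π x)) = 1 ↔ _
    rw [← map_one e, e.injective.eq_iff]
    exact QuotientGroup.eq_one_iff _
  set M := P.subgroupOf (commutator S) with hMdef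
  have hdvd : Nat.card M ∣ 27 := by
    rw [hMdef, ← Subgroup.card_map_of_injective (commutator S).subtype_injective,
      Subgroup.subgroupOf_map_subtype, ← hPc]
    exact Subgroup.card_dvd_of_le inf_le_left
  refine ⟨M, ?_, ?_, Nat.le_of_dvd (by norm_num) hdvd, fun h27 => ?_⟩
  · obtain ⟨k, -, hk⟩ := (Nat.dvd_prime_pow Nat.prime_three).1
      (show Nat.card M ∣ 3 ^ 3 by rw [show (3 : ℕ) ^ 3 = 27 by norm_num]; exact hdvd)
    exact IsPGroup.of_card hk
  · rw [← hker, Subgroup.index_ker]
    have hrange : ψ.range ≤ Subgroup.zpowers (QuaternionGroup.a 2) := by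
      have hq : ∀ x y : QuaternionGroup 2, ⁅x, y⁆ = 1 ∨ ⁅x, y⁆ = QuaternionGroup.a 2 := by
        decide
      have hcm : commutator (QuaternionGroup 2) ≤ Subgroup.zpowers (QuaternionGroup.a 2) := by
        rw [commutator_def, Subgroup.commutator_le]
        intro x _ y _
        rcases hq x y with h | h <;> rw [h]
        exacts [one_mem _, Subgroup.mem_zpowers _]
      rintro _ ⟨⟨x, hx⟩, rfl⟩
      refine hcm ?_
      let χ : S →* QuaternionGroup 2 := e.toMonoidHom.comp ((QuotientGroup.mk' N).comp π)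
      have : (commutator S).map χ ≤ commutator (QuaternionGroup 2) := by
        rw [commutator_def, commutator_def, Subgroup.map_commutator]
        exact Subgroup.commutator_mono le_top le_top
      exact this ⟨x, hx, rfl⟩
    refine le_trans (Nat.le_of_dvd Nat.card_pos (Subgroup.card_dvd_of_le hrange)) ?_
    rw [Nat.card_zpowers]
    exact orderOf_le_of_pow_eq_one (by norm_num) (by decide)
  · have hle : P ≤ commutator S := by
      have h1 : Nat.card ↥(P ⊓ commutator S) = 27 := by
        rw [← Subgroup.subgroupOf_map_subtype,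
          Subgroup.card_map_of_injective (commutator S).subtype_injective]
        exact h27
      have h2 := Subgroup.eq_of_le_of_card_ge (inf_le_left : P ⊓ commutator S ≤ P)
        (by rw [h1, hPc])
      rw [← h2]; exact inf_le_right
    haveI : Finite (Subgroup.center S) := Nat.finite_of_card_ne_zero (by rw [hZ]; norm_num)
    haveI : Nontrivial (Subgroup.center S) := Finite.one_lt_card_iff_nontrivial.1 (by rw [hZ]; norm_num)
    obtain ⟨⟨z, hz⟩, hz1⟩ := exists_ne (1 : Subgroup.center S)
    have hzP : z ∈ P := by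
      rw [hP, Subgroup.mem_comap,
        show π z = 1 from (QuotientGroup.eq_one_iff z).2 hz]
      exact one_mem _
    exact ⟨⟨z, hle hzP⟩, hzP, fun h => hz1 (Subtype.ext (show z = 1 from congrArg Subtype.val h)),
      fun h => Subtype.ext (Subgroup.mem_center_iff.1 hz h)⟩

end CfsgLib.ThreeTransp
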