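import Mathlib
import Cfsg.Agent.Lib.ThreeTransp.SmallComplement
import Cfsg.Agent.Lib.Spor.FourField

/-!
Groups of order 6 and 54 generated by two elements of order three and an involution inverting both,
with the derived subgroup of `SU₃(2)` as the model in order 54.
-/

set_option autoImplicit false
set_option linter.style.haveILetI false

namespace CfsgLib.ThreeTransp.HeisTwo

open scoped commutatorElement Pointwise

variable {G G' : Type*} [Group G] [Group G']

/-- The relations: `x`, `y` of exponent three, `⁅x, y⁆` commuting with both, `s` inverting both. -/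
structure Rels (x y s : G) : Prop where
  hx : x ^ 3 = 1
  hy : y ^ 3 = 1
  hs : s * s = 1
  hzx : x * ⁅x, y⁆ = ⁅x, y⁆ * x
  hzy : y * ⁅x, y⁆ = ⁅x, y⁆ * y
  hsx : s * x * s = x⁻¹
  hsy : s * y * s = y⁻¹

theorem card_sup_le [Finite G] (A B : Subgroup G) (h : B ≤ Subgroup.normalizer (A : Set G)) :
    Nat.card ↥(A ⊔ B) ≤ Nat.card A * Nat.card B := by
  rw [← Nat.card_prod]
  refine Nat.card_le_card_of_surjective
    (fun p : A × B => (⟨p.1 * p.2, Subgroup.mul_mem_sup p.1.2 p.2.2⟩ : ↥(A ⊔ B))) ?_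
  rintro ⟨g, hg⟩
  have hc : g ∈ ((A : Set G) * (B : Set G)) := by
    rw [← Subgroup.coe_mul_of_right_le_normalizer_left A B h]; exact hg
  obtain ⟨u, hu, v, hv, rfl⟩ := hc
  exact ⟨(⟨u, hu⟩, ⟨v, hv⟩), rfl⟩

theorem zpowers_le_normalizer [Finite G] {S : Set G} {A : Subgroup G} (hA : A = Subgroup.closure S)
    {g : G} (h : ∀ t ∈ S, g * t * g⁻¹ ∈ A) :
    Subgroup.zpowers g ≤ Subgroup.normalizer (A : Set G) := by
  rw [Subgroup.zpowers_le]
  refine Subgroup.mem_normalizer_fintype fun t ht => ?_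
  have hle : A ≤ A.comap (MulAut.conj g).toMonoidHom := by
    conv_lhs => rw [hA]
    rw [Subgroup.closure_le]
    exact fun u hu => by simpa using h u hu
  simpa using hle ht

theorem card_zpowers_le {g : G} {n : ℕ} (hn : 0 < n) (h : g ^ n = 1) :
    Nat.card (Subgroup.zpowers g) ≤ n := by
  rw [Nat.card_zpowers]; exact Nat.le_of_dvd hn (orderOf_dvd_of_pow_eq_one h)

theorem Rels.z_cube {x y s : G} (h : Rels x y s) : ⁅x, y⁆ ^ 3 = 1 := by
  have h1 : (x * y * x⁻¹) ^ 3 = 1 := by rw [conj_pow, h.hy]; simp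
  have h2 : x * y * x⁻¹ = ⁅x, y⁆ * y := by rw [commutatorElement_def]; group
  rw [h2, (show Commute ⁅x, y⁆ y from h.hzy.symm).mul_pow, h.hy, mul_one] at h1
  exact h1

theorem Rels.card_pair_le [Finite G] {x y s : G} (h : Rels x y s) :
    Nat.card (Subgroup.closure ({x, y} : Set G)) ≤ 27 := by
  set z := ⁅x, y⁆ with hz
  have hA : Subgroup.zpowers y ⊔ Subgroup.zpowers z = Subgroup.closure ({y, z} : Set G) := by
    rw [Subgroup.zpowers_eq_closure, Subgroup.zpowers_eq_closure, ← Subgroup.closure_union,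
      Set.singleton_union]
  set A := Subgroup.zpowers y ⊔ Subgroup.zpowers z with hAdef
  have hyA : y ∈ A := Subgroup.mem_sup_left (Subgroup.mem_zpowers y)
  have hzA : z ∈ A := Subgroup.mem_sup_right (Subgroup.mem_zpowers z)
  have hA9 : Nat.card A ≤ 9 := by
    refine (card_sup_le _ _ (zpowers_le_normalizer (S := {y}) (Subgroup.zpowers_eq_closure y)
      fun t ht => ?_)).trans (Nat.mul_le_mul (card_zpowers_le (by norm_num) h.hy)
        (card_zpowers_le (by norm_num) h.z_cube))
    rw [Set.mem_singleton_iff] at ht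
    subst ht
    rw [← h.hzy, mul_inv_cancel_right]
    exact Subgroup.mem_zpowers _
  have hle : Subgroup.closure ({x, y} : Set G) ≤ A ⊔ Subgroup.zpowers x := by
    rw [Subgroup.closure_le]
    rintro t (rfl | rfl)
    exacts [Subgroup.mem_sup_right (Subgroup.mem_zpowers _), Subgroup.mem_sup_left hyA]
  refine (Subgroup.card_le_of_le hle).trans ?_
  refine (card_sup_le _ _ (zpowers_le_normalizer hA ?_)).trans
    (Nat.mul_le_mul hA9 (card_zpowers_le (by norm_num) h.hx))
  rintro t (rfl | rfl)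
  · have : x * t * x⁻¹ = z * t := by rw [hz, commutatorElement_def]; group
    rw [this]; exact mul_mem hzA hyA
  · rw [h.hzx, mul_inv_cancel_right]; exact hzA

theorem Rels.card_le [Finite G] {x y s : G} (h : Rels x y s) :
    Nat.card (Subgroup.closure ({x, y, s} : Set G)) ≤
      Nat.card (Subgroup.closure ({x, y} : Set G)) * 2 := by
  set N := Subgroup.closure ({x, y} : Set G) with hN
  have hle : Subgroup.closure ({x, y, s} : Set G) ≤ N ⊔ Subgroup.zpowers s := by
    rw [Subgroup.closure_le]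
    rintro t (rfl | rfl | rfl)
    exacts [Subgroup.mem_sup_left (Subgroup.subset_closure (Or.inl rfl)),
      Subgroup.mem_sup_left (Subgroup.subset_closure (Or.inr rfl)),
      Subgroup.mem_sup_right (Subgroup.mem_zpowers _)]
  refine (Subgroup.card_le_of_le hle).trans ?_
  refine (card_sup_le _ _ (zpowers_le_normalizer hN ?_)).trans
    (Nat.mul_le_mul_left _ (card_zpowers_le (by norm_num) (by rw [pow_two, h.hs])))
  rw [inv_eq_of_mul_eq_one_right h.hs]
  rintro t (rfl | rfl)
  · rw [h.hsx]; exact inv_mem (Subgroup.subset_closure (Or.inl rfl))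
  · rw [h.hsy]; exact inv_mem (Subgroup.subset_closure (Or.inr rfl))

theorem Rels.prod {x y s : G} {x' y' s' : G'} (h : Rels x y s) (h' : Rels x' y' s') :
    Rels (x, x') (y, y') (s, s') :=
  ⟨Prod.ext h.hx h'.hx, Prod.ext h.hy h'.hy, Prod.ext h.hs h'.hs, Prod.ext h.hzx h'.hzx,
    Prod.ext h.hzy h'.hzy, Prod.ext h.hsx h'.hsx, Prod.ext h.hsy h'.hsy⟩

/-- If the pairs generate a subgroup of the product no larger than either factor, the factors are
isomorphic. -/
theorem iso_of_pairs [Finite G] [Finite G'] (K : Subgroup (G × G'))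
    (h1 : Function.Surjective ((MonoidHom.fst G G').comp K.subtype))
    (h2 : Function.Surjective ((MonoidHom.snd G G').comp K.subtype))
    (c1 : Nat.card K ≤ Nat.card G) (c2 : Nat.card K ≤ Nat.card G') :
    Nonempty (G ≃* G') := by
  have b1 := h1.bijective_of_nat_card_le c1
  have b2 := h2.bijective_of_nat_card_le c2
  exact ⟨(MulEquiv.ofBijective _ b1).symm.trans (MulEquiv.ofBijective _ b2)⟩

theorem surjective_of_gens {H : Type*} [Group H] (f : H →* G) {S : Set G}
    (hS : Subgroup.closure S = ⊤) (h : ∀ t ∈ S, ∃ u, f u = t) : Function.Surjective f := by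
  intro g
  have hle : Subgroup.closure S ≤ f.range := (Subgroup.closure_le _).2 h
  exact hle (hS ▸ Subgroup.mem_top g)

theorem gens_surjective {x y s : G} {x' y' s' : G'}
    (hg : Subgroup.closure ({x, y, s} : Set G) = ⊤)
    (hg' : Subgroup.closure ({x', y', s'} : Set G') = ⊤) :
    Function.Surjective ((MonoidHom.fst G G').comp
      (Subgroup.closure ({(x, x'), (y, y'), (s, s')} : Set (G × G'))).subtype) ∧
    Function.Surjective ((MonoidHom.snd G G').comp
      (Subgroup.closure ({(x, x'), (y, y'), (s, s')} : Set (G × G'))).subtype) := by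
  constructor
  · refine surjective_of_gens _ hg ?_
    rintro t (rfl | rfl | rfl)
    exacts [⟨⟨_, Subgroup.subset_closure (Or.inl rfl)⟩, rfl⟩,
      ⟨⟨_, Subgroup.subset_closure (Or.inr (Or.inl rfl))⟩, rfl⟩,
      ⟨⟨_, Subgroup.subset_closure (Or.inr (Or.inr rfl))⟩, rfl⟩]
  · refine surjective_of_gens _ hg' ?_
    rintro t (rfl | rfl | rfl)
    exacts [⟨⟨_, Subgroup.subset_closure (Or.inl rfl)⟩, rfl⟩,
      ⟨⟨_, Subgroup.subset_closure (Or.inr (Or.inl rfl))⟩, rfl⟩,
      ⟨⟨_, Subgroup.subset_closure (Or.inr (Or.inr rfl))⟩, rfl⟩]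

/-- Two groups of order 54 with such generators are isomorphic. -/
theorem iso_fiftyfour [Finite G] [Finite G'] {x y s : G} {x' y' s' : G'} (h : Rels x y s)
    (h' : Rels x' y' s') (hg : Subgroup.closure ({x, y, s} : Set G) = ⊤)
    (hg' : Subgroup.closure ({x', y', s'} : Set G') = ⊤) (hc : Nat.card G = 54)
    (hc' : Nat.card G' = 54) : Nonempty (G ≃* G') := by
  have hK : Nat.card (Subgroup.closure ({(x, x'), (y, y'), (s, s')} : Set (G × G'))) ≤ 54 :=
    (h.prod h').card_le.trans (Nat.mul_le_mul_right 2 (h.prod h').card_pair_le)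
  exact iso_of_pairs _ (gens_surjective hg hg').1 (gens_surjective hg hg').2
    (hc ▸ hK) (hc' ▸ hK)

/-- Two groups of order 6 generated by an element of order three and an involution inverting it
are isomorphic. -/
theorem iso_six [Finite G] [Finite G'] {x s : G} {x' s' : G'} (h : Rels x 1 s)
    (h' : Rels x' 1 s') (hg : Subgroup.closure ({x, 1, s} : Set G) = ⊤)
    (hg' : Subgroup.closure ({x', 1, s'} : Set G') = ⊤) (hc : Nat.card G = 6)
    (hc' : Nat.card G' = 6) : Nonempty (G ≃* G') := by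
  have hle : Subgroup.closure ({(x, x'), (1, 1)} : Set (G × G')) ≤ Subgroup.zpowers (x, x') := by
    rw [Subgroup.closure_le]
    rintro t (rfl | rfl)
    exacts [Subgroup.mem_zpowers _, one_mem _]
  have h3 : Nat.card (Subgroup.closure ({(x, x'), (1, 1)} : Set (G × G'))) ≤ 3 :=
    (Subgroup.card_le_of_le hle).trans (card_zpowers_le (by norm_num) (h.prod h').hx)
  have hK : Nat.card (Subgroup.closure ({(x, x'), (1, 1), (s, s')} : Set (G × G'))) ≤ 6 :=
    (h.prod h').card_le.trans (Nat.mul_le_mul_right 2 h3)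
  exact iso_of_pairs _ (gens_surjective hg hg').1 (gens_surjective hg hg').2
    (hc ▸ hK) (hc' ▸ hK)

/-- Two such non-commuting elements of order three in a 3-group generate a group of order 27. -/
theorem Rels.card_pair_eq [Finite G] {x y s : G} (h : Rels x y s)
    (hp : IsPGroup 3 (Subgroup.closure ({x, y} : Set G))) (hne : x * y ≠ y * x) :
    Nat.card (Subgroup.closure ({x, y} : Set G)) = 27 := by
  haveI : Fact (Nat.Prime 3) := ⟨Nat.prime_three⟩
  set N := Subgroup.closure ({x, y} : Set G) with hN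
  have hle := h.card_pair_le
  have hxN : x ∈ N := Subgroup.subset_closure (Or.inl rfl)
  have hyN : y ∈ N := Subgroup.subset_closure (Or.inr rfl)
  have hnc : ¬ ∀ u v : N, u * v = v * u := fun hc =>
    hne (congrArg Subtype.val (hc ⟨x, hxN⟩ ⟨y, hyN⟩))
  obtain ⟨n, hn⟩ := IsPGroup.iff_card.1 hp
  rcases Nat.lt_or_ge n 3 with hn3 | hn3
  · exfalso
    interval_cases n
    · haveI : Subsingleton N := (Nat.card_eq_one_iff_unique.1 (by simpa using hn)).1
      exact hnc fun u v => Subsingleton.elim _ _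
    · haveI : IsCyclic N := isCyclic_of_prime_card (p := 3) (by simpa using hn)
      obtain ⟨g, hg⟩ := IsCyclic.exists_generator (α := N)
      refine hnc fun u v => ?_
      obtain ⟨i, rfl⟩ := Subgroup.mem_zpowers_iff.1 (hg u)
      obtain ⟨j, rfl⟩ := Subgroup.mem_zpowers_iff.1 (hg v)
      exact zpow_mul_comm g i j
    · exact hnc fun u v => (IsPGroup.commutative_of_card_eq_prime_sq hn) u v
  · have h27 : 27 ≤ Nat.card N := by
      rw [hn]; calc (27 : ℕ) = 3 ^ 3 := by norm_num
        _ ≤ 3 ^ n := Nat.pow_le_pow_right (by norm_num) hn3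
    exact le_antisymm hle h27

theorem card_closure_ge [Finite G] {x y s : G} (hp : Nat.card (Subgroup.closure ({x, y} : Set G)) = 27)
    (hs : orderOf s = 2) : 54 ≤ Nat.card (Subgroup.closure ({x, y, s} : Set G)) := by
  have h1 : 27 ∣ Nat.card (Subgroup.closure ({x, y, s} : Set G)) := by
    rw [← hp]
    refine Subgroup.card_dvd_of_le (Subgroup.closure_mono ?_)
    rintro t (rfl | rfl)
    exacts [Or.inl rfl, Or.inr (Or.inl rfl)]
  have h2 : 2 ∣ Nat.card (Subgroup.closure ({x, y, s} : Set G)) := by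
    rw [← hs]
    exact Subgroup.orderOf_dvd_natCard _ (Subgroup.subset_closure (Or.inr (Or.inr rfl)))
  have h3 := (show Nat.Coprime 27 2 by norm_num).mul_dvd_of_dvd_of_dvd h1 h2
  exact Nat.le_of_dvd Nat.card_pos h3

/-! ### The model in `SU₃(2)` -/

open CfsgLib.Spor Matrix

/-- the element `ω` of the field of four elements -/
def w : QField := ⟨2⟩
/-- the element `ω²` of the field of four elements -/
def w2 : QField := ⟨3⟩

def MX : Matrix.SpecialLinearGroup (Fin 3) QField := ⟨!![w, 0, 0; 0, w2, 0; 0, 0, 1], by decide +kernel⟩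
def MY : Matrix.SpecialLinearGroup (Fin 3) QField := ⟨!![0, 1, 0; 0, 0, 1; 1, 0, 0], by decide +kernel⟩
def MS : Matrix.SpecialLinearGroup (Fin 3) QField := ⟨!![0, 1, 0; 1, 0, 0; 0, 0, 1], by decide +kernel⟩
def MA : Matrix.SpecialLinearGroup (Fin 3) QField :=
  ⟨!![1, w, 1; w, 1, 1; w, w, w2], by decide +kernel⟩
def MB : Matrix.SpecialLinearGroup (Fin 3) QField :=
  ⟨!![1, w, w; w, 1, w; 1, 1, w2], by decide +kernel⟩

theorem preserves : ∀ g ∈ [MX, MY, MS, MA, MB],
    g.1ᵀ * g.1.map (fun t : QField => t * t) = 1 := by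
  have e1 : MX.1ᵀ * MX.1.map (fun t : QField => t * t) = 1 := by decide +kernel
  have e2 : MY.1ᵀ * MY.1.map (fun t : QField => t * t) = 1 := by decide +kernel
  have e3 : MS.1ᵀ * MS.1.map (fun t : QField => t * t) = 1 := by decide +kernel
  have e4 : MA.1ᵀ * MA.1.map (fun t : QField => t * t) = 1 := by decide +kernel
  have e5 : MB.1ᵀ * MB.1.map (fun t : QField => t * t) = 1 := by decide +kernel
  intro g hg
  simp only [List.mem_cons, List.not_mem_nil, or_false] at hg
  rcases hg with rfl | rfl | rfl | rfl | rfl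
  exacts [e1, e2, e3, e4, e5]

theorem mem_SU_of_matrix {g : Matrix.SpecialLinearGroup (Fin 3) QField}
    (h : g.1ᵀ * g.1.map (fun t : QField => t * t) = 1) : g ∈ Cfsg.SU 3 QField 2 := by
  rw [CfsgLib.Classical.mem_SU_iff]
  intro u v
  haveI : CharP QField 2 := by
    apply CharP.charP_iff_prime_eq_zero (R := QField) Nat.prime_two |>.2
    decide +kernel
  let σ : QField →+* QField := frobenius QField 2
  have hσ : ∀ t, σ t = t ^ 2 := fun t => rfl
  have hf : ∀ u v : Fin 3 → QField, Cfsg.hermForm 3 QField 2 u v = u ⬝ᵥ (σ ∘ v) := fun u v => by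
    simp [Cfsg.hermForm, dotProduct, hσ]
  have hm : g.1.map σ = g.1.map (fun t : QField => t * t) := by
    ext i j
    simp only [Matrix.map_apply, hσ, pow_two]
  have h2 : σ ∘ (g.1 *ᵥ v) = g.1.map σ *ᵥ (σ ∘ v) := funext fun i => RingHom.map_mulVec σ _ v i
  rw [hf, hf, h2, Matrix.dotProduct_mulVec, ← Matrix.vecMul_transpose, Matrix.vecMul_vecMul, hm, h,
    Matrix.vecMul_one]

/-- The generators in `SU₃(2)`. -/
def su (g : Matrix.SpecialLinearGroup (Fin 3) QField) (hg : g ∈ [MX, MY, MS, MA, MB]) :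
    ↥(Cfsg.SU 3 QField 2) :=
  ⟨g, mem_SU_of_matrix (preserves g hg)⟩

/-- The derived subgroup of `SU₃(2)` has the model generators and order 54. -/
theorem su32_model : ∃ x y s : ↥(commutator ↥(Cfsg.SU 3 QField 2)), Rels x y s ∧
    Subgroup.closure ({x, y, s} : Set ↥(commutator ↥(Cfsg.SU 3 QField 2))) = ⊤ ∧
    Nat.card ↥(commutator ↥(Cfsg.SU 3 QField 2)) = 54 := by
  set X := su MX (by simp) with hX
  set Y := su MY (by simp) with hY
  set S := su MS (by simp) with hS
  set A := su MA (by simp) with hA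
  set B := su MB (by simp) with hB
  have eS : ⁅A, B⁆ = S := by
    apply Subtype.ext
    show MA * MB * MA⁻¹ * MB⁻¹ = MS
    decide +kernel
  have eX : ⁅S, X⁆ = X := by
    apply Subtype.ext
    show MS * MX * MS⁻¹ * MX⁻¹ = MX
    decide +kernel
  have eY : ⁅S, Y⁆ = Y := by
    apply Subtype.ext
    show MS * MY * MS⁻¹ * MY⁻¹ = MY
    decide +kernel
  have hmem : ∀ g h : ↥(Cfsg.SU 3 QField 2), ⁅g, h⁆ ∈ commutator ↥(Cfsg.SU 3 QField 2) :=
    fun g h => Subgroup.commutator_mem_commutator (Subgroup.mem_top g) (Subgroup.mem_top h)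
  let x : ↥(commutator ↥(Cfsg.SU 3 QField 2)) := ⟨X, by rw [← eX]; exact hmem _ _⟩
  let y : ↥(commutator ↥(Cfsg.SU 3 QField 2)) := ⟨Y, by rw [← eY]; exact hmem _ _⟩
  let s : ↥(commutator ↥(Cfsg.SU 3 QField 2)) := ⟨S, by rw [← eS]; exact hmem _ _⟩
  have hr : Rels x y s := by
    constructor <;> apply Subtype.ext <;> apply Subtype.ext
    · show MX ^ 3 = 1; decide +kernel
    · show MY ^ 3 = 1; decide +kernel
    · show MS * MS = 1; decide +kernel
    · show MX * (MX * MY * MX⁻¹ * MY⁻¹) = MX * MY * MX⁻¹ * MY⁻¹ * MX; decide +kernel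
    · show MY * (MX * MY * MX⁻¹ * MY⁻¹) = MX * MY * MX⁻¹ * MY⁻¹ * MY; decide +kernel
    · show MS * MX * MS = MX⁻¹; decide +kernel
    · show MS * MY * MS = MY⁻¹; decide +kernel
  have hxy : x * y ≠ y * x := fun e => by
    have : MX * MY ≠ MY * MX := by decide +kernel
    exact this (congrArg (fun t : ↥(commutator ↥(Cfsg.SU 3 QField 2)) => t.1.1) e)
  have hp : IsPGroup 3 (Subgroup.closure ({x, y} : Set ↥(commutator ↥(Cfsg.SU 3 QField 2)))) := by
    refine CfsgLib.ThreeTransp.isPGroup_closure_pair hr.hx hr.hy ?_ ?_ <;>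
      apply Subtype.ext <;> apply Subtype.ext
    · show (MX * MY) ^ 3 = 1; decide +kernel
    · show (MX * MY⁻¹) ^ 3 = 1; decide +kernel
  have hs2 : orderOf s = 2 := by
    haveI : Fact (Nat.Prime 2) := ⟨Nat.prime_two⟩
    refine orderOf_eq_prime (by rw [pow_two, hr.hs]) fun e => ?_
    have : MS ≠ 1 := by decide +kernel
    exact this (congrArg (fun t : ↥(commutator ↥(Cfsg.SU 3 QField 2)) => t.1.1) e)
  have h54 := card_closure_ge (hr.card_pair_eq hp hxy) hs2
  obtain ⟨M, -, hidx, hcard, -⟩ := CfsgLib.ThreeTransp.su32_derived (F := QField) QField.card_eq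
  have hle : Nat.card ↥(commutator ↥(Cfsg.SU 3 QField 2)) ≤ 54 := by
    rw [← M.card_mul_index]
    exact (Nat.mul_le_mul hcard hidx).trans (by norm_num)
  have htop := Subgroup.eq_top_of_le_card _ (hle.trans h54)
  refine ⟨x, y, s, hr, htop, le_antisymm hle ?_⟩
  exact h54.trans (Subgroup.card_le_card_group _)

end CfsgLib.ThreeTransp.HeisTwo
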