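import Cfsg.Agent.Lib.AschbacherForm.UnitBase

/-!
Conjugation into the group of similitudes of a hermitian or symmetric form.
-/

set_option autoImplicit false

namespace CfsgLib.ThreeTransp.HermSim

open Cfsg Cfsg.Geo CfsgLib.Aschbacher CfsgLib.AschbacherForm
open scoped Matrix MatrixGroups

universe u
variable {F : Type u} [Field F] {n : ℕ}

/-- The Gram matrix of a unitary form. -/
theorem exists_gram [Fintype F] {q : ℕ} (hF : Fintype.card F = q ^ 2) {f : (Fin n → F) → (Fin n → F) → F}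
    (hf : IsUnitaryFormPow q f) :
    ∃ (τ : F ≃+* F) (J : GL (Fin n) F), (∀ x, τ x = x ^ q) ∧ τ ≠ RingEquiv.refl F ∧ Geom τ f J 1 := by
  classical
  obtain ⟨τ, hτ, hU⟩ := CfsgLib.Maximal.exists_hermSigma hF n
  let G : Matrix (Fin n) (Fin n) F := Matrix.of fun i j => f (Pi.single i 1) (Pi.single j 1)
  have hleft : ∀ u v : Fin n → F, f u v = ∑ i, u i * f (Pi.single i 1) v := fun u v => by
    have hz : f 0 v = 0 := by have := hf.smul_left 0 0 v; rwa [zero_smul, zero_mul] at this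
    let φ : (Fin n → F) →ₗ[F] F :=
      { toFun := fun w => f w v
        map_add' := fun x y => hf.add_left x y v
        map_smul' := fun c x => hf.smul_left c x v }
    show φ u = ∑ i, u i * φ (Pi.single i 1)
    conv_lhs => rw [← Finset.univ_sum_single u, map_sum]
    refine Finset.sum_congr rfl fun i _ => ?_
    rw [← smul_eq_mul, ← map_smul, ← Pi.single_smul, smul_eq_mul, mul_one]
  have hherm : ∀ u v, f u v = τ (f v u) := fun u v => by rw [hτ, ← hf.herm]
  have hgram : f = formOfGram τ G := by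
    funext u v
    rw [hleft, formOfGram]
    refine Finset.sum_congr rfl fun i _ => ?_
    rw [hherm (Pi.single i 1) v, hleft v, map_sum, Finset.mul_sum]
    refine Finset.sum_congr rfl fun j _ => ?_
    rw [map_mul, ← hherm, show G i j = f (Pi.single i 1) (Pi.single j 1) from rfl]
    ring
  have hdet : G.det ≠ 0 := by
    intro h
    obtain ⟨w, hw, hGw⟩ := Matrix.exists_mulVec_eq_zero_iff.2 h
    obtain ⟨x, hx⟩ := (hf.nondegenerate (fun j => τ (w j)) (fun h0 => hw (funext fun j =>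
      τ.injective ((congrFun h0 j).trans (map_zero τ).symm)))).1
    rw [hgram, formOfGram_eq] at hx
    simp only [hU.involutive, hGw, dotProduct_zero] at hx
    exact hx rfl
  refine ⟨τ, Matrix.GeneralLinearGroup.mkOfDetNeZero G hdet, hτ, hU.ne_refl, hgram, hU.involutive, one_ne_zero, ?_⟩
  rw [one_smul]
  ext i j
  show τ (f (Pi.single j 1) (Pi.single i 1)) = f (Pi.single i 1) (Pi.single j 1)
  rw [← hherm]

/-- Transport of a similitude along a congruence. -/
theorem isSim_conj {σ : F ≃+* F} {M J D : Matrix (Fin n) (Fin n) F} {c : F} (Y : GL (Fin n) F)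
    (hM : M = (Y : Matrix (Fin n) (Fin n) F)ᵀ * J * (Y : Matrix (Fin n) (Fin n) F).map σ)
    (hD : IsSim σ M D c) :
    IsSim σ J ((Y : Matrix (Fin n) (Fin n) F) * D * ((Y⁻¹ : GL (Fin n) F) : Matrix (Fin n) (Fin n) F)) c := by
  have e1 : ((Y⁻¹ : GL (Fin n) F) : Matrix (Fin n) (Fin n) F)ᵀ * (Y : Matrix (Fin n) (Fin n) F)ᵀ = 1 := by
    rw [← Matrix.transpose_mul, Units.mul_inv, Matrix.transpose_one]
  have e2 : (Y : Matrix (Fin n) (Fin n) F).map σ * ((Y⁻¹ : GL (Fin n) F) : Matrix (Fin n) (Fin n) F).map σ = 1 := by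
    rw [← map_mul_equiv, Units.mul_inv, Matrix.map_one σ (map_zero σ) (map_one σ)]
  unfold IsSim at *
  rw [Matrix.transpose_mul, Matrix.transpose_mul, map_mul_equiv, map_mul_equiv]
  calc _ = ((Y⁻¹ : GL (Fin n) F) : Matrix (Fin n) (Fin n) F)ᵀ * (Dᵀ * M * D.map σ) *
        ((Y⁻¹ : GL (Fin n) F) : Matrix (Fin n) (Fin n) F).map σ := by rw [hM]; simp only [mul_assoc]
    _ = c • (((Y⁻¹ : GL (Fin n) F) : Matrix (Fin n) (Fin n) F)ᵀ * (Y : Matrix (Fin n) (Fin n) F)ᵀ * J *
        ((Y : Matrix (Fin n) (Fin n) F).map σ * ((Y⁻¹ : GL (Fin n) F) : Matrix (Fin n) (Fin n) F).map σ)) := by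
        rw [hD, hM, Matrix.mul_smul, Matrix.smul_mul]; simp only [mul_assoc]
    _ = c • J := by rw [e1, e2, one_mul, mul_one]

/-- Any two nondegenerate hermitian matrices are congruent. -/
theorem exists_congr [Fintype F] {τ : F ≃+* F} (hne : τ ≠ RingEquiv.refl F) (hτ : ∀ a, τ (τ a) = a)
    (J M : GL (Fin n) F) (hJ : ((J : Matrix (Fin n) (Fin n) F).map τ)ᵀ = (J : Matrix (Fin n) (Fin n) F))
    (hM : ((M : Matrix (Fin n) (Fin n) F).map τ)ᵀ = (M : Matrix (Fin n) (Fin n) F)) :
    ∃ Y : GL (Fin n) F, (M : Matrix (Fin n) (Fin n) F) =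
      (Y : Matrix (Fin n) (Fin n) F)ᵀ * (J : Matrix (Fin n) (Fin n) F) * (Y : Matrix (Fin n) (Fin n) F).map τ := by
  obtain ⟨X, hX⟩ := herm_equiv hne hτ J hJ
  obtain ⟨Z, hZ⟩ := herm_equiv hne hτ M hM
  refine ⟨X * Z⁻¹, ?_⟩
  have e1 : ((Z⁻¹ : GL (Fin n) F) : Matrix (Fin n) (Fin n) F)ᵀ * (Z : Matrix (Fin n) (Fin n) F)ᵀ = 1 := by
    rw [← Matrix.transpose_mul, Units.mul_inv, Matrix.transpose_one]
  have e2 : (Z : Matrix (Fin n) (Fin n) F).map τ * ((Z⁻¹ : GL (Fin n) F) : Matrix (Fin n) (Fin n) F).map τ = 1 := by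
    rw [← map_mul_equiv, Units.mul_inv, Matrix.map_one τ (map_zero τ) (map_one τ)]
  calc (M : Matrix (Fin n) (Fin n) F)
      = ((Z⁻¹ : GL (Fin n) F) : Matrix (Fin n) (Fin n) F)ᵀ * (Z : Matrix (Fin n) (Fin n) F)ᵀ * M *
        ((Z : Matrix (Fin n) (Fin n) F).map τ * ((Z⁻¹ : GL (Fin n) F) : Matrix (Fin n) (Fin n) F).map τ) := by
        rw [e1, e2, one_mul, mul_one]
    _ = ((Z⁻¹ : GL (Fin n) F) : Matrix (Fin n) (Fin n) F)ᵀ * ((X : Matrix (Fin n) (Fin n) F)ᵀ * J *
        (X : Matrix (Fin n) (Fin n) F).map τ) * ((Z⁻¹ : GL (Fin n) F) : Matrix (Fin n) (Fin n) F).map τ := by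
        rw [hX, ← hZ]; simp only [mul_assoc]
    _ = _ := by rw [Units.val_mul, Matrix.transpose_mul, map_mul_equiv]; simp only [mul_assoc]

/-- Conjugation by a matrix of determinant one into the similarity group. -/
theorem exists_conj_mem [Fintype F] [Nonempty (Fin n)] {τ : F ≃+* F} (hne : τ ≠ RingEquiv.refl F)
    {f : (Fin n → F) → (Fin n → F) → F} {J : GL (Fin n) F} (hG : Geom τ f J 1) {x D M : GL (Fin n) F} {c : F}
    (hM : ((M : Matrix (Fin n) (Fin n) F).map τ)ᵀ = (M : Matrix (Fin n) (Fin n) F))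
    (hD : IsSim τ (M : Matrix (Fin n) (Fin n) F) (D : Matrix (Fin n) (Fin n) F) c) (hconj : IsConj x D)
    (hcent : ∀ t : Fˣ, ∃ h : GL (Fin n) F, h * D = D * h ∧ Matrix.GeneralLinearGroup.det h = t) :
    ∃ g ∈ Cfsg.Geo.specialLinear (Fin n) F, g⁻¹ * x * g ∈ similarityGroup f := by
  have hJ : ((J : Matrix (Fin n) (Fin n) F).map τ)ᵀ = (J : Matrix (Fin n) (Fin n) F) := by
    rw [hG.symm, one_smul]
  obtain ⟨Y, hY⟩ := exists_congr hne hG.invol J M hJ hM
  obtain ⟨k, hk⟩ := isConj_iff.1 hconj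
  obtain ⟨h, hh, hdet⟩ := hcent ((Matrix.GeneralLinearGroup.det Y * Matrix.GeneralLinearGroup.det k)⁻¹)
  refine ⟨(Y * h * k)⁻¹, ?_, ?_⟩
  · show Matrix.GeneralLinearGroup.det _ = 1
    rw [map_inv, map_mul, map_mul, hdet, inv_eq_one, mul_right_comm, mul_inv_cancel]
  · rw [inv_inv, show Y * h * k * x * (Y * h * k)⁻¹ = Y * D * Y⁻¹ from ?_]
    · rw [hG.mem_similarity_iff]
      exact ⟨c, by rw [Units.val_mul, Units.val_mul]; exact isSim_conj Y hY hD⟩
    · calc Y * h * k * x * (Y * h * k)⁻¹ = Y * (h * (k * x * k⁻¹) * h⁻¹) * Y⁻¹ := by group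
        _ = Y * D * Y⁻¹ := by rw [hk, hh, mul_inv_cancel_right]

/-- The monomial form matrix of an involution. -/
def permForm (F : Type u) [Field F] (π : Fin n → Fin n) : Matrix (Fin n) (Fin n) F :=
  Matrix.of fun i j => if j = π i then 1 else 0

theorem permForm_mul_self {π : Fin n → Fin n} (hπ : Function.Involutive π) : permForm F π * permForm F π = 1 := by
  ext i j
  rw [Matrix.mul_apply, Finset.sum_eq_single (π i) (fun b _ hb => by simp [permForm, hb]) (by simp)]
  simp [permForm, hπ i, Matrix.one_apply, eq_comm]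

/-- `permForm` as an invertible matrix. -/
def permGL (F : Type u) [Field F] (π : Fin n → Fin n) (hπ : Function.Involutive π) : GL (Fin n) F :=
  ⟨permForm F π, permForm F π, permForm_mul_self hπ, permForm_mul_self hπ⟩

theorem permForm_herm (σ : F ≃+* F) {π : Fin n → Fin n} (hπ : Function.Involutive π) :
    ((permForm F π).map σ)ᵀ = permForm F π := by
  ext i j
  simp only [permForm, Matrix.transpose_apply, Matrix.map_apply, Matrix.of_apply, apply_ite σ, map_one, map_zero]
  exact if_congr ⟨fun h => by rw [h, hπ], fun h => by rw [h, hπ]⟩ rfl rfl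

theorem isSim_diag (σ : F ≃+* F) {π : Fin n → Fin n} {d : Fin n → F} {c : F}
    (hd : ∀ i, d i * σ (d (π i)) = c) : IsSim σ (permForm F π) (Matrix.diagonal d) c := by
  rw [IsSim, Matrix.diagonal_transpose, Matrix.diagonal_map (map_zero σ)]
  ext i j
  rw [Matrix.mul_diagonal, Matrix.diagonal_mul, Matrix.smul_apply, smul_eq_mul]
  by_cases h : j = π i
  · subst h; simp [permForm, hd]
  · simp [permForm, h]

/-- A diagonal similitude has its multiset of eigenvalues stable under `a ↦ c / σ a`. -/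
theorem stable_of_sim {σ : F ≃+* F} {g M : GL (Fin n) F} {d : Fin n → F} {c : F} (hd : ∀ i, d i ≠ 0)
    (h : IsSim σ (M : Matrix (Fin n) (Fin n) F)
      (((g⁻¹ : GL (Fin n) F) : Matrix (Fin n) (Fin n) F) * Matrix.diagonal d * (g : Matrix (Fin n) (Fin n) F)) c) :
    Multiset.map (fun i => σ (d i)) (Finset.univ : Finset (Fin n)).val =
      Multiset.map (fun i => c / d i) (Finset.univ : Finset (Fin n)).val := by
  classical
  rcases isEmpty_or_nonempty (Fin n) with he | he
  · simp [Finset.univ_eq_empty]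
  let N : GL (Fin n) F := ⟨((g⁻¹ : GL (Fin n) F) : Matrix (Fin n) (Fin n) F)ᵀ * M *
      ((g⁻¹ : GL (Fin n) F) : Matrix (Fin n) (Fin n) F).map σ,
    ((g : Matrix (Fin n) (Fin n) F).map σ) * ((M⁻¹ : GL (Fin n) F) : Matrix (Fin n) (Fin n) F) *
      (g : Matrix (Fin n) (Fin n) F)ᵀ, by
      calc _ = ((g⁻¹ : GL (Fin n) F) : Matrix (Fin n) (Fin n) F)ᵀ * ((M : Matrix (Fin n) (Fin n) F) *
            (((g⁻¹ : GL (Fin n) F) : Matrix (Fin n) (Fin n) F).map σ * (g : Matrix (Fin n) (Fin n) F).map σ) *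
            ((M⁻¹ : GL (Fin n) F) : Matrix (Fin n) (Fin n) F)) * (g : Matrix (Fin n) (Fin n) F)ᵀ := by
            simp only [mul_assoc]
        _ = 1 := by
          rw [← map_mul_equiv, Units.inv_mul, Matrix.map_one σ (map_zero σ) (map_one σ), mul_one, Units.mul_inv,
            mul_one, ← Matrix.transpose_mul, Units.mul_inv, Matrix.transpose_one], by
      calc _ = (g : Matrix (Fin n) (Fin n) F).map σ * (((M⁻¹ : GL (Fin n) F) : Matrix (Fin n) (Fin n) F) *
            ((g : Matrix (Fin n) (Fin n) F)ᵀ * ((g⁻¹ : GL (Fin n) F) : Matrix (Fin n) (Fin n) F)ᵀ) *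
            (M : Matrix (Fin n) (Fin n) F)) * ((g⁻¹ : GL (Fin n) F) : Matrix (Fin n) (Fin n) F).map σ := by
            simp only [mul_assoc]
        _ = 1 := by
          rw [← Matrix.transpose_mul, Units.inv_mul, Matrix.transpose_one, mul_one, Units.inv_mul, mul_one,
            ← map_mul_equiv, Units.mul_inv, Matrix.map_one σ (map_zero σ) (map_one σ)]⟩
  have hM : (M : Matrix (Fin n) (Fin n) F) =
      (g : Matrix (Fin n) (Fin n) F)ᵀ * N * (g : Matrix (Fin n) (Fin n) F).map σ := by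
    calc (M : Matrix (Fin n) (Fin n) F)
        = ((g : Matrix (Fin n) (Fin n) F)ᵀ * ((g⁻¹ : GL (Fin n) F) : Matrix (Fin n) (Fin n) F)ᵀ) * M *
          (((g⁻¹ : GL (Fin n) F) : Matrix (Fin n) (Fin n) F).map σ * (g : Matrix (Fin n) (Fin n) F).map σ) := by
          rw [← Matrix.transpose_mul, Units.inv_mul, Matrix.transpose_one, one_mul, ← map_mul_equiv, Units.inv_mul,
            Matrix.map_one σ (map_zero σ) (map_one σ), mul_one]
      _ = _ := by simp only [N, mul_assoc]
  have h2 := isSim_conj g hM h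
  rw [← mul_assoc, ← mul_assoc, Units.mul_inv, one_mul, mul_assoc, Units.mul_inv, mul_one, IsSim,
    Matrix.diagonal_transpose, Matrix.diagonal_map (map_zero σ)] at h2
  have h3 : Matrix.diagonal (fun i => σ (d i)) =
      ((N⁻¹ : GL (Fin n) F) : Matrix (Fin n) (Fin n) F) * Matrix.diagonal (fun i => c / d i) *
        (N : Matrix (Fin n) (Fin n) F) := by
    have h4 : Matrix.diagonal (fun i => c / d i) * (Matrix.diagonal d * (N : Matrix (Fin n) (Fin n) F) *
        Matrix.diagonal (fun i => σ (d i))) = Matrix.diagonal (fun i => c / d i) * (c • (N : Matrix (Fin n) (Fin n) F)) :=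
      congrArg _ h2
    rw [mul_assoc (Matrix.diagonal d), ← mul_assoc, Matrix.diagonal_mul_diagonal,
      show (fun i => c / d i * d i) = fun _ => c from funext fun i => div_mul_cancel₀ c (hd i),
      ← Matrix.smul_one_eq_diagonal, smul_mul_assoc, one_mul, mul_smul_comm] at h4
    rcases eq_or_ne c 0 with rfl | hc
    · exfalso
      rw [zero_smul] at h2
      have h5 := congrArg Matrix.det h2
      rw [Matrix.det_mul, Matrix.det_mul, Matrix.det_diagonal, Matrix.det_diagonal, Matrix.det_zero] at h5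
      exact mul_ne_zero (mul_ne_zero (Finset.prod_ne_zero_iff.2 fun j _ => hd j)
        ((Matrix.isUnit_iff_isUnit_det _).1 N.isUnit).ne_zero)
        (Finset.prod_ne_zero_iff.2 fun j _ => (map_ne_zero σ).2 (hd j)) h5
    rw [mul_assoc, ← smul_right_injective _ hc h4, ← mul_assoc, Units.inv_mul, one_mul]
  have h6 := congrArg (fun A => Polynomial.roots (Matrix.charpoly A)) h3
  simp only [Matrix.coe_units_inv, Matrix.charpoly_units_conj', Matrix.charpoly_diagonal] at h6
  have hroots : ∀ e : Fin n → F, (∏ i, (Polynomial.X - Polynomial.C (e i))).roots =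
      Multiset.map e (Finset.univ : Finset (Fin n)).val := fun e => by
    rw [Finset.prod_eq_multiset_prod, ← Function.comp_def (fun a => Polynomial.X - Polynomial.C a) e,
      ← Multiset.map_map, Polynomial.roots_multiset_prod_X_sub_C]
  rwa [hroots, hroots] at h6

end CfsgLib.ThreeTransp.HermSim
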