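import Mathlib
import Cfsg.Agent.Lib.ThreeTransp.InvolNormal
import Cfsg.Prelude.Def_GeometricClasses

/-!
Involutions and quadratic field subalgebras of matrix algebras: two-dimensional blocks.
-/

set_option autoImplicit false

namespace CfsgLib.ThreeTransp.InvolBlocks

open Matrix

variable {F : Type*} [Field F] {n d : ℕ}

/-- The matrix whose columns are the vectors of a family indexed by blocks. -/
def colMat (e : Fin 2 × Fin d ≃ Fin n) (bb : Fin 2 × Fin d → Fin n → F) : Matrix (Fin n) (Fin n) F :=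
  Matrix.of fun i j => bb (e.symm j) i

theorem colMat_unit (e : Fin 2 × Fin d ≃ Fin n) {bb : Fin 2 × Fin d → Fin n → F}
    (hb : LinearIndependent F bb) : (colMat e bb).det ≠ 0 :=
  ((Matrix.isUnit_iff_isUnit_det _).1
    (Matrix.linearIndependent_cols_iff_isUnit.1 (hb.comp e.symm e.symm.injective))).ne_zero

theorem mul_colMat (e : Fin 2 × Fin d ≃ Fin n) (x : Matrix (Fin n) (Fin n) F)
    (bb : Fin 2 × Fin d → Fin n → F) (M : Fin d → Matrix (Fin 2) (Fin 2) F)
    (h : ∀ a i, x *ᵥ bb (a, i) = M i 0 a • bb (0, i) + M i 1 a • bb (1, i)) :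
    x * colMat e bb = colMat e bb * reindex e e (blockDiagonal M) := by
  ext r s
  obtain ⟨⟨a, i⟩, rfl⟩ := e.surjective s
  have h' := congrFun (h a i) r
  rw [Matrix.mul_apply, Matrix.mul_apply]
  have hR : (∑ j, colMat e bb r j * reindex e e (blockDiagonal M) j (e (a, i))) =
      M i 0 a * bb (0, i) r + M i 1 a * bb (1, i) r := by
    rw [← e.sum_comp]
    simp only [colMat, reindex_apply, submatrix_apply, Matrix.of_apply, Equiv.symm_apply_apply, blockDiagonal_apply,
      Fintype.sum_prod_type, Fin.sum_univ_two, mul_ite, mul_zero, Finset.sum_ite_eq', Finset.mem_univ, if_true]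
    ring
  rw [hR]
  simpa [Matrix.mulVec, dotProduct, colMat] using h'

/-- Two matrices with the same block form are conjugate by a matrix of determinant one. -/
theorem exists_conj [Fintype F] (hd : 0 < d) (e : Fin 2 × Fin d ≃ Fin n)
    (M : Fin d → Matrix (Fin 2) (Fin 2) F)
    (hM : ((M ⟨0, hd⟩).trace = 0 ∧ (M ⟨0, hd⟩).det ≠ 0) ∨ ∃ c : F, M ⟨0, hd⟩ = c • (1 : Matrix (Fin 2) (Fin 2) F))
    (x y Qx Qy : Matrix (Fin n) (Fin n) F) (hQx : Qx.det ≠ 0) (hQy : Qy.det ≠ 0)
    (hx : x * Qx = Qx * reindex e e (blockDiagonal M)) (hy : y * Qy = Qy * reindex e e (blockDiagonal M)) :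
    ∃ P : Matrix (Fin n) (Fin n) F, P.det = 1 ∧ x * P = P * y := by
  classical
  set i₀ : Fin d := ⟨0, hd⟩
  obtain ⟨N, hN, hNM⟩ : ∃ N : Matrix (Fin 2) (Fin 2) F, N.det = Qy.det / Qx.det ∧ N * M i₀ = M i₀ * N := by
    rcases hM with ⟨h, hdet⟩ | ⟨c, h⟩
    · obtain ⟨a, b, hab⟩ := InvolSympl.exists_norm hdet (Qy.det / Qx.det)
      refine ⟨a • 1 + b • M i₀, ?_, by simp [add_mul, mul_add]⟩
      rw [Matrix.trace_fin_two] at h
      simp [Matrix.det_fin_two] at hab ⊢
      linear_combination hab + a * b * h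
    · exact ⟨!![Qy.det / Qx.det, 0; 0, 1], by simp [Matrix.det_fin_two], by simp [h]⟩
  let K := reindex e e (blockDiagonal fun i => if i = i₀ then N else 1)
  have hKdet : K.det = Qy.det / Qx.det := by
    simp only [K, Matrix.det_reindex_self, det_blockDiagonal, apply_ite Matrix.det, Matrix.det_one, hN,
      Finset.prod_ite_eq', Finset.mem_univ, if_true]
  have hKD : K * reindex e e (blockDiagonal M) = reindex e e (blockDiagonal M) * K := by
    simp only [K, reindex_apply, submatrix_mul_equiv, ← blockDiagonal_mul]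
    congr 2
    funext i
    by_cases h : i = i₀
    · simp [h, hNM]
    · simp [h]
  have hu : IsUnit Qy.det := isUnit_iff_ne_zero.2 hQy
  refine ⟨Qx * K * Qy⁻¹, ?_, ?_⟩
  · rw [Matrix.det_mul, Matrix.det_mul, hKdet, Matrix.det_nonsing_inv, Ring.inverse_eq_inv', mul_div_cancel₀ _ hQx,
      mul_inv_cancel₀ hQy]
  · have hy' : Qy⁻¹ * y = reindex e e (blockDiagonal M) * Qy⁻¹ := by
      calc Qy⁻¹ * y = Qy⁻¹ * (y * Qy) * Qy⁻¹ := by rw [mul_assoc, mul_assoc, mul_nonsing_inv _ hu, mul_one]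
        _ = Qy⁻¹ * Qy * reindex e e (blockDiagonal M) * Qy⁻¹ := by rw [hy, ← mul_assoc]
        _ = _ := by rw [nonsing_inv_mul _ hu, one_mul]
    rw [mul_assoc (Qx * K) Qy⁻¹ y, hy', ← mul_assoc, ← mul_assoc, ← mul_assoc, hx, mul_assoc Qx, ← hKD]
    simp [mul_assoc]

variable {K : Subalgebra F (Matrix (Fin n) (Fin n) F)}

/-- A quadratic field subalgebra is spanned by the unit and one element without eigenvalues. -/
theorem exists_gen (hn : 0 < n) (hK : Cfsg.Geo.IsFieldSubalgebra 2 K) :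
    ∃ κ ∈ K, (∀ k ∈ K, ∃ a b : F, k = a • (1 : Matrix (Fin n) (Fin n) F) + b • κ) ∧
      (∀ (t : F) (u : Fin n → F), κ *ᵥ u = t • u → u = 0) ∧
      ∃ t u : F, κ * κ = t • κ + u • (1 : Matrix (Fin n) (Fin n) F) := by
  haveI : NeZero n := ⟨hn.ne'⟩
  obtain ⟨κ, hκK, hκ⟩ : ∃ κ ∈ K, ∀ a : F, κ ≠ a • (1 : Matrix (Fin n) (Fin n) F) := by
    by_contra h
    push Not at h
    have hle : Subalgebra.toSubmodule K ≤ Submodule.span F {(1 : Matrix (Fin n) (Fin n) F)} := fun k hk => by
      obtain ⟨a, rfl⟩ := h k hk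
      exact Submodule.smul_mem _ _ (Submodule.mem_span_singleton_self _)
    have := (Submodule.finrank_mono hle).trans ((finrank_span_le_card _).trans (by simp : _ ≤ 1))
    have h2 : Module.finrank F (Subalgebra.toSubmodule K) = 2 := hK.finrank_eq
    omega
  have h1 : (1 : Matrix (Fin n) (Fin n) F) ≠ 0 := one_ne_zero
  have hli : LinearIndependent F ![(1 : Matrix (Fin n) (Fin n) F), κ] :=
    (LinearIndependent.pair_iff' h1).2 fun a ha => hκ a ha.symm
  have hspan : Submodule.span F (Set.range ![(1 : Matrix (Fin n) (Fin n) F), κ]) = Subalgebra.toSubmodule K := by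
    refine Submodule.eq_of_le_of_finrank_eq ?_ (by rw [finrank_span_eq_card hli, Fintype.card_fin]; exact hK.finrank_eq.symm)
    rw [Submodule.span_le, Set.range_subset_iff]
    intro i; fin_cases i
    · exact one_mem K
    · exact hκK
  have hrep : ∀ k ∈ K, ∃ a b : F, k = a • (1 : Matrix (Fin n) (Fin n) F) + b • κ := fun k hk => by
    have : k ∈ Submodule.span F (Set.range ![(1 : Matrix (Fin n) (Fin n) F), κ]) := hspan ▸ hk
    obtain ⟨c, hc⟩ := (Submodule.mem_span_range_iff_exists_fun F).1 this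
    exact ⟨c 0, c 1, by rw [← hc, Fin.sum_univ_two]; rfl⟩
  refine ⟨κ, hκK, hrep, fun t u hu => ?_, ?_⟩
  · have hne : κ - t • (1 : Matrix (Fin n) (Fin n) F) ≠ 0 := sub_ne_zero.2 (hκ t)
    have hm : κ - t • (1 : Matrix (Fin n) (Fin n) F) ∈ K := sub_mem hκK (K.smul_mem (one_mem K) t)
    obtain ⟨y, hy, hxy⟩ := hK.inv _ hm hne
    have : (y * (κ - t • (1 : Matrix (Fin n) (Fin n) F))) *ᵥ u = u := by
      rw [hK.comm _ hy _ hm, hxy, one_mulVec]
    rw [← this, ← mulVec_mulVec, sub_mulVec, hu, smul_mulVec, one_mulVec, sub_self, mulVec_zero]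
  · obtain ⟨a, b, hab⟩ := hrep _ (mul_mem hκK hκK)
    exact ⟨b, a, by rw [hab, add_comm]⟩

/-- The normaliser of the algebra spanned by `1` and `κ`, for elements with scalar square. -/
theorem mem_normalizer {κ : Matrix (Fin n) (Fin n) F}
    (hrep : ∀ k ∈ K, ∃ a b : F, k = a • (1 : Matrix (Fin n) (Fin n) F) + b • κ)
    (g : GL (Fin n) F) {z : F} (hg : (g : Matrix (Fin n) (Fin n) F) * g = z • (1 : Matrix (Fin n) (Fin n) F))
    (hκ : (g : Matrix (Fin n) (Fin n) F) * κ * ((g⁻¹ : GL (Fin n) F) : Matrix (Fin n) (Fin n) F) ∈ K) :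
    g ∈ Cfsg.Geo.subalgebraNormalizer K := by
  have hfwd : ∀ k ∈ K, (g : Matrix (Fin n) (Fin n) F) * k * ((g⁻¹ : GL (Fin n) F) : Matrix (Fin n) (Fin n) F) ∈ K := by
    intro k hk
    obtain ⟨a, b, rfl⟩ := hrep k hk
    rw [mul_add, add_mul, mul_smul_comm, smul_mul_assoc, mul_one, Units.mul_inv, mul_smul_comm, smul_mul_assoc]
    exact add_mem (K.smul_mem (one_mem K) a) (K.smul_mem hκ b)
  intro k
  refine ⟨hfwd k, fun hk => ?_⟩
  have h := hfwd _ hk
  set g' := ((g⁻¹ : GL (Fin n) F) : Matrix (Fin n) (Fin n) F)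
  have hc : (g : Matrix (Fin n) (Fin n) F) * g * k = k * ((g : Matrix (Fin n) (Fin n) F) * g) := by
    rw [hg, smul_mul_assoc, one_mul, mul_smul_comm, mul_one]
  have : (g : Matrix (Fin n) (Fin n) F) * ((g : Matrix (Fin n) (Fin n) F) * k * g') * g' = k := by
    calc _ = ((g : Matrix (Fin n) (Fin n) F) * g * k) * g' * g' := by simp only [mul_assoc]
      _ = k := by rw [hc]; simp [mul_assoc, g', Units.mul_inv_cancel_left]
  rwa [this] at h

end CfsgLib.ThreeTransp.InvolBlocks
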