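import Mathlib
import Cfsg.Prelude.Def_MonsterType
import Cfsg.Agent.Lib.Base.Cores
import Cfsg.Agent.Lib.Involutions.Dihedral

/-!
Large extraspecial 2-subgroups: first criteria.
-/

set_option autoImplicit false
set_option linter.style.haveILetI false

namespace CfsgLib.ThreeTransp

open Cfsg CfsgLib.Involutions

variable {G : Type*} [Group G]

/-- The centre of a subgroup, as a subgroup of the ambient group. -/
abbrev centerIn (Q : Subgroup G) : Subgroup G := (Subgroup.center Q).map Q.subtype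

theorem mem_centerIn {Q : Subgroup G} {x : G} :
    x ∈ centerIn Q ↔ x ∈ Q ∧ ∀ q ∈ Q, q * x = x * q := by
  constructor
  · rintro ⟨y, hy, rfl⟩
    exact ⟨y.2, fun q hq => congrArg Subtype.val (Subgroup.mem_center_iff.1 hy ⟨q, hq⟩)⟩
  · rintro ⟨hx, h⟩
    exact ⟨⟨x, hx⟩, Subgroup.mem_center_iff.2 fun q => Subtype.ext (h q q.2), rfl⟩

theorem card_centerIn {Q : Subgroup G} (hQ : IsExtraspecial 2 Q) : Nat.card (centerIn Q) = 2 := by
  rw [Subgroup.card_map_of_injective Q.subtype_injective]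
  exact hQ.2

theorem exists_centerIn_gen {Q : Subgroup G} (hQ : IsExtraspecial 2 Q) :
    ∃ z : G, orderOf z = 2 ∧ centerIn Q = Subgroup.zpowers z ∧
      ∀ x ∈ centerIn Q, x = 1 ∨ x = z := by
  have hc := card_centerIn hQ
  haveI : Finite (centerIn Q) := Nat.finite_of_card_ne_zero (by omega)
  have hne : centerIn Q ≠ ⊥ := fun h => by rw [h, Subgroup.card_bot] at hc; omega
  obtain ⟨z, hz, hz1⟩ := (centerIn Q).bot_or_exists_ne_one.resolve_left hne
  have ho : orderOf z = 2 := by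
    have h1 : orderOf (⟨z, hz⟩ : centerIn Q) ∣ 2 := hc ▸ orderOf_dvd_natCard _
    rw [Subgroup.orderOf_mk] at h1
    rcases (Nat.dvd_prime Nat.prime_two).1 h1 with h | h
    · exact absurd (orderOf_eq_one_iff.1 h) hz1
    · exact h
  have heq : centerIn Q = Subgroup.zpowers z :=
    (Subgroup.eq_of_le_of_card_ge (Subgroup.zpowers_le.2 hz)
      (by rw [Nat.card_zpowers, ho, hc])).symm
  refine ⟨z, ho, heq, fun x hx => ?_⟩
  rw [heq] at hx
  obtain ⟨n, rfl⟩ := Subgroup.mem_zpowers_iff.1 hx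
  rcases Int.even_or_odd n with ⟨i, rfl⟩ | ⟨i, rfl⟩
  · left; rw [← two_mul, zpow_mul, zpow_two, invol_mul_self ho, one_zpow]
  · right; rw [zpow_add, zpow_mul, zpow_two, invol_mul_self ho, one_zpow, one_mul, zpow_one]

theorem isPGroup_of_extraspecial [Finite G] {Q : Subgroup G} (hQ : IsExtraspecial 2 Q) :
    IsPGroup 2 Q := hQ.1.1

theorem eq_one_of_pgroup_odd [Finite G] {P K : Subgroup G} (hP : IsPGroup 2 P)
    (hK : Odd (Nat.card K)) {x : G} (hxP : x ∈ P) (hxK : x ∈ K) : x = 1 := by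
  obtain ⟨n, hn⟩ := hP ⟨x, hxP⟩
  have hn' : x ^ 2 ^ n = 1 := by simpa using congrArg Subtype.val hn
  have h2 : orderOf x ∣ Nat.card K := by
    have := orderOf_dvd_natCard (⟨x, hxK⟩ : K)
    rwa [Subgroup.orderOf_mk] at this
  have h3 := Nat.dvd_gcd (orderOf_dvd_of_pow_eq_one hn') h2
  rwa [(Nat.Coprime.pow_left n (Nat.prime_two.coprime_iff_not_dvd.2 hK.not_two_dvd_nat)).gcd_eq_one,
    Nat.dvd_one, orderOf_eq_one_iff] at h3

/-- A `Q`-invariant subgroup of odd order centralized by the central involution is trivial. -/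
theorem odd_invariant_eq_bot [Finite G] {Q K : Subgroup G} (hQ : IsExtraspecial 2 Q)
    (hC : Subgroup.centralizer (Q : Set G) = centerIn Q)
    (hN : Subgroup.centralizer (centerIn Q : Set G) ≤ Subgroup.normalizer (Q : Set G))
    (hK : Odd (Nat.card K)) (hQK : Q ≤ Subgroup.normalizer (K : Set G))
    (hKZ : K ≤ Subgroup.centralizer (centerIn Q : Set G)) : K = ⊥ := by
  rw [eq_bot_iff]
  intro k hk
  have hcomm : ∀ q ∈ Q, q * k = k * q := by
    intro q hq
    have h1 : q * k * q⁻¹ * k⁻¹ ∈ K :=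
      mul_mem ((Subgroup.mem_normalizer_iff.1 (hQK hq) k).1 hk) (inv_mem hk)
    have h2 : q * k * q⁻¹ * k⁻¹ ∈ Q := by
      have h3 := (Subgroup.mem_normalizer_iff.1 (hN (hKZ hk)) q⁻¹).1 (inv_mem hq)
      simpa [mul_assoc] using mul_mem hq h3
    have h3 := eq_one_of_pgroup_odd (isPGroup_of_extraspecial hQ) hK h2 h1
    rwa [mul_inv_eq_one, mul_inv_eq_iff_eq_mul] at h3
  have h4 : k ∈ centerIn Q := hC ▸ Subgroup.mem_centralizer_iff.2 hcomm
  exact Subgroup.mem_bot.2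
    (eq_one_of_pgroup_odd (isPGroup_of_extraspecial hQ) hK (mem_centerIn.1 h4).1 hk)

/-- If `z ∈ O₂(C)` normalizes the odd order subgroup `K`, it centralizes `K ∩ C`. -/
theorem commute_of_mem_pCore [Finite G] {z k : G} {K C : Subgroup G}
    (hz : z ∈ (Cfsg.pCore 2 C).map C.subtype) (hK : Odd (Nat.card K))
    (hzn : z ∈ Subgroup.normalizer (K : Set G)) (hk : k ∈ K) (hkC : k ∈ C) : Commute z k := by
  have h1 : z * k * z⁻¹ * k⁻¹ ∈ K :=
    mul_mem ((Subgroup.mem_normalizer_iff.1 hzn k).1 hk) (inv_mem hk)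
  obtain ⟨w, hw, rfl⟩ := hz
  have h2 : (w : G) * k * (w : G)⁻¹ * k⁻¹ ∈ (Cfsg.pCore 2 C).map C.subtype := by
    refine ⟨w * (⟨k, hkC⟩ * w⁻¹ * (⟨k, hkC⟩ : C)⁻¹), ?_, by simp [mul_assoc]⟩
    exact mul_mem hw ((Cfsg.pCore_normal 2 C).conj_mem _ (inv_mem hw) _)
  have h3 := eq_one_of_pgroup_odd (CfsgLib.Base.isPGroup_map_pCore 2 C) hK h2 h1
  rw [mul_inv_eq_one, mul_inv_eq_iff_eq_mul] at h3
  exact h3

/-- In a group of odd order no non-identity element is conjugate to its inverse. -/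
theorem eq_one_of_conj_inv [Finite G] {r t : G} (hr : Odd (orderOf r)) (ht : Odd (orderOf t))
    (h : r * t * r⁻¹ = t⁻¹) : t = 1 := by
  have h2 : r * r * t * (r * r)⁻¹ = t := by
    calc r * r * t * (r * r)⁻¹ = r * (r * t * r⁻¹) * r⁻¹ := by simp [mul_assoc]
      _ = (r * t * r⁻¹)⁻¹ := by rw [h, ← conj_inv, h, inv_inv]
      _ = t := by rw [h, inv_inv]
  obtain ⟨m, hm⟩ := hr
  have hrc : Commute (r ^ 2) t := by
    rw [mul_inv_eq_iff_eq_mul] at h2
    rw [pow_two]; exact h2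
  have h3 : (r ^ 2) ^ (m + 1) = r := by
    rw [← pow_mul, show 2 * (m + 1) = orderOf r + 1 by omega, pow_succ, pow_orderOf_eq_one, one_mul]
  have h4 : Commute r t := h3 ▸ hrc.pow_left (m + 1)
  rw [h4.eq, mul_inv_cancel_right] at h
  have h5 : t ^ 2 = 1 := by rw [pow_two]; nth_rw 2 [h]; rw [mul_inv_cancel]
  rcases (Nat.dvd_prime Nat.prime_two).1 (orderOf_dvd_of_pow_eq_one h5) with h6 | h6
  · exact orderOf_eq_one_iff.1 h6
  · rw [h6] at ht; exact absurd ht (by decide)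

/-- An involution acting on an odd order subgroup: decomposition into fixed and inverted parts. -/
theorem exists_fixed_mul_inverted [Finite G] {K : Subgroup G} (hK : Odd (Nat.card K)) {b k : G}
    (hb : orderOf b = 2) (hbn : b ∈ Subgroup.normalizer (K : Set G)) (hk : k ∈ K) :
    ∃ f ∈ K, ∃ i ∈ K, Commute b f ∧ b * i * b⁻¹ = i⁻¹ ∧ f * i = k := by
  have hbb : b⁻¹ = b := invol_inv hb
  set u := (b * k * b⁻¹)⁻¹ * k with hu
  have huK : u ∈ K := mul_mem (inv_mem ((Subgroup.mem_normalizer_iff.1 hbn k).1 hk)) hk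
  have hbu : b * u * b⁻¹ = u⁻¹ := by
    rw [hu, mul_inv_rev, inv_inv, hbb]
    simp only [mul_inv_rev, hbb, mul_assoc]
    simp only [inv_inv, ← mul_assoc b b, invol_mul_self hb, one_mul, mul_inv_cancel_left]
  have hord : Odd (orderOf u) := by
    have h1 : orderOf u ∣ Nat.card K := by
      have := orderOf_dvd_natCard (⟨u, huK⟩ : K)
      rwa [Subgroup.orderOf_mk] at this
    exact hK.of_dvd_nat h1
  obtain ⟨m, hm⟩ := hord
  set i := u ^ (m + 1) with hi
  have hi2 : i * i = u := by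
    rw [hi, ← pow_add, show m + 1 + (m + 1) = orderOf u + 1 by omega, pow_succ,
      pow_orderOf_eq_one, one_mul]
  have hbi : b * i * b⁻¹ = i⁻¹ := by rw [hi, ← conj_pow, hbu, inv_pow]
  refine ⟨k * i⁻¹, mul_mem hk (inv_mem (pow_mem huK _)), i, pow_mem huK _, ?_, hbi, by simp⟩
  have hk' : b * k * b⁻¹ = k * u⁻¹ := by rw [hu]; simp [mul_assoc]
  have : b * (k * i⁻¹) * b⁻¹ = k * i⁻¹ := by
    calc b * (k * i⁻¹) * b⁻¹ = (b * k * b⁻¹) * (b * i * b⁻¹)⁻¹ := by simp [mul_assoc]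
      _ = k * i⁻¹ := by rw [hk', hbi, inv_inv, ← hi2]; simp [mul_assoc]
  rwa [mul_inv_eq_iff_eq_mul] at this

/-- If the fixed points of `b` and of `b z` in an odd order subgroup are fixed by `z`, all of it is. -/
theorem commute_of_fixed_points [Finite G] {K : Subgroup G} (hK : Odd (Nat.card K)) {b z : G}
    (hb : orderOf b = 2) (hz : orderOf z = 2) (hbz : orderOf (b * z) = 2) (hc : Commute b z)
    (hbn : b ∈ Subgroup.normalizer (K : Set G)) (hzn : z ∈ Subgroup.normalizer (K : Set G))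
    (h1 : ∀ k ∈ K, Commute b k → Commute z k) (h2 : ∀ k ∈ K, Commute (b * z) k → Commute z k)
    {k : G} (hk : k ∈ K) : Commute z k := by
  have hodd : ∀ x ∈ K, Odd (orderOf x) := fun x hx => by
    have h0 := orderOf_dvd_natCard (⟨x, hx⟩ : K)
    rw [Subgroup.orderOf_mk] at h0
    exact hK.of_dvd_nat h0
  obtain ⟨f, hf, i, hi, hbf, hbi, rfl⟩ := exists_fixed_mul_inverted hK hb hbn hk
  refine (h1 f hf hbf).mul_right ?_
  obtain ⟨g, hg, r, hr, hgc, hrr, hgr⟩ :=
    exists_fixed_mul_inverted hK hbz (mul_mem hbn hzn) hi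
  have hzg := h2 g hg hgc
  have hbg : Commute b g := by
    have h0 : Commute (b * z * z⁻¹) g := hgc.mul_left hzg.inv_left
    rwa [mul_inv_cancel_right] at h0
  -- the action of `z` on `r`
  have hbr : b * r * b⁻¹ = g⁻¹ * r⁻¹ * g⁻¹ := by
    have h0 : b * g * b⁻¹ * (b * r * b⁻¹) = r⁻¹ * g⁻¹ := by
      rw [← mul_inv_rev, hgr, ← hbi, ← hgr]; simp [mul_assoc]
    rw [hbg.eq, mul_inv_cancel_right] at h0
    rw [mul_assoc g⁻¹, ← h0, inv_mul_cancel_left]
  have hzr : z * r * z⁻¹ = g⁻¹ * r * g⁻¹ := by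
    have e : z = b * (b * z) := by rw [← mul_assoc, invol_mul_self hb, one_mul]
    calc z * r * z⁻¹ = b * (b * z * r * (b * z)⁻¹) * b⁻¹ := by
          conv_lhs => rw [e]
          simp [mul_assoc]
      _ = (b * r * b⁻¹)⁻¹ := by rw [hrr]; simp [mul_assoc]
      _ = g * r * g := by rw [hbr]; simp [mul_assoc]
      _ = g⁻¹ * r * g⁻¹ := by
        -- apply the conjugation by `z` in the other form
        have hcomm : b * (b * z) = (b * z) * b := by
          rw [mul_assoc b z b, ← hc.eq]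
        have h0 : b * (b * z * r * (b * z)⁻¹) * b⁻¹ = (b * z) * (b * r * b⁻¹) * (b * z)⁻¹ := by
          have h4 : b * (b * z) * r * (b * (b * z))⁻¹ = (b * z * b) * r * (b * z * b)⁻¹ := by
            rw [hcomm]
          simpa [mul_assoc] using h4
        rw [hrr, hbr] at h0
        have hgfix : b * z * g * (b * z)⁻¹ = g := by rw [hgc.eq, mul_inv_cancel_right]
        have h5 : b * z * (g⁻¹ * r⁻¹ * g⁻¹) * (b * z)⁻¹ = g⁻¹ * r * g⁻¹ := by
          calc b * z * (g⁻¹ * r⁻¹ * g⁻¹) * (b * z)⁻¹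
              = (b * z * g * (b * z)⁻¹)⁻¹ * (b * z * r * (b * z)⁻¹)⁻¹ *
                  (b * z * g * (b * z)⁻¹)⁻¹ := by simp [mul_assoc]
            _ = g⁻¹ * r * g⁻¹ := by rw [hgfix, hrr, inv_inv]
        rw [h5] at h0
        rw [← h0]
        have : b * r⁻¹ * b⁻¹ = g * r * g := by rw [← conj_inv, hbr]; simp [mul_assoc]
        exact this.symm
  have hgg : g * g = 1 := by
    have hz2 : z * (z * r * z⁻¹) * z⁻¹ = r := by
      rw [invol_inv hz]; simp [mul_assoc, invol_mul_self hz, ← mul_assoc z z]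
    rw [hzr] at hz2
    have hzgi : z * g⁻¹ * z⁻¹ = g⁻¹ := by rw [hzg.inv_right.eq, mul_inv_cancel_right]
    have h6 : g⁻¹ * (g⁻¹ * r * g⁻¹) * g⁻¹ = r := by
      calc g⁻¹ * (g⁻¹ * r * g⁻¹) * g⁻¹
          = (z * g⁻¹ * z⁻¹) * (z * r * z⁻¹) * (z * g⁻¹ * z⁻¹) := by rw [hzgi, hzr]
        _ = z * (g⁻¹ * r * g⁻¹) * z⁻¹ := by simp [mul_assoc]
        _ = r := hz2
    refine eq_one_of_conj_inv (r := r) (hodd r hr) (hodd _ (mul_mem hg hg)) ?_
    have h7 := congrArg (fun t => g * g * t) h6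
    simp only [← mul_assoc, mul_inv_cancel_right, mul_inv_cancel, one_mul] at h7
    have h8 : r = g * g * r * (g * g) := by
      have h9 := congrArg (fun t => t * (g * g)) h7
      simp only [mul_assoc, inv_mul_cancel_left, inv_mul_cancel, mul_one] at h9
      simp only [mul_assoc]
      exact h9
    calc r * (g * g) * r⁻¹ = (g * g)⁻¹ * (g * g * r * (g * g)) * r⁻¹ := by simp [mul_assoc]
      _ = (g * g)⁻¹ := by rw [← h8]; simp
  have hg1 : g = 1 := by
    rcases (Nat.dvd_prime Nat.prime_two).1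
      (orderOf_dvd_of_pow_eq_one (show g ^ 2 = 1 by rw [pow_two]; exact hgg)) with h6 | h6
    · exact orderOf_eq_one_iff.1 h6
    · have := hodd g hg; rw [h6] at this; exact absurd this (by decide)
  subst hg1
  rw [one_mul] at hgr; subst hgr
  rw [inv_one, one_mul, mul_one] at hzr
  rwa [mul_inv_eq_iff_eq_mul] at hzr

/-- Criterion: some involution `b ∈ Q ∖ Z(Q)` has `Z(Q) ≤ O₂(C(b))`. -/
theorem isLarge_of_mem_pCore_centralizer [Finite G] {Q : Subgroup G} (hQ : IsExtraspecial 2 Q)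
    (hC : Subgroup.centralizer (Q : Set G) = centerIn Q)
    (hN : Subgroup.centralizer (centerIn Q : Set G) ≤ Subgroup.normalizer (Q : Set G)) {b : G}
    (hbQ : b ∈ Q) (hbZ : b ∉ centerIn Q) (hb : orderOf b = 2)
    (hZ : centerIn Q ≤ (Cfsg.pCore 2 ↥(Subgroup.centralizer ({b} : Set G))).map
      (Subgroup.centralizer ({b} : Set G)).subtype) : IsLargeExtraspecial Q := by
  refine ⟨hQ, hC, hN, fun K hK hQK => odd_invariant_eq_bot hQ hC hN hK hQK fun k hk => ?_⟩
  obtain ⟨z, hz, hZeq, hZmem⟩ := exists_centerIn_gen hQ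
  have hzZ : z ∈ centerIn Q := hZeq ▸ Subgroup.mem_zpowers z
  obtain ⟨hzQ, hzc⟩ := mem_centerIn.1 hzZ
  obtain ⟨q, hq, hqb⟩ : ∃ q ∈ Q, q * b ≠ b * q := by
    by_contra h
    push Not at h
    exact hbZ (mem_centerIn.2 ⟨hbQ, h⟩)
  have hcz : q * b * q⁻¹ * b⁻¹ ∈ centerIn Q := by
    have h0 : (⟨q, hq⟩ : Q) * ⟨b, hbQ⟩ * (⟨q, hq⟩ : Q)⁻¹ * (⟨b, hbQ⟩ : Q)⁻¹ ∈ Subgroup.center Q := by
      have h1 := Subgroup.commutator_mem_commutator (Subgroup.mem_top (⟨q, hq⟩ : Q))
        (Subgroup.mem_top (⟨b, hbQ⟩ : Q))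
      have hsp := hQ.1
      rw [← commutator_def] at h1
      have hle : commutator Q ≤ Subgroup.center Q := by
        have h2 := hsp.2.2
        exact h2.le
      exact hle h1
    exact ⟨_, h0, rfl⟩
  have hbz' : q * b * q⁻¹ = b * z := by
    rcases hZmem _ hcz with h | h
    · rw [mul_inv_eq_one, mul_inv_eq_iff_eq_mul] at h; exact absurd h hqb
    · rw [mul_inv_eq_iff_eq_mul] at h; rw [h, (hzc b hbQ)]
  have hzn : z ∈ Subgroup.normalizer (K : Set G) := hQK hzQ
  have hcb : ∀ x ∈ K, Commute b x → Commute z x := fun x hx hbx =>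
    commute_of_mem_pCore (hZ hzZ) hK hzn hx (Subgroup.mem_centralizer_singleton_iff.2 hbx.eq.symm)
  refine Subgroup.mem_centralizer_iff.2 fun x hx => ?_
  rcases hZmem x hx with rfl | rfl
  · simp
  refine (commute_of_fixed_points hK hb hz (by rw [← hbz']; exact conj_invol q hb)
    (hzc b hbQ) (hQK hbQ) hzn hcb (fun y hy hy' => ?_) hk).eq
  rw [← hbz'] at hy'
  have h1 : Commute b (q⁻¹ * y * q) := by
    have h2 := congrArg (fun t => q⁻¹ * t * q) hy'.eq
    simpa [Commute, SemiconjBy, mul_assoc] using h2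
  have h2 : q⁻¹ * y * q ∈ K := by
    simpa using (Subgroup.mem_normalizer_iff.1 (inv_mem (hQK hq)) y).1 hy
  have h3 := (hcb _ h2 h1).eq
  have h4 := congrArg (fun t => q * t * q⁻¹) h3
  have hq1 : x * q = q * x := (hzc q hq).symm
  show x * y = y * x
  calc x * y = q * (x * (q⁻¹ * y * q)) * q⁻¹ := by
        rw [← mul_assoc q x, ← hq1]; simp [mul_assoc]
    _ = q * (q⁻¹ * y * q * x) * q⁻¹ := h4
    _ = y * x := by
      rw [mul_assoc (q⁻¹ * y) q x, ← hq1]; simp [mul_assoc]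

/-- Frattini argument for a normal subgroup containing a large extraspecial subgroup. -/
theorem sup_normalizer_eq_top [Finite G] {Q : Subgroup G} (hQ : IsLargeExtraspecial Q)
    (L : Subgroup G) [L.Normal] (hQL : Q ≤ L) : L ⊔ Subgroup.normalizer (Q : Set G) = ⊤ := by
  obtain ⟨hX, hC, hN, -⟩ := hQ
  haveI : Fact (Nat.Prime 2) := ⟨Nat.prime_two⟩
  obtain ⟨T, hT⟩ : ∃ T : Sylow 2 L, Q.subgroupOf L ≤ T :=
    ((isPGroup_of_extraspecial hX).of_equiv (Subgroup.subgroupOfEquivOfLe hQL).symm).exists_le_sylow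
  set T' := (T : Subgroup L).map L.subtype with hT'
  have hQT : Q ≤ T' := by
    intro q hq
    exact ⟨⟨q, hQL hq⟩, hT (Subgroup.mem_subgroupOf.2 hq), rfl⟩
  have hTp : IsPGroup 2 T' := T.isPGroup'.map _
  have hcen : centerIn T' ≤ centerIn Q := by
    intro x hx
    show x ∈ (Subgroup.center Q).map Q.subtype
    rw [← hC]
    obtain ⟨hxT, hxc⟩ := mem_centerIn.1 hx
    exact Subgroup.mem_centralizer_iff.2 fun q hq => hxc q (hQT hq)
  have hne : centerIn T' ≠ ⊥ := by
    obtain ⟨z, hz, hZeq, -⟩ := exists_centerIn_gen hX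
    have hzT : z ∈ T' := hQT (mem_centerIn.1 (hZeq ▸ Subgroup.mem_zpowers z)).1
    haveI : Nontrivial T' := ⟨⟨⟨z, hzT⟩, 1, fun h => invol_ne_one hz (congrArg Subtype.val h)⟩⟩
    have h1 := IsPGroup.center_nontrivial hTp
    intro h
    rw [Subgroup.map_eq_bot_iff_of_injective _ T'.subtype_injective] at h
    rw [h] at h1
    exact not_subsingleton_iff_nontrivial.2 h1 inferInstance
  have heq : centerIn T' = centerIn Q := by
    refine Subgroup.eq_of_le_of_card_ge hcen ?_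
    rw [card_centerIn hX]
    exact Subgroup.one_lt_card_iff_ne_bot _ |>.2 hne
  have hle : Subgroup.normalizer (T' : Set G) ≤ Subgroup.normalizer (Q : Set G) := by
    refine le_trans ?_ hN
    intro g hg
    rw [Subgroup.mem_centralizer_iff]
    obtain ⟨z, hz, hZeq, hZmem⟩ := exists_centerIn_gen hX
    intro x hx
    rcases hZmem x hx with rfl | rfl
    · simp
    rw [hZeq] at heq
    have hxz : x ∈ centerIn T' := heq ▸ Subgroup.mem_zpowers x
    obtain ⟨hxT, hxc⟩ := mem_centerIn.1 hxz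
    have hgx : g * x * g⁻¹ ∈ centerIn T' := by
      refine mem_centerIn.2 ⟨(Subgroup.mem_normalizer_iff.1 hg x).1 hxT, fun q hq => ?_⟩
      have hq' : g⁻¹ * q * g ∈ T' := by
        simpa using (Subgroup.mem_normalizer_iff.1 (inv_mem hg) q).1 hq
      have h1 := congrArg (fun t => g * t * g⁻¹) (hxc _ hq')
      simpa [mul_assoc] using h1
    rw [heq] at hgx
    have h0 : g * x * g⁻¹ = 1 ∨ g * x * g⁻¹ = x := hZmem _ (hZeq ▸ hgx)
    rcases h0 with h0 | h0
    · exact absurd (by simpa using h0) (invol_ne_one hz)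
    · rw [mul_inv_eq_iff_eq_mul] at h0; exact h0.symm
  rw [eq_top_iff, ← Sylow.normalizer_sup_eq_top T, sup_comm L]
  exact sup_le_sup_right hle _

end CfsgLib.ThreeTransp
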