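import Cfsg.Agent.Lib.ThreeTransp.DihedralCentralizer
import Cfsg.Agent.Lib.PGroups.Basic

/-!
# Simple groups with a small centraliser of an involution
-/

set_option autoImplicit false
set_option linter.unusedSectionVars false

open Subgroup

namespace CfsgLib.ThreeTransp

variable {L : Type*} [Group L] [Finite L] [IsSimpleGroup L]

theorem no_index_two (hL : ¬ IsMulCommutative L) (M : Subgroup L) (hM : M.Normal) :
    M.index ≠ 2 := by
  intro hMi
  rcases hM.eq_bot_or_eq_top with hb | hb
  · rw [hb, index_bot] at hMi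
    have : Fact (Nat.Prime 2) := ⟨Nat.prime_two⟩
    have := isCyclic_of_prime_card hMi
    exact hL ⟨⟨fun a b => (IsCyclic.commGroup (α := L)).mul_comm a b⟩⟩
  · rw [hb, index_top] at hMi
    omega

/-- The centraliser of an involution of a simple group is larger than the involution. -/
theorem exists_commute_ne (hL : ¬ IsMulCommutative L) {z : L} (hz : orderOf z = 2) :
    ∃ w, Commute w z ∧ w ≠ 1 ∧ w ≠ z := by
  by_contra! hno
  have : Fact (Nat.Prime 2) := ⟨Nat.prime_two⟩
  obtain ⟨P, hP⟩ := (IsPGroup.of_card (p := 2) (n := 1) (G := zpowers z)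
    (by rw [Nat.card_zpowers, hz, pow_one])).exists_le_sylow
  have hzP : z ∈ (P : Subgroup L) := hP (mem_zpowers z)
  have hz1 : z ≠ 1 := fun h => by simp [h] at hz
  haveI : Nontrivial (P : Subgroup L) :=
    ⟨⟨⟨z, hzP⟩, 1, fun h => hz1 (congrArg Subtype.val h)⟩⟩
  haveI := P.isPGroup'.center_nontrivial
  obtain ⟨⟨⟨w, hwP⟩, hw⟩, hw1⟩ := exists_ne (1 : center (P : Subgroup L))
  have hwc : ∀ r ∈ (P : Subgroup L), Commute r w := fun r hr =>
    congrArg Subtype.val (mem_center_iff.1 hw ⟨r, hr⟩)
  have hwz : w = z := hno w (hwc z hzP).symm fun h => hw1 (Subtype.ext (Subtype.ext h))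
  subst hwz
  have hall : ∀ r ∈ (P : Subgroup L), r = 1 ∨ r = w := fun r hr =>
    or_iff_not_imp_left.2 fun h => hno r (hwc r hr) h
  have hidx : (⊥ : Subgroup L).relIndex (P : Subgroup L) = 2 := by
    rw [relIndex_bot_left]
    refine Nat.card_eq_two_iff.2 ⟨⟨w, hwP⟩, 1, fun h => hz1 (congrArg Subtype.val h),
      Set.eq_univ_of_forall fun r => ?_⟩
    rcases hall r r.2 with h | h
    exacts [Or.inr (Subtype.ext h), Or.inl (Subtype.ext h)]
  obtain ⟨M, hM, hMi, -⟩ := Transfer.exists_index_two_of_not_conj_mem P bot_le hidx hz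
    (fun g h => hz1 (by simpa using mem_bot.1 h))
  exact no_index_two hL M hM hMi

/-- An involution with centraliser a 2-group of order at most four: that centraliser is a Sylow
2-subgroup. -/
theorem sylow_le_centralizer (hL : ¬ IsMulCommutative L) {z : L} (hz : orderOf z = 2)
    (P : Sylow 2 L) (hle : centralizer ({z} : Set L) ≤ P)
    (h4 : Nat.card (centralizer ({z} : Set L)) ≤ 4) :
    (P : Subgroup L) ≤ centralizer ({z} : Set L) := by
  classical
  have : Fact (Nat.Prime 2) := ⟨Nat.prime_two⟩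
  by_contra hlt
  have hzP : z ∈ (P : Subgroup L) := hle (mem_centralizer_singleton_iff.2 rfl)
  have hp : IsPGroup 2 (P : Subgroup L) := P.isPGroup'
  have hnab : ¬ ∀ a b : (P : Subgroup L), a * b = b * a := fun h => hlt fun r hr =>
    mem_centralizer_singleton_iff.2 (congrArg Subtype.val (h ⟨r, hr⟩ ⟨z, hzP⟩))
  set Φ := frattini (P : Subgroup L) with hΦdef
  have hidx3 : 3 ≤ Φ.index := by
    by_contra hlt'
    have h0 : Φ.index ≠ 0 := Subgroup.FiniteIndex.index_ne_zero
    by_cases htop : Φ = ⊤
    · have := frattini_nongenerating (K := (⊥ : Subgroup (P : Subgroup L)))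
        (by rw [bot_sup_eq]; exact htop)
      exact hnab fun a b => by
        rw [show a = 1 from mem_bot.1 (this ▸ mem_top a)]; simp
    obtain ⟨a, ha⟩ : ∃ a, a ∉ Φ := by
      by_contra! hall
      exact htop (eq_top_iff.2 fun a _ => hall a)
    have hsup : zpowers a ⊔ Φ = ⊤ := by
      rw [← index_eq_one]
      have hdvd := index_dvd_of_le (show Φ ≤ zpowers a ⊔ Φ from le_sup_right)
      have h2 : Φ.index = 2 := by
        have h1 : Φ.index ≠ 1 := fun h => htop (index_eq_one.1 h)
        omega
      rw [h2] at hdvd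
      rcases (Nat.dvd_prime Nat.prime_two).1 hdvd with h | h
      · exact h
      · exfalso
        have hmul := relIndex_mul_index (show Φ ≤ zpowers a ⊔ Φ from le_sup_right)
        rw [h, h2] at hmul
        exact ha ((relIndex_eq_one.1 (show Φ.relIndex (zpowers a ⊔ Φ) = 1 by omega))
          (mem_sup_left (mem_zpowers a)))
    have hcyc := frattini_nongenerating hsup
    refine hnab fun x y => ?_
    obtain ⟨i, rfl⟩ := mem_zpowers_iff.1 (hcyc ▸ mem_top x)
    obtain ⟨j, rfl⟩ := mem_zpowers_iff.1 (hcyc ▸ mem_top y)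
    exact (Commute.zpow_zpow (Commute.refl a) i j).eq
  set J : ↥(P : Subgroup L) → Prop := fun s => ∃ g : L, g * z * g⁻¹ = (s : L) with hJ
  have hΦsq : ∀ x, x * x ∈ Φ := fun x => by
    rw [← _root_.sq]; exact PGroups.pow_mem_frattini hp x
  have hΦcomm : ∀ x y, x * y * x⁻¹ * y⁻¹ ∈ Φ := fun x y =>
    PGroups.commutator_le_frattini hp (commutator_mem_commutator (mem_top x) (mem_top y))
  -- classes of conjugates of `z` are full cosets of the Frattini subgroup
  have horb : ∀ s, J s → Φ.index = 4 ∧ s ∉ Φ ∧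
      ∀ f ∈ Φ, ∃ p, p * s * p⁻¹ = s * f := by
    intro s hs
    obtain ⟨g, hg⟩ := hs
    have hcle : Nat.card (centralizer ({s} : Set (P : Subgroup L))) ≤ 4 := by
      refine le_trans ?_ h4
      refine Nat.card_le_card_of_injective (fun r => ⟨g⁻¹ * ((r : (P : Subgroup L)) : L) * g, ?_⟩) ?_
      · rw [mem_centralizer_singleton_iff]
        have h := congrArg Subtype.val (mem_centralizer_singleton_iff.1 r.2)
        simp only [Subgroup.coe_mul, ← hg] at h
        have h' := congrArg (fun v => g⁻¹ * v * g) h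
        simpa [mul_assoc] using h'
      · intro r r' hrr
        have := congrArg Subtype.val hrr
        exact Subtype.ext (Subtype.ext (by simpa using this))
    have hcard := (centralizer ({s} : Set (P : Subgroup L))).index_mul_card
    have hcardΦ := Φ.index_mul_card
    let ι : (P : Subgroup L) ⧸ centralizer ({s} : Set (P : Subgroup L)) → Φ := fun q =>
      q.liftOn' (fun p => ⟨s⁻¹ * (p * s * p⁻¹), by
        have h1 := hΦcomm p s
        have h2 := (inferInstance : Φ.Normal).conj_mem _ h1 s⁻¹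
        simpa [mul_assoc] using h2⟩) (fun p p' hpp => by
          rw [QuotientGroup.leftRel_apply, mem_centralizer_singleton_iff] at hpp
          refine Subtype.ext (congrArg (s⁻¹ * ·) ?_)
          calc p * s * p⁻¹ = p * ((p⁻¹ * p') * s * (p⁻¹ * p')⁻¹) * p⁻¹ := by
                rw [mul_inv_eq_iff_eq_mul.2 hpp]
            _ = p' * s * p'⁻¹ := by simp [mul_assoc])
    have hι : Function.Injective ι := by
      intro q q'
      induction q using Quotient.inductionOn' with | _ p => ?_
      induction q' using Quotient.inductionOn' with | _ p' => ?_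
      intro h
      have h' : p * s * p⁻¹ = p' * s * p'⁻¹ := mul_left_cancel (congrArg Subtype.val h)
      refine QuotientGroup.eq.2 ?_
      rw [mem_centralizer_singleton_iff]
      refine mul_inv_eq_iff_eq_mul.1 ?_
      calc p⁻¹ * p' * s * (p⁻¹ * p')⁻¹ = p⁻¹ * (p' * s * p'⁻¹) * p := by simp [mul_assoc]
        _ = s := by rw [← h']; simp [mul_assoc]
    have hb : (centralizer ({s} : Set (P : Subgroup L))).index ≤ Nat.card Φ :=
      Nat.card_le_card_of_injective ι hι
    have hpos : 0 < Nat.card Φ := Nat.card_pos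
    have hle4 : Φ.index ≤ 4 := by
      refine Nat.le_of_mul_le_mul_right ?_ hpos
      calc Φ.index * Nat.card Φ
          = (centralizer ({s} : Set (P : Subgroup L))).index *
              Nat.card (centralizer ({s} : Set (P : Subgroup L))) := by rw [hcardΦ, hcard]
        _ ≤ Nat.card Φ * 4 := Nat.mul_le_mul hb hcle
        _ = 4 * Nat.card Φ := mul_comm _ _
    have hidx : Φ.index = 4 := by
      obtain ⟨k, hk⟩ := hp.index Φ
      rw [hk] at hidx3 hle4 ⊢
      rcases k with _ | _ | _ | k
      · norm_num at hidx3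
      · norm_num at hidx3
      · norm_num
      · have : 8 ≤ 2 ^ (k + 1 + 1 + 1) := by
          rw [show (8 : ℕ) = 2 ^ 3 from rfl]; exact Nat.pow_le_pow_right two_pos (by omega)
        omega
    have hsurj : Function.Surjective ι := by
      refine (hι.bijective_of_nat_card_le ?_).2
      show Nat.card Φ ≤ (centralizer ({s} : Set (P : Subgroup L))).index
      refine Nat.le_of_mul_le_mul_right ?_ (show 0 < 4 by norm_num)
      calc Nat.card Φ * 4
          = (centralizer ({s} : Set (P : Subgroup L))).index *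
              Nat.card (centralizer ({s} : Set (P : Subgroup L))) := by
            rw [hcard, ← hcardΦ, hidx, mul_comm]
        _ ≤ _ := Nat.mul_le_mul_left _ hcle
    have hfull : ∀ f ∈ Φ, ∃ p, p * s * p⁻¹ = s * f := by
      intro f hf
      obtain ⟨q, hq⟩ := hsurj ⟨f, hf⟩
      induction q using Quotient.inductionOn' with | _ p => ?_
      exact ⟨p, inv_mul_eq_iff_eq_mul.1 (congrArg Subtype.val hq)⟩
    refine ⟨hidx, fun hsΦ => ?_, hfull⟩
    obtain ⟨p, hp'⟩ := hfull s⁻¹ (inv_mem hsΦ)
    rw [mul_inv_cancel] at hp'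
    have h1 : s = 1 := by simpa using hp'
    rw [h1, OneMemClass.coe_one] at hg
    have : z = 1 := by simpa using hg
    simp [this] at hz
  have hidx4 : Φ.index = 4 := (horb ⟨z, hzP⟩ ⟨1, by simp⟩).1
  have hJconj : ∀ s, J s → ∀ p, J (p * s * p⁻¹) := by
    rintro s ⟨g, hg⟩ p
    exact ⟨(p : L) * g, by simp [← hg, mul_assoc]⟩
  -- every element outside the Frattini subgroup is a conjugate of `z`
  have hout : ∀ x, x ∉ Φ → J x := by
    intro x hx
    by_contra hnJ
    set Q₀ := adjoinInv Φ x (hΦsq x) (fun v hv => (inferInstance : Φ.Normal).conj_mem v hv x)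
    have hΦQ : Φ ≤ Q₀ := fun v hv => Or.inl hv
    have hxQ : x ∈ Q₀ := Or.inr (by simp)
    have hrel : Φ.relIndex Q₀ = 2 := by
      refine relIndex_eq_two_iff.2 ⟨x, hxQ, fun b hb => ?_⟩
      rcases hb with hb | hb
      · exact Or.inr ⟨hb, fun h => hx (by simpa using mul_mem (inv_mem hb) h)⟩
      · refine Or.inl ⟨?_, fun h => hx (by simpa using mul_mem h (inv_mem hb))⟩
        have h2 := mul_mem (mul_mem (hΦsq x)
          ((inferInstance : Φ.Normal).conj_mem _ hb x⁻¹)) (one_mem Φ)
        simpa [mul_assoc] using h2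
    have hmul := relIndex_mul_index hΦQ
    rw [hrel, hidx4] at hmul
    set Q := Q₀.map (P : Subgroup L).subtype
    have hQi : Q.relIndex (P : Subgroup L) = 2 := by
      show (Q.subgroupOf (P : Subgroup L)).index = 2
      rw [show Q.subgroupOf (P : Subgroup L) = Q₀ from
        comap_map_eq_self_of_injective (P : Subgroup L).subtype_injective Q₀]
      omega
    obtain ⟨M, hM, hMi, -⟩ := Transfer.exists_index_two_of_not_conj_mem P (map_subtype_le _) hQi hz
      (fun g hg => by
        obtain ⟨s, hs, hs'⟩ := hg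
        have hJs : J s := ⟨g, hs'.symm⟩
        obtain ⟨-, hsΦ, hfull⟩ := horb s hJs
        rcases hs with hs | hs
        · exact hsΦ hs
        · obtain ⟨p, hp'⟩ := hfull _ (inv_mem hs)
          rw [show s * (x⁻¹ * s)⁻¹ = x by simp] at hp'
          exact hnJ (hp' ▸ hJconj s hJs p))
    exact no_index_two hL M hM hMi
  have hinv : ∀ x, x ∉ Φ → x * x = 1 := by
    intro x hx
    obtain ⟨g, hg⟩ := hout x hx
    refine Subtype.ext ?_
    rw [Subgroup.coe_mul, ← hg, OneMemClass.coe_one]
    have hzz : z * z = 1 := by rw [← _root_.sq, ← hz]; exact pow_orderOf_eq_one z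
    simp [mul_assoc, ← mul_assoc z z, hzz]
  have hflip : ∀ x, x ∉ Φ → ∀ f ∈ Φ, f * x = x * f⁻¹ := by
    intro x hx f hf
    have h1 := hinv (x * f) fun h => hx (by simpa using mul_mem h (inv_mem hf))
    calc f * x = x⁻¹ * (x * f * (x * f)) * f⁻¹ := by simp [mul_assoc]
      _ = x * f⁻¹ := by rw [h1, inv_eq_of_mul_eq_one_right (hinv x hx)]; simp
  obtain ⟨a, ha, b, hb, hab⟩ : ∃ a ∉ Φ, ∃ b ∉ Φ, a * b ∉ Φ := by
    obtain ⟨a, ha⟩ : ∃ a, a ∉ Φ := ⟨⟨z, hzP⟩, (horb ⟨z, hzP⟩ ⟨1, by simp⟩).2.1⟩
    obtain ⟨b, hb⟩ : ∃ b, b ∉ adjoinInv Φ a (hΦsq a)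
        (fun v hv => (inferInstance : Φ.Normal).conj_mem v hv a) := by
      by_contra! hall
      have htop : Φ.relIndex (adjoinInv Φ a (hΦsq a)
          (fun v hv => (inferInstance : Φ.Normal).conj_mem v hv a)) = 2 := by
        refine relIndex_eq_two_iff.2 ⟨a, Or.inr (by simp), fun b hb => ?_⟩
        rcases hb with hb | hb
        · exact Or.inr ⟨hb, fun h => ha (by simpa using mul_mem (inv_mem hb) h)⟩
        · refine Or.inl ⟨?_, fun h => ha (by simpa using mul_mem h (inv_mem hb))⟩
          have h2 := mul_mem (mul_mem (hΦsq a)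
            ((inferInstance : Φ.Normal).conj_mem _ hb a⁻¹)) (one_mem Φ)
          simpa [mul_assoc] using h2
      rw [show adjoinInv Φ a (hΦsq a) (fun v hv => (inferInstance : Φ.Normal).conj_mem v hv a) = ⊤
        from eq_top_iff.2 fun v _ => hall v, relIndex_top_right, hidx4] at htop
      norm_num at htop
    refine ⟨a, ha, b, fun h => hb (Or.inl h), fun h => hb (Or.inr ?_)⟩
    have := mul_mem (hΦsq a⁻¹) h
    simpa [mul_assoc] using this
  have hΦ2 : ∀ f ∈ Φ, f * f = 1 := by
    intro f hf
    have h1 : f * (a * b) = a * b * f := by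
      rw [← mul_assoc, hflip a ha f hf, mul_assoc, hflip b hb f⁻¹ (inv_mem hf), inv_inv,
        ← mul_assoc]
    have h2 := hflip (a * b) hab f hf
    rw [h1] at h2
    calc f * f = f⁻¹ * f := by rw [← mul_left_cancel h2]
      _ = 1 := inv_mul_cancel f
  refine hnab fun u v => ?_
  have h2 : ∀ w : (P : Subgroup L), w * w = 1 := fun w =>
    if hw : w ∈ Φ then hΦ2 w hw else hinv w hw
  calc u * v = u * ((u * v) * (u * v)) * v := by rw [h2 (u * v)]; simp
    _ = (u * u) * (v * u) * (v * v) := by simp [mul_assoc]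
    _ = v * u := by rw [h2 u, h2 v]; simp

end CfsgLib.ThreeTransp
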