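import Cfsg.Agent.Lib.ThreeTransp.LargeSimple
import Cfsg.Agent.Lib.ThreeTransp.LargePair
import Cfsg.Agent.Lib.ThreeTransp.LargeQuotient
import Cfsg.Agent.Lib.ThreeTransp.SmallCentralizerSylow
import Cfsg.Agent.Lib.Components.Decomposition

/-!
# The normal closure of the central involution of a large extraspecial subgroup
-/

set_option autoImplicit false
set_option linter.unusedSectionVars false
set_option linter.style.haveILetI false

namespace CfsgLib.ThreeTransp

open Cfsg CfsgLib.Involutions CfsgLib.Components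

variable {G : Type*} [Group G] [Finite G]

/-- The components other than `L`. -/
def others (L : Subgroup G) : Subgroup G :=
  ⨆ K ∈ {K : Subgroup G | IsComponent K ∧ K ≠ L}, K

/-- `a` is the `L`-part of `m`. -/
def Part (L : Subgroup G) (m a : G) : Prop := a ∈ L ∧ a⁻¹ * m ∈ others L

theorem le_others {L K : Subgroup G} (hK : IsComponent K) (hne : K ≠ L) : K ≤ others L :=
  le_iSup₂ (f := fun K (_ : K ∈ {K : Subgroup G | IsComponent K ∧ K ≠ L}) => K) K ⟨hK, hne⟩

theorem others_commute {L : Subgroup G} (hL : IsComponent L) {a b : G} (ha : a ∈ L)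
    (hb : b ∈ others L) : Commute a b := by
  have hle : others L ≤ Subgroup.centralizer (L : Set G) := iSup₂_le fun K hK =>
    Subgroup.commutator_eq_bot_iff_le_centralizer.1 (components_commute hK.1 hL hK.2)
  exact Subgroup.mem_centralizer_iff.1 (hle hb) a ha

theorem sup_others {L : Subgroup G} (hL : IsComponent L) : L ⊔ others L = layer G := by
  refine le_antisymm (sup_le (component_le_layer hL) (iSup₂_le fun K hK => component_le_layer hK.1))
    (layer_le_iff.2 fun K hK => ?_)
  by_cases h : K = L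
  · exact h ▸ le_sup_left
  · exact (le_others hK h).trans le_sup_right

theorem conj_component {L : Subgroup G} (hL : IsComponent L) (g : G) :
    IsComponent (L.map (MulAut.conj g).toMonoidHom) := isComponent_conj hL g

theorem map_conj_others_le (L : Subgroup G) (g : G) :
    (others L).map (MulAut.conj g).toMonoidHom ≤ others (L.map (MulAut.conj g).toMonoidHom) := by
  rw [Subgroup.map_le_iff_le_comap]
  refine iSup₂_le fun K hK => ?_
  rw [← Subgroup.map_le_iff_le_comap]
  exact le_others (conj_component hK.1 g) fun h =>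
    hK.2 (Subgroup.map_injective (MulAut.conj g).injective h)

section Parts

variable (hF : fittingSubgroup G = ⊥)
include hF

theorem center_component {L : Subgroup G} (hL : IsComponent L) {a : G} (ha : a ∈ L)
    (hac : a ∈ Subgroup.centralizer (L : Set G)) : a = 1 := by
  have h1 : a ∈ (Subgroup.center ↥L).map L.subtype := by
    rw [← inf_centralizer_self_eq_map_center]; exact ⟨ha, hac⟩
  have h2 : (Subgroup.center ↥L).map L.subtype ≤ fittingSubgroup G := by
    refine Base.le_fittingSubgroup_of_isSubnormal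
      ((isSubnormal_map_subtype_iff hL.1 _).2 (inferInstance : (Subgroup.center ↥L).Normal).isSubnormal)
      ?_
    refine Base.isNilpotent_map _ ?_
    refine (Group.isNilpotent_iff _).2 ⟨1, ?_⟩
    rw [Subgroup.upperCentralSeries_one, Subgroup.center_eq_top_iff]
    exact ⟨⟨fun x y => Subtype.ext (Subgroup.mem_center_iff.1 y.2 x)⟩⟩
  have := h2 h1
  rwa [hF, Subgroup.mem_bot] at this

theorem eq_one_of_others {L : Subgroup G} (hL : IsComponent L) {a : G} (ha : a ∈ L)
    (ho : a ∈ others L) : a = 1 :=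
  center_component hF hL ha (Subgroup.mem_centralizer_iff.2 fun _ hl => (others_commute hL hl ho).eq)

theorem part_exists {L : Subgroup G} (hL : IsComponent L) {m : G} (hm : m ∈ layer G) :
    ∃ a, Part L m a := by
  have hn : L ≤ Subgroup.normalizer (others L : Set G) := fun a ha =>
    Subgroup.centralizer_le_normalizer _
      (Subgroup.mem_centralizer_iff.2 fun b hb => (others_commute hL ha hb).eq.symm)
  rw [← sup_others hL, ← SetLike.mem_coe,
    Subgroup.coe_mul_of_left_le_normalizer_right _ _ hn, Set.mem_mul] at hm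
  obtain ⟨a, ha, b, hb, rfl⟩ := hm
  exact ⟨a, ha, by simpa using hb⟩

theorem part_unique {L : Subgroup G} (hL : IsComponent L) {m a b : G} (ha : Part L m a)
    (hb : Part L m b) : a = b :=
  inv_mul_eq_one.1 (eq_one_of_others hF hL (mul_mem (inv_mem ha.1) hb.1)
    (by simpa [mul_assoc] using mul_mem ha.2 (inv_mem hb.2)))

theorem part_mul {L : Subgroup G} (hL : IsComponent L) {m m' a a' : G} (h : Part L m a)
    (h' : Part L m' a') : Part L (m * m') (a * a') := by
  refine ⟨mul_mem h.1 h'.1, ?_⟩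
  have hc : Commute a' (a⁻¹ * m) := others_commute hL h'.1 h.2
  rw [show (a * a')⁻¹ * (m * m') = (a'⁻¹ * (a⁻¹ * m)) * m' by simp [mul_assoc],
    hc.inv_left.eq, mul_assoc]
  exact mul_mem h.2 h'.2

theorem part_one {L : Subgroup G} : Part L (1 : G) 1 := ⟨one_mem L, by simp⟩

theorem part_self {L : Subgroup G} {a : G} (ha : a ∈ L) : Part L a a := ⟨ha, by simp⟩

theorem part_others {L : Subgroup G} {b : G} (hb : b ∈ others L) : Part L b 1 :=
  ⟨one_mem L, by simpa using hb⟩

theorem part_pow {L : Subgroup G} (hL : IsComponent L) {m a : G} (h : Part L m a) (n : ℕ) :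
    Part L (m ^ n) (a ^ n) := by
  induction n with
  | zero => simpa using part_one hF
  | succ n ih => rw [pow_succ, pow_succ]; exact part_mul hF hL ih h

theorem part_inv {L : Subgroup G} (hL : IsComponent L) {m a : G} (h : Part L m a) :
    Part L m⁻¹ a⁻¹ := by
  refine ⟨inv_mem h.1, ?_⟩
  have hc : Commute a (a⁻¹ * m) := others_commute hL h.1 h.2
  rw [inv_inv, show a * m⁻¹ = a * (a⁻¹ * m)⁻¹ * a⁻¹ by simp [mul_assoc], hc.inv_right.eq,
    mul_inv_cancel_right]
  exact inv_mem h.2

theorem part_conj {L : Subgroup G} {m a : G} (h : Part L m a) (g : G) :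
    Part (L.map (MulAut.conj g).toMonoidHom) (g * m * g⁻¹) (g * a * g⁻¹) := by
  refine ⟨⟨a, h.1, rfl⟩, map_conj_others_le L g ⟨_, h.2, ?_⟩⟩
  simp [mul_assoc]

theorem component_simple {L : Subgroup G} (hL : IsComponent L) :
    IsSimpleGroup ↥L ∧ ¬ IsMulCommutative ↥L := by
  haveI := quasisimple_nontrivial hL.2
  refine ⟨⟨fun N hN => ?_⟩, quasisimple_not_isMulCommutative hL.2⟩
  rcases quasisimple_normal_eq_top_or_le_center hL.2 N with h | h
  · exact Or.inr h
  · left
    rw [eq_bot_iff]
    intro a ha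
    refine Subgroup.mem_bot.2 (Subtype.ext (center_component hF hL a.2 ?_))
    rw [Subgroup.mem_centralizer_iff]
    exact fun l hl => congrArg Subtype.val (Subgroup.mem_center_iff.1 (h ha) ⟨l, hl⟩)

end Parts

section Main

variable {Q : Subgroup G} {z : G}

theorem not_component_le_centralizer (hQ : IsLargeExtraspecial Q)
    (hz : centerIn Q = Subgroup.zpowers z) {L : Subgroup G} (hL : IsComponent L) :
    ¬ L ≤ Subgroup.centralizer ({z} : Set G) := by
  intro hle
  have h := XCent.of_large hQ hz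
  set J : Subgroup G := ⨆ K ∈ {K : Subgroup G | IsComponent K ∧
    K ≤ Subgroup.centralizer ({z} : Set G)}, K with hJ
  have hJH : J ≤ Subgroup.centralizer ({z} : Set G) := iSup₂_le fun K hK => hK.2
  have hLJ : L ≤ J := le_iSup₂ (f := fun K (_ : K ∈ {K : Subgroup G | IsComponent K ∧
    K ≤ Subgroup.centralizer ({z} : Set G)}) => K) L ⟨hL, hle⟩
  have hconj : ∀ c ∈ Subgroup.centralizer ({z} : Set G), ∀ j ∈ J, c * j * c⁻¹ ∈ J := by
    intro c hc j hj
    have : J.map (MulAut.conj c).toMonoidHom ≤ J := by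
      rw [Subgroup.map_le_iff_le_comap]
      refine iSup₂_le fun K hK => ?_
      rw [← Subgroup.map_le_iff_le_comap]
      refine le_iSup₂ (f := fun K (_ : K ∈ {K : Subgroup G | IsComponent K ∧
        K ≤ Subgroup.centralizer ({z} : Set G)}) => K) _ ⟨conj_component hK.1 c, ?_⟩
      rintro _ ⟨k, hk, rfl⟩
      exact mul_mem (mul_mem hc (hK.2 hk)) (inv_mem hc)
    exact this ⟨j, hj, rfl⟩
  have hQH : Q ≤ Subgroup.centralizer ({z} : Set G) := fun q hq =>
    Subgroup.mem_centralizer_singleton_iff.2 (h.comm q hq)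
  have hn : L ≤ Subgroup.normalizer ((J ⊓ Q : Subgroup G) : Set G) := by
    intro l hl
    rw [Subgroup.mem_normalizer_iff]
    intro y
    have hlH := hle hl
    refine ⟨fun hy => ⟨hconj l hlH y hy.1,
      h.norm l (Subgroup.mem_centralizer_singleton_iff.1 hlH) y hy.2⟩, fun hy => ?_⟩
    have h1 := hconj l⁻¹ (inv_mem hlH) _ hy.1
    have h2 := h.norm l⁻¹ (Subgroup.mem_centralizer_singleton_iff.1 (inv_mem hlH)) _ hy.2
    exact ⟨by simpa [mul_assoc] using h1, by simpa [mul_assoc] using h2⟩
  haveI : Fact (Nat.Prime 2) := ⟨Nat.prime_two⟩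
  have hsol : Group.IsSolvable ↥(J ⊓ Q : Subgroup G) :=
    haveI : Group.IsNilpotent ↥(J ⊓ Q : Subgroup G) :=
      ((isPGroup_of_extraspecial hQ.1).to_le inf_le_right).isNilpotent
    inferInstance
  have h1 := component_commutator_eq_bot_of_normalizes hL hsol hn
  have h2 : ⁅L, Q⁆ ≤ J ⊓ Q := by
    rw [Subgroup.commutator_le]
    intro l hl q hq
    rw [commutatorElement_def]
    refine Subgroup.mem_inf.2 ⟨?_, mul_mem (h.norm l
      (Subgroup.mem_centralizer_singleton_iff.1 (hle hl)) q hq) (inv_mem hq)⟩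
    rw [show l * q * l⁻¹ * q⁻¹ = l * (q * l⁻¹ * q⁻¹) by simp [mul_assoc]]
    exact mul_mem (hLJ hl) (hconj q (hQH hq) _ (inv_mem (hLJ hl)))
  have h3 : ⁅⁅L, Q⁆, L⁆ = ⊥ := by
    rw [eq_bot_iff, ← h1, Subgroup.commutator_comm L (J ⊓ Q)]
    exact Subgroup.commutator_mono h2 le_rfl
  have h4 := Subgroup.commutator_eq_bot_iff_le_centralizer.1
    (commutator_eq_bot_of_perfect (component_commutator_self hL) h3)
  rw [hQ.2.1, show (Subgroup.center ↥Q).map Q.subtype = centerIn Q from rfl, hz] at h4
  refine quasisimple_not_isMulCommutative hL.2 ⟨⟨fun a b => Subtype.ext ?_⟩⟩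
  obtain ⟨i, hi⟩ := Subgroup.mem_zpowers_iff.1 (h4 a.2)
  obtain ⟨j, hj⟩ := Subgroup.mem_zpowers_iff.1 (h4 b.2)
  show (a : G) * b = b * a
  rw [← hi, ← hj]
  exact (Commute.zpow_zpow (Commute.refl z) i j).eq

theorem large_dichotomy (hQ : IsLargeExtraspecial Q) (hz : centerIn Q = Subgroup.zpowers z)
    (M : Subgroup G) (hM : M = Subgroup.normalClosure ({z} : Set G)) :
    (IsMulCommutative ↥M ∧ generalizedFittingSubgroup G = pCore 2 G) ∨
    (M = generalizedFittingSubgroup G ∧ IsSimpleGroup ↥M ∧ ¬ IsMulCommutative ↥M) ∨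
    (M = generalizedFittingSubgroup G ∧ ∃ (L : Subgroup G) (u : G), u ∈ Q ∧ IsSimpleGroup ↥L ∧
      ¬ IsMulCommutative ↥L ∧ L ⊓ (L).map (MulAut.conj u).toMonoidHom = ⊥ ∧
      (∀ x ∈ L, ∀ y ∈ (L).map (MulAut.conj u).toMonoidHom, x * y = y * x) ∧
      L ⊔ (L).map (MulAut.conj u).toMonoidHom = M ∧
      ∃ z₁ ∈ L, z = z₁ * (u * z₁ * u⁻¹) ∧
        (∃ R : Sylow 2 ↥L, (R : Subgroup ↥L) =
            (Subgroup.centralizer ({z₁} : Set G)).subgroupOf L ∧
          (frattini ↥(R : Subgroup ↥L)).map ((L.subtype).comp (R : Subgroup ↥L).subtype) ≤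
            Subgroup.zpowers z₁) ∧
        Q ≠ (pCore 2 ↥(Subgroup.centralizer ({z} : Set G))).map
          (Subgroup.centralizer ({z} : Set G)).subtype) := by
  classical
  haveI : Fact (Nat.Prime 2) := ⟨Nat.prime_two⟩
  have h := XCent.of_large hQ hz
  have hzo : orderOf z = 2 := orderOf_eq_prime (by rw [pow_two, h.inv]) h.ne_one
  have hmin : ∀ N : Subgroup G, N.Normal → N ≠ ⊥ → M ≤ N := fun N hN hne => by
    haveI := hN
    rw [hM]
    exact Subgroup.normalClosure_le_normal
      (Set.singleton_subset_iff.2 ((mem_of_normal hQ hzo hz N).resolve_left hne))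
  haveI hMn : M.Normal := hM ▸ Subgroup.normalClosure_normal
  have hzM : z ∈ M := hM ▸ Subgroup.subset_normalClosure rfl
  haveI := Base.fittingSubgroup_normal' G
  haveI := layer_normal (G := G)
  by_cases hE : layer G = ⊥
  · left
    have hgf : generalizedFittingSubgroup G = fittingSubgroup G := by
      rw [generalizedFittingSubgroup, hE, bot_sup_eq]
    have hfit : fittingSubgroup G ≤ pCore 2 G := by
      rw [Base.fittingSubgroup_eq_iSup_pCore]
      refine iSup_le fun p => ?_
      by_cases hp : (p : ℕ) = 2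
      · rw [hp]
      haveI : Fact (p : ℕ).Prime := ⟨p.2⟩
      have : pCore (p : ℕ) G = ⊥ := by
        by_contra hne
        have hzp := hmin _ (pCore_normal _ G) hne hzM
        obtain ⟨k, hk⟩ := Base.isPGroup_pCore (p : ℕ) G ⟨z, hzp⟩
        have hk' : z ^ (p : ℕ) ^ k = 1 := by simpa using congrArg Subtype.val hk
        have hd := orderOf_dvd_of_pow_eq_one hk'
        rw [hzo] at hd
        exact hp ((Nat.prime_dvd_prime_iff_eq Nat.prime_two p.2).1
          (Nat.prime_two.dvd_of_dvd_pow hd)).symm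
      rw [this]; exact bot_le
    have hFne : pCore 2 G ≠ ⊥ := by
      intro hb
      rw [hb, le_bot_iff] at hfit
      have h1 : Subgroup.centralizer (generalizedFittingSubgroup G : Set G) ≤
          generalizedFittingSubgroup G := centralizer_fstar_le
      rw [hgf, hfit] at h1
      exact h.ne_one (Subgroup.mem_bot.1 (h1 (Subgroup.mem_centralizer_iff.2 fun a ha => by
        rw [Subgroup.mem_bot.1 ha]; simp)))
    refine ⟨?_, le_antisymm (hgf ▸ hfit)
      (hgf ▸ Base.pCore_le_fittingSubgroup 2 G)⟩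
    haveI : Nontrivial ↥(pCore 2 G) := (Subgroup.nontrivial_iff_ne_bot _).2 hFne
    haveI := (Base.isPGroup_pCore 2 G).center_nontrivial
    haveI := pCore_normal 2 G
    have hZn : ((Subgroup.center ↥(pCore 2 G)).map (pCore 2 G).subtype) ≠ ⊥ := by
      rw [Ne, Subgroup.map_eq_bot_iff_of_injective _ (pCore 2 G).subtype_injective]
      exact (Subgroup.nontrivial_iff_ne_bot _).1 inferInstance
    have hle := hmin _ inferInstance hZn
    refine ⟨⟨fun a b => Subtype.ext ?_⟩⟩
    obtain ⟨a', ha', hae⟩ := hle a.2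
    obtain ⟨b', hb', hbe⟩ := hle b.2
    show (a : G) * b = b * a
    rw [← hae, ← hbe]
    exact congrArg Subtype.val (Subgroup.mem_center_iff.1 hb' a')
  right
  have hF : fittingSubgroup G = ⊥ := by
    by_contra hne
    obtain ⟨L, hL⟩ := layer_ne_bot_iff.1 hE
    refine not_component_le_centralizer hQ hz hL fun l hl => ?_
    rw [Subgroup.mem_centralizer_singleton_iff]
    have h1 := Subgroup.commutator_eq_bot_iff_le_centralizer.1 (layer_commutator_fitting (G := G))
    exact (Subgroup.mem_centralizer_iff.1 (h1 (component_le_layer hL hl)) z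
      (hmin _ inferInstance hne hzM)).symm
  have hgf : generalizedFittingSubgroup G = layer G := by
    rw [generalizedFittingSubgroup, hF, sup_bot_eq]
  have hMlayer : M = layer G := by
    refine le_antisymm (hmin _ inferInstance hE) (layer_le_iff.2 fun L hL => ?_)
    rcases component_le_or_commutator_eq_bot hL hMn.isSubnormal with h1 | h1
    · exact h1
    · refine absurd (fun l hl => ?_) (not_component_le_centralizer hQ hz hL)
      rw [Subgroup.mem_centralizer_singleton_iff]
      exact (Subgroup.mem_centralizer_iff.1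
        (Subgroup.commutator_eq_bot_iff_le_centralizer.1 h1 hl) z hzM).symm
  rw [hgf]
  have hzE : z ∈ layer G := hMlayer ▸ hzM
  choose zp hzp using fun (L : Subgroup G) (hL : IsComponent L) => part_exists hF hL hzE
  have hzp1 : ∀ L hL, zp L hL ≠ 1 := by
    intro L hL h1
    have h2 := (hzp L hL).2
    rw [h1, inv_one, one_mul] at h2
    exact not_component_le_centralizer hQ hz hL fun l hl =>
      Subgroup.mem_centralizer_singleton_iff.2 (others_commute hL hl h2).eq
  have hzpsq : ∀ L hL, zp L hL * zp L hL = 1 := fun L hL =>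
    part_unique hF hL (part_mul hF hL (hzp L hL) (hzp L hL)) (by rw [h.inv]; exact part_one hF)
  have hQz : ∀ q ∈ Q, q * z * q⁻¹ = z := fun q hq => mul_inv_eq_iff_eq_mul.2 (h.comm q hq)
  have hcz : ∀ L hL, ∀ l ∈ L, (Commute l z ↔ Commute l (zp L hL)) := by
    intro L hL l hl
    have hb := others_commute hL hl (hzp L hL).2
    constructor
    · intro hlz
      have := hlz.mul_right hb.inv_right
      simpa using this
    · intro hla
      have := hla.mul_right hb
      simpa using this
  obtain ⟨L, hL⟩ := layer_ne_bot_iff.1 hE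
  by_cases hone : ∀ K, IsComponent K → K = L
  · left
    have hLM : M = L := hMlayer.trans (le_antisymm
      (layer_le_iff.2 fun K hK => (hone K hK).le) (component_le_layer hL))
    obtain ⟨hs, hna⟩ := component_simple hF hL
    exact ⟨hMlayer, hLM ▸ hs, hLM ▸ hna⟩
  right
  obtain ⟨u, hu, hmove⟩ : ∃ u ∈ Q, L.map (MulAut.conj u).toMonoidHom ≠ L := by
    by_contra! hall
    refine hone fun K hK => ?_
    by_contra hKL
    have hcen : zp L hL ∈ centerIn Q := by
      rw [show centerIn Q = Subgroup.centralizer (Q : Set G) from hQ.2.1.symm,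
        Subgroup.mem_centralizer_iff]
      intro q hq
      have h1 := part_conj hF (hzp L hL) q
      rw [hall q hq, hQz q hq] at h1
      exact mul_inv_eq_iff_eq_mul.1 (part_unique hF hL h1 (hzp L hL))
    rw [hz] at hcen
    have hzL : zp L hL = z := (eq_one_or_of_mem_zpowers h.inv hcen).resolve_left (hzp1 L hL)
    have hzLmem : z ∈ L := hzL ▸ (hzp L hL).1
    exact hzp1 K hK (part_unique hF hK (hzp K hK)
      (part_others hF (le_others hL (Ne.symm hKL) hzLmem)))
  set L' := L.map (MulAut.conj u).toMonoidHom with hL'def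
  have hL' : IsComponent L' := conj_component hL u
  set a := zp L hL with ha
  have haL : a ∈ L := (hzp L hL).1
  have haa : a * a = 1 := hzpsq L hL
  have hainv : a⁻¹ = a := inv_eq_of_mul_eq_one_right haa
  have hcomm' : ∀ x ∈ L, ∀ y ∈ L', Commute x y := fun x hx y hy =>
    others_commute hL hx (le_others hL' hmove hy)
  have hd : ∀ c ∈ L, Commute c z → c * (u * c⁻¹ * u⁻¹) ∈ Q := by
    intro c _ hc
    rw [show c * (u * c⁻¹ * u⁻¹) = c * u * c⁻¹ * u⁻¹ by simp [mul_assoc]]
    exact mul_mem (h.norm c hc.eq u hu) (inv_mem hu)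
  have hdpart : ∀ c ∈ L, Part L (c * (u * c⁻¹ * u⁻¹)) c := fun c hc =>
    ⟨hc, by simpa using le_others hL' hmove (⟨c⁻¹, inv_mem hc, by simp⟩ : u * c⁻¹ * u⁻¹ ∈ L')⟩
  have hu' : zp L' hL' = u * a * u⁻¹ := by
    have h1 := part_conj hF (hzp L hL) u
    rw [hQz u hu] at h1
    exact part_unique hF hL' (hzp L' hL') h1
  obtain ⟨hsimple, hnab⟩ := component_simple hF hL
  haveI := hsimple
  have haL' : orderOf (⟨a, haL⟩ : L) = 2 := by
    rw [Subgroup.orderOf_mk]; exact orderOf_eq_prime (by rw [pow_two, haa]) (hzp1 L hL)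
  obtain ⟨⟨e, heL⟩, hea, he1, hea'⟩ := exists_commute_ne hnab haL'
  have hez : Commute e z := (hcz L hL e heL).2 (congrArg Subtype.val hea)
  -- there are only two components
  have htwo : ∀ K, IsComponent K → K = L ∨ K = L' := by
    by_contra! hno
    obtain ⟨K, hK, hKL, hKL'⟩ := hno
    obtain ⟨w, hw⟩ : ∃ w, w = a * (u * a⁻¹ * u⁻¹) := ⟨_, rfl⟩
    have hwQ : w ∈ Q := hw ▸ hd a haL ((hcz L hL a haL).2 (Commute.refl a))
    have hwL : Part L w a := hw ▸ hdpart a haL
    have hw1 : w ≠ 1 := fun e' => hzp1 L hL (part_unique hF hL hwL (by rw [e']; exact part_one hF))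
    have hwz : w ≠ z := fun e' => hzp1 K hK (part_unique hF hK (hzp K hK) (e' ▸ part_others hF
      (hw ▸ mul_mem (le_others hL hKL.symm haL)
        (le_others hL' hKL'.symm ⟨a⁻¹, inv_mem haL, by simp⟩))))
    obtain ⟨r, hr, hrw⟩ := noncentral_moves h le_rfl hwQ fun hall => by
      rcases h.center w hwQ hall with e' | e'
      exacts [hw1 e', hwz e']
    have hzw : Part L (z * w) 1 := haa ▸ part_mul hF hL (hzp L hL) hwL
    have hmoveL : L.map (MulAut.conj r).toMonoidHom ≠ L := by
      intro hfix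
      have h1 := part_conj hF hwL r
      rw [hfix, hrw] at h1
      have h2 := part_unique hF hL h1 hzw
      exact hzp1 L hL (by simpa using h2)
    have hmoveL' : L'.map (MulAut.conj r).toMonoidHom ≠ L := by
      intro hfix
      have h1 := part_conj hF (part_mul hF hL' (part_others hF (le_others hL hmove.symm haL))
        (part_self hF (⟨a⁻¹, inv_mem haL, by simp⟩ : u * a⁻¹ * u⁻¹ ∈ L'))) r
      rw [hfix, ← hw, hrw, one_mul] at h1
      have h2 := part_unique hF hL h1 hzw
      exact hzp1 L hL (by simpa using h2)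
    have key : ∀ c ∈ L, Commute c z → c = 1 ∨ c = a := by
      intro c hc hcz'
      obtain ⟨d, hdd⟩ : ∃ d, d = c * (u * c⁻¹ * u⁻¹) := ⟨_, rfl⟩
      have hdQ : d ∈ Q := hdd ▸ hd c hc hcz'
      have h0 : Part L (r * d * r⁻¹) 1 := by
        refine part_others hF ?_
        rw [show r * d * r⁻¹ = r * c * r⁻¹ * (r * (u * c⁻¹ * u⁻¹) * r⁻¹) by
          rw [hdd]; simp [mul_assoc]]
        exact mul_mem (le_others (conj_component hL r) hmoveL ⟨c, hc, rfl⟩)
          (le_others (conj_component hL' r) hmoveL' ⟨_, ⟨c⁻¹, inv_mem hc, by simp⟩, rfl⟩)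
      rcases h.commEl r hr d hdQ with e' | e' <;> rw [e', hdd] at h0
      · exact Or.inl (part_unique hF hL (hdpart c hc) h0)
      · right
        have h1 := part_unique hF hL (part_mul hF hL (hzp L hL) (hdpart c hc)) h0
        rw [← hainv]
        exact eq_inv_of_mul_eq_one_right h1
    rcases key e heL hez with e' | e'
    · exact he1 (Subtype.ext e')
    · exact hea' (Subtype.ext e')
  have hothers : others L = L' := by
    refine le_antisymm (iSup₂_le fun K hK => ?_) (le_others hL' hmove)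
    rcases htwo K hK.1 with e' | e'
    exacts [absurd e' hK.2, e'.le]
  have hsup : L ⊔ L' = M := by rw [← hothers, sup_others hL, hMlayer]
  have hzeq : z = a * (u * a * u⁻¹) := by
    have h1 : a⁻¹ * z ∈ L' := hothers ▸ (hzp L hL).2
    have h2 : Part L' z (a⁻¹ * z) := by
      refine ⟨h1, ?_⟩
      have hc' : Commute z a := ((hcz L hL a haL).2 (Commute.refl a)).symm
      rw [show (a⁻¹ * z)⁻¹ * z = z⁻¹ * a * z by simp [mul_assoc], mul_assoc, ← hc'.eq,
        inv_mul_cancel_left]
      exact le_others hL hmove.symm haL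
    rw [← hu', part_unique hF hL' (hzp L' hL') h2]
    simp
  -- the centraliser in `L`
  have hC2 : ∀ c ∈ L, Commute c z → ∃ k, c ^ 2 ^ k = 1 := by
    intro c hc hcz'
    obtain ⟨k, hk⟩ := (isPGroup_of_extraspecial hQ.1) ⟨_, hd c hc hcz'⟩
    have hk' : (c * (u * c⁻¹ * u⁻¹)) ^ 2 ^ k = 1 := by simpa using congrArg Subtype.val hk
    have h1 := part_pow hF hL (hdpart c hc) (2 ^ k)
    rw [hk'] at h1
    exact ⟨k, part_unique hF hL h1 (part_one hF)⟩
  have hCsq : ∀ c ∈ L, Commute c z → c * c = 1 ∨ c * c = a := by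
    intro c hc hcz'
    have h1 := part_mul hF hL (hdpart c hc) (hdpart c hc)
    rcases h.sq _ (hd c hc hcz') with e' | e' <;> rw [e'] at h1
    exacts [Or.inl (part_unique hF hL h1 (part_one hF)), Or.inr (part_unique hF hL h1 (hzp L hL))]
  have hCcomm : ∀ c ∈ L, Commute c z → ∀ d ∈ L, Commute d z →
      c * d * c⁻¹ * d⁻¹ = 1 ∨ c * d * c⁻¹ * d⁻¹ = a := by
    intro c hc hcz' d hd' hdz'
    have h1 := part_mul hF hL (part_mul hF hL (part_mul hF hL (hdpart c hc) (hdpart d hd'))
      (part_inv hF hL (hdpart c hc))) (part_inv hF hL (hdpart d hd'))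
    rcases h.commEl _ (hd c hc hcz') _ (hd d hd' hdz') with e' | e'
    · rw [mul_inv_eq_one.2 e'] at h1
      exact Or.inl (part_unique hF hL h1 (part_one hF))
    · rw [mul_inv_eq_iff_eq_mul.2 e'] at h1
      exact Or.inr (part_unique hF hL h1 (hzp L hL))
  set CL := Subgroup.centralizer ({(⟨a, haL⟩ : L)} : Set L) with hCL
  have hCLiff : ∀ c : L, c ∈ CL ↔ Commute (c : G) z := fun c => by
    rw [hCL, Subgroup.mem_centralizer_singleton_iff, hcz L hL c c.2]
    exact ⟨fun h' => congrArg Subtype.val h', fun h' => Subtype.ext h'⟩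
  have hCLp : IsPGroup 2 CL := fun c => by
    obtain ⟨k, hk⟩ := hC2 _ c.1.2 ((hCLiff c.1).1 c.2)
    exact ⟨k, Subtype.ext (Subtype.ext (by simpa using hk))⟩
  obtain ⟨P, hP⟩ := hCLp.exists_le_sylow
  have hPC : (P : Subgroup L) = CL := by
    refine le_antisymm ?_ hP
    by_contra hlt
    haveI : Group.IsNilpotent (P : Subgroup L) := P.isPGroup'.isNilpotent
    have hK : CL.subgroupOf (P : Subgroup L) < ⊤ :=
      lt_top_iff_ne_top.2 fun e' => hlt (Subgroup.subgroupOf_eq_top.1 e')
    obtain ⟨n, hn, hnC⟩ := SetLike.exists_of_lt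
      (Group.normalizerCondition_of_isNilpotent _ hK)
    have hnconj : ∀ c ∈ CL, (n : L) * c * (n : L)⁻¹ ∈ CL := fun c hc =>
      (Subgroup.mem_normalizer_iff.1 hn (⟨c, hP hc⟩ : (P : Subgroup L))).1 hc
    set v : G := ((n : L) : G) * a * ((n : L) : G)⁻¹ with hv
    have hvC : Commute v z :=
      (hCLiff _).1 (hnconj ⟨a, haL⟩ (Subgroup.mem_centralizer_singleton_iff.2 rfl))
    have hvL : v ∈ L := mul_mem (mul_mem (n : L).2 haL) (inv_mem (n : L).2)
    have hva : v ≠ a := fun e' => hnC ((hCLiff _).2 ((hcz L hL _ (n : L).2).2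
      (mul_inv_eq_iff_eq_mul.1 e')))
    have hv1 : v ≠ 1 := fun e' => hzp1 L hL (by simpa [hv] using e')
    have hnL : ∀ c ∈ L, Commute c z →
        Commute (((n : L) : G) * c * ((n : L) : G)⁻¹) z :=
      fun c hc hcz' => (hCLiff _).1 (hnconj ⟨c, hc⟩ ((hCLiff _).2 hcz'))
    have hexp : ∀ c ∈ L, Commute c z → c * c = 1 := by
      intro c hc hcz'
      rcases hCsq c hc hcz' with e' | e'
      · exact e'
      exfalso
      have h1 : v = ((n : L) : G) * c * ((n : L) : G)⁻¹ * (((n : L) : G) * c * ((n : L) : G)⁻¹) := by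
        rw [hv, ← e']; simp [mul_assoc]
      rcases hCsq _ (mul_mem (mul_mem (n : L).2 hc) (inv_mem (n : L).2)) (hnL c hc hcz') with e'' | e''
      exacts [hv1 (h1.trans e''), hva (h1.trans e'')]
    have hab : ∀ c ∈ L, Commute c z → ∀ d ∈ L, Commute d z → Commute c d := by
      intro c hc hcz' d hd' hdz'
      have e1 : c⁻¹ = c := inv_eq_of_mul_eq_one_right (hexp c hc hcz')
      have e2 : d⁻¹ = d := inv_eq_of_mul_eq_one_right (hexp d hd' hdz')
      have e3 := inv_eq_of_mul_eq_one_right (hexp _ (mul_mem hc hd') (hcz'.mul_left hdz'))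
      rw [mul_inv_rev, e1, e2] at e3
      exact e3.symm
    let Fix : G → G → Prop := fun k c => k * c * k⁻¹ = c
    have hkL : ∀ k ∈ Q, L.map (MulAut.conj k).toMonoidHom = L →
        ∀ c ∈ L, k * c * k⁻¹ ∈ L := fun k _ hk c hc => hk.le ⟨c, hc, rfl⟩
    have hka : ∀ k ∈ Q, L.map (MulAut.conj k).toMonoidHom = L → Fix k a := by
      intro k hk hkfix
      have h1 := part_conj hF (hzp L hL) k
      rw [hkfix, hQz k hk] at h1
      exact part_unique hF hL h1 (hzp L hL)
    have hkc : ∀ k ∈ Q, L.map (MulAut.conj k).toMonoidHom = L → ∀ c ∈ L, Commute c z →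
        (Fix k c ∧ Commute k (c * (u * c⁻¹ * u⁻¹))) ∨ (k * c * k⁻¹ = a * c) := by
      intro k hk hkfix c hc hcz'
      have h1 := part_conj hF (hdpart c hc) k
      rw [hkfix] at h1
      rcases h.commEl k hk _ (hd c hc hcz') with e' | e'
      · left
        refine ⟨part_unique hF hL h1 ?_, mul_inv_eq_iff_eq_mul.1 e'⟩
        rw [e']; exact hdpart c hc
      · right
        refine part_unique hF hL h1 ?_
        rw [e']; exact part_mul hF hL (hzp L hL) (hdpart c hc)
    -- fixing `v` means fixing everything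
    have hall : ∀ k ∈ Q, L.map (MulAut.conj k).toMonoidHom = L → Fix k v →
        ∀ c ∈ L, Commute c z → Fix k c := by
      intro k hk hkfix hkv c hc hcz'
      by_contra hmv
      have hkc' := ((hkc k hk hkfix c hc hcz').resolve_left fun h' => hmv h'.1)
      obtain ⟨N, hN⟩ : ∃ N, N = ((n : L) : G) := ⟨_, rfl⟩
      have hNL : N ∈ L := hN ▸ (n : L).2
      obtain ⟨N', hN'⟩ : ∃ N', N' = k * N * k⁻¹ := ⟨_, rfl⟩
      have hN'L : N' ∈ L := hN' ▸ hkL k hk hkfix N hNL
      have hN'a : N' * a * N'⁻¹ = v := by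
        calc N' * a * N'⁻¹ = k * (N * (k⁻¹ * a * k) * N⁻¹) * k⁻¹ := by rw [hN']; simp [mul_assoc]
          _ = k * v * k⁻¹ := by
            rw [show k⁻¹ * a * k = a by
              conv_lhs => rw [← (hka k hk hkfix : k * a * k⁻¹ = a)]
              simp [mul_assoc], hN]
          _ = v := hkv
      have hm : Commute (N⁻¹ * N') z := by
        refine (hcz L hL _ (mul_mem (inv_mem hNL) hN'L)).2 (mul_inv_eq_iff_eq_mul.1 ?_)
        calc N⁻¹ * N' * a * (N⁻¹ * N')⁻¹ = N⁻¹ * (N' * a * N'⁻¹) * N := by simp [mul_assoc]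
          _ = a := by rw [hN'a, hv, hN]; simp [mul_assoc]
      have hact : ∀ d ∈ L, Commute d z → N' * d * N'⁻¹ = N * d * N⁻¹ := by
        intro d hd' hdz'
        calc N' * d * N'⁻¹ = N * (N⁻¹ * N' * d * (N⁻¹ * N')⁻¹) * N⁻¹ := by simp [mul_assoc]
          _ = N * d * N⁻¹ := by
            rw [mul_inv_eq_iff_eq_mul.2 (hab _ (mul_mem (inv_mem hNL) hN'L) hm d hd' hdz').eq]
      have hbig : k * (N * c * N⁻¹) * k⁻¹ = v * (N * c * N⁻¹) := by
        calc k * (N * c * N⁻¹) * k⁻¹ = N' * (k * c * k⁻¹) * N'⁻¹ := by rw [hN']; simp [mul_assoc]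
          _ = N' * (a * c) * N'⁻¹ := by rw [hkc']
          _ = N * (a * c) * N⁻¹ :=
            hact _ (mul_mem haL hc) (((hcz L hL a haL).2 (Commute.refl a)).mul_left hcz')
          _ = v * (N * c * N⁻¹) := by rw [hv, hN]; simp [mul_assoc]
      have hNc : N * c * N⁻¹ ∈ L := mul_mem (mul_mem hNL hc) (inv_mem hNL)
      have hNcz : Commute (N * c * N⁻¹) z := hN ▸ hnL c hc hcz'
      rcases hkc k hk hkfix _ hNc hNcz with ⟨e', -⟩ | e'
      · exact hv1 (mul_eq_right.1 (hbig.symm.trans e'))
      · exact hva (mul_right_cancel (hbig.symm.trans e'))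
    have hfixed : ∀ c ∈ L, Commute c z →
        (∀ k ∈ Q, L.map (MulAut.conj k).toMonoidHom = L → Fix k c) → c = 1 ∨ c = a := by
      intro c hc hcz' hfix
      obtain ⟨d, hdd⟩ : ∃ d, d = c * (u * c⁻¹ * u⁻¹) := ⟨_, rfl⟩
      have hdQ : d ∈ Q := hdd ▸ hd c hc hcz'
      have hkd : ∀ k ∈ Q, L.map (MulAut.conj k).toMonoidHom = L → Commute k d := by
        intro k hk hkfix
        rcases hkc k hk hkfix c hc hcz' with ⟨-, e'⟩ | e'
        · exact hdd ▸ e'
        · exact absurd (mul_eq_right.1 (e'.symm.trans (hfix k hk hkfix))) (hzp1 L hL)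
      have hc2 : c⁻¹ = c := inv_eq_of_mul_eq_one_right (hexp c hc hcz')
      have huu : Commute (u * u) c := by
        rcases h.sq u hu with e' | e' <;> rw [e']
        exacts [Commute.one_left c, hcz'.symm]
      have hud : Commute u d := by
        refine mul_inv_eq_iff_eq_mul.1 ?_
        rw [hdd, hc2]
        calc u * (c * (u * c * u⁻¹)) * u⁻¹ = u * c * u⁻¹ * (u * u * c * (u * u)⁻¹) := by
              simp [mul_assoc]
          _ = u * c * u⁻¹ * c := by rw [mul_inv_eq_iff_eq_mul.2 huu.eq]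
          _ = c * (u * c * u⁻¹) := ((hcomm' c hc _ ⟨c, hc, rfl⟩).eq).symm
      have hcen : ∀ q ∈ Q, q * d = d * q := by
        intro q hq
        rcases htwo _ (conj_component hL q) with e' | e'
        · exact (hkd q hq e').eq
        · have hfix' : L.map (MulAut.conj (u⁻¹ * q)).toMonoidHom = L := by
            ext y
            simp only [Subgroup.mem_map_equiv, MulAut.conj_symm_apply]
            have h1 := SetLike.ext_iff.1 e' (u * y * u⁻¹)
            simp only [L', Subgroup.mem_map_equiv, MulAut.conj_symm_apply] at h1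
            simpa [mul_assoc] using h1
          have h1 := hud.mul_left (hkd _ (mul_mem (inv_mem hu) hq) hfix')
          rw [mul_inv_cancel_left] at h1
          exact h1.eq
      have h1 := hdpart c hc
      rw [← hdd] at h1
      rcases h.center d hdQ hcen with e' | e' <;> rw [e'] at h1
      exacts [Or.inl (part_unique hF hL h1 (part_one hF)),
        Or.inr (part_unique hF hL h1 (hzp L hL))]
    obtain ⟨k₀, hk₀, hk₀L, hk₀v⟩ : ∃ k ∈ Q, L.map (MulAut.conj k).toMonoidHom = L ∧
        k * v * k⁻¹ = a * v := by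
      by_contra! hno
      rcases hfixed v hvL hvC fun k hk hkfix =>
        ((hkc k hk hkfix v hvL hvC).resolve_right (hno k hk hkfix)).1 with e' | e'
      exacts [hv1 e', hva e']
    have hsub : ∀ c ∈ L, Commute c z → c = 1 ∨ c = a ∨ c = v ∨ c = a * v := by
      have hfix0 : ∀ c ∈ L, Commute c z → Fix k₀ c → c = 1 ∨ c = a := by
        intro c hc hcz' hc0
        refine hfixed c hc hcz' fun k hk hkfix => ?_
        rcases hkc k hk hkfix v hvL hvC with ⟨e', -⟩ | e'
        · exact hall k hk hkfix e' c hc hcz'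
        · have hk' : L.map (MulAut.conj (k₀⁻¹ * k)).toMonoidHom = L := by
            ext y
            simp only [Subgroup.mem_map_equiv, MulAut.conj_symm_apply]
            have h1 := SetLike.ext_iff.1 (hkfix.trans hk₀L.symm) (k₀ * y * k₀⁻¹)
            simp only [Subgroup.mem_map_equiv, MulAut.conj_symm_apply] at h1
            simpa [mul_assoc] using h1
          have h1 : Fix (k₀⁻¹ * k) v := by
            show k₀⁻¹ * k * v * (k₀⁻¹ * k)⁻¹ = v
            calc k₀⁻¹ * k * v * (k₀⁻¹ * k)⁻¹ = k₀⁻¹ * (k * v * k⁻¹) * k₀ := by simp [mul_assoc]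
              _ = v := by rw [e', ← hk₀v]; simp [mul_assoc]
          have h2 : k₀⁻¹ * k * c * (k₀⁻¹ * k)⁻¹ = c :=
            hall _ (mul_mem (inv_mem hk₀) hk) hk' h1 c hc hcz'
          show k * c * k⁻¹ = c
          calc k * c * k⁻¹ = k₀ * (k₀⁻¹ * k * c * (k₀⁻¹ * k)⁻¹) * k₀⁻¹ := by simp [mul_assoc]
            _ = c := by rw [h2]; exact hc0
      intro c hc hcz'
      rcases hkc k₀ hk₀ hk₀L c hc hcz' with ⟨e', -⟩ | e'
      · rcases hfix0 c hc hcz' e' with h' | h'
        exacts [Or.inl h', Or.inr (Or.inl h')]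
      · have h1 : Fix k₀ (c * v) := by
          show k₀ * (c * v) * k₀⁻¹ = c * v
          calc k₀ * (c * v) * k₀⁻¹ = k₀ * c * k₀⁻¹ * (k₀ * v * k₀⁻¹) := by simp [mul_assoc]
            _ = a * a * (c * v) := by
              rw [e', hk₀v]
              exact (hab c hc hcz' a haL ((hcz L hL a haL).2 (Commute.refl a))).mul_mul_mul_comm a v
            _ = c * v := by rw [haa, one_mul]
        have hvv : v⁻¹ = v := inv_eq_of_mul_eq_one_right (hexp v hvL hvC)
        rcases hfix0 _ (mul_mem hc hvL) (hcz'.mul_left hvC) h1 with h' | h'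
        · exact Or.inr (Or.inr (Or.inl ((eq_inv_of_mul_eq_one_left h').trans hvv)))
        · refine Or.inr (Or.inr (Or.inr ?_))
          rw [← h', mul_assoc, hexp v hvL hvC, mul_one]
    have h4 : Nat.card CL ≤ 4 := by
      have hs : (fun c : L => (c : G)) '' (CL : Set L) ⊆ {1, a, v, a * v} := by
        rintro _ ⟨c, hc, rfl⟩
        exact hsub c c.2 ((hCLiff c).1 hc)
      have h1 := Set.ncard_le_ncard hs (Set.toFinite _)
      rw [Set.ncard_image_of_injective _ Subtype.val_injective, ← Nat.card_coe_set_eq] at h1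
      refine h1.trans ((Set.ncard_insert_le _ _).trans ?_)
      have := Set.ncard_insert_le a ({v, a * v} : Set G)
      have := Set.ncard_insert_le v ({a * v} : Set G)
      rw [Set.ncard_singleton] at this
      omega
    exact hlt (sylow_le_centralizer hnab haL' P hP h4)
  refine ⟨hMlayer, L, u, hu, hsimple, hnab, ?_, fun x hx y hy => (hcomm' x hx y hy).eq, hsup,
    a, haL, hzeq, ⟨P, ?_, ?_⟩, ?_⟩
  · rw [eq_bot_iff]
    exact fun y hy => Subgroup.mem_bot.2 (eq_one_of_others hF hL hy.1 (le_others hL' hmove hy.2))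
  · rw [hPC]
    ext c
    rw [hCLiff, Subgroup.mem_subgroupOf, Subgroup.mem_centralizer_singleton_iff, hcz L hL c c.2]
    exact Iff.rfl
  · have hPz : ∀ c : (P : Subgroup L), Commute ((c : L) : G) z := fun c =>
      (hCLiff _).1 (hPC ▸ c.2)
    set ψ := (L.subtype).comp (P : Subgroup L).subtype
    rw [Subgroup.map_le_iff_le_comap]
    haveI : ((Subgroup.zpowers a).comap ψ).Normal := ⟨fun m hm g => by
      have hga : Commute ((g : L) : G) a := (hcz L hL _ (g : L).2).1 (hPz g)
      show ((g : L) : G) * ((m : L) : G) * ((g : L) : G)⁻¹ ∈ Subgroup.zpowers a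
      obtain ⟨i, hi⟩ := Subgroup.mem_zpowers_iff.1 hm
      rw [show ((m : L) : G) = a ^ i from hi.symm, (hga.zpow_right i).eq, mul_inv_cancel_right]
      exact Subgroup.mem_zpowers_iff.2 ⟨i, rfl⟩⟩
    refine CfsgLib.PGroups.frattini_le_of_elementary_quotient (p := 2) ?_ fun c => ?_
    · rw [commutator_def, Subgroup.commutator_le]
      intro c _ d _
      show ((c : L) : G) * ((d : L) : G) * ((c : L) : G)⁻¹ * ((d : L) : G)⁻¹ ∈ Subgroup.zpowers a
      rcases hCcomm _ (c : L).2 (hPz c) _ (d : L).2 (hPz d) with e' | e' <;> rw [e']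
      exacts [one_mem _, Subgroup.mem_zpowers a]
    · show ((c ^ 2 : (P : Subgroup L)) : L).1 ∈ Subgroup.zpowers a
      rw [SubgroupClass.coe_pow, SubgroupClass.coe_pow, pow_two]
      rcases hCsq _ (c : L).2 (hPz c) with e' | e' <;> rw [e']
      exacts [one_mem _, Subgroup.mem_zpowers a]
  · intro hQO
    set H := Subgroup.centralizer ({z} : Set G) with hH
    have hle : layer G ⊓ H ≤ Q := by
      rw [hQO]
      refine CfsgLib.Base.le_map_pCore inf_le_right ?_ fun m => ?_
      · intro g hg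
        rw [Subgroup.mem_normalizer_iff]
        intro y
        have key : ∀ g ∈ H, ∀ y ∈ layer G ⊓ H, g * y * g⁻¹ ∈ layer G ⊓ H := fun g hg y hy =>
          ⟨(layer_normal (G := G)).conj_mem y hy.1 g, show g * y * g⁻¹ ∈ H from mul_mem (mul_mem hg hy.2) (inv_mem hg)⟩
        refine ⟨key g hg y, fun hy => ?_⟩
        have := key g⁻¹ (inv_mem hg) _ hy
        simpa [mul_assoc] using this
      · obtain ⟨m, hmE, hmH⟩ := m
        obtain ⟨p, hp⟩ := part_exists hF hL hmE
        have hq : p⁻¹ * m ∈ L' := hothers ▸ hp.2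
        have hmz : Commute m z := Subgroup.mem_centralizer_singleton_iff.1 hmH
        have hpz : Commute p z := (hcz L hL p hp.1).2 (mul_inv_eq_iff_eq_mul.1
          (part_unique hF hL (part_mul hF hL (part_mul hF hL hp (hzp L hL)) (part_inv hF hL hp))
            (by rw [mul_inv_eq_iff_eq_mul.2 hmz.eq]; exact hzp L hL)))
        obtain ⟨k, hk⟩ := hC2 p hp.1 hpz
        have hqz : Commute (p⁻¹ * m) z := hpz.inv_left.mul_left hmz
        obtain ⟨q₀, hq₀, hqe⟩ := hq
        have hqe' : u * q₀ * u⁻¹ = p⁻¹ * m := by simpa using hqe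
        have hq₀z : Commute q₀ z := by
          have := (commute_conjugate_iff u (a := q₀) (b := z)).1 (by rw [hQz u hu, hqe']; exact hqz)
          exact this
        obtain ⟨k', hk'⟩ := hC2 q₀ hq₀ hq₀z
        refine ⟨k + k', Subtype.ext ?_⟩
        show m ^ 2 ^ (k + k') = 1
        have hc : Commute p (p⁻¹ * m) := others_commute hL hp.1 hp.2
        rw [← mul_inv_cancel_left p m, hc.mul_pow, pow_add, pow_mul, hk, one_pow, one_mul,
          ← hqe', conj_pow, mul_comm (2 ^ k), pow_mul, hk', one_pow]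
        simp
    have heQ : e ∈ Q := hle ⟨component_le_layer hL heL, Subgroup.mem_centralizer_singleton_iff.2 hez⟩
    have he1' : e ≠ 1 := fun e' => he1 (Subtype.ext e')
    have h1 : Part L (u * e * u⁻¹ * e⁻¹) e⁻¹ := by
      have := part_mul hF hL
        (part_others hF (le_others hL' hmove (⟨e, heL, rfl⟩ : u * e * u⁻¹ ∈ L')))
        (part_self hF (inv_mem heL))
      rwa [one_mul] at this
    rcases h.commEl u hu e heQ with e' | e'
    · rw [mul_inv_eq_one.2 e'] at h1
      exact he1' (inv_eq_one.1 (part_unique hF hL h1 (part_one hF)))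
    · rw [mul_inv_eq_iff_eq_mul.2 e'] at h1
      have h2 := part_unique hF hL h1 (hzp L hL)
      exact hea' (Subtype.ext (show e = a by rw [← inv_inv e, h2, hainv]))

end Main

end CfsgLib.ThreeTransp
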