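import Cfsg.Agent.Lib.Spor.Co0Main
import Cfsg.Agent.Lib.Spor.LeechIndex

/-!
The invariant quadratic form on the Leech lattice modulo twice the lattice is unique.
-/

set_option autoImplicit false
set_option maxRecDepth 100000

namespace CfsgLib.ThreeTransp.LeechFormMod2

open Cfsg CfsgLib.Spor

/-- The list with entries `a` at the positions `s` and `b` at the positions `t`. -/
def two (s : List ℕ) (a : ℤ) (t : List ℕ) (b : ℤ) : List ℤ :=
  (List.range 24).map fun i => if i ∈ s then a else if i ∈ t then b else 0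

theorem two_length (s : List ℕ) (a : ℤ) (t : List ℕ) (b : ℤ) : (two s a t b).length = 24 := by
  simp [two]

theorem two_mem {s : List ℕ} {a : ℤ} {t : List ℕ} {b : ℤ} (h : inLeechB (two s a t b) = true) :
    vOf (two s a t b) ∈ leechLattice :=
  mem_leech_of_inLeechB (by rw [lOf_vOf (two_length s a t b)]; exact h)

/-- The witness vectors. -/
def wA : List ℤ := two [0, 1] 4 [] 0
/-- The witness vectors. -/
def wB : List ℤ := two [2, 3] 4 [] 0
/-- The witness vectors. -/
def wC : List ℤ := two [4] 4 [3] (-4)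
/-- The witness vectors. -/
def wD : List ℤ := two [12] 4 [1] (-4)
/-- The witness vectors. -/
def wO : List ℤ := two [0, 12, 14, 16, 17, 18, 22, 23] 2 [] 0

theorem wit_mem : inLeechB wA = true ∧ inLeechB wB = true ∧ inLeechB wC = true ∧
    inLeechB wD = true ∧ inLeechB wO = true := by decide +kernel

theorem wit_norms :
    sqNorm (vOf wA) = 32 ∧ sqNorm (vOf wB) = 32 ∧ sqNorm (vOf wC) = 32 ∧ sqNorm (vOf wD) = 32 ∧
    sqNorm (vOf wO) = 32 ∧
    sqNorm (vOf wA + vOf wB) = 64 ∧ sqNorm (vOf wA + vOf wC) = 64 ∧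
    sqNorm (vOf wB + vOf wC) = 32 ∧ sqNorm (vOf wA + vOf wB + vOf wC) = 64 ∧
    sqNorm (vOf wO + vOf wA) = 80 ∧ sqNorm (vOf wO + vOf wD) = 80 ∧
    sqNorm (vOf wA + vOf wD) = 32 ∧ sqNorm (vOf wO + vOf wA + vOf wD) = 96 ∧
    sqNorm (vOf wO - vOf wA) = 48 ∧ sqNorm (vOf wO - vOf wD) = 48 ∧
    sqNorm (vOf wO - (vOf wA + vOf wD)) = 32 := by decide +kernel

theorem quad_facts : ∀ x : ZMod 2, x + x = 0 := by decide

theorem sqNorm_quad (u v w : GolayPt → ℤ) : sqNorm (u + v + w) + sqNorm u + sqNorm v + sqNorm w
    = sqNorm (u + v) + sqNorm (u + w) + sqNorm (v + w) := by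
  simp only [sqNorm, ← Finset.sum_add_distrib]
  exact Finset.sum_congr rfl fun i _ => by simp only [Pi.add_apply]; ring

/-- The standard form. -/
def q0 (v : leechLattice) : ZMod 2 := ((sqNorm (v : GolayPt → ℤ) / 16 : ℤ) : ZMod 2)

theorem q0_eq {v : leechLattice} {k : ℤ} (h : sqNorm (v : GolayPt → ℤ) = 16 * k) :
    q0 v = (k : ZMod 2) := by rw [q0, h, Int.mul_ediv_cancel_left _ (by norm_num)]

theorem q0_quad (u v w : leechLattice) :
    q0 (u + v + w) + q0 u + q0 v + q0 w = q0 (u + v) + q0 (u + w) + q0 (v + w) := by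
  have h : ∀ x : leechLattice, ∃ k : ℤ, sqNorm (x : GolayPt → ℤ) = 16 * k := fun x =>
    sixteen_dvd_sqNorm x.2
  obtain ⟨a, ha⟩ := h (u + v + w); obtain ⟨b, hb⟩ := h u; obtain ⟨c, hc⟩ := h v
  obtain ⟨d, hd⟩ := h w; obtain ⟨e, he⟩ := h (u + v); obtain ⟨f, hf⟩ := h (u + w)
  obtain ⟨g, hg⟩ := h (v + w)
  have hs := sqNorm_quad (u : GolayPt → ℤ) v w
  simp only [AddSubgroup.coe_add] at ha he hf hg
  rw [ha, hb, hc, hd, he, hf, hg] at hs
  rw [q0_eq (v := u + v + w) (by simpa using ha), q0_eq hb, q0_eq hc, q0_eq hd,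
    q0_eq (v := u + v) (by simpa using he), q0_eq (v := u + w) (by simpa using hf),
    q0_eq (v := v + w) (by simpa using hg)]
  exact_mod_cast congrArg (fun t : ℤ => (t : ZMod 2)) (show a + b + c + d = e + f + g by omega)

theorem eq_zero_of_gens (D : leechLattice → ZMod 2)
    (hquad : ∀ u v w, D (u + v + w) + D u + D v + D w = D (u + v) + D (u + w) + D (v + w))
    (h1 : ∀ u : leechLattice, sqNorm (u : GolayPt → ℤ) = 32 → D u = 0)
    (h2 : ∀ u v : leechLattice, sqNorm (u : GolayPt → ℤ) = 32 → sqNorm (v : GolayPt → ℤ) = 32 →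
      D (u + v) = 0) (v : leechLattice) : D v = 0 := by
  have h0 : D 0 = 0 := by
    have := hquad 0 0 0
    simp only [add_zero] at this
    revert this; generalize D 0 = x; revert x; decide
  have hind : ∀ P : leechLattice → Prop, (∀ u : leechLattice, sqNorm (u : GolayPt → ℤ) = 32 → P u) →
      P 0 → (∀ x y, P x → P y → P (x + y)) → (∀ x, P x → P (-x)) → ∀ x, P x := by
    intro P hg hz ha hn x
    have key : ∀ y ∈ AddSubgroup.closure minVecs, ∀ hy : y ∈ leechLattice, P ⟨y, hy⟩ := by
      intro y hy
      induction hy using AddSubgroup.closure_induction with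
      | mem y hy => intro hy'; exact hg _ hy.2
      | zero => intro hy'; exact hz
      | add p q hp hq ihp ihq =>
        intro hy'
        rw [closure_minVecs] at hp hq
        exact ha _ _ (ihp hp) (ihq hq)
      | neg p hp ih =>
        intro hy'
        rw [closure_minVecs] at hp
        exact hn _ (ih hp)
    exact key x.1 (closure_minVecs.ge x.2) x.2
  let B : leechLattice → leechLattice → ZMod 2 := fun x y => D (x + y) + D x + D y
  have hadd : ∀ u v w, B u (v + w) = B u v + B u w := by
    intro u v w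
    have h := hquad u v w
    simp only [B, ← add_assoc]
    revert h
    generalize D (u + v + w) = a; generalize D u = b; generalize D v = c; generalize D w = d
    generalize D (u + v) = e; generalize D (u + w) = f; generalize D (v + w) = g
    revert a b c d e f g; decide
  have hB0 : ∀ u, B u 0 = 0 := fun u => by simp [B, h0, quad_facts]
  have hneg : ∀ u v, B u (-v) = B u v := by
    intro u v
    have h := hadd u v (-v)
    rw [add_neg_cancel, hB0] at h
    revert h
    generalize B u v = p; generalize B u (-v) = r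
    revert p r; decide
  have hsym : ∀ u v, B u v = B v u := fun u v => by simp only [B]; rw [add_comm u v]; ring
  have hgen : ∀ u : leechLattice, sqNorm (u : GolayPt → ℤ) = 32 → ∀ y, B u y = 0 := by
    intro u hu
    refine hind _ (fun w hw => ?_) (hB0 u) (fun x y hx hy => ?_) (fun x hx => ?_)
    · simp [B, h1 u hu, h1 w hw, h2 u w hu hw]
    · rw [hadd, hx, hy, add_zero]
    · rw [hneg, hx]
  have hB : ∀ y x, B y x = 0 := by
    intro y
    refine hind _ (fun w hw => by rw [hsym]; exact hgen w hw y) (hB0 y)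
      (fun a b ha hb => by rw [hadd, ha, hb, add_zero]) (fun a ha => by rw [hneg, ha])
  refine hind (fun x => D x = 0) h1 h0 (fun x y hx hy => ?_) (fun x hx => ?_) v
  · simpa [B, hx, hy] using hB x y
  · simpa [B, hx, h0] using hB x (-x)

theorem unique_form (Q : leechLattice → ZMod 2)
    (hcoset : ∀ v w : leechLattice, Q (v + (w + w)) = Q v)
    (hquad : ∀ u v w : leechLattice, Q (u + v + w) + Q u + Q v + Q w = Q (u + v) + Q (u + w) + Q (v + w))
    (hinv : ∀ (g : Co0) (v : leechLattice), Q (g • v) = Q v) (hne : ∃ v, Q v ≠ 0)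
    (v : leechLattice) : Q v = q0 v := by
  obtain ⟨hA, hB, hC, hD, hO⟩ := wit_mem
  let A : leechLattice := ⟨vOf wA, two_mem hA⟩
  let B : leechLattice := ⟨vOf wB, two_mem hB⟩
  let C : leechLattice := ⟨vOf wC, two_mem hC⟩
  let E : leechLattice := ⟨vOf wD, two_mem hD⟩
  let O : leechLattice := ⟨vOf wO, two_mem hO⟩
  obtain ⟨nA, nB, nC, nD, nO, nAB, nAC, nBC, nABC, -, -, nAD, -, nOA, nOD, nOAD⟩ := wit_norms
  have hsame : ∀ n : ℤ, (n = 32 ∨ n = 48 ∨ n = 64) → ∀ x y : leechLattice,
      sqNorm (x : GolayPt → ℤ) = n → sqNorm (y : GolayPt → ℤ) = n → Q x = Q y := by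
    intro n hn x y hx hy
    obtain ⟨g, hg⟩ := exists_map hn x y hx hy
    rw [← hg, hinv]
  have hsub : ∀ x y : leechLattice, Q (x + y) = Q (x - y) := fun x y => by
    rw [show x + y = x - y + (y + y) by abel, hcoset]
  set a := Q A with ha
  set b := Q (O - A) with hb
  set c := Q (A + B) with hc
  have Qa : ∀ x : leechLattice, sqNorm (x : GolayPt → ℤ) = 32 → Q x = a :=
    fun x hx => hsame 32 (by norm_num) x A hx nA
  have Qb : ∀ x : leechLattice, sqNorm (x : GolayPt → ℤ) = 48 → Q x = b :=
    fun x hx => hsame 48 (by norm_num) x (O - A) hx nOA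
  have Qc : ∀ x : leechLattice, sqNorm (x : GolayPt → ℤ) = 64 → Q x = c :=
    fun x hx => hsame 64 (by norm_num) x (A + B) hx nAB
  have hc0 : c = 0 := by
    have h := hquad A B C
    rw [Qc (A + B + C) nABC, Qa A nA, Qa B nB, Qa C nC, Qc (A + B) nAB, Qc (A + C) nAC,
      Qa (B + C) nBC] at h
    revert h; generalize a = p; generalize c = r; revert p r; decide
  have ha0 : a = 0 := by
    have h := hquad O A E
    rw [show Q (O + A + E) = a by rw [add_assoc, hsub]; exact Qa _ nOAD, hsub O A, hsub O E,
      Qb (O - A) nOA, Qb (O - E) nOD, Qa O nO, Qa A nA, Qa E nD, Qa (A + E) nAD] at h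
    revert h; generalize a = p; generalize b = r; revert p r; decide
  have Q0 : Q 0 = 0 := by
    have := hquad 0 0 0
    simp only [add_zero] at this
    revert this; generalize Q 0 = x; revert x; decide
  have key : ∀ x, Q x + b * q0 x = 0 := by
    refine eq_zero_of_gens (fun x => Q x + b * q0 x) (fun x y z => ?_) (fun x hx => ?_)
      (fun x y hx hy => ?_)
    · have h1 := hquad x y z
      have h2 := q0_quad x y z
      linear_combination h1 + b * h2
    · rw [Qa x hx, ha0, q0_eq (k := 2) (by rw [hx]; norm_num)]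
      generalize b = r
      revert r; decide
    · obtain ⟨k, hk⟩ := sixteen_dvd_sqNorm (x + y).2
      obtain ⟨l, hl⟩ := sixteen_dvd_sqNorm (x - y).2
      have hpar := (sqNorm_add_sub (x : GolayPt → ℤ) y).1
      simp only [AddSubgroup.coe_add, AddSubgroup.coe_sub] at hk hl
      rw [hk, hl, hx, hy] at hpar
      have hkl : k + l = 8 := by omega
      have small : ∀ (z : leechLattice) (j : ℤ), sqNorm (z : GolayPt → ℤ) = 16 * j → j ≤ 4 →
          Q z + b * (j : ZMod 2) = 0 := by
        intro z j hz hj
        by_cases hz0 : z = 0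
        · subst hz0
          have : j = 0 := by simp [sqNorm] at hz; omega
          rw [this, Q0]; simp
        · have h32 := min_norm z.2 (fun h => hz0 (Subtype.ext h))
          rw [hz] at h32
          rcases (show j = 2 ∨ j = 3 ∨ j = 4 by omega) with rfl | rfl | rfl
          · rw [Qa z (by rw [hz]; norm_num), ha0]; generalize b = r; revert r; decide
          · rw [Qb z (by rw [hz]; norm_num)]; generalize b = r; revert r; decide
          · rw [Qc z (by rw [hz]; norm_num), hc0]; generalize b = r; revert r; decide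
      show Q (x + y) + b * q0 (x + y) = 0
      rw [q0_eq (v := x + y) (by simpa using hk)]
      by_cases hk4 : k ≤ 4
      · exact small (x + y) k (by simpa using hk) hk4
      · rw [hsub x y, show (k : ZMod 2) = (l : ZMod 2) by
          rw [show k = 8 - l by omega, Int.cast_sub]
          generalize (l : ZMod 2) = r
          revert r; decide]
        exact small (x - y) l (by simpa using hl) (by omega)
  obtain ⟨w, hw⟩ := hne
  have hb1 : b = 1 := by
    have h := key w
    revert h hw
    generalize Q w = p; generalize b = r; generalize q0 w = s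
    revert p r s; decide
  have h := key v
  rw [hb1, one_mul] at h
  revert h
  generalize Q v = p; generalize q0 v = s
  revert p s; decide

end CfsgLib.ThreeTransp.LeechFormMod2
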