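import Cfsg.Agent.Lib.Spor.LeechIndex
import Cfsg.Agent.Lib.Spor.M24Trans

/-!
A quadratic form on the Leech lattice modulo two that is invariant under the monomial group vanishes
on the twelve-dimensional subspace given by the even vectors with constant residue modulo four.
-/

set_option autoImplicit false

namespace CfsgLib.ThreeTransp.LeechSingular

open Cfsg CfsgLib.Spor
open Pointwise

/-- The coordinate vector. -/
def unitVec (i : GolayPt) : GolayPt → ℤ := fun k => if k = i then 1 else 0

/-- The lattice vector `4 eᵢ + 4 eⱼ`. -/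
def pvec (i j : GolayPt) : leechLattice :=
  ⟨lvec 0 0 (fun k => unitVec i k + unitVec j k), mem_leechLattice.2 ⟨0, 0, _, Submodule.zero_mem _,
    rfl, by rw [Finset.sum_add_distrib]; simp [unitVec]⟩⟩

theorem pvec_apply (i j k : GolayPt) :
    (pvec i j : GolayPt → ℤ) k = 4 * unitVec i k + 4 * unitVec j k := by
  simp [pvec, lvec]; ring

/-- `4 eᵢ - 4 eⱼ`. -/
def mvec (i j : GolayPt) : leechLattice := pvec i j - pvec j j

theorem mvec_apply (i j k : GolayPt) :
    (mvec i j : GolayPt → ℤ) k = 4 * unitVec i k - 4 * unitVec j k := by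
  simp [mvec, pvec_apply] <;> ring

theorem pvec_comm (i j : GolayPt) : pvec i j = pvec j i :=
  Subtype.ext (funext fun k => by rw [pvec_apply, pvec_apply]; ring)

theorem pvec_add_mvec (i j k : GolayPt) : pvec i j + mvec k j = pvec i k :=
  Subtype.ext (funext fun l => by simp [pvec_apply, mvec_apply])

theorem pvec_self_eq (i j : GolayPt) : pvec i i = pvec j j + (mvec i j + mvec i j) :=
  Subtype.ext (funext fun l => by simp [pvec_apply, mvec_apply] <;> ring)

theorem pvec_split (i j : GolayPt) : pvec i i = pvec i j + mvec i j :=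
  Subtype.ext (funext fun l => by simp [pvec_apply, mvec_apply] <;> ring)

/-- The automorphism of the lattice given by a permutation in M24. -/
def permAut (σ : Equiv.Perm GolayPt) (hσ : σ ∈ M24) : Equiv.Perm leechLattice where
  toFun v := ⟨fun i => (v : GolayPt → ℤ) (σ i), perm_mem_leech hσ v.2⟩
  invFun v := ⟨fun i => (v : GolayPt → ℤ) (σ⁻¹ i), perm_mem_leech (inv_mem hσ) v.2⟩
  left_inv v := Subtype.ext (funext fun i => by simp)
  right_inv v := Subtype.ext (funext fun i => by simp)

theorem permAut_mem (σ : Equiv.Perm GolayPt) (hσ : σ ∈ M24) : permAut σ hσ ∈ Co0 :=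
  ⟨fun _ _ => rfl, fun v => Equiv.sum_comp σ fun i => (v : GolayPt → ℤ) i ^ 2⟩

/-- The automorphism of the lattice given by a sign change on a word of the code. -/
def signAut (C : Finset GolayPt) (hC : C ∈ supports (golayCode : Set (GolayPt → ZMod 2))) :
    Equiv.Perm leechLattice where
  toFun v := ⟨fun i => if i ∈ C then -(v : GolayPt → ℤ) i else (v : GolayPt → ℤ) i,
    sign_mem_leech hC v.2⟩
  invFun v := ⟨fun i => if i ∈ C then -(v : GolayPt → ℤ) i else (v : GolayPt → ℤ) i,
    sign_mem_leech hC v.2⟩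
  left_inv v := Subtype.ext (funext fun i => by by_cases h : i ∈ C <;> simp [h])
  right_inv v := Subtype.ext (funext fun i => by by_cases h : i ∈ C <;> simp [h])

theorem signAut_mem (C : Finset GolayPt)
    (hC : C ∈ supports (golayCode : Set (GolayPt → ZMod 2))) : signAut C hC ∈ Co0 := by
  refine ⟨fun v w => Subtype.ext (funext fun i => ?_), fun v => Finset.sum_congr rfl fun i _ => ?_⟩
  · by_cases h : i ∈ C <;> simp [signAut, h]; ring
  · by_cases h : i ∈ C <;> simp [signAut, h]

/-- An octad through `i` avoiding `j` and `k`. -/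
theorem exists_octad_avoid (i j k : GolayPt) (hij : i ≠ j) (hik : i ≠ k) :
    ∃ C, C ∈ octads ∧ i ∈ C ∧ j ∉ C ∧ k ∉ C := by
  classical
  obtain ⟨o, ho⟩ : octads.Nonempty := Set.nonempty_of_ncard_ne_zero (by rw [ncard_octads]; norm_num)
  obtain ⟨a, ha⟩ := Finset.card_pos.1 (by rw [card_octad ho]; norm_num : 0 < o.card)
  obtain ⟨b, hb, c, hc, hbc⟩ := Finset.one_lt_card.1 (show 1 < oᶜ.card by
    rw [Finset.card_compl, card_octad ho, card_golayPt]; norm_num)
  rw [Finset.mem_compl] at hb hc
  have hab : a ≠ b := fun h => hb (h ▸ ha)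
  have hac : a ≠ c := fun h => hc (h ▸ ha)
  by_cases hjk : j = k
  · subst hjk
    obtain ⟨g, hg⟩ := (MulAction.is_two_pretransitive_iff (G := M24) (α := GolayPt)).1
      (isMultiplyPretransitive_le_five (by norm_num)) hab hij
    refine ⟨(g : Equiv.Perm GolayPt) • o, ?_, ?_, ?_, ?_⟩
    · have hmem : (g : Equiv.Perm GolayPt) • o ∈ (g : Equiv.Perm GolayPt) •
          supports (golayCode : Set (GolayPt → ZMod 2)) := Set.smul_mem_smul_set ho.1
      rw [MulAction.mem_stabilizer_iff.1 g.2] at hmem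
      exact ⟨hmem, by rw [Finset.card_smul_finset]; exact ho.2⟩
    · exact hg.1 ▸ Finset.smul_mem_smul_finset ha
    · intro h; rw [← hg.2] at h; exact hb ((Finset.smul_mem_smul_finset_iff _).1 h)
    · intro h; rw [← hg.2] at h; exact hb ((Finset.smul_mem_smul_finset_iff _).1 h)
  · haveI := isMultiplyPretransitive_le_five (k := 3) (by norm_num)
    let x : Fin 3 ↪ GolayPt := ⟨![a, b, c], by
      intro u v h
      fin_cases u <;> fin_cases v <;> simp_all [eq_comm]⟩
    let y : Fin 3 ↪ GolayPt := ⟨![i, j, k], by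
      intro u v h
      fin_cases u <;> fin_cases v <;> simp_all [eq_comm]⟩
    obtain ⟨g, hg⟩ := MulAction.exists_smul_eq M24 x y
    have h0 : (g : Equiv.Perm GolayPt) • a = i := DFunLike.congr_fun hg 0
    have h1 : (g : Equiv.Perm GolayPt) • b = j := DFunLike.congr_fun hg 1
    have h2 : (g : Equiv.Perm GolayPt) • c = k := DFunLike.congr_fun hg 2
    refine ⟨(g : Equiv.Perm GolayPt) • o, ?_, ?_, ?_, ?_⟩
    · have hmem : (g : Equiv.Perm GolayPt) • o ∈ (g : Equiv.Perm GolayPt) •
          supports (golayCode : Set (GolayPt → ZMod 2)) := Set.smul_mem_smul_set ho.1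
      rw [MulAction.mem_stabilizer_iff.1 g.2] at hmem
      exact ⟨hmem, by rw [Finset.card_smul_finset]; exact ho.2⟩
    · exact h0 ▸ Finset.smul_mem_smul_finset ha
    · intro h; rw [← h1] at h; exact hb ((Finset.smul_mem_smul_finset_iff _).1 h)
    · intro h; rw [← h2] at h; exact hc ((Finset.smul_mem_smul_finset_iff _).1 h)

/-- A quadratic form modulo two on the lattice, invariant under the automorphism group. -/
structure InvQuad (A : Type*) [AddCommGroup A] where
  q : leechLattice → A
  B : leechLattice → leechLattice → A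
  two : ∀ a : A, a + a = 0
  polar : ∀ v w, q (v + w) = q v + q w + B v w
  lin : ∀ u v w, B u (v + w) = B u v + B u w
  dbl : ∀ v, q (v + v) = 0
  inv : ∀ g ∈ Co0, ∀ v, q (g v) = q v

variable {A : Type*} [AddCommGroup A] (F : InvQuad A)

theorem InvQuad.B_symm (v w : leechLattice) : F.B v w = F.B w v := by
  have h := F.polar v w
  rw [add_comm v w, F.polar w v, add_comm (F.q w)] at h
  exact (add_left_cancel h).symm

theorem InvQuad.B_self (v : leechLattice) : F.B v v = 0 := by
  have h := F.polar v v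
  rw [F.dbl, F.two, zero_add] at h
  exact h.symm

/-- The polar form as a homomorphism. -/
def InvQuad.hom (u : leechLattice) : leechLattice →+ A := AddMonoidHom.mk' (F.B u) (F.lin u)

@[simp] theorem InvQuad.hom_apply (u v : leechLattice) : F.hom u v = F.B u v := rfl

theorem InvQuad.B_dbl (u v : leechLattice) : F.B u (v + v) = 0 := by rw [F.lin, F.two]

theorem InvQuad.q_neg (v : leechLattice) : F.q (-v) = F.q v := by
  have h := F.polar v (-v)
  have hB : F.B v (-v) = 0 := by
    rw [← F.hom_apply, map_neg, F.hom_apply, F.B_self, neg_zero]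
  have h0 : F.q 0 = 0 := by have := F.dbl 0; rwa [add_zero] at this
  rw [add_neg_cancel, h0, hB, add_zero] at h
  have h2 := F.two (F.q v)
  calc F.q (-v) = F.q v + F.q v + F.q (-v) := by rw [h2, zero_add]
    _ = F.q v := by rw [add_assoc, ← h, add_zero]

theorem InvQuad.B_inv {g : Equiv.Perm leechLattice} (hg : g ∈ Co0) (v w : leechLattice) :
    F.B (g v) (g w) = F.B v w := by
  have h := F.polar (g v) (g w)
  rw [← hg.1, F.inv g hg, F.inv g hg, F.inv g hg, F.polar v w] at h
  exact (add_left_cancel h).symm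

theorem InvQuad.q_pvec (i j i' j' : GolayPt) (h : i ≠ j) (h' : i' ≠ j') :
    F.q (pvec i j) = F.q (pvec i' j') := by
  obtain ⟨g, hg⟩ := (MulAction.is_two_pretransitive_iff (G := M24) (α := GolayPt)).1
    (isMultiplyPretransitive_le_five (by norm_num)) h' h
  have h1 : (g : Equiv.Perm GolayPt) i' = i := hg.1
  have h2 : (g : Equiv.Perm GolayPt) j' = j := hg.2
  rw [← F.inv _ (permAut_mem _ g.2) (pvec i j)]
  congr 1
  refine Subtype.ext (funext fun k => ?_)
  show (pvec i j : GolayPt → ℤ) ((g : Equiv.Perm GolayPt) k) = _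
  rw [pvec_apply, pvec_apply, ← h1, ← h2]
  simp [unitVec]

theorem sign_pvec {C : Finset GolayPt} (hC : C ∈ supports (golayCode : Set (GolayPt → ZMod 2)))
    {i j : GolayPt} (hi : i ∉ C) (hj : j ∉ C) : signAut C hC (pvec i j) = pvec i j := by
  refine Subtype.ext (funext fun k => ?_)
  by_cases hk : k ∈ C
  · have hki : k ≠ i := fun e => hi (e ▸ hk)
    have hkj : k ≠ j := fun e => hj (e ▸ hk)
    simp [signAut, hk, pvec_apply, unitVec, hki, hkj]
  · simp [signAut, hk]

theorem sign_pvec_one {C : Finset GolayPt} (hC : C ∈ supports (golayCode : Set (GolayPt → ZMod 2)))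
    {i j : GolayPt} (hi : i ∉ C) (hj : j ∈ C) : signAut C hC (pvec i j) = mvec i j := by
  refine Subtype.ext (funext fun k => ?_)
  by_cases hk : k ∈ C
  · have hki : k ≠ i := fun e => hi (e ▸ hk)
    simp [signAut, hk, pvec_apply, mvec_apply, unitVec, hki]
  · have hkj : k ≠ j := fun e => hk (e ▸ hj)
    simp [signAut, hk, pvec_apply, mvec_apply, unitVec, hkj]

theorem InvQuad.q_mvec (i j : GolayPt) (h : i ≠ j) : F.q (mvec i j) = F.q (pvec i j) := by
  obtain ⟨C, hC, hj, hi, -⟩ := exists_octad_avoid j i i h.symm h.symm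
  rw [← sign_pvec_one hC.1 hi hj, F.inv _ (signAut_mem C hC.1)]

/-- Adjacent pairs of opposite sign pair to the common value. -/
theorem InvQuad.B_adj_m (i j k : GolayPt) (hij : i ≠ j) (hik : i ≠ k) (hjk : j ≠ k) :
    F.B (pvec i j) (mvec k j) = F.q (pvec i j) := by
  have h := F.polar (pvec i j) (mvec k j)
  rw [pvec_add_mvec, F.q_mvec k j hjk.symm, F.q_pvec i k i j hik hij,
    F.q_pvec k j i j hjk.symm hij, F.two, zero_add] at h
  exact h.symm

theorem InvQuad.B_big (i j k : GolayPt) (hij : i ≠ j) : F.B (pvec i j) (pvec k k) = 0 := by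
  have hk : F.B (pvec i j) (pvec k k) = F.B (pvec i j) (pvec j j) := by
    rw [pvec_self_eq k j, F.lin, F.B_dbl, add_zero]
  rw [hk]
  obtain ⟨k, hki, hkj⟩ : ∃ k : GolayPt, k ≠ i ∧ k ≠ j :=
    Cardinal.exists_ne_ne_of_three_le (by rw [Cardinal.mk_fintype, card_golayPt]; norm_num) i j
  obtain ⟨C, hC, hk', hi, hj⟩ := exists_octad_avoid k i j hki hkj
  have h := F.B_inv (signAut_mem C hC.1) (pvec i j) (pvec j k)
  rw [sign_pvec hC.1 hi hj, sign_pvec_one hC.1 hj hk'] at h
  have e : mvec j k = -mvec k j :=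
    Subtype.ext (funext fun l => by simp [mvec_apply])
  have e2 : pvec j k = pvec j j + mvec k j :=
    Subtype.ext (funext fun l => by simp [pvec_apply, mvec_apply] <;> ring)
  rw [e, ← F.hom_apply, map_neg, F.hom_apply, e2, F.lin] at h
  have h2 : -F.B (pvec i j) (mvec k j) = F.B (pvec i j) (mvec k j) :=
    neg_eq_of_add_eq_zero_left (F.two _)
  rw [h2] at h
  exact add_eq_right.1 h.symm

theorem InvQuad.B_adj (i j k : GolayPt) (hij : i ≠ j) (hik : i ≠ k) (hjk : j ≠ k) :
    F.B (pvec i j) (pvec k j) = F.q (pvec i j) := by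
  have e : pvec k j = mvec k j + pvec j j :=
    Subtype.ext (funext fun l => by simp [pvec_apply, mvec_apply] <;> ring)
  rw [e, F.lin, F.B_big i j j hij, add_zero, F.B_adj_m i j k hij hik hjk]

theorem InvQuad.B_disjoint (i j k l : GolayPt) (hij : i ≠ j) (hik : i ≠ k) (hjk : j ≠ k)
    (hil : i ≠ l) (hjl : j ≠ l) : F.B (pvec i j) (pvec k l) = 0 := by
  have e : pvec k l = mvec k j + pvec l j :=
    Subtype.ext (funext fun m => by simp [pvec_apply, mvec_apply] <;> ring)
  rw [e, F.lin, F.B_adj i j l hij hil hjl, F.B_adj_m i j k hij hik hjk, F.two]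

theorem InvQuad.q_pvec_zero (i j : GolayPt) (hij : i ≠ j) : F.q (pvec i j) = 0 := by
  classical
  obtain ⟨r, hri, hrj⟩ : ∃ r : GolayPt, r ≠ i ∧ r ≠ j :=
    Cardinal.exists_ne_ne_of_three_le (by rw [Cardinal.mk_fintype, card_golayPt]; norm_num) i j
  obtain ⟨C, hC, hi, hj, hr⟩ := exists_octad_avoid i j r hij hri.symm
  obtain ⟨d, hd, hdC⟩ := hC.1
  let w : leechLattice := ⟨lvec 0 d 0, mem_leechLattice.2 ⟨0, d, 0, hd, rfl, by simp⟩⟩
  have hw : ∀ k, (w : GolayPt → ℤ) k = 2 * (if k ∈ C then 1 else 0) := by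
    intro k
    rcases bitZ_cases (d k) with ⟨a, a'⟩ | ⟨a, a'⟩ <;> simp [w, lvec, a', ← hdC, support₂, a]
  have hsum : ∑ k ∈ C, pvec k r = (w + w) + (2 : ℕ) • (pvec r r + pvec r r) := by
    refine Subtype.ext (funext fun l => ?_)
    rw [AddSubgroup.val_finsetSum, Finset.sum_apply]
    simp only [pvec_apply, Finset.sum_add_distrib, ← Finset.mul_sum, AddSubgroup.coe_add,
      AddSubgroup.coe_nsmul, Pi.add_apply, Pi.smul_apply, hw, nsmul_eq_mul]
    rw [Finset.sum_const, card_octad hC]
    simp [unitVec, pvec_apply]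
    split_ifs <;> norm_num
  have h0 : F.B (pvec i j) (∑ k ∈ C, pvec k r) = 0 := by
    rw [hsum, F.lin, F.B_dbl, zero_add, ← F.hom_apply, map_nsmul, F.hom_apply, F.B_dbl, smul_zero]
  rw [← F.hom_apply, map_sum, Finset.sum_eq_single i] at h0
  · rw [F.hom_apply, pvec_comm i r, pvec_comm i j, F.B_adj j i r hij.symm hrj.symm hri.symm] at h0
    rwa [pvec_comm] at h0
  · intro k hk hki
    have hkj : k ≠ j := fun e => hj (e ▸ hk)
    rw [F.hom_apply, F.B_disjoint i j k r hij hki.symm hkj.symm hri.symm hrj.symm]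
  · intro h; exact absurd hi h

theorem InvQuad.B_pvec_zero (i j k l : GolayPt) : F.B (pvec i j) (pvec k l) = 0 := by
  by_cases hij : i = j
  · subst hij
    by_cases hkl : k = l
    · subst hkl
      rw [pvec_self_eq k i, F.lin, F.B_self, F.B_dbl, add_zero]
    · rw [F.B_symm, F.B_big k l i hkl]
  · by_cases hkl : k = l
    · subst hkl; exact F.B_big i j k hij
    · by_cases hkj : k = j
      · subst hkj
        by_cases hli : l = i
        · subst hli; rw [pvec_comm k l, F.B_self]
        · rw [pvec_comm k l, F.B_adj i k l hij (Ne.symm hli) hkl, F.q_pvec_zero i k hij]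
      · by_cases hki : k = i
        · subst hki
          by_cases hlj : l = j
          · subst hlj; exact F.B_self _
          · rw [pvec_comm k l, pvec_comm k j, F.B_adj j k l (Ne.symm hij) (Ne.symm hlj) hkl,
              F.q_pvec_zero j k (Ne.symm hij)]
        · by_cases hlj : l = j
          · subst hlj; rw [F.B_adj i l k hij (Ne.symm hki) (Ne.symm hkj), F.q_pvec_zero i l hij]
          · by_cases hli : l = i
            · subst hli
              rw [pvec_comm l j, F.B_adj j l k (Ne.symm hij) (Ne.symm hkj) (Ne.symm hki),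
                F.q_pvec_zero j l (Ne.symm hij)]
            · exact F.B_disjoint i j k l hij (Ne.symm hki) (Ne.symm hkj) (Ne.symm hli) (Ne.symm hlj)

theorem InvQuad.q_all_pvec (i j : GolayPt) : F.q (pvec i j) = 0 := by
  by_cases h : i = j
  · subst h
    obtain ⟨j, hj, -⟩ : ∃ j : GolayPt, j ≠ i ∧ j ≠ i :=
      Cardinal.exists_ne_ne_of_three_le (by rw [Cardinal.mk_fintype, card_golayPt]; norm_num) i i
    rw [pvec_split i j, F.polar, F.q_mvec i j hj.symm, F.two, zero_add, mvec, sub_eq_add_neg,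
      F.lin, F.B_self, ← F.hom_apply, map_neg, F.hom_apply, F.B_pvec_zero, neg_zero, zero_add]
  · exact F.q_pvec_zero i j h

/-- The subgroup generated by the pair vectors. -/
def pairSpan : AddSubgroup leechLattice :=
  AddSubgroup.closure (Set.range fun p : GolayPt × GolayPt => pvec p.1 p.2)

theorem InvQuad.B_span_zero {u v : leechLattice} (hu : u ∈ pairSpan) (hv : v ∈ pairSpan) :
    F.B u v = 0 := by
  have h1 : ∀ p : GolayPt × GolayPt, F.B (pvec p.1 p.2) v = 0 := fun p =>
    (AddSubgroup.closure_le (F.hom (pvec p.1 p.2)).ker).2 (by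
      rintro _ ⟨s, rfl⟩; exact F.B_pvec_zero _ _ _ _) hv
  rw [F.B_symm]
  exact (AddSubgroup.closure_le (F.hom v).ker).2 (by
    rintro _ ⟨p, rfl⟩
    show F.B v _ = 0
    rw [F.B_symm]
    exact h1 p) hu

theorem InvQuad.q_span_zero {u : leechLattice} (hu : u ∈ pairSpan) : F.q u = 0 := by
  induction hu using AddSubgroup.closure_induction with
  | mem x hx => obtain ⟨p, rfl⟩ := hx; exact F.q_all_pvec _ _
  | zero => have := F.dbl 0; rwa [add_zero] at this
  | add x y hx hy h h' => rw [F.polar, h, h', F.B_span_zero hx hy, add_zero, add_zero]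
  | neg x hx h => rw [F.q_neg, h]

/-- The even vectors with constant residue modulo four. -/
def evenSub : AddSubgroup leechLattice := (leechLattice ⊓ evenConst).addSubgroupOf leechLattice

theorem decompose {x : leechLattice} (hx : x ∈ evenSub) :
    ∃ u ∈ pairSpan, ∃ w : leechLattice, x = u + (w + w) := by
  classical
  obtain ⟨m, c, y, hc, hxe, hpar⟩ := mem_leechLattice.1 x.2
  have hev : ∀ i, (2 : ℤ) ∣ (x : GolayPt → ℤ) i ∧
      (4 : ℤ) ∣ (x : GolayPt → ℤ) i - (x : GolayPt → ℤ) none := (AddSubgroup.mem_addSubgroupOf.1 hx).2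
  obtain ⟨t, rfl⟩ : (2 : ℤ) ∣ m := by
    have := (hev none).1
    rw [hxe] at this; simp only [lvec] at this; omega
  have hconst : ∀ i, bitZ (c i) = bitZ (c none) := fun i => by
    have := (hev i).2
    rw [hxe] at this; simp only [lvec] at this
    rcases bitZ_cases (c i) with ⟨-, a'⟩ | ⟨-, a'⟩ <;>
      rcases bitZ_cases (c none) with ⟨-, b'⟩ | ⟨-, b'⟩ <;> omega
  let w0 : leechLattice := ⟨lvec 1 0 (fun i => -unitVec none i),
    mem_leechLattice.2 ⟨1, 0, _, Submodule.zero_mem _, rfl, by simp [unitVec]⟩⟩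
  set k : ℤ := t + bitZ (c none)
  let z : GolayPt → ℤ := fun i => y i + 2 * k * unitVec none i
  have hu : ∀ i, ((x - (k • w0 + k • w0) : leechLattice) : GolayPt → ℤ) i = 4 * z i := by
    intro i
    simp only [AddSubgroup.coe_sub, AddSubgroup.coe_add, AddSubgroup.coe_zsmul, Pi.sub_apply,
      Pi.add_apply, Pi.smul_apply, smul_eq_mul, w0, hxe, lvec, z, Pi.zero_apply, bitZ_zero]
    rw [hconst i]; simp only [k]; ring
  refine ⟨x - (k • w0 + k • w0), ?_, k • w0, (sub_add_cancel _ _).symm⟩
  have hz : (2 : ℤ) ∣ ∑ i, z i := by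
    simp only [z, Finset.sum_add_distrib, ← Finset.mul_sum, unitVec, Finset.sum_ite_eq',
      Finset.mem_univ, if_true]
    obtain ⟨r, hr⟩ := hpar
    exact ⟨r + t + k, by linarith⟩
  obtain ⟨s, hs⟩ := hz
  have he : x - (k • w0 + k • w0) = (∑ i, z i • pvec i none) - s • pvec none none := by
    refine Subtype.ext (funext fun l => ?_)
    rw [hu l]
    simp only [AddSubgroup.coe_sub, AddSubgroup.coe_zsmul, AddSubgroup.val_finsetSum, Pi.sub_apply,
      Finset.sum_apply, Pi.smul_apply, smul_eq_mul, pvec_apply, mul_add, Finset.sum_add_distrib,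
      ← Finset.sum_mul, hs]
    simp [unitVec]
    split_ifs <;> ring
  rw [he]
  exact sub_mem (sum_mem fun i _ => zsmul_mem (AddSubgroup.subset_closure
    (Set.mem_range_self (i, none))) _) (zsmul_mem (AddSubgroup.subset_closure
    (Set.mem_range_self ((none : GolayPt), (none : GolayPt)))) _)

theorem InvQuad.q_evenSub_zero {x : leechLattice} (hx : x ∈ evenSub) : F.q x = 0 := by
  obtain ⟨u, hu, w, rfl⟩ := decompose hx
  rw [F.polar, F.q_span_zero hu, F.dbl, F.B_dbl, add_zero, add_zero]

theorem dbl_mem_evenSub (w : leechLattice) : w + w ∈ evenSub := by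
  refine AddSubgroup.mem_addSubgroupOf.2 ⟨(w + w).2, fun i => ?_⟩
  obtain ⟨m, c, y, -, he, -⟩ := mem_leechLattice.1 w.2
  rw [AddSubgroup.coe_add, he]
  simp [lvec]
  omega

theorem evenSub_index : evenSub.index = 2 ^ 12 := by
  have h := AddSubgroup.relIndex_mul_index (inf_le_left : leechLattice ⊓ evenConst ≤ leechLattice)
  rw [index_isotropic, index_leechLattice] at h
  show (leechLattice ⊓ evenConst).relIndex leechLattice = 2 ^ 12
  exact Nat.eq_of_mul_eq_mul_right (by positivity) (h.trans (by norm_num))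

end CfsgLib.ThreeTransp.LeechSingular
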