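import Mathlib
import Cfsg.Prelude.Def_AxialAlgebras

/-!
Pairs of commuting Majorana involutions, and elementary abelian groups of them.
-/

set_option autoImplicit false

namespace CfsgLib.ThreeTransp.Majorana

open Cfsg.Axial

variable {V : Type*} [AddCommGroup V] [Module ℝ V]

theorem mem_eigen {mul : V →ₗ[ℝ] V →ₗ[ℝ] V} {a v : V} {c : ℝ} :
    v ∈ eigen mul a c ↔ mul a v = c • v :=
  Module.End.mem_eigenspace_iff

theorem eigenSum_pair (mul : V →ₗ[ℝ] V →ₗ[ℝ] V) (a : V) (c d : ℝ) :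
    eigenSum mul a {c, d} = eigen mul a c ⊔ eigen mul a d := by
  rw [eigenSum, iSup_insert, iSup_singleton]

theorem eigenSum_singleton (mul : V →ₗ[ℝ] V →ₗ[ℝ] V) (a : V) (c : ℝ) :
    eigenSum mul a {c} = eigen mul a c := by
  rw [eigenSum, iSup_singleton]

theorem eigenSum_triple (mul : V →ₗ[ℝ] V →ₗ[ℝ] V) (a : V) (c d e : ℝ) :
    eigenSum mul a {c, d, e} = eigen mul a c ⊔ (eigen mul a d ⊔ eigen mul a e) := by
  rw [eigenSum, iSup_insert, iSup_insert, iSup_singleton]

variable {mul : V →ₗ[ℝ] V →ₗ[ℝ] V} {a : V}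

/-- Independence of the three even eigenspaces. -/
theorem three_part {p q r : V} (hp : mul a p = p) (hq : mul a q = 0) (hr : mul a r = (1 / 4 : ℝ) • r)
    (h : p + q + r = 0) : p = 0 ∧ q = 0 ∧ r = 0 := by
  have h1 : p + (1 / 4 : ℝ) • r = 0 := by
    have := congrArg (mul a) h
    rwa [map_add, map_add, hp, hq, hr, add_zero, map_zero] at this
  have h2 : p + (1 / 16 : ℝ) • r = 0 := by
    have := congrArg (mul a) h1
    rw [map_add, map_smul, hp, hr, map_zero, smul_smul] at this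
    convert this using 2
    norm_num
  have hr0 : r = 0 := by
    have h3 : (3 / 16 : ℝ) • r = 0 := by
      have e : (3 / 16 : ℝ) • r = (p + (1 / 4 : ℝ) • r) - (p + (1 / 16 : ℝ) • r) := by module
      rw [e, h1, h2, sub_zero]
    exact (smul_eq_zero.1 h3).resolve_left (by norm_num)
  rw [hr0, smul_zero, add_zero] at h1
  rw [h1, hr0, zero_add, add_zero] at h
  exact ⟨h1, h, hr0⟩

theorem law_zero_zero : monsterLaw (1 / 4 : ℝ) (1 / 32) 0 0 = {0} := by
  norm_num [monsterLaw]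

theorem law_quarter_quarter : monsterLaw (1 / 4 : ℝ) (1 / 32) (1 / 4) (1 / 4) = {1, 0} := by
  norm_num [monsterLaw]

theorem law_zero_quarter : monsterLaw (1 / 4 : ℝ) (1 / 32) 0 (1 / 4) = {1 / 4} := by
  norm_num [monsterLaw]

/-- An elementary abelian group of 2A-axes has order at most four. -/
theorem card_le_four {B : LinearMap.BilinForm ℝ V} (hV : IsMajoranaAmbient mul B)
    (X : Subgroup (V ≃ₗ[ℝ] V)) (hX : ∀ x ∈ X, x * x = 1) (ax : (V ≃ₗ[ℝ] V) → V)
    (hax : ∀ x ∈ X, x ≠ 1 → IsMajoranaPair mul B x (ax x)) (h1 : ∀ x ∈ X, x ≠ 1 → B (ax x) (ax x) = 1)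
    (h2A : ∀ x ∈ X, ∀ y ∈ X, x ≠ 1 → y ≠ 1 → x ≠ y →
      mul (ax x) (ax y) = (1 / 8 : ℝ) • (ax x + ax y - ax (x * y))) : Nat.card ↥X ≤ 4 := by
  classical
  by_contra hcard
  push Not at hcard
  haveI : Finite X := Nat.finite_of_card_ne_zero (by omega)
  haveI : Fintype X := Fintype.ofFinite X
  rw [Nat.card_eq_fintype_card] at hcard
  have hinv : ∀ x ∈ X, x⁻¹ = x := fun x hx => inv_eq_of_mul_eq_one_right (hX x hx)
  have hcomm : ∀ x ∈ X, ∀ y ∈ X, x * y = y * x := fun x hx y hy => by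
    have h := hinv _ (mul_mem hx hy)
    rw [mul_inv_rev, hinv x hx, hinv y hy] at h
    exact h.symm
  obtain ⟨x', hx'⟩ : ∃ x : X, x ∉ ({1} : Finset X) := by
    by_contra h
    push Not at h
    have := Finset.card_le_card (show (Finset.univ : Finset X) ⊆ {1} from fun x _ => h x)
    rw [Finset.card_univ, Finset.card_singleton] at this
    omega
  obtain ⟨y', hy'⟩ : ∃ y : X, y ∉ ({1, x'} : Finset X) := by
    by_contra h
    push Not at h
    have := (Finset.card_le_card (show (Finset.univ : Finset X) ⊆ {1, x'} from fun x _ => h x)).trans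
      Finset.card_le_two
    rw [Finset.card_univ] at this
    omega
  obtain ⟨w', hw'⟩ : ∃ w : X, w ∉ ({1, x', y', x' * y'} : Finset X) := by
    by_contra h
    push Not at h
    have := (Finset.card_le_card (show (Finset.univ : Finset X) ⊆ {1, x', y', x' * y'} from fun x _ => h x)).trans
      Finset.card_le_four
    rw [Finset.card_univ] at this
    omega
  obtain ⟨x, hx⟩ := x'
  obtain ⟨y, hy⟩ := y'
  obtain ⟨w, hw⟩ := w'
  simp only [Finset.mem_insert, Finset.mem_singleton, not_or, Subtype.ext_iff, Subgroup.coe_one,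
    Subgroup.coe_mul] at hx' hy' hw'
  obtain ⟨hy1, hyx⟩ := hy'
  obtain ⟨hw1, hwx, hwy, hwxy⟩ := hw'
  have hline : ∀ p q : V ≃ₗ[ℝ] V, p ∈ X → q ∈ X → p ≠ 1 → q ≠ 1 → p ≠ q →
      p * q ≠ 1 ∧ p * q ≠ p ∧ p * q ≠ q ∧ p * (p * q) = q := by
    intro p q hp hq hp1 hq1 hpq
    refine ⟨fun h => hpq ?_, fun h => hq1 (mul_eq_left.1 h), fun h => hp1 (mul_eq_right.1 h), ?_⟩
    · rw [mul_eq_one_iff_eq_inv, hinv q hq] at h; exact h
    · rw [← mul_assoc, hX p hp, one_mul]
  obtain ⟨hz1, hzx, -, hxz⟩ := hline x y hx hy hx' hy1 (Ne.symm hyx)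
  obtain ⟨hu1, hux, -, hxu⟩ := hline x w hx hw hx' hw1 (Ne.symm hwx)
  obtain ⟨hs1, -, -, -⟩ := hline y w hy hw hy1 hw1 (Ne.symm hwy)
  set z := x * y with hzdef
  set u := x * w with hudef
  set s := y * w with hsdef
  set t := x * s with htdef
  have hzX : z ∈ X := mul_mem hx hy
  have huX : u ∈ X := mul_mem hx hw
  have hsX : s ∈ X := mul_mem hy hw
  have htX : t ∈ X := mul_mem hx hsX
  have hxs : x ≠ s := fun h => hwxy (by rw [hzdef, hcomm x hx y hy, h, hsdef, ← mul_assoc, hX y hy, one_mul])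
  obtain ⟨ht1, -, hts, hxt⟩ := hline x s hx hsX hx' hs1 hxs
  have e1 : y * u = t := by rw [htdef, hsdef, hudef, ← mul_assoc, hcomm y hy x hx, mul_assoc]
  have e2 : z * w = t := by rw [htdef, hsdef, hzdef, mul_assoc]
  have e3 : z * u = s := by
    rw [hzdef, hudef, hcomm x hx y hy, mul_assoc, ← mul_assoc x x, hX x hx, one_mul]
  have hyu : y ≠ u := fun h => ht1 (by rw [← htdef, ← e1, h, hX u huX])
  have hzw : z ≠ w := fun h => ht1 (by rw [← htdef, ← e2, h, hX w hw])
  have hzu : z ≠ u := fun h => hs1 (by rw [← e3, h, hX u huX])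
  have hA : ∀ p q : V ≃ₗ[ℝ] V, p ∈ X → q ∈ X → p ≠ 1 → q ≠ 1 → p ≠ q → p ≠ p * q →
      ax q - ax (p * q) ∈ eigen mul (ax p) (1 / 4) := by
    intro p q hp hq hp1 hq1 hpq hppq
    obtain ⟨h1', -, -, h4'⟩ := hline p q hp hq hp1 hq1 hpq
    rw [mem_eigen, map_sub, h2A p hp q hq hp1 hq1 hpq, h2A p hp (p * q) (mul_mem hp hq) hp1 h1' hppq, h4']
    module
  have k1 := hA x y hx hy hx' hy1 (Ne.symm hyx) hzx.symm
  have k2 := hA x w hx hw hx' hw1 (Ne.symm hwx) hux.symm
  have k3 := hA x t hx htX hx' ht1 (fun h => hs1 (by rw [← hxt, ← htdef, ← h, hX x hx]))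
    (by rw [hxt]; exact hxs)
  rw [hxt] at k3
  have hpair := hax x hx hx'
  have hfus := hpair.2.2.1.1.2.2.2 (1 / 4) (by simp [majoranaSpectrum]) (1 / 4) (by simp [majoranaSpectrum])
    _ k1 _ k2
  rw [law_quarter_quarter, eigenSum_pair] at hfus
  obtain ⟨p, hp, q, hq, hpq⟩ := Submodule.mem_sup.1 hfus
  rw [mem_eigen] at hp hq
  have hprod : mul (ax y - ax z) (ax w - ax u) = (1 / 4 : ℝ) • (ax t - ax s) := by
    rw [map_sub, map_sub, LinearMap.sub_apply, LinearMap.sub_apply, h2A y hy w hw hy1 hw1 (Ne.symm hwy),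
      h2A y hy u huX hy1 hu1 hyu, h2A z hzX w hw hz1 hw1 hzw, h2A z hzX u huX hz1 hu1 hzu, e1, e2, e3,
      ← hsdef]
    module
  rw [hprod] at hpq
  have h3 := three_part (a := ax x) (p := p) (q := q) (r := -((1 / 4 : ℝ) • (ax t - ax s)))
    (by rw [hp, one_smul]) (by rw [hq, zero_smul])
    (by rw [map_neg, map_smul, mem_eigen.1 k3, smul_neg, smul_comm])
    (by rw [hpq, add_neg_cancel])
  have hts' : ax t = ax s := by
    have := neg_eq_zero.1 h3.2.2
    rw [smul_eq_zero] at this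
    exact sub_eq_zero.1 (this.resolve_left (by norm_num))
  -- two axes of a line have inner product 1/8
  have hts2 : mul (ax s) (ax t) = (1 / 8 : ℝ) • (ax s + ax t - ax x) := by
    rw [h2A s hsX t htX hs1 ht1 hts.symm]
    congr 3
    rw [htdef, hcomm x hx s hsX, ← mul_assoc, hX s hsX, one_mul]
  have hidem : mul (ax s) (ax s) = ax s := (hax s hsX hs1).2.2.1.1.2.1
  rw [hts', hidem] at hts2
  have hx2 : ax x = (-6 : ℝ) • ax s := by
    have e : ax x = (ax s + ax s) - (8 : ℝ) • ((1 / 8 : ℝ) • (ax s + ax s - ax x)) := by module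
    rw [← hts2] at e
    rw [e]
    module
  have hb := h1 x hx hx'
  rw [hx2, map_smul, map_smul, LinearMap.smul_apply, smul_eq_mul, smul_eq_mul, h1 s hsX hs1] at hb
  norm_num at hb

/-- Transport of a Majorana pair by an automorphism. -/
theorem pair_conj {B : LinearMap.BilinForm ℝ V} {μ : V ≃ₗ[ℝ] V} {b : V} (h : IsMajoranaPair mul B μ b)
    (g : V ≃ₗ[ℝ] V) (hgm : ∀ u v : V, g (mul u v) = mul (g u) (g v))
    (hgB : ∀ u v : V, B (g u) (g v) = B u v) : IsMajoranaPair mul B (g * μ * g⁻¹) (g b) := by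
  obtain ⟨hm, hB, ⟨⟨hb0, hbb, hsum, hfus⟩, hprim⟩, hfix, hneg⟩ := h
  have hgm' : ∀ u v : V, g.symm (mul u v) = mul (g.symm u) (g.symm v) := fun u v => by
    apply g.injective
    rw [LinearEquiv.apply_symm_apply, hgm, LinearEquiv.apply_symm_apply, LinearEquiv.apply_symm_apply]
  have happ : ∀ v, (g * μ * g⁻¹) v = g (μ (g.symm v)) := fun v => rfl
  have heig : ∀ c v, v ∈ eigen mul (g b) c → g.symm v ∈ eigen mul b c := by
    intro c v hv
    rw [mem_eigen] at hv ⊢
    have := congrArg g.symm hv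
    rwa [hgm', LinearEquiv.symm_apply_apply, map_smul] at this
  have heig' : ∀ c v, v ∈ eigen mul b c → g v ∈ eigen mul (g b) c := by
    intro c v hv
    rw [mem_eigen] at hv ⊢
    rw [← hgm, hv, map_smul]
  have hsum' : ∀ (S : Set ℝ) v, v ∈ eigenSum mul b S → g v ∈ eigenSum mul (g b) S := by
    intro S v hv
    have hle : eigenSum mul b S ≤ (eigenSum mul (g b) S).comap (g : V →ₗ[ℝ] V) :=
      iSup₂_le fun c hc x hx =>
        (le_iSup₂_of_le (f := fun c _ => eigen mul (g b) c) c hc le_rfl :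
          eigen mul (g b) c ≤ eigenSum mul (g b) S) (heig' c x hx)
    exact hle hv
  have hsum'' : ∀ (S : Set ℝ) v, v ∈ eigenSum mul (g b) S → g.symm v ∈ eigenSum mul b S := by
    intro S v hv
    have hle : eigenSum mul (g b) S ≤ (eigenSum mul b S).comap (g.symm : V →ₗ[ℝ] V) :=
      iSup₂_le fun c hc x hx =>
        (le_iSup₂_of_le (f := fun c _ => eigen mul b c) c hc le_rfl :
          eigen mul b c ≤ eigenSum mul b S) (heig c x hx)
    exact hle hv
  refine ⟨fun u v => ?_, fun u v => ?_, ⟨⟨fun e => hb0 (g.map_eq_zero_iff.1 e), by rw [← hgm, hbb], ?_, ?_⟩, ?_⟩,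
    fun v hv => ?_, fun v hv => ?_⟩
  · rw [happ, happ, happ, hgm', hm, hgm]
  · rw [happ, happ, hgB, hB, ← hgB, LinearEquiv.apply_symm_apply, LinearEquiv.apply_symm_apply]
  · rw [eq_top_iff]
    intro v _
    have := hsum' majoranaSpectrum (g.symm v) (hsum ▸ Submodule.mem_top)
    rwa [LinearEquiv.apply_symm_apply] at this
  · intro c hc d hd u hu v hv
    have := hsum' _ _ (hfus c hc d hd _ (heig c u hu) _ (heig d v hv))
    rwa [hgm, LinearEquiv.apply_symm_apply, LinearEquiv.apply_symm_apply] at this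
  · ext v
    rw [Submodule.mem_span_singleton]
    constructor
    · intro hv
      have := heig 1 v hv
      rw [hprim, Submodule.mem_span_singleton] at this
      obtain ⟨r, hr⟩ := this
      exact ⟨r, by rw [← map_smul, hr, LinearEquiv.apply_symm_apply]⟩
    · rintro ⟨r, rfl⟩
      rw [← map_smul]
      exact heig' 1 _ (by rw [hprim]; exact Submodule.smul_mem _ _ (Submodule.mem_span_singleton_self b))
  · have e := hfix _ (hsum'' _ v hv)
    simp only [LinearEquiv.coe_coe] at e ⊢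
    rw [happ, e, LinearEquiv.apply_symm_apply]
  · have e := hneg _ (heig _ v hv)
    simp only [LinearEquiv.coe_coe] at e ⊢
    rw [happ, e, map_neg, LinearEquiv.apply_symm_apply]

/-- The vectors fixed by a Majorana involution. -/
theorem fixed_mem {B : LinearMap.BilinForm ℝ V} {μ : V ≃ₗ[ℝ] V} {b v : V}
    (h : IsMajoranaPair mul B μ b) (hv : μ v = v) :
    v ∈ eigenSum mul b ({1, 0, 1 / 4} : Set ℝ) := by
  obtain ⟨-, -, ⟨⟨-, -, hsum, -⟩, -⟩, hfix, hneg⟩ := h
  have hle : eigenSum mul b majoranaSpectrum ≤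
      eigenSum mul b ({1, 0, 1 / 4} : Set ℝ) ⊔ eigen mul b (1 / 32) := by
    refine iSup₂_le fun c hc => ?_
    have hle1 : c ∈ ({1, 0, 1 / 4} : Set ℝ) → eigen mul b c ≤ eigenSum mul b ({1, 0, 1 / 4} : Set ℝ) :=
      fun h => le_iSup₂_of_le (f := fun c _ => eigen mul b c) c h le_rfl
    rcases hc with rfl | rfl | rfl | hc
    · exact le_sup_of_le_left (hle1 (by simp))
    · exact le_sup_of_le_left (hle1 (by simp))
    · exact le_sup_of_le_left (hle1 (by simp))
    · rw [Set.mem_singleton_iff] at hc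
      rw [hc]
      exact le_sup_right
  rw [hsum] at hle
  obtain ⟨f, hf, w, hw, rfl⟩ := Submodule.mem_sup.1 (hle (Submodule.mem_top : v ∈ (⊤ : Submodule ℝ V)))
  have e1 := hfix f hf
  have e2 := hneg w hw
  simp only [LinearEquiv.coe_coe] at e1 e2
  rw [map_add, e1, e2] at hv
  have h2 : (2 : ℝ) • w = 0 := by
    have := add_left_cancel hv
    rw [two_smul]
    conv_lhs => arg 1; rw [← this]
    exact neg_add_cancel w
  rw [(smul_eq_zero.1 h2).resolve_left (by norm_num), add_zero]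
  exact hf

/-- Two commuting Majorana involutions generate a dihedral algebra of type 2A or 2B. -/
theorem commuting_pair {B : LinearMap.BilinForm ℝ V} (hV : IsMajoranaAmbient mul B) (μ₀ μ₁ : V ≃ₗ[ℝ] V)
    (a₀ a₁ : V) (h₀ : IsMajoranaPair mul B μ₀ a₀) (h₁ : IsMajoranaPair mul B μ₁ a₁)
    (hu₀ : ∀ a : V, IsMajoranaPair mul B μ₀ a → a = a₀) (hu₁ : ∀ a : V, IsMajoranaPair mul B μ₁ a → a = a₁)
    (hn₀ : B a₀ a₀ = 1) (hn₁ : B a₁ a₁ = 1) (hc : μ₀ * μ₁ = μ₁ * μ₀) (hne : a₀ ≠ a₁) :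
    (B a₀ a₁ = 0 ∧ mul a₀ a₁ = 0) ∨
    (B a₀ a₁ = 1 / 8 ∧
      mul (a₀ + a₁ - (8 : ℝ) • mul a₀ a₁) (a₀ + a₁ - (8 : ℝ) • mul a₀ a₁) = a₀ + a₁ - (8 : ℝ) • mul a₀ a₁ ∧
      mul a₀ (a₀ + a₁ - (8 : ℝ) • mul a₀ a₁) = (1 / 8 : ℝ) • (a₀ + (a₀ + a₁ - (8 : ℝ) • mul a₀ a₁) - a₁) ∧
      mul a₁ (a₀ + a₁ - (8 : ℝ) • mul a₀ a₁) = (1 / 8 : ℝ) • (a₁ + (a₀ + a₁ - (8 : ℝ) • mul a₀ a₁) - a₀)) := by
  obtain ⟨hcm, hsymm, hpos, hassoc, -⟩ := hV
  have hfix01 : μ₀ a₁ = a₁ := by
    refine hu₁ _ ?_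
    have := pair_conj h₁ μ₀ h₀.1 h₀.2.1
    rwa [hc, mul_inv_cancel_right] at this
  have hfix10 : μ₁ a₀ = a₀ := by
    refine hu₀ _ ?_
    have := pair_conj h₀ μ₁ h₁.1 h₁.2.1
    rwa [← hc, mul_inv_cancel_right] at this
  -- decompose a fixed axis along an axis
  have hdec : ∀ {μ : V ≃ₗ[ℝ] V} {a b : V}, IsMajoranaPair mul B μ a → B a a = 1 → μ b = b →
      ∃ u v : V, b = B a b • a + u + v ∧ mul a u = 0 ∧ mul a v = (1 / 4 : ℝ) • v ∧ B a u = 0 ∧ B a v = 0 := by
    intro μ a b ha hn hb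
    have h := fixed_mem ha hb
    rw [eigenSum_triple] at h
    obtain ⟨p, hp, _, hqr, rfl⟩ := Submodule.mem_sup.1 h
    obtain ⟨u, hu, v, hv, rfl⟩ := Submodule.mem_sup.1 hqr
    rw [ha.2.2.1.2, Submodule.mem_span_singleton] at hp
    obtain ⟨r, rfl⟩ := hp
    rw [mem_eigen] at hu hv
    rw [zero_smul] at hu
    have haa : mul a a = a := ha.2.2.1.1.2.1
    have hau : B a u = 0 := by
      have := hassoc a a u
      rw [haa, hu, map_zero] at this
      exact this.symm
    have hav : B a v = 0 := by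
      have := hassoc a a v
      rw [haa, hv, map_smul, smul_eq_mul] at this
      linarith
    refine ⟨u, v, ?_, hu, hv, hau, hav⟩
    rw [map_add, map_add, map_smul, smul_eq_mul, hn, hau, hav, mul_one, add_zero, add_zero, add_assoc]
  obtain ⟨u, v, e1, hu, hv, hau, hav⟩ := hdec h₀ hn₀ hfix01
  obtain ⟨u', v', e0, hu', hv', -, -⟩ := hdec h₁ hn₁ hfix10
  rw [hsymm a₁ a₀] at e0
  set α := B a₀ a₁ with hα
  have haa : mul a₀ a₀ = a₀ := h₀.2.2.1.1.2.1
  have hbb : mul a₁ a₁ = a₁ := h₁.2.2.1.1.2.1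
  have hfus := h₀.2.2.1.1.2.2.2
  have hmu : u ∈ eigen mul a₀ 0 := by rw [mem_eigen, hu, zero_smul]
  have hmv : v ∈ eigen mul a₀ (1 / 4) := by rw [mem_eigen, hv]
  have huu : mul a₀ (mul u u) = 0 := by
    have h := hfus 0 (by simp [majoranaSpectrum]) 0 (by simp [majoranaSpectrum]) u hmu u hmu
    rw [law_zero_zero, eigenSum_singleton, mem_eigen, zero_smul] at h
    exact h
  have huv : mul a₀ (mul u v) = (1 / 4 : ℝ) • mul u v := by
    have h := hfus 0 (by simp [majoranaSpectrum]) (1 / 4) (by simp [majoranaSpectrum]) u hmu v hmv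
    rw [law_zero_quarter, eigenSum_singleton, mem_eigen] at h
    exact h
  obtain ⟨β, w, hw, hvv⟩ : ∃ (β : ℝ) (w : V), mul a₀ w = 0 ∧ mul v v = β • a₀ + w := by
    have h := hfus (1 / 4) (by simp [majoranaSpectrum]) (1 / 4) (by simp [majoranaSpectrum]) v hmv v hmv
    rw [law_quarter_quarter, eigenSum_pair] at h
    obtain ⟨p, hp, w, hw, e⟩ := Submodule.mem_sup.1 h
    rw [h₀.2.2.1.2, Submodule.mem_span_singleton] at hp
    obtain ⟨β, rfl⟩ := hp
    rw [mem_eigen, zero_smul] at hw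
    exact ⟨β, w, hw, e.symm⟩
  have hβ : β = 1 / 4 * B v v := by
    have h1 := hassoc a₀ v v
    rw [hv, map_smul, LinearMap.smul_apply, smul_eq_mul, hvv, map_add, map_smul, smul_eq_mul, hn₀,
      mul_one] at h1
    have h2 : B a₀ w = 0 := by
      have := hassoc a₀ a₀ w
      rw [haa, hw, map_zero] at this
      exact this.symm
    linarith
  -- the square of `a₁`
  have hsq : mul a₁ a₁ = (α * α + β) • a₀ + (mul u u + w) + ((α / 2) • v + (2 : ℝ) • mul u v) := by
    conv_lhs => rw [e1]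
    simp only [map_add, map_smul, LinearMap.add_apply, LinearMap.smul_apply, haa, hu, hv,
      hcm u a₀, hcm v a₀, hvv, hcm v u, smul_zero]
    module
  obtain ⟨k1, k2, k3⟩ := three_part (a := a₀) (p := (α * α + β - α) • a₀) (q := mul u u + w - u)
    (r := (α / 2) • v + (2 : ℝ) • mul u v - v) (by rw [map_smul, haa])
    (by rw [map_sub, map_add, huu, hw, hu, add_zero, sub_zero])
    (by rw [map_sub, map_add, map_smul, map_smul, hv, huv]; module)
    (by
      have : mul a₁ a₁ - a₁ = 0 := by rw [hbb, sub_self]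
      rw [hsq] at this
      rw [← this, e1]
      module)
  have hβ' : β = α - α * α := by
    rw [smul_eq_zero] at k1
    rcases k1 with h | h
    · linarith
    · simp [h] at hn₀
  have hm01 : mul a₀ a₁ = α • a₀ + (1 / 4 : ℝ) • v := by
    conv_lhs => rw [e1]
    rw [map_add, map_add, map_smul, haa, hu, hv, add_zero]
  have hva : B v a₀ = 0 := by rw [hsymm, hav]
  have hua : B u a₀ = 0 := by rw [hsymm, hau]
  by_cases hα0 : α = 0
  · left
    refine ⟨hα0, ?_⟩
    have hv0 : v = 0 := by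
      by_contra h
      have := hpos v h
      rw [hα0] at hβ'
      linarith
    rw [hm01, hv0, hα0, zero_smul, smul_zero, add_zero]
  right
  have hvu : B v u = 0 := by
    have := hassoc v a₀ u
    rw [hu, map_zero, hcm v a₀, hv, map_smul, LinearMap.smul_apply, smul_eq_mul] at this
    linarith
  have hv0 : v ≠ 0 := by
    intro h
    rw [h, map_zero, mul_zero] at hβ
    have hα1 : α = 1 := by
      have : α * (1 - α) = 0 := by linarith
      rcases mul_eq_zero.1 this with h' | h'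
      · exact absurd h' hα0
      · linarith
    refine hne ?_
    rw [h, hα1, one_smul, add_zero] at e1
    have hu0 : u = 0 := by
      by_contra hu0
      have := hpos u hu0
      rw [e1, map_add, map_add, LinearMap.add_apply, LinearMap.add_apply, hn₀, hau, hua] at hn₁
      linarith
    rw [e1, hu0, add_zero]
  have hm10 : mul a₁ a₀ = α • a₁ + (1 / 4 : ℝ) • v' := by
    conv_lhs => rw [e0]
    rw [map_add, map_add, map_smul, hbb, hu', hv', add_zero]
  have hv'eq : v' = v + (4 * α) • (a₀ - a₁) := by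
    have h : α • a₀ + (1 / 4 : ℝ) • v = α • a₁ + (1 / 4 : ℝ) • v' := by rw [← hm01, ← hm10, hcm]
    have h4 : v' = (4 : ℝ) • ((α • a₁ + (1 / 4 : ℝ) • v') - α • a₁) := by module
    rw [h4, ← h]
    module
  have hk3 : mul u v = ((1 - α / 2) / 2) • v := by
    have e : mul u v = (1 / 2 : ℝ) • (((α / 2) • v + (2 : ℝ) • mul u v - v) + v - (α / 2) • v) := by module
    rw [k3] at e
    rw [e]
    module
  -- the two computations of `a₁ (a₀ a₁)`
  have hL : mul a₁ (mul a₀ a₁) = (α * α + β / 4) • a₀ + (1 / 4 : ℝ) • w +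
      (5 * α / 16 + (1 - α / 2) / 8) • v := by
    rw [hm01, map_add, map_smul, map_smul, hcm a₁ a₀, hm01]
    conv_lhs => rw [e1]
    simp only [map_add, map_smul, LinearMap.add_apply, LinearMap.smul_apply, hv, hvv, hk3]
    module
  have hR : mul a₁ (mul a₀ a₁) = (α * α + α * (1 - α) / 4) • a₀ + (3 * α / 4) • u +
      ((12 * α + 1) / 16) • v := by
    rw [hcm a₀ a₁, hm10, map_add, map_smul, map_smul, hbb, hv', hv'eq, e1]
    module
  obtain ⟨m1, m2, m3⟩ := three_part (a := a₀)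
    (p := ((α * α + β / 4) - (α * α + α * (1 - α) / 4)) • a₀) (q := (1 / 4 : ℝ) • w - (3 * α / 4) • u)
    (r := ((5 * α / 16 + (1 - α / 2) / 8) - (12 * α + 1) / 16) • v) (by rw [map_smul, haa])
    (by rw [map_sub, map_smul, map_smul, hw, hu, smul_zero, smul_zero, sub_zero])
    (by rw [map_smul, hv, smul_comm])
    (by
      have h := sub_eq_zero.2 (hL.symm.trans hR)
      rw [← h]
      module)
  have hα8 : α = 1 / 8 := by
    rw [smul_eq_zero] at m3
    have := m3.resolve_right hv0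
    linarith
  have hwu : w = (3 / 8 : ℝ) • u := by
    have e : w = (4 : ℝ) • ((1 / 4 : ℝ) • w - (3 * α / 4) • u) + (3 * α) • u := by module
    rw [m2, smul_zero, zero_add, hα8] at e
    rw [e]; norm_num
  have hβ8 : β = 7 / 64 := by rw [hβ', hα8]; norm_num
  have ha2 : a₀ + a₁ - (8 : ℝ) • mul a₀ a₁ = (1 / 8 : ℝ) • a₀ + u - v := by
    rw [hm01, e1, hα8]; module
  have huu' : mul u u = u - w := by
    have e : mul u u = (mul u u + w - u) + (u - w) := by abel
    rw [e, k2, zero_add]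
  rw [hα8] at e1 hk3
  refine ⟨hα8, ?_, ?_, ?_⟩ <;> rw [ha2]
  · simp only [map_add, map_sub, map_smul, LinearMap.add_apply, LinearMap.sub_apply, LinearMap.smul_apply,
      haa, hu, hv, hcm u a₀, hcm v a₀, hvv, hcm v u, hk3, huu', hβ8, hwu, smul_zero]
    module
  · rw [map_sub, map_add, map_smul, haa, hu, hv, e1]
    module
  · rw [e1]
    simp only [map_add, map_sub, map_smul, LinearMap.add_apply, LinearMap.smul_apply,
      haa, hu, hv, hcm u a₀, hcm v a₀, hvv, hcm v u, hk3, huu', hβ8, hwu, smul_zero]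
    module

end CfsgLib.ThreeTransp.Majorana
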