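import Mathlib

/-!
Pairs of centre and axis of the transvections in a linear group over a prime field of odd order.
-/

set_option autoImplicit false

namespace CfsgLib.ThreeTransp.McL

variable {p : ℕ} [Fact p.Prime] {V : Type*} [AddCommGroup V] [Module (ZMod p) V]

/-- The transvection with centre `a` and axis `φ` lies in `M`. -/
def Th (M : Subgroup (V ≃ₗ[ZMod p] V)) (a : V) (φ : Module.Dual (ZMod p) V) : Prop :=
  φ a = 0 ∧ ∃ g ∈ M, ∀ x, g x = x + φ x • a

variable {M : Subgroup (V ≃ₗ[ZMod p] V)} {a b : V} {φ ψ : Module.Dual (ZMod p) V}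

theorem th_zero_right (M : Subgroup (V ≃ₗ[ZMod p] V)) (a : V) : Th M a 0 :=
  ⟨rfl, 1, one_mem M, fun x => by simp⟩

theorem Th.add (h : Th M a φ) (h' : Th M a ψ) : Th M a (φ + ψ) := by
  obtain ⟨h0, g, hg, hgx⟩ := h
  obtain ⟨h0', g', hg', hgx'⟩ := h'
  refine ⟨by rw [LinearMap.add_apply, h0, h0', add_zero], g * g', mul_mem hg hg', fun x => ?_⟩
  rw [LinearEquiv.mul_apply, hgx', hgx, map_add, map_smul, h0, LinearMap.add_apply]
  simp only [smul_eq_mul, mul_zero, add_zero]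
  module

theorem Th.nsmul (h : Th M a φ) (m : ℕ) : Th M a (m • φ) := by
  induction m with
  | zero => rw [zero_smul]; exact th_zero_right M a
  | succ m ih => rw [succ_nsmul]; exact ih.add h

theorem Th.smul (h : Th M a φ) (c : ZMod p) : Th M a (c • φ) := by
  have h1 := h.nsmul c.val
  rwa [← Nat.cast_smul_eq_nsmul (ZMod p), ZMod.natCast_zmod_val] at h1

theorem Th.of_smul_centre {c : ZMod p} (hc : c ≠ 0) (h : Th M (c • a) φ) : Th M a (c • φ) := by
  obtain ⟨h0, g, hg, hgx⟩ := h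
  rw [map_smul, smul_eq_mul] at h0
  refine ⟨by rw [LinearMap.smul_apply, smul_eq_mul, (mul_eq_zero.1 h0).resolve_left hc, mul_zero], g, hg,
    fun x => ?_⟩
  rw [hgx, LinearMap.smul_apply, smul_eq_mul, smul_smul, mul_comm]

theorem Th.smul_centre (h : Th M a φ) {c : ZMod p} (hc : c ≠ 0) : Th M (c • a) φ := by
  obtain ⟨h0, g, hg, hgx⟩ := h.smul c⁻¹
  obtain ⟨g', hg', hgx'⟩ : ∃ g' ∈ M, ∀ x, g' x = x + φ x • a := h.2
  obtain ⟨-, g'', hg'', hgx''⟩ := h.smul c
  refine ⟨by rw [map_smul, h.1, smul_zero], g'', hg'', fun x => ?_⟩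
  rw [hgx'', LinearMap.smul_apply, smul_eq_mul, smul_smul, mul_comm]

theorem Th.conj (h : Th M a φ) {g : V ≃ₗ[ZMod p] V} (hg : g ∈ M) :
    Th M (g a) (φ ∘ₗ g.symm.toLinearMap) := by
  obtain ⟨h0, t, ht, htx⟩ := h
  refine ⟨by simpa using h0, g * t * g⁻¹, mul_mem (mul_mem hg ht) (inv_mem hg), fun x => ?_⟩
  show g (t (g.symm x)) = _
  rw [htx, map_add, map_smul, LinearEquiv.apply_symm_apply]
  rfl

/-- The conjugate of one transvection under another. -/
theorem Th.conj_th (h : Th M a φ) (h' : Th M b ψ) :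
    Th M (b + φ b • a) (ψ - ψ a • φ) := by
  obtain ⟨h0, g, hg, hgx⟩ := h
  have h1 := h'.conj hg
  rw [hgx b] at h1
  have hsym : ∀ x, g.symm x = x - φ x • a := fun x => by
    apply g.injective
    rw [LinearEquiv.apply_symm_apply, hgx, map_sub, map_smul, h0, smul_eq_mul, mul_zero, sub_zero]
    module
  convert h1 using 1
  refine LinearMap.ext fun x => ?_
  simp only [LinearMap.comp_apply, LinearEquiv.coe_coe, hsym, map_sub, map_smul, smul_eq_mul,
    LinearMap.sub_apply, LinearMap.smul_apply]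
  ring

/-- The commutator of two transvections, one centre in the other axis. -/
theorem Th.comm (h : Th M a φ) (h' : Th M b ψ) (hψ : ψ a = 0) : Th M a (φ b • ψ) := by
  obtain ⟨h0, g, hg, hgx⟩ := h
  obtain ⟨h0', g', hg', hgx'⟩ := h'
  refine ⟨by rw [LinearMap.smul_apply, hψ, smul_zero], g * g' * g⁻¹ * g'⁻¹,
    mul_mem (mul_mem (mul_mem hg hg') (inv_mem hg)) (inv_mem hg'), fun x => ?_⟩
  have hsym : ∀ y, g⁻¹ y = y - φ y • a := fun y => by
    apply g.injective
    show g (g.symm y) = _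
    rw [LinearEquiv.apply_symm_apply, hgx, map_sub, map_smul, h0, smul_eq_mul, mul_zero, sub_zero]
    module
  have hsym' : ∀ y, g'⁻¹ y = y - ψ y • b := fun y => by
    apply g'.injective
    show g' (g'.symm y) = _
    rw [LinearEquiv.apply_symm_apply, hgx', map_sub, map_smul, h0', smul_eq_mul, mul_zero, sub_zero]
    module
  simp only [LinearEquiv.mul_apply, hgx, hgx', hsym, hsym', map_add, map_sub, map_smul, h0, h0', hψ,
    smul_eq_mul, LinearMap.smul_apply]
  module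

/-- Every invariant subspace is trivial. -/
def Irred (M : Subgroup (V ≃ₗ[ZMod p] V)) : Prop :=
  ∀ W : Submodule (ZMod p) V, (∀ a φ, Th M a φ → ∀ x ∈ W, φ x • a ∈ W) → W = ⊥ ∨ W = ⊤

/-- A centre of a non-trivial transvection. -/
def Cen (M : Subgroup (V ≃ₗ[ZMod p] V)) (a : V) : Prop := a ≠ 0 ∧ ∃ φ, φ ≠ 0 ∧ Th M a φ

theorem Cen.smul (h : Cen M a) {c : ZMod p} (hc : c ≠ 0) : Cen M (c • a) := by
  obtain ⟨h0, φ, hφ, hth⟩ := h
  exact ⟨smul_ne_zero hc h0, φ, hφ, hth.smul_centre hc⟩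

theorem comp_symm_ne_zero {g : V ≃ₗ[ZMod p] V} (h : φ ≠ 0) : φ ∘ₗ g.symm.toLinearMap ≠ 0 := fun e =>
  h (LinearMap.ext fun x => by simpa using LinearMap.congr_fun e (g x))

theorem Cen.conj (h : Cen M a) {g : V ≃ₗ[ZMod p] V} (hg : g ∈ M) : Cen M (g a) := by
  obtain ⟨h0, φ, hφ, hth⟩ := h
  exact ⟨fun e => h0 (g.injective (by rw [e, map_zero])), _, comp_symm_ne_zero hφ, hth.conj hg⟩

theorem Cen.shift (h : Cen M b) (h' : Th M a φ) : Cen M (b + φ b • a) := by
  obtain ⟨g, hg, hgx⟩ := h'.2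
  rw [← hgx]
  exact h.conj hg

/-- The line through two adjacent centres consists of centres. -/
theorem cen_line (ha : Cen M a) (hb : Cen M b) (h : Th M a φ) (hφ : φ b ≠ 0) {x : V}
    (hx : x ∈ Submodule.span (ZMod p) {a, b}) (hx0 : x ≠ 0) : Cen M x := by
  obtain ⟨s, t, rfl⟩ := Submodule.mem_span_pair.1 hx
  by_cases ht : t = 0
  · subst ht
    rw [zero_smul, add_zero] at hx0 ⊢
    exact ha.smul fun e => hx0 (by rw [e, zero_smul])
  · have h1 := (hb.shift (h.smul (s / (t * φ b)))).smul ht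
    convert h1 using 1
    rw [LinearMap.smul_apply, smul_eq_mul, smul_add, smul_smul,
      show t * (s / (t * φ b) * φ b) = s by field_simp]
    exact add_comm _ _

theorem two_ne (hp2 : p ≠ 2) : (2 : ZMod p) ≠ 0 := fun e => by
  have h4 : p ∣ 2 := by
    rw [← ZMod.natCast_eq_zero_iff]
    exact_mod_cast e
  exact hp2 ((Nat.prime_dvd_prime_iff_eq Fact.out Nat.prime_two).1 h4)

/-- An element outside three proper subspaces. -/
theorem exists_not_mem_three (hp2 : p ≠ 2) {A B C : Submodule (ZMod p) V} (hA : A ≠ ⊤) (hB : B ≠ ⊤)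
    (hC : C ≠ ⊤) : ∃ x, x ∉ A ∧ x ∉ B ∧ x ∉ C := by
  have htwo : ∀ {A B : Submodule (ZMod p) V}, A ≠ ⊤ → B ≠ ⊤ → ∃ x, x ∉ A ∧ x ∉ B := by
    intro A B hA hB
    obtain ⟨x, -, hx⟩ := SetLike.exists_of_lt (lt_top_iff_ne_top.2 hA)
    obtain ⟨y, -, hy⟩ := SetLike.exists_of_lt (lt_top_iff_ne_top.2 hB)
    by_cases hxB : x ∈ B
    · by_cases hyA : y ∈ A
      · exact ⟨x + y, fun h => hx (by simpa using A.sub_mem h hyA),
          fun h => hy (by simpa using B.sub_mem h hxB)⟩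
      · exact ⟨y, hyA, hy⟩
    · exact ⟨x, hx, hxB⟩
  obtain ⟨x, hxA, hxB⟩ := htwo hA hB
  by_cases hxC : x ∈ C
  swap
  · exact ⟨x, hxA, hxB, hxC⟩
  obtain ⟨y, -, hy⟩ := SetLike.exists_of_lt (lt_top_iff_ne_top.2 hC)
  have hsub : ∀ (D : Submodule (ZMod p) V), x ∉ D → ∀ c d : ZMod p, y + c • x ∈ D → y + d • x ∈ D → c = d := by
    intro D hD c d h1 h2
    by_contra hne
    refine hD ((D.smul_mem_iff (sub_ne_zero.2 hne)).1 ?_)
    have h3 := D.sub_mem h1 h2
    rw [show y + c • x - (y + d • x) = (c - d) • x by module] at h3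
    exact h3
  have h12 : (1 : ZMod p) ≠ -1 := fun e => two_ne hp2 (by linear_combination e)
  by_contra hne
  push Not at hne
  have hC' : ∀ c : ZMod p, y + c • x ∉ C := fun c h =>
    hy (by simpa using C.sub_mem h (C.smul_mem c hxC))
  have hcov : ∀ c : ZMod p, y + c • x ∈ A ∨ y + c • x ∈ B := fun c => by
    by_contra hn
    push Not at hn
    exact hC' c (hne _ hn.1 hn.2)
  rcases hcov 0 with h0 | h0 <;> rcases hcov 1 with h1 | h1 <;> rcases hcov (-1) with h2 | h2
  all_goals first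
    | exact zero_ne_one (hsub A hxA _ _ h0 h1)
    | exact zero_ne_one (hsub B hxB _ _ h0 h1)
    | exact h12 (hsub A hxA _ _ h1 h2)
    | exact h12 (hsub B hxB _ _ h1 h2)
    | exact (neg_ne_zero.2 one_ne_zero).symm (hsub A hxA _ _ h0 h2)
    | exact (neg_ne_zero.2 one_ne_zero).symm (hsub B hxB _ _ h0 h2)

/-- Two different multiples. -/
theorem exists_two (hp2 : p ≠ 2) {η : Module.Dual (ZMod p) V} {z y : V} (hz : η z ≠ 0) :
    ∃ μ : ZMod p, μ ≠ 0 ∧ η (z + μ • y) ≠ 0 := by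
  by_cases h1 : η (z + (1 : ZMod p) • y) = 0
  · refine ⟨-1, neg_ne_zero.2 one_ne_zero, fun h2 => hz ?_⟩
    simp only [map_add, map_smul, smul_eq_mul] at h1 h2
    have h3 : (2 : ZMod p) * η z = 0 := by linear_combination h1 + h2
    exact (mul_eq_zero.1 h3).resolve_left (two_ne hp2)
  · exact ⟨1, one_ne_zero, h1⟩

/-- In an irreducible transvection group every non-zero vector is a centre. -/
theorem cen_all [Finite V] (hp2 : p ≠ 2) (hirr : Irred M) (hne : ∃ a, Cen M a) (v : V) (hv : v ≠ 0) :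
    Cen M v := by
  have hrange : ∀ (U : Submodule (ZMod p) V), (∀ a φ, Th M a φ → a ∉ U → ∀ x ∈ U, φ x = 0) → U = ⊥ ∨ U = ⊤ :=
    fun U hU => hirr U fun a φ h x hx => by
      by_cases ha : a ∈ U
      · exact U.smul_mem _ ha
      · rw [hU a φ h ha x hx, zero_smul]; exact U.zero_mem
  let S : Set (Submodule (ZMod p) V) := {W | ∀ x ∈ W, x ≠ 0 → Cen M x}
  obtain ⟨a₀, ha₀⟩ := hne
  have hS₀ : Submodule.span (ZMod p) {a₀} ∈ S := by
    intro x hx hx0
    obtain ⟨c, rfl⟩ := Submodule.mem_span_singleton.1 hx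
    exact ha₀.smul fun e => hx0 (by rw [e, zero_smul])
  obtain ⟨W, hle, hWS, hWmax⟩ : ∃ W, Submodule.span (ZMod p) {a₀} ≤ W ∧ W ∈ S ∧
      ∀ W' ∈ S, W ≤ W' → W' ≤ W := by
    obtain ⟨W, hW, hmax⟩ := (Set.toFinite {W | W ∈ S ∧ Submodule.span (ZMod p) {a₀} ≤ W}).exists_maximal
      ⟨_, hS₀, le_rfl⟩
    exact ⟨W, hW.2, hW.1, fun W' hW' hWW' => hmax ⟨hW', hW.2.trans hWW'⟩ hWW'⟩
  by_cases hWtop : W = ⊤
  · exact hWS v (hWtop ▸ Submodule.mem_top) hv
  exfalso
  have hWbot : W ≠ ⊥ := fun e => ha₀.1 (by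
    have h1 := hle (Submodule.mem_span_singleton_self a₀)
    rwa [e, Submodule.mem_bot] at h1)
  obtain ⟨c, χ, hcχ, hcW, w₁, hw₁, hχw₁⟩ : ∃ c χ, Th M c χ ∧ c ∉ W ∧ ∃ w₁ ∈ W, χ w₁ ≠ 0 := by
    by_contra hcon
    push Not at hcon
    exact (hrange W fun a φ h ha x hx => hcon a φ h ha x hx).elim hWbot hWtop
  let W' := W ⊔ Submodule.span (ZMod p) {c}
  have hWW' : W ≤ W' := le_sup_left
  have hopen : ∀ x ∈ W', χ x ≠ 0 → Cen M x := by
    intro x hx hχx
    obtain ⟨w, hw, _, hy, rfl⟩ := Submodule.mem_sup.1 hx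
    obtain ⟨μ, rfl⟩ := Submodule.mem_span_singleton.1 hy
    rw [map_add, map_smul, hcχ.1, smul_zero, add_zero] at hχx
    have h1 := (hWS w hw fun e => hχx (by rw [e, map_zero])).shift (hcχ.smul (μ / χ w))
    convert h1 using 2
    rw [LinearMap.smul_apply, smul_eq_mul, div_mul_cancel₀ _ hχx]
  have hW'S : W' ∈ S := by
    intro z hz hz0
    by_contra hnc
    have hχz : χ z = 0 := by by_contra h; exact hnc (hopen z hz h)
    have hyz : ∀ y ∈ W', χ y ≠ 0 → ∀ μ : ZMod p, μ ≠ 0 → χ (z + μ • y) ≠ 0 := fun y _ hy μ hμ => by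
      rw [map_add, hχz, zero_add, map_smul]; exact smul_ne_zero hμ hy
    -- the axes of the open points contain `z`
    have hz1 : ∀ y ∈ W', χ y ≠ 0 → ∀ φ, Th M y φ → φ z = 0 := by
      intro y hy hχy φ hφ
      by_contra hne'
      have h1 : Cen M (z + (1 : ZMod p) • y) :=
        hopen _ (W'.add_mem hz (W'.smul_mem _ hy)) (hyz y hy hχy 1 one_ne_zero)
      refine hnc (cen_line (hopen y hy hχy) h1 hφ ?_ ?_ hz0)
      · rw [map_add, map_smul, hφ.1, smul_zero, add_zero]; exact hne'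
      · exact Submodule.mem_span_pair.2 ⟨-1, 1, by module⟩
    -- they contain every centre whose axis misses `z`
    have hz2 : ∀ y ∈ W', χ y ≠ 0 → ∀ φ, Th M y φ → ∀ e η, Th M e η → η z ≠ 0 → φ e = 0 := by
      intro y hy hχy φ hφ e η hη hηz
      by_contra hne'
      obtain ⟨μ, hμ, hημ⟩ := exists_two hp2 (y := y) hηz
      have h1 : Cen M (z + μ • y + η (z + μ • y) • e) :=
        (hopen _ (W'.add_mem hz (W'.smul_mem _ hy)) (hyz y hy hχy μ hμ)).shift hη
      have hq0 : z + η (z + μ • y) • e ≠ 0 := fun h0 => by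
        have h2 := congrArg η h0
        rw [map_add, map_smul η _ e, hη.1, smul_zero, add_zero, map_zero] at h2
        exact hηz h2
      have h2 : Cen M (z + η (z + μ • y) • e) := by
        refine cen_line (hopen y hy hχy) h1 hφ ?_
          (Submodule.mem_span_pair.2 ⟨-μ, 1, by module⟩) hq0
        simp only [map_add, map_smul, hz1 y hy hχy φ hφ, hφ.1, smul_zero, zero_add, smul_eq_mul]
        rw [mul_zero, zero_add]
        refine mul_ne_zero ?_ hne'
        simpa [map_add, map_smul, smul_eq_mul] using hημ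
      have he : Cen M e := ⟨fun h0 => hne' (by rw [h0, map_zero]), η, fun h0 => hηz (by simp [h0]), hη⟩
      refine hnc (cen_line he h2 hη ?_ (Submodule.mem_span_pair.2 ⟨-η (z + μ • y), 1, by module⟩) hz0)
      rw [map_add, map_smul η _ e, hη.1, smul_zero, add_zero]
      exact hηz
    let U := Submodule.span (ZMod p) ({z} ∪ {e | ∃ η, Th M e η ∧ η z ≠ 0})
    have hzU : z ∈ U := Submodule.subset_span (Or.inl rfl)
    have hUtop : U = ⊤ := by
      refine (hirr U fun f θ hf x hx => ?_).resolve_left fun e => hz0 (by rwa [e, Submodule.mem_bot] at hzU)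
      obtain ⟨g, hg, hgx⟩ := hf.2
      by_cases hθ : θ z = 0
      · suffices hgU : g x ∈ U by
          have h3 := U.sub_mem hgU hx
          rwa [hgx, add_sub_cancel_left] at h3
        induction hx using Submodule.span_induction with
        | mem e he =>
          rcases he with rfl | ⟨η, hη, hηz⟩
          · rw [hgx, hθ, zero_smul, add_zero]; exact hzU
          · refine Submodule.subset_span (Or.inr ⟨η ∘ₗ g.symm.toLinearMap, hη.conj hg, ?_⟩)
            have hgz : g.symm z = z := g.symm_apply_eq.2 (by rw [hgx, hθ, zero_smul, add_zero])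
            simpa [hgz] using hηz
        | zero => rw [map_zero]; exact U.zero_mem
        | add x y _ _ hx hy => rw [map_add]; exact U.add_mem hx hy
        | smul r x _ hx => rw [map_smul]; exact U.smul_mem r hx
      · exact U.smul_mem _ (Submodule.subset_span (Or.inr ⟨θ, hf, hθ⟩))
    obtain ⟨φ, hφ0, hφ⟩ := (hopen w₁ (hWW' hw₁) hχw₁).2
    refine hφ0 (LinearMap.ext fun x => ?_)
    have hker : U ≤ LinearMap.ker φ := Submodule.span_le.2 (by
      rintro e (rfl | ⟨η, hη, hηz⟩)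
      · exact hz1 w₁ (hWW' hw₁) hχw₁ φ hφ
      · exact hz2 w₁ (hWW' hw₁) hχw₁ φ hφ e η hη hηz)
    exact hker (hUtop ▸ Submodule.mem_top)
  exact hcW (hWmax W' hW'S hWW' (le_sup_right (a := W) (Submodule.mem_span_singleton_self c)))

end CfsgLib.ThreeTransp.McL
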