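import Cfsg.Agent.Lib.ThreeTransp.McLSplit

/-!
The split-off factors: special linear or symplectic on one summand, trivial on the other.
-/

set_option autoImplicit false

namespace CfsgLib.ThreeTransp.McL

variable {p : ℕ} [Fact p.Prime] {V : Type*} [AddCommGroup V] [Module (ZMod p) V]

/-- A factor of the decomposition. -/
structure Block (K : Subgroup (V ≃ₗ[ZMod p] V)) (W C : Submodule (ZMod p) V) : Prop where
  compl : IsCompl W C
  fix : ∀ g ∈ K, ∀ c ∈ C, g c = c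
  inv : ∀ g ∈ K, ∀ w ∈ W, g w ∈ W
  fixed_le : ∀ v, (∀ g ∈ K, g v = v) → v ∈ C
  le_span : W ≤ Submodule.span (ZMod p) {x | ∃ g ∈ K, ∃ v, g v - v = x}
  classical : ∃ ρ : ↥K →* (↥W ≃ₗ[ZMod p] ↥W),
    (∀ (h : ↥K) (v : ↥W), ((ρ h v : ↥W) : V) = (h : V ≃ₗ[ZMod p] V) (v : V)) ∧
      ((ρ.range : Set (↥W ≃ₗ[ZMod p] ↥W)) =
          {f : ↥W ≃ₗ[ZMod p] ↥W | LinearMap.det (f : ↥W →ₗ[ZMod p] ↥W) = 1} ∨
        ∃ B : LinearMap.BilinForm (ZMod p) ↥W, B.IsAlt ∧ B.Nondegenerate ∧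
          (ρ.range : Set (↥W ≃ₗ[ZMod p] ↥W)) = {f : ↥W ≃ₗ[ZMod p] ↥W | ∀ x y, B (f x) (f y) = B x y})

variable {K : Subgroup (V ≃ₗ[ZMod p] V)} {W C : Submodule (ZMod p) V}

theorem Block.commutes (h : Block K W C) {g : V ≃ₗ[ZMod p] V} (hg : ∀ k ∈ K, g * k = k * g) :
    (∀ w ∈ W, g w ∈ W) ∧ ∀ c ∈ C, g c ∈ C := by
  refine ⟨fun w hw => ?_, fun c hc => h.fixed_le _ fun k hk => ?_⟩
  · have h1 : Submodule.span (ZMod p) {x | ∃ k ∈ K, ∃ v, k v - v = x} ≤ W.comap (g : V →ₗ[ZMod p] V) := by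
      refine Submodule.span_le.2 ?_
      rintro _ ⟨k, hk, v, rfl⟩
      obtain ⟨u, hu, c, hc, huc⟩ := Submodule.mem_sup.1 (show g v ∈ W ⊔ C by rw [h.compl.sup_eq_top]; trivial)
      show g (k v - v) ∈ W
      rw [map_sub, show g (k v) = k (g v) from LinearEquiv.congr_fun (hg k hk) v, ← huc, map_add, h.fix k hk c hc,
        show k u + c - (u + c) = k u - u by abel]
      exact W.sub_mem (h.inv k hk u hu) hu
    exact h1 (h.le_span hw)
  · rw [show k (g c) = g (k c) from (LinearEquiv.congr_fun (hg k hk) c).symm, h.fix k hk c hc]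

variable [Finite V] {X Y : Submodule (ZMod p) V}

theorem Section.block (hp2 : p ≠ 2) (h : Section K X Y) :
    ∃ W C : Submodule (ZMod p) V, W ≤ Y ∧ Block K W C := by
  obtain ⟨W, C, hWC, hWY, hWX, hWXY, hfix, hinv⟩ := h.split hp2
  obtain ⟨S, hSK, hS⟩ := h.gen
  -- `W` is irreducible
  have hirrW : ∀ U ≤ W, (∀ g ∈ K, ∀ u ∈ U, g u ∈ U) → U = ⊥ ∨ U = W := by
    intro U hU hUinv
    have hmodular : (U ⊔ X) ⊓ W = U := by
      rw [sup_inf_assoc_of_le X hU, inf_comm, hWX, sup_bot_eq]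
    rcases h.irred (U ⊔ X) le_sup_right (sup_le (hU.trans hWY) h.le) (by
        intro g hg z hz
        obtain ⟨u, hu, x, hx, rfl⟩ := Submodule.mem_sup.1 hz
        rw [map_add, h.fixX g hg x hx]
        exact Submodule.add_mem_sup (hUinv g hg u hu) hx) with e | e
    · left; rw [← hmodular, e, inf_comm, hWX]
    · right; rw [← hmodular, e, inf_eq_right]; exact hWY
  have hdec : ∀ v, ∃ w ∈ W, ∃ c ∈ C, w + c = v := fun v =>
    Submodule.mem_sup.1 (show v ∈ W ⊔ C by rw [hWC.sup_eq_top]; trivial)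
  obtain ⟨t, ht, w₀, hw₀, hne⟩ : ∃ t ∈ S, ∃ w ∈ W, t w ≠ w := by
    by_contra hn
    push Not at hn
    refine h.nontriv ?_
    rw [hSK, Subgroup.closure_eq_bot_iff]
    intro t ht
    refine LinearEquiv.ext fun v => ?_
    obtain ⟨w, hw, c, hc, rfl⟩ := hdec v
    rw [map_add, hn t ht w hw, hfix t (hSK ▸ Subgroup.subset_closure ht) c hc]; rfl
  have htK : t ∈ K := hSK ▸ Subgroup.subset_closure ht
  have hspan : W ≤ Submodule.span (ZMod p) {x | ∃ g ∈ K, ∃ v, g v - v = x} := by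
    rcases hirrW (W ⊓ Submodule.span (ZMod p) {x | ∃ g ∈ K, ∃ v, g v - v = x}) inf_le_left (by
        rintro g hg u ⟨hu1, hu2⟩
        refine ⟨hinv g hg u hu1, ?_⟩
        have h1 : g u - u ∈ Submodule.span (ZMod p) {x | ∃ g ∈ K, ∃ v, g v - v = x} :=
          Submodule.subset_span ⟨g, hg, u, rfl⟩
        simpa using Submodule.add_mem _ h1 hu2) with e | e
    · exact absurd (sub_eq_zero.1 ((Submodule.mem_bot (R := ZMod p)).1 (e ▸ ⟨W.sub_mem (hinv t htK w₀ hw₀) hw₀,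
        Submodule.subset_span ⟨t, htK, w₀, rfl⟩⟩))) hne
    · exact inf_eq_left.1 e
  have hfixed : ∀ v, (∀ g ∈ K, g v = v) → v ∈ C := by
    intro v hv
    obtain ⟨w, hw, c, hc, rfl⟩ := hdec v
    let F : Submodule (ZMod p) V :=
      { carrier := {u | u ∈ W ∧ ∀ g ∈ K, g u = u}
        add_mem' := fun h1 h2 => ⟨W.add_mem h1.1 h2.1, fun g hg => by rw [map_add, h1.2 g hg, h2.2 g hg]⟩
        zero_mem' := ⟨W.zero_mem, fun g _ => map_zero g⟩
        smul_mem' := fun r _ h1 => ⟨W.smul_mem r h1.1, fun g hg => by rw [map_smul, h1.2 g hg]⟩ }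
    rcases hirrW F (fun u hu => hu.1) (fun g hg u hu => by rw [hu.2 g hg]; exact hu) with e | e
    · have hwF : w ∈ F := ⟨hw, fun g hg => by
        have h1 := hv g hg
        rw [map_add, hfix g hg c hc] at h1
        exact add_right_cancel h1⟩
      rw [e, Submodule.mem_bot] at hwF
      rwa [hwF, zero_add]
    · exact absurd ((e ▸ hw₀ : w₀ ∈ F).2 t htK) hne
  refine ⟨W, C, hWY, hWC, hfix, hinv, hfixed, hspan, restr W hinv, fun _ _ => rfl, ?_⟩
  -- classification on `W`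
  set ρ := restr W hinv with hρ
  have htv : ∀ (g : ↥K) (a : V) (φ : Module.Dual (ZMod p) V), φ a = 0 → (∀ x, g.1 x = x + φ x • a) →
      IsTv (ρ g) ∧ (∀ w ∈ W, g.1 w ≠ w → ∃ a' ψ, ψ ≠ 0 ∧ a' ≠ 0 ∧ Th ρ.range a' ψ) := by
    intro g a φ h0 hx
    by_cases ha : a ∈ W
    · have hq : ∀ q : W, ρ g q = q + (φ ∘ₗ W.subtype) q • (⟨a, ha⟩ : W) := fun q => Subtype.ext (hx q.1)
      exact ⟨⟨⟨a, ha⟩, φ ∘ₗ W.subtype, h0, hq⟩, fun w hw hgw => ⟨⟨a, ha⟩, φ ∘ₗ W.subtype,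
        fun e => hgw (by rw [hx, show φ w = 0 from LinearMap.congr_fun e ⟨w, hw⟩, zero_smul, add_zero]),
        fun e => hgw (by rw [hx, show a = 0 from congrArg Subtype.val e, smul_zero, add_zero]),
        h0, ρ g, ⟨g, rfl⟩, hq⟩⟩
    · have h1 : ∀ w ∈ W, g.1 w = w := fun w hw => by
        have h2 := W.sub_mem (hinv _ g.2 w hw) hw
        rw [hx, add_sub_cancel_left] at h2
        by_cases hφ : φ w = 0
        · rw [hx, hφ, zero_smul, add_zero]
        · exact absurd ((W.smul_mem_iff hφ).1 h2) ha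
      exact ⟨⟨0, 0, rfl, fun q => Subtype.ext (by rw [restr_apply, h1 q.1 q.2]; simp)⟩,
        fun w hw hgw => absurd (h1 w hw) hgw⟩
  have hgenTv : ∀ f ∈ {f | ∃ g : ↥K, g.1 ∈ S ∧ ρ g = f}, IsTv f := by
    rintro _ ⟨g, hg, rfl⟩
    obtain ⟨a, φ, h0, hx⟩ := hS _ hg
    exact (htv g a φ h0 hx).1
  have hirr : Irred ρ.range := by
    intro U hU
    have hUρ : ∀ f ∈ ρ.range, ∀ u ∈ U, f u ∈ U := by
      intro f hf
      rw [range_gen hSK ρ] at hf
      induction hf using Subgroup.closure_induction with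
      | mem f hf =>
        intro u hu
        obtain ⟨a, φ, h0, hfx⟩ := hgenTv f hf
        obtain ⟨g, -, rfl⟩ := hf
        rw [hfx]
        exact U.add_mem hu (hU a φ ⟨h0, ρ g, ⟨g, rfl⟩, hfx⟩ u hu)
      | one => intro u hu; exact hu
      | mul x y _ _ hx hy => intro u hu; exact hx _ (hy u hu)
      | inv x _ hx =>
        intro u hu
        have hfin : U.map (x : ↥W →ₗ[ZMod p] ↥W) = U :=
          Submodule.eq_of_le_of_finrank_eq (Submodule.map_le_iff_le_comap.2 fun w hw => hx w hw)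
            (x.finrank_map_eq U)
        rw [← hfin] at hu
        obtain ⟨w, hw, rfl⟩ := hu
        show x.symm (x w) ∈ U
        rwa [x.symm_apply_apply]
    rcases hirrW (U.map W.subtype) (Submodule.map_subtype_le _ _) (by
        rintro g hg _ ⟨u, hu, rfl⟩
        exact ⟨ρ ⟨g, hg⟩ u, hUρ _ ⟨⟨g, hg⟩, rfl⟩ u hu, rfl⟩) with e | e
    · exact Or.inl (Submodule.map_injective_of_injective W.injective_subtype (e.trans (Submodule.map_bot _).symm))
    · exact Or.inr (Submodule.map_injective_of_injective W.injective_subtype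
        (e.trans (Submodule.map_subtype_top W).symm))
  obtain ⟨a, φ, h0, hx⟩ := hS t ht
  obtain ⟨a', ψ, hψ, ha', hth⟩ := (htv ⟨t, htK⟩ a φ h0 hx).2 w₀ hw₀ hne
  rcases classify hp2 (range_gen hSK ρ) hgenTv hirr ⟨a', ha', ψ, hψ, hth⟩ with ⟨-, hM⟩ | hB
  · exact Or.inl hM
  · exact Or.inr hB

end CfsgLib.ThreeTransp.McL
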