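import Cfsg.Agent.Lib.ThreeTransp.McLBasic

/-!
The axes belonging to a centre: all hyperplanes through it, or one, given by an alternating form.
-/

set_option autoImplicit false

namespace CfsgLib.ThreeTransp.McL

variable {p : ℕ} [Fact p.Prime] {V : Type*} [AddCommGroup V] [Module (ZMod p) V]
variable {M : Subgroup (V ≃ₗ[ZMod p] V)}

/-- The axes of a centre. -/
def Phi (M : Subgroup (V ≃ₗ[ZMod p] V)) (a : V) : Submodule (ZMod p) (Module.Dual (ZMod p) V) where
  carrier := {φ | Th M a φ}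
  add_mem' h h' := Th.add h h'
  zero_mem' := th_zero_right M a
  smul_mem' c _ h := Th.smul h c

theorem mem_phi {a : V} {φ : Module.Dual (ZMod p) V} : φ ∈ Phi M a ↔ Th M a φ := Iff.rfl

/-- The dimension of the axes of a centre. -/
noncomputable def rk (M : Subgroup (V ≃ₗ[ZMod p] V)) (a : V) : ℕ := Module.finrank (ZMod p) (Phi M a)

theorem phi_smul (a : V) {c : ZMod p} (hc : c ≠ 0) : Phi M (c • a) = Phi M a := by
  ext φ
  refine ⟨fun h => ?_, fun h => Th.smul_centre h hc⟩
  have h1 : Th M (c⁻¹ • c • a) φ := Th.smul_centre h (inv_ne_zero hc)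
  rwa [inv_smul_smul₀ hc] at h1

/-- Composition with the inverse. -/
def dualInv (g : V ≃ₗ[ZMod p] V) : Module.Dual (ZMod p) V ≃ₗ[ZMod p] Module.Dual (ZMod p) V :=
  g.symm.dualMap

theorem dualInv_apply (g : V ≃ₗ[ZMod p] V) (φ : Module.Dual (ZMod p) V) :
    dualInv g φ = φ ∘ₗ g.symm.toLinearMap := rfl

theorem phi_conj (a : V) {g : V ≃ₗ[ZMod p] V} (hg : g ∈ M) :
    Phi M (g a) = (Phi M a).map (dualInv g).toLinearMap := by
  apply le_antisymm
  · intro φ hφ
    refine Submodule.mem_map.2 ⟨φ ∘ₗ g.toLinearMap, ?_, ?_⟩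
    · have h : Th M (g⁻¹ (g a)) (φ ∘ₗ (g⁻¹).symm.toLinearMap) := Th.conj hφ (inv_mem hg)
      rw [show g⁻¹ (g a) = a from g.symm_apply_apply a] at h
      exact h
    · refine LinearMap.ext fun x => ?_
      simp [dualInv_apply]
  · rintro _ ⟨φ, hφ, rfl⟩
    exact Th.conj hφ hg

theorem rk_conj (a : V) {g : V ≃ₗ[ZMod p] V} (hg : g ∈ M) : rk M (g a) = rk M a := by
  rw [rk, rk, phi_conj a hg]
  exact (dualInv g).finrank_map_eq _

theorem rk_shift {a b : V} {φ : Module.Dual (ZMod p) V} (h : Th M a φ) : rk M (b + φ b • a) = rk M b := by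
  obtain ⟨g, hg, hgx⟩ := h.2
  rw [← hgx, rk_conj b hg]

theorem rk_mutual {a b : V} {φ ψ : Module.Dual (ZMod p) V} (hφ : Th M a φ) (hψ : Th M b ψ) (h1 : φ b ≠ 0)
    (h2 : ψ a ≠ 0) : rk M a = rk M b := by
  have e1 := rk_shift (b := b) (hφ.smul (φ b)⁻¹)
  have e2 := rk_shift (b := a) (hψ.smul (ψ a)⁻¹)
  rw [LinearMap.smul_apply, smul_eq_mul, inv_mul_cancel₀ h1, one_smul] at e1
  rw [LinearMap.smul_apply, smul_eq_mul, inv_mul_cancel₀ h2, one_smul, add_comm] at e2
  rw [← e2, e1]

/-- `ψ(b) = 0` and `φ b ≠ 0`: the axis passes over. -/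
theorem phi_pass {a b : V} {φ ψ : Module.Dual (ZMod p) V} (hφ : Th M a φ) (h1 : φ b ≠ 0) (hψ : Th M b ψ)
    (h2 : ψ a = 0) : Th M a ψ := by
  have h := (hφ.comm hψ h2).smul (φ b)⁻¹
  rwa [inv_smul_smul₀ h1] at h

variable [Finite V]

theorem mutual_and_rk (hirr : Irred M) (hcen : ∀ v : V, v ≠ 0 → Cen M v) :
    (∀ a : V, a ≠ 0 → ∀ φ, Th M a φ → ∀ b : V, φ b ≠ 0 → ∃ ψ, Th M b ψ ∧ ψ a ≠ 0) ∧
      ∀ a b : V, a ≠ 0 → b ≠ 0 → rk M a = rk M b := by
  by_cases hV : ∀ v : V, v = 0
  · exact ⟨fun a _ φ _ b hb => absurd (by rw [hV b, map_zero]) hb, fun a _ ha => absurd (hV a) ha⟩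
  push Not at hV
  obtain ⟨v₀, hv₀⟩ := hV
  obtain ⟨a₀, ha₀, hmin⟩ := Set.exists_min_image {a : V | a ≠ 0} (rk M) (Set.toFinite _) ⟨v₀, hv₀⟩
  have hout : ∀ a : V, rk M a = rk M a₀ → ∀ φ, Th M a φ → ∀ b : V, φ b ≠ 0 → ∃ ψ, Th M b ψ ∧ ψ a ≠ 0 := by
    intro a ha φ hφ b hb
    by_contra hne
    push Not at hne
    have hle : Phi M b ≤ Phi M a := fun ψ hψ => phi_pass hφ hb hψ (hne ψ hψ)
    have heq : Phi M b = Phi M a := Submodule.eq_of_le_of_finrank_le hle (by
      have := hmin b fun h => hb (by rw [h, map_zero])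
      show rk M a ≤ rk M b
      omega)
    exact hb ((heq.symm ▸ hφ : φ ∈ Phi M b) : Th M b φ).1
  have hrk : ∀ a : V, a ≠ 0 → rk M a = rk M a₀ := by
    by_contra hne
    push Not at hne
    obtain ⟨x, hx, hxr⟩ := hne
    let N : Submodule (ZMod p) V :=
      { carrier := {y | ∀ a : V, a ≠ 0 → rk M a = rk M a₀ → ∀ φ, Th M a φ → φ y = 0}
        add_mem' := fun h h' a ha hr φ hφ => by rw [map_add, h a ha hr φ hφ, h' a ha hr φ hφ, add_zero]
        zero_mem' := fun _ _ _ φ _ => map_zero φ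
        smul_mem' := fun c y h a ha hr φ hφ => by rw [map_smul, h a ha hr φ hφ, smul_zero] }
    have hxN : x ∈ N := fun a ha hr φ hφ => by
      by_contra hn
      obtain ⟨ψ, hψ, hψa⟩ := hout a hr φ hφ x hn
      exact hxr ((rk_mutual hφ hψ hn hψa).symm.trans hr)
    rcases hirr N (fun c η hc y hy => by
        obtain ⟨g, hg, hgx⟩ := hc.2
        suffices h : g y ∈ N by
          have h2 := N.sub_mem h hy
          rwa [hgx, add_sub_cancel_left] at h2
        intro a ha hr φ hφ
        have h1 := hy (g.symm a) (by simpa using ha)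
          (by rw [← rk_conj (g.symm a) hg, g.apply_symm_apply, hr]) _ (hφ.conj (inv_mem hg))
        simpa using h1) with e | e
    · rw [e, Submodule.mem_bot] at hxN; exact hx hxN
    · obtain ⟨φ, hφ0, hφ⟩ := (hcen a₀ ha₀).2
      exact hφ0 (LinearMap.ext fun y => (show y ∈ N by rw [e]; trivial) a₀ ha₀ rfl φ hφ)
  exact ⟨fun a ha => hout a (hrk a ha), fun a b ha hb => (hrk a ha).trans (hrk b hb).symm⟩

theorem phi_full (hp2 : p ≠ 2)
    (hsym : ∀ a : V, a ≠ 0 → ∀ φ, Th M a φ → ∀ b : V, φ b ≠ 0 → ∃ ψ, Th M b ψ ∧ ψ a ≠ 0)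
    (hrk : ∀ a b : V, a ≠ 0 → b ≠ 0 → rk M a = rk M b) {a : V} (ha : a ≠ 0) (h2 : 2 ≤ rk M a)
    {ψ : Module.Dual (ZMod p) V} (hψ : ψ a = 0) : Th M a ψ := by
  set U := Phi M a with hU
  set Za := U.dualCoannihilator with hZa
  have haZ : a ∈ Za := (Submodule.mem_dualCoannihilator a).2 fun φ hφ => hφ.1
  have hne_top : ∀ d : V, d ≠ 0 → (Phi M d).dualCoannihilator ≠ ⊤ := fun d hd e => by
    have h1 : Phi M d = ⊥ := by
      rw [eq_bot_iff]
      intro φ hφ
      rw [Submodule.mem_bot]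
      exact LinearMap.ext fun x => (Submodule.mem_dualCoannihilator x).1 (e ▸ Submodule.mem_top) φ hφ
    have h3 : rk M d = 0 := by rw [rk, h1, finrank_bot]
    rw [hrk d a hd ha] at h3
    omega
  have hZtop : Za ≠ ⊤ := hne_top a ha
  -- hyperplane of axes containing a further point
  have hpass : ∀ b : V, b ∉ Za → ∀ φ ∈ U, φ b = 0 → Th M b φ := by
    intro b hb φ hφ hφb
    rw [Submodule.mem_dualCoannihilator] at hb
    push Not at hb
    obtain ⟨φ', hφ', hb'⟩ := hb
    obtain ⟨χ, hχ, hχa⟩ := hsym a ha φ' hφ' b hb'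
    exact phi_pass hχ hχa hφ hφb
  have hhyp : ∀ b : V, Module.finrank (ZMod p) U ≤
      Module.finrank (ZMod p) ↥(U ⊓ LinearMap.ker (Module.Dual.eval (ZMod p) V b)) + 1 := by
    intro b
    let ev : ↥U →ₗ[ZMod p] ZMod p := (Module.Dual.eval (ZMod p) V b).comp U.subtype
    have h1 : Module.finrank (ZMod p) (LinearMap.range ((Module.Dual.eval (ZMod p) V b).comp U.subtype)) +
        Module.finrank (ZMod p) (LinearMap.ker ((Module.Dual.eval (ZMod p) V b).comp U.subtype)) =
          Module.finrank (ZMod p) U := LinearMap.finrank_range_add_finrank_ker ev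
    have h3 : Module.finrank (ZMod p) (LinearMap.range ((Module.Dual.eval (ZMod p) V b).comp U.subtype)) ≤ 1 :=
      (Submodule.finrank_le _).trans (Module.finrank_self _).le
    have h4 : Module.finrank (ZMod p) ↥(LinearMap.ker ((Module.Dual.eval (ZMod p) V b).comp U.subtype)) =
        Module.finrank (ZMod p) ↥(U ⊓ LinearMap.ker (Module.Dual.eval (ZMod p) V b)) := by
      rw [← Submodule.finrank_map_subtype_eq U, LinearMap.ker_comp, Submodule.map_comap_subtype]
    omega
  -- all points of `Za` have the same axes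
  have hsame : ∀ d ∈ Za, d ≠ 0 → Phi M d = U := by
    intro d hd hd0
    refine (Submodule.eq_of_le_of_finrank_le (fun φ hφ => ?_) (hrk d a hd0 ha).le).symm
    by_contra hnot
    have hY : (U ⊓ Phi M d).dualCoannihilator ≠ ⊤ := fun e => by
      have h1 : U ⊓ Phi M d = ⊥ := eq_bot_iff.2 fun θ hθ =>
        (Submodule.mem_bot _).2 (LinearMap.ext fun x => (Submodule.mem_dualCoannihilator x).1 (e ▸ Submodule.mem_top) θ hθ)
      obtain ⟨b, hb1, hb2, -⟩ := exists_not_mem_three hp2 hZtop (hne_top d hd0) hZtop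
      have h5 : U ⊓ LinearMap.ker (Module.Dual.eval (ZMod p) V b) = ⊥ := by
        rw [eq_bot_iff]
        rintro θ ⟨hθU, hθb⟩
        rw [← h1]
        refine ⟨hθU, ?_⟩
        have hθd : θ d = 0 := (Submodule.mem_dualCoannihilator d).1 hd θ hθU
        rw [Submodule.mem_dualCoannihilator] at hb2
        push Not at hb2
        obtain ⟨χ, hχ, hχb⟩ := hb2
        exact phi_pass hχ hχb (hpass b hb1 θ hθU hθb) hθd
      have := hhyp b
      rw [h5, finrank_bot] at this
      change rk M a ≤ 1 at this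
      omega
    obtain ⟨b, hb1, hb2, hb3⟩ := exists_not_mem_three hp2 hZtop (hne_top d hd0) hY
    have hle : U ⊓ LinearMap.ker (Module.Dual.eval (ZMod p) V b) ≤ U ⊓ Phi M d := by
      rintro θ ⟨hθU, hθb⟩
      refine ⟨hθU, ?_⟩
      have hθd : θ d = 0 := (Submodule.mem_dualCoannihilator d).1 hd θ hθU
      rw [Submodule.mem_dualCoannihilator] at hb2
      push Not at hb2
      obtain ⟨χ, hχ, hχb⟩ := hb2
      exact phi_pass hχ hχb (hpass b hb1 θ hθU hθb) hθd
    have hlt : U ⊓ Phi M d < U := lt_of_le_of_ne inf_le_left fun e => hnot ((e.symm ▸ hφ : φ ∈ U ⊓ Phi M d)).2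
    have h6 : U ⊓ LinearMap.ker (Module.Dual.eval (ZMod p) V b) = U ⊓ Phi M d :=
      Submodule.eq_of_le_of_finrank_le hle (by
        have h7 := Submodule.finrank_lt_finrank_of_lt hlt
        have h8 := hhyp b
        omega)
    exact hb3 ((Submodule.mem_dualCoannihilator b).2 fun θ hθ => by
      rw [← h6] at hθ; exact hθ.2)
  -- `Za` is a point
  obtain ⟨b, hb, -⟩ := exists_not_mem_three hp2 hZtop hZtop hZtop
  have hb0 : b ≠ 0 := fun e => hb (e ▸ Za.zero_mem)
  set Zb := (Phi M b).dualCoannihilator with hZb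
  have hbZ : b ∈ Zb := (Submodule.mem_dualCoannihilator b).2 fun φ hφ => hφ.1
  have hdisj : Za ⊓ Zb = ⊥ := by
    rw [eq_bot_iff]
    rintro d ⟨hda, hdb⟩
    rw [Submodule.mem_bot]
    by_contra hd0
    have hd1 := hsame d hda hd0
    have hle : Phi M b ≤ U := fun θ hθ => by
      rw [← hd1]
      have hθd : θ d = 0 := (Submodule.mem_dualCoannihilator d).1 hdb θ hθ
      have hb' := hb
      rw [hZa, ← hd1, Submodule.mem_dualCoannihilator] at hb'
      push Not at hb'
      obtain ⟨χ, hχ, hχb⟩ := hb'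
      exact phi_pass hχ hχb hθ hθd
    rw [hZb, Submodule.eq_of_le_of_finrank_le hle (hrk b a hb0 ha).ge, ← hZa] at hbZ
    exact hb hbZ
  have hann : U ⊓ LinearMap.ker (Module.Dual.eval (ZMod p) V b) ≤ (Za ⊔ Zb).dualAnnihilator := by
    rintro θ ⟨hθU, hθb⟩
    rw [Submodule.dualAnnihilator_sup_eq]
    exact ⟨(Submodule.mem_dualAnnihilator θ).2 fun x hx => (Submodule.mem_dualCoannihilator x).1 hx θ hθU,
      (Submodule.mem_dualAnnihilator θ).2 fun x hx =>
        (Submodule.mem_dualCoannihilator x).1 hx θ (hpass b hb θ hθU hθb)⟩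
  have hZb1 : Module.finrank (ZMod p) Zb = Module.finrank (ZMod p) Za := by
    have h1 := Subspace.finrank_add_finrank_dualCoannihilator_eq U
    have h2 := Subspace.finrank_add_finrank_dualCoannihilator_eq (Phi M b)
    have h3 := hrk b a hb0 ha
    change Module.finrank (ZMod p) ↥(Phi M b) = Module.finrank (ZMod p) ↥U at h3
    rw [← hZa] at h1
    rw [← hZb] at h2
    omega
  have hone : Za = Submodule.span (ZMod p) {a} := by
    refine (Submodule.eq_of_le_of_finrank_le ((Submodule.span_singleton_le_iff_mem _ _).2 haZ) ?_).symm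
    rw [finrank_span_singleton ha]
    have h1 := Subspace.finrank_add_finrank_dualAnnihilator_eq (Za ⊔ Zb)
    have h2 := Submodule.finrank_sup_add_finrank_inf_eq Za Zb
    rw [hdisj, finrank_bot] at h2
    have h3 := (Submodule.finrank_mono hann)
    have h4 := hhyp b
    have h5 := Subspace.finrank_add_finrank_dualCoannihilator_eq U
    rw [← hZa] at h5
    omega
  have h9 : U = (Submodule.span (ZMod p) {a}).dualAnnihilator := by
    rw [← hone, hZa, Subspace.dualCoannihilator_dualAnnihilator_eq]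
  show ψ ∈ U
  rw [h9, Submodule.mem_dualAnnihilator]
  intro x hx
  obtain ⟨c, rfl⟩ := Submodule.mem_span_singleton.1 hx
  rw [map_smul, hψ, smul_zero]

/-- With one axis for each centre the axes are given by an alternating form. -/
theorem phi_form
    (hsym : ∀ a : V, a ≠ 0 → ∀ φ, Th M a φ → ∀ b : V, φ b ≠ 0 → ∃ ψ, Th M b ψ ∧ ψ a ≠ 0)
    (hr1 : ∀ a : V, a ≠ 0 → rk M a = 1) (hdim : 3 ≤ Module.finrank (ZMod p) V) :
    ∃ B : LinearMap.BilinForm (ZMod p) V, B.IsAlt ∧ B.Nondegenerate ∧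
      ∀ a : V, a ≠ 0 → Phi M a = Submodule.span (ZMod p) {B a} := by
  classical
  have hax : ∀ a : V, ∃ φ : Module.Dual (ZMod p) V, a ≠ 0 → φ ≠ 0 ∧ Phi M a = Submodule.span (ZMod p) {φ} := by
    intro a
    by_cases ha : a = 0
    · exact ⟨0, fun h => absurd ha h⟩
    · obtain ⟨φ, hφ, -⟩ := finrank_eq_one_iff'.1 (hr1 a ha)
      refine ⟨φ.1, fun _ => ⟨fun e => hφ (Subtype.ext e), ?_⟩⟩
      refine (Submodule.eq_of_le_of_finrank_le ((Submodule.span_singleton_le_iff_mem _ _).2 φ.2) ?_).symm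
      rw [finrank_span_singleton fun e => hφ (Subtype.ext e)]
      exact (hr1 a ha).le
  choose f hf using hax
  have hmem : ∀ a, a ≠ 0 → Th M a (f a) := fun a ha => by
    show f a ∈ Phi M a
    rw [(hf a ha).2]; exact Submodule.mem_span_singleton_self _
  have hswap : ∀ a b, a ≠ 0 → b ≠ 0 → f a b = 0 → f b a = 0 := fun a b ha hb h => by
    by_contra hn
    obtain ⟨ψ, hψ, hψb⟩ := hsym b hb _ (hmem b hb) a hn
    have hψ' : ψ ∈ Phi M a := hψ
    rw [(hf a ha).2] at hψ'
    obtain ⟨c, rfl⟩ := Submodule.mem_span_singleton.1 hψ'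
    rw [LinearMap.smul_apply, h, smul_zero] at hψb
    exact hψb rfl
  -- the axis of a combination
  have hplus : ∀ a b, a ≠ 0 → b ≠ 0 → a + b ≠ 0 → ∀ x, f a x = 0 → f b x = 0 → f (a + b) x = 0 := by
    intro a b ha hb hab x h1 h2
    by_cases hx : x = 0
    · rw [hx, map_zero]
    exact hswap x (a + b) hx hab (by rw [map_add, hswap a x ha hx h1, hswap b x hb hx h2, add_zero])
  have hplus' : ∀ a b, a ≠ 0 → b ≠ 0 → a + b ≠ 0 → ∃ α β : ZMod p, f (a + b) = α • f a + β • f b := by
    intro a b ha hb hab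
    have hmem' : f (a + b) ∈ Submodule.span (ZMod p) (Set.range ![f a, f b]) :=
      mem_span_of_iInf_ker_le_ker (L := ![f a, f b]) fun x hx => by
        rw [Submodule.mem_iInf] at hx
        exact hplus a b ha hb hab x (hx 0) (hx 1)
    obtain ⟨c, hc⟩ := (Submodule.mem_span_range_iff_exists_fun _).1 hmem'
    exact ⟨c 0, c 1, by rw [← hc]; simp [Fin.sum_univ_two]⟩
  have hinj : ∀ a b, a ≠ 0 → b ≠ 0 → ∀ c : ZMod p, f b = c • f a → ∃ d : ZMod p, b = d • a := by
    intro a b ha hb c hc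
    by_contra hne
    push Not at hne
    have hc0 : c ≠ 0 := fun e => (hf b hb).1 (by rw [hc, e, zero_smul])
    obtain ⟨x, hx⟩ : ∃ x, f a x ≠ 0 := by
      by_contra h
      push Not at h
      exact (hf a ha).1 (LinearMap.ext h)
    have hx0 : x ≠ 0 := fun e => hx (by rw [e, map_zero])
    have hxa : f x a ≠ 0 := fun e => hx (hswap x a hx0 ha e)
    have hbne : f x b ≠ 0 := fun e => hx (by
      have h1 := hswap x b hx0 hb e
      rw [hc, LinearMap.smul_apply, smul_eq_mul] at h1
      exact (mul_eq_zero.1 h1).resolve_left hc0)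
    set e := f x b • a + (-f x a) • b with he
    have he0 : e ≠ 0 := fun h0 => hne (f x b / f x a) (by
      have h1 : f x a • b = f x b • a := by rw [he] at h0; linear_combination (norm := module) -h0
      calc b = (f x a)⁻¹ • (f x a • b) := (inv_smul_smul₀ hxa b).symm
        _ = _ := by rw [h1, smul_smul, div_eq_inv_mul])
    have h1 : f e x = 0 := hswap x e hx0 he0 (by
      rw [he, map_add, map_smul, map_smul, smul_eq_mul, smul_eq_mul]; ring)
    have hs : f x b • a ≠ 0 := smul_ne_zero hbne ha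
    have ht : (-f x a) • b ≠ 0 := smul_ne_zero (neg_ne_zero.2 hxa) hb
    obtain ⟨α, β, hαβ⟩ := hplus' _ _ hs ht he0
    have hscal : ∀ (u : V) (s : ZMod p), u ≠ 0 → s ≠ 0 → ∃ d : ZMod p, f (s • u) = d • f u := fun u s hu hsn => by
      have h2 : f (s • u) ∈ Phi M (s • u) := hmem _ (smul_ne_zero hsn hu)
      rw [phi_smul u hsn, (hf u hu).2] at h2
      obtain ⟨d, hd⟩ := Submodule.mem_span_singleton.1 h2
      exact ⟨d, hd.symm⟩
    obtain ⟨d1, hd1⟩ := hscal a _ ha hbne
    obtain ⟨d2, hd2⟩ := hscal b _ hb (neg_ne_zero.2 hxa)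
    rw [hd1, hd2, hc, ← he] at hαβ
    have h3 : f e = (α * d1 + β * d2 * c) • f a := by rw [hαβ]; module
    rw [h3, LinearMap.smul_apply, smul_eq_mul] at h1
    have h4 := (mul_eq_zero.1 h1).resolve_right hx
    exact (hf e he0).1 (by rw [h3, h4, zero_smul])
  obtain ⟨a₀, ha₀⟩ : ∃ a : V, a ≠ 0 := by
    by_contra h
    push Not at h
    haveI : Subsingleton V := ⟨fun x y => by rw [h x, h y]⟩
    rw [Module.finrank_zero_of_subsingleton] at hdim
    omega
  obtain ⟨W, hW⟩ := Submodule.exists_isCompl (Submodule.span (ZMod p) {a₀})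
  have hWa : ∀ w ∈ W, ∀ c : ZMod p, c • a₀ + w = 0 → c = 0 ∧ w = 0 := by
    intro w hw c h
    have h1 : w ∈ Submodule.span (ZMod p) {a₀} := by
      rw [eq_neg_of_add_eq_zero_right h]
      exact Submodule.neg_mem _ (Submodule.smul_mem _ _ (Submodule.mem_span_singleton_self _))
    have h2 : w = 0 := Submodule.disjoint_def.1 hW.disjoint w h1 hw
    rw [h2, add_zero] at h
    exact ⟨(smul_eq_zero.1 h).resolve_right ha₀, h2⟩
  have hWne : ∀ w ∈ W, a₀ + w ≠ 0 := fun w hw h => by
    have := (hWa w hw 1 (by rw [one_smul]; exact h)).1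
    exact one_ne_zero this
  have hWind : ∀ w ∈ W, w ≠ 0 → ∀ c : ZMod p, a₀ ≠ c • w := fun w hw hw0 c h => by
    have := (hWa (-(c • w)) (W.neg_mem (W.smul_mem _ hw)) 1 (by rw [one_smul, ← h, add_neg_cancel])).1
    exact one_ne_zero this
  -- the normalised axes on `W`
  have hL : ∀ w : W, (w : V) ≠ 0 → ∃ γ : ZMod p, ∃ α : ZMod p, α ≠ 0 ∧
      f (a₀ + w) = α • (f a₀ + γ • f w) := by
    rintro ⟨w, hw⟩ hw0
    obtain ⟨α, β, hab⟩ := hplus' a₀ w ha₀ hw0 (hWne w hw)
    have hα : α ≠ 0 := fun e => by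
      rw [e, zero_smul, zero_add] at hab
      obtain ⟨d, hd⟩ := hinj w (a₀ + w) hw0 (hWne w hw) β hab
      exact hWind w hw hw0 (d - 1) (by rw [sub_smul, one_smul, ← hd, add_sub_cancel_right])
    exact ⟨β / α, α, hα, by rw [hab, smul_add, smul_smul, mul_div_cancel₀ _ hα]⟩
  choose γ α hα hγ using hL
  let L : W → Module.Dual (ZMod p) V := fun w => if h : (w : V) = 0 then 0 else γ w h • f w
  have hLw : ∀ w : W, ∀ h : (w : V) ≠ 0, f (a₀ + w) = α w h • (f a₀ + L w) := fun w h => by
    simp only [L, h, dite_false]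
    exact hγ w h
  have hLspan : ∀ w : W, L w ∈ Submodule.span (ZMod p) {f (w : V)} := fun w => by
    by_cases h : (w : V) = 0
    · simp only [L, h, dite_true]; exact Submodule.zero_mem _
    · simp only [L, h, dite_false]; exact Submodule.smul_mem _ _ (Submodule.mem_span_singleton_self _)
  -- three independent axes
  have hthree : ∀ u v w, u ≠ 0 → v ≠ 0 → w ≠ 0 → ∀ s t : ZMod p, f w = s • f u + t • f v →
      (∀ c : ZMod p, v ≠ c • u) → w ∈ Submodule.span (ZMod p) {u, v} := by
    intro u v w hu hv hw s t hst huv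
    have hne : ∀ c : ZMod p, u + c • v ≠ 0 := fun c h => by
      by_cases hc : c = 0
      · rw [hc, zero_smul, add_zero] at h; exact hu h
      · exact huv (-c⁻¹) (by
          have h1 : c • v = -u := eq_neg_of_add_eq_zero_right h
          calc v = c⁻¹ • (c • v) := (inv_smul_smul₀ hc v).symm
            _ = _ := by rw [h1, smul_neg, neg_smul])
    have hdec : ∀ c : ZMod p, ∃ α β : ZMod p, α ≠ 0 ∧ f (u + c • v) = α • f u + β • f v := by
      intro c
      by_cases hc : c = 0
      · exact ⟨1, 0, one_ne_zero, by rw [hc, zero_smul, add_zero, one_smul, zero_smul, add_zero]⟩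
      · obtain ⟨α, β, h⟩ := hplus' u (c • v) hu (smul_ne_zero hc hv) (hne c)
        have h2 : f (c • v) ∈ Phi M (c • v) := hmem _ (smul_ne_zero hc hv)
        rw [phi_smul v hc, (hf v hv).2] at h2
        obtain ⟨d, hd⟩ := Submodule.mem_span_singleton.1 h2
        rw [← hd, smul_smul] at h
        refine ⟨α, β * d, fun e => ?_, h⟩
        rw [e, zero_smul, zero_add] at h
        obtain ⟨d', hd'⟩ := hinj v (u + c • v) hv (hne c) _ h
        have h3 : u = (d' - c) • v := by rw [sub_smul, ← hd', add_sub_cancel_right]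
        by_cases hdc : d' - c = 0
        · exact hu (by rw [h3, hdc, zero_smul])
        · exact huv (d' - c)⁻¹ (by rw [h3, inv_smul_smul₀ hdc])
    choose α β hα hdec using hdec
    have hginj : Function.Injective fun c => β c / α c := by
      intro c c' h
      have h1 : f (u + c' • v) = (α c' / α c) • f (u + c • v) := by
        rw [hdec, hdec, smul_add, smul_smul, smul_smul, div_mul_cancel₀ _ (hα c)]
        congr 2
        simp only at h
        rw [div_mul_eq_mul_div, eq_div_iff (hα c)]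
        rw [div_eq_div_iff (hα c) (hα c')] at h
        linear_combination -h
      obtain ⟨d, hd⟩ := hinj _ _ (hne c) (hne c') _ h1
      by_cases hd1 : d = 1
      · rw [hd1, one_smul] at hd
        have h4 : (c' - c) • v = 0 := by
          linear_combination (norm := module) hd
        exact (sub_eq_zero.1 ((smul_eq_zero.1 h4).resolve_right hv)).symm
      · exfalso
        have h3 : (1 - d) • u = (d * c - c') • v := by linear_combination (norm := module) hd
        by_cases h4 : d * c - c' = 0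
        · rw [h4, zero_smul, smul_eq_zero, sub_eq_zero] at h3
          exact h3.elim (fun e => hd1 e.symm) hu
        · exact huv ((d * c - c')⁻¹ * (1 - d)) (by rw [← smul_smul, h3, inv_smul_smul₀ h4])
    by_cases hs : s = 0
    · rw [hs, zero_smul, zero_add] at hst
      obtain ⟨d, hd⟩ := hinj v w hv hw t hst
      exact Submodule.mem_span_pair.2 ⟨0, d, by rw [hd]; module⟩
    obtain ⟨c, hc⟩ := (Finite.injective_iff_surjective.1 hginj) (t / s)
    simp only at hc
    have h1 : f w = (s / α c) • f (u + c • v) := by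
      rw [hst, hdec, smul_add, smul_smul, smul_smul, div_mul_cancel₀ _ (hα c)]
      congr 2
      rw [div_eq_div_iff (hα c) hs] at hc
      rw [div_mul_eq_mul_div, eq_div_iff (hα c)]
      linear_combination -hc
    obtain ⟨d, hd⟩ := hinj _ w (hne c) hw _ h1
    exact Submodule.mem_span_pair.2 ⟨d, d * c, by rw [hd]; module⟩
  have hLne : ∀ w : W, (w : V) ≠ 0 → L w ≠ 0 := fun w hw e => by
    have h := hLw w hw
    rw [e, add_zero] at h
    obtain ⟨d, hd⟩ := hinj a₀ _ ha₀ (hWne w w.2) _ h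
    have h2 : (w : V) = (d - 1) • a₀ := by rw [sub_smul, one_smul, ← hd, add_sub_cancel_left]
    by_cases hd1 : d - 1 = 0
    · exact hw (by rw [h2, hd1, zero_smul])
    · exact hWind w w.2 hw (d - 1)⁻¹ (by rw [h2, inv_smul_smul₀ hd1])
  -- additivity for independent members
  have hadd : ∀ b c : W, (b : V) ≠ 0 → (∀ s : ZMod p, (c : V) ≠ s • (b : V)) → L (b + c) = L b + L c := by
    intro b c hb hbc
    have hc : (c : V) ≠ 0 := fun e => hbc 0 (by rw [e, zero_smul])
    have hbc0 : ((b + c : W) : V) ≠ 0 := fun e => hbc (-1) (by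
      rw [neg_one_smul]; exact eq_neg_of_add_eq_zero_right (by simpa using e))
    have hcb : ∀ s : ZMod p, (b : V) ≠ s • (c : V) := fun s e => by
      by_cases hs : s = 0
      · exact hb (by rw [e, hs, zero_smul])
      · exact hbc s⁻¹ (by rw [e, inv_smul_smul₀ hs])
    obtain ⟨α₁, β₁, h1⟩ := hplus' (a₀ + b) (c : V) (hWne _ b.2) hc
      (by rw [add_assoc]; exact hWne _ (W.add_mem b.2 c.2))
    obtain ⟨α₂, β₂, h2⟩ := hplus' (b : V) (c : V) hb hc (by simpa using hbc0)
    have h3 := hLw (b + c) hbc0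
    simp only [Submodule.coe_add] at h3
    rw [← add_assoc, h1, hLw b hb] at h3
    obtain ⟨α₃, β₃, h4⟩ := hplus' (a₀ + c) (b : V) (hWne _ c.2) hb
      (by rw [add_assoc]; exact hWne _ (W.add_mem c.2 b.2))
    have h5 := hLw (b + c) hbc0
    simp only [Submodule.coe_add] at h5
    rw [add_comm (b : V) c, ← add_assoc, h4, hLw c hc] at h5
    obtain ⟨l1, hl1⟩ := Submodule.mem_span_singleton.1 (hLspan (b + c))
    obtain ⟨lb, hlb⟩ := Submodule.mem_span_singleton.1 (hLspan b)
    obtain ⟨lc, hlc⟩ := Submodule.mem_span_singleton.1 (hLspan c)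
    simp only [Submodule.coe_add] at hl1
    rw [h2] at hl1
    -- independence of the three axes
    have hind : ∀ x y z : ZMod p, x • f a₀ + y • f (b : V) + z • f (c : V) = 0 → x = 0 ∧ y = 0 ∧ z = 0 := by
      intro x y z hxyz
      have hx : x = 0 := by
        by_contra hx
        have h6 := hthree (b : V) (c : V) a₀ hb hc ha₀ (-(y / x)) (-(z / x)) (by
          have h7 : f a₀ = x⁻¹ • (x • f a₀) := (inv_smul_smul₀ hx _).symm
          rw [eq_neg_of_add_eq_zero_left ((add_assoc _ _ _).symm.trans hxyz)] at h7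
          rw [h7]; module) hbc
        have h8 : a₀ ∈ W := (Submodule.span_le.2 (by
          intro v hv
          rcases hv with rfl | rfl
          exacts [b.2, c.2])) h6
        exact ha₀ (Submodule.disjoint_def.1 hW.disjoint a₀ (Submodule.mem_span_singleton_self _) h8)
      rw [hx, zero_smul, zero_add] at hxyz
      have hz : z = 0 := by
        by_contra hz
        have h9 : f (c : V) = (-(y / z)) • f (b : V) := by
          have h7 : f (c : V) = z⁻¹ • (z • f (c : V)) := (inv_smul_smul₀ hz _).symm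
          rw [eq_neg_of_add_eq_zero_right hxyz] at h7
          rw [h7]; module
        obtain ⟨d, hd⟩ := hinj _ _ hb hc _ h9
        exact hbc d hd
      rw [hz, zero_smul, add_zero, smul_eq_zero] at hxyz
      exact ⟨hx, hxyz.resolve_right (hf _ hb).1, hz⟩
    have hαsum := hα (b + c) hbc0
    generalize α (b + c) hbc0 = A at h3 h5 hαsum
    generalize α b hb = Ab at h3
    generalize α c hc = Ac at h5
    rw [← hlb, ← hl1] at h3
    rw [← hlc, ← hl1] at h5
    obtain ⟨e1, e2, -⟩ := hind (α₁ * Ab - A) (α₁ * Ab * lb - A * (l1 * α₂)) (β₁ - A * (l1 * β₂))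
      (by linear_combination (norm := module) h3)
    obtain ⟨e4, -, e6⟩ := hind (α₃ * Ac - A) (β₃ - A * (l1 * α₂)) (α₃ * Ac * lc - A * (l1 * β₂))
      (by linear_combination (norm := module) h5)
    have r1 : lb = l1 * α₂ := mul_left_cancel₀ hαsum (by linear_combination e2 - lb * e1)
    have r2 : lc = l1 * β₂ := mul_left_cancel₀ hαsum (by linear_combination e6 - lc * e4)
    rw [← hl1, ← hlb, ← hlc, r1, r2]
    module
  have hext : ∀ b c : W, ∃ d : W, d.1 ∉ Submodule.span (ZMod p) {(b : V), (c : V)} ∨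
      (∀ s : ZMod p, (c : V) ≠ s • (b : V)) := by
    intro b c
    by_cases h : ∀ s : ZMod p, (c : V) ≠ s • (b : V)
    · exact ⟨0, Or.inr h⟩
    push Not at h
    obtain ⟨s, hs⟩ := h
    by_contra hne
    push Not at hne
    have h1 : W ≤ Submodule.span (ZMod p) {(b : V)} := fun d hd => by
      obtain ⟨u, v, huv⟩ := Submodule.mem_span_pair.1 (hne ⟨d, hd⟩).1
      exact Submodule.mem_span_singleton.2 ⟨u + v * s, by
        show (u + v * s) • (b : V) = d
        rw [show (⟨d, hd⟩ : W).1 = d from rfl] at huv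
        rw [← huv, hs]; module⟩
    have h2 := (Submodule.finrank_mono h1).trans (finrank_span_le_card (R := ZMod p) ({(b : V)} : Set V))
    have h3 := Submodule.finrank_add_eq_of_isCompl hW
    rw [finrank_span_singleton ha₀] at h3
    simp only [Set.toFinset_singleton, Finset.card_singleton] at h2
    omega
  have hL0 : L 0 = 0 := by simp [L]
  have haddAll : ∀ b c : W, L (b + c) = L b + L c := by
    intro b c
    by_cases hb : (b : V) = 0
    · have : b = 0 := Subtype.ext hb
      rw [this, zero_add, hL0, zero_add]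
    by_cases hc : (c : V) = 0
    · have : c = 0 := Subtype.ext hc
      rw [this, add_zero, hL0, add_zero]
    obtain ⟨d, hd | hd⟩ := hext b c
    swap
    · exact hadd b c hb hd
    by_cases hbc : ∀ s : ZMod p, (c : V) ≠ s • (b : V)
    · exact hadd b c hb hbc
    push Not at hbc
    obtain ⟨s, hs⟩ := hbc
    have hnd : ∀ u : ZMod p, (d : V) ≠ u • (b : V) := fun u e =>
      hd (Submodule.mem_span_pair.2 ⟨u, 0, by rw [e, zero_smul, add_zero]⟩)
    have hndc : ∀ u : ZMod p, (d : V) ≠ u • (c : V) := fun u e =>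
      hd (Submodule.mem_span_pair.2 ⟨0, u, by rw [e, zero_smul, zero_add]⟩)
    have e1 : L (b + (c + d)) = L b + L (c + d) := hadd b (c + d) hb fun u e =>
      hnd (u - s) (by
        simp only [Submodule.coe_add, hs] at e
        rw [sub_smul, ← e, add_sub_cancel_left])
    have e2 : L (c + d) = L c + L d := hadd c d hc hndc
    by_cases hbc0 : ((b + c : W) : V) = 0
    · have h0 : b + c = 0 := Subtype.ext hbc0
      rw [← add_assoc, h0, zero_add, e2, ← add_assoc] at e1
      rw [h0, hL0]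
      exact (add_eq_right.1 e1.symm).symm
    · have e3 : L (b + c + d) = L (b + c) + L d := hadd (b + c) d hbc0 fun u e =>
        hnd (u * (1 + s)) (by rw [e, Submodule.coe_add, hs]; module)
      rw [add_assoc, e1, e2, ← add_assoc] at e3
      exact (add_right_cancel e3).symm
  let Ll : W →ₗ[ZMod p] Module.Dual (ZMod p) V :=
    (AddMonoidHom.mk' L haddAll).toZModLinearMap p
  have hLl : ∀ w : W, Ll w = L w := fun _ => rfl
  let B : LinearMap.BilinForm (ZMod p) V :=
    LinearMap.ofIsCompl hW ((LinearMap.toSpanSingleton (ZMod p) _ (f a₀)).comp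
      (LinearEquiv.toSpanNonzeroSingleton (ZMod p) V a₀ ha₀).symm.toLinearMap) Ll
  have hB : ∀ (c : ZMod p) (w : W), B (c • a₀ + w) = c • f a₀ + L w := by
    intro c w
    have h1 : c • a₀ = ((LinearEquiv.toSpanNonzeroSingleton (ZMod p) V a₀ ha₀ c : Submodule.span (ZMod p) {a₀}) : V) := rfl
    simp only [B, h1, map_add, LinearMap.ofIsCompl_left_apply, LinearMap.ofIsCompl_right_apply, hLl,
      LinearMap.comp_apply, LinearEquiv.coe_coe, LinearEquiv.symm_apply_apply, LinearMap.toSpanSingleton_apply]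
  have hBa : ∀ a : V, a ≠ 0 → B a ≠ 0 ∧ B a ∈ Submodule.span (ZMod p) {f a} := by
    intro a ha
    have hmemW : a ∈ Submodule.span (ZMod p) {a₀} ⊔ W := by rw [hW.sup_eq_top]; trivial
    obtain ⟨u, hu, w, hw, rfl⟩ := Submodule.mem_sup.1 hmemW
    obtain ⟨c, rfl⟩ := Submodule.mem_span_singleton.1 hu
    have hb := hB c ⟨w, hw⟩
    simp only at hb
    rw [hb]
    by_cases hc : c = 0
    · subst hc
      rw [zero_smul, zero_add] at ha ⊢
      rw [zero_smul, zero_add]
      exact ⟨hLne ⟨w, hw⟩ ha, hLspan ⟨w, hw⟩⟩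
    by_cases hw0 : w = 0
    · subst hw0
      rw [show (⟨0, hw⟩ : W) = 0 from rfl, hL0, add_zero, add_zero]
      refine ⟨smul_ne_zero hc (hf _ ha₀).1, ?_⟩
      rw [← (hf _ (smul_ne_zero hc ha₀)).2, phi_smul a₀ hc, (hf _ ha₀).2]
      exact Submodule.smul_mem _ _ (Submodule.mem_span_singleton_self _)
    have hcw : c • a₀ + w = c • (a₀ + c⁻¹ • w) := by rw [smul_add, smul_inv_smul₀ hc]
    have hw1 : ((c⁻¹ • ⟨w, hw⟩ : W) : V) ≠ 0 := smul_ne_zero (inv_ne_zero hc) hw0
    have h1 : c • f a₀ + L ⟨w, hw⟩ = c • (f a₀ + L (c⁻¹ • ⟨w, hw⟩)) := by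
      rw [← hLl, ← hLl, map_smul, smul_add, smul_inv_smul₀ hc]
    have h2 := hLw _ hw1
    simp only [Submodule.coe_smul] at h2
    have h3 : f a₀ + L (c⁻¹ • ⟨w, hw⟩) = (α _ hw1)⁻¹ • f (a₀ + c⁻¹ • w) := by
      rw [h2, inv_smul_smul₀ (hα _ hw1)]
    refine ⟨?_, ?_⟩
    · rw [h1, h3]
      exact smul_ne_zero hc (smul_ne_zero (inv_ne_zero (hα _ hw1)) (hf _ (hWne _ (W.smul_mem _ hw))).1)
    · rw [h1, h3]
      have h4 := (hf _ (hWne _ (W.smul_mem c⁻¹ hw))).2
      rw [hcw, ← (hf _ (hcw ▸ ha)).2, phi_smul _ hc, h4, smul_smul]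
      exact Submodule.smul_mem _ _ (Submodule.mem_span_singleton_self _)
  have halt : B.IsAlt := fun a => by
    by_cases ha : a = 0
    · rw [ha, map_zero]
    obtain ⟨c, hc⟩ := Submodule.mem_span_singleton.1 (hBa a ha).2
    rw [← hc, LinearMap.smul_apply, (hmem a ha).1, smul_zero]
  have hsl : LinearMap.SeparatingLeft B := fun a h => by
    by_contra ha
    exact (hBa a ha).1 (LinearMap.ext h)
  refine ⟨B, halt, ⟨hsl, fun y h => hsl y fun x => ?_⟩, fun a ha => ?_⟩
  · rw [← halt.neg_eq x y, h x, neg_zero]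
  · rw [(hf a ha).2]
    obtain ⟨hb, hbm⟩ := hBa a ha
    obtain ⟨c, hc⟩ := Submodule.mem_span_singleton.1 hbm
    rw [← hc] at hb ⊢
    exact (Submodule.span_singleton_smul_eq (IsUnit.mk0 c fun e => hb (by rw [e, zero_smul])) _).symm

end CfsgLib.ThreeTransp.McL
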