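import Cfsg.Agent.Lib.ThreeTransp.McLClass
import Cfsg.Agent.Lib.Geometry.Alternating
import Cfsg.Agent.Lib.Classical.SLGen

/-!
An irreducible group generated by transvections over a prime field of odd order is the special
linear group or a symplectic group.
-/

set_option autoImplicit false

namespace CfsgLib.ThreeTransp.McL

variable {p : ℕ} [Fact p.Prime] {V : Type*} [AddCommGroup V] [Module (ZMod p) V]
variable {M : Subgroup (V ≃ₗ[ZMod p] V)}

/-- The element is a transvection, possibly trivial. -/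
def IsTv (g : V ≃ₗ[ZMod p] V) : Prop :=
  ∃ (a : V) (φ : Module.Dual (ZMod p) V), φ a = 0 ∧ ∀ x, g x = x + φ x • a

theorem IsTv.th {g : V ≃ₗ[ZMod p] V} (h : IsTv g) (hg : g ∈ M) : ∃ a φ, Th M a φ ∧ ∀ x, g x = x + φ x • a := by
  obtain ⟨a, φ, h0, hx⟩ := h
  exact ⟨a, φ, ⟨h0, g, hg, hx⟩, hx⟩

theorem isTv_conj {t : V ≃ₗ[ZMod p] V} (ht : IsTv t) (g : V ≃ₗ[ZMod p] V) : IsTv (g * t * g⁻¹) := by
  obtain ⟨a, φ, h0, hx⟩ := ht
  refine ⟨g a, φ ∘ₗ g.symm.toLinearMap, by simpa using h0, fun x => ?_⟩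
  show g (t (g.symm x)) = _
  rw [hx, map_add, map_smul, LinearEquiv.apply_symm_apply]
  rfl

theorem tv_pow_apply {g : V ≃ₗ[ZMod p] V} {a : V} {φ : Module.Dual (ZMod p) V} (h0 : φ a = 0)
    (hx : ∀ x, g x = x + φ x • a) (m : ℕ) (x : V) : (g ^ m) x = x + ((m : ZMod p) * φ x) • a := by
  induction m with
  | zero => simp
  | succ m ih =>
    rw [pow_succ', LinearEquiv.mul_apply, ih, hx, map_add, map_smul, h0, smul_zero, add_zero,
      Nat.cast_succ]
    module

theorem det_tv {g : V ≃ₗ[ZMod p] V} (h : IsTv g) : LinearMap.det (g : V →ₗ[ZMod p] V) = 1 := by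
  obtain ⟨a, φ, h0, hx⟩ := h
  have h1 : g ^ p = 1 := LinearEquiv.ext fun x => by
    rw [tv_pow_apply h0 hx, ZMod.natCast_self, zero_mul, zero_smul, add_zero]; rfl
  have h2 : LinearEquiv.det g ^ p = 1 := by rw [← map_pow, h1, map_one]
  have h3 := congrArg Units.val h2
  rw [Units.val_pow_eq_pow_val, ZMod.pow_card, LinearEquiv.coe_det, Units.val_one] at h3
  exact h3

/-- All elementary transvections of a basis generate every element of determinant one. -/
theorem mem_of_det_one {n : ℕ} (b : Module.Basis (Fin n) (ZMod p) V)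
    (h : ∀ i j, i ≠ j → Th M (b i) (b.coord j)) {f : V ≃ₗ[ZMod p] V}
    (hf : LinearMap.det (f : V →ₗ[ZMod p] V) = 1) : f ∈ M := by
  let Φ : Matrix.SpecialLinearGroup (Fin n) (ZMod p) →* (V ≃ₗ[ZMod p] V) :=
    { toFun := fun s => (b.equivFun.trans (Matrix.SpecialLinearGroup.toLin' s)).trans b.equivFun.symm
      map_one' := LinearEquiv.ext fun x => by simp
      map_mul' := fun s t => LinearEquiv.ext fun x => b.equivFun.injective (by
        simp only [LinearEquiv.trans_apply, LinearEquiv.mul_apply, LinearEquiv.apply_symm_apply, map_mul]) }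
  have htop : M.comap Φ = ⊤ := by
    refine CfsgLib.Classical.eq_top_of_transvection_mem _ fun i j hij c => ?_
    obtain ⟨-, g, hg, hgx⟩ := (h i j hij).smul c
    show Φ _ ∈ M
    convert hg using 1
    refine LinearEquiv.ext fun x => b.equivFun.injective ?_
    show b.equivFun (b.equivFun.symm (Matrix.SpecialLinearGroup.toLin' _ (b.equivFun x))) = _
    rw [LinearEquiv.apply_symm_apply, hgx, Matrix.SpecialLinearGroup.toLin'_apply, Matrix.toLin'_apply,
      CfsgLib.Classical.transvection_mulVec]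
    funext k
    by_cases hk : k = i
    · subst hk; simp [Module.Basis.equivFun_apply]
    · simp [Module.Basis.equivFun_apply, hk, Finsupp.single_apply, Ne.symm hk]
  let s : Matrix.SpecialLinearGroup (Fin n) (ZMod p) :=
    ⟨LinearMap.toMatrix b b (f : V →ₗ[ZMod p] V), by rw [LinearMap.det_toMatrix, hf]⟩
  have hs : Φ s ∈ M := by
    have : s ∈ M.comap Φ := by rw [htop]; trivial
    exact this
  convert hs using 1
  refine LinearEquiv.ext fun x => b.equivFun.injective ?_
  show _ = b.equivFun (b.equivFun.symm (Matrix.SpecialLinearGroup.toLin' s (b.equivFun x)))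
  rw [LinearEquiv.apply_symm_apply, Matrix.SpecialLinearGroup.toLin'_apply, Matrix.toLin'_apply]
  exact (LinearMap.toMatrix_mulVec_repr b b (f : V →ₗ[ZMod p] V) x).symm

variable [Finite V]

/-- Special linear or symplectic. -/
theorem classify (hp2 : p ≠ 2) {S : Set (V ≃ₗ[ZMod p] V)} (hgen : M = Subgroup.closure S)
    (hS : ∀ g ∈ S, IsTv g) (hirr : Irred M) (hne : ∃ a, Cen M a) :
    ((∀ a φ, φ a = 0 → Th M a φ) ∧
        (M : Set (V ≃ₗ[ZMod p] V)) = {f : V ≃ₗ[ZMod p] V | LinearMap.det (f : V →ₗ[ZMod p] V) = 1}) ∨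
      ∃ B : LinearMap.BilinForm (ZMod p) V, B.IsAlt ∧ B.Nondegenerate ∧
        (M : Set (V ≃ₗ[ZMod p] V)) = {f | ∀ x y, B (f x) (f y) = B x y} := by
  have hcen := cen_all hp2 hirr hne
  obtain ⟨hsym, hrk⟩ := mutual_and_rk hirr hcen
  obtain ⟨a₀, ha₀⟩ := hne
  have hfull : (∀ a φ, φ a = 0 → Th M a φ) → (M : Set (V ≃ₗ[ZMod p] V)) = {f : V ≃ₗ[ZMod p] V | LinearMap.det (f : V →ₗ[ZMod p] V) = 1} := by
    intro hall
    refine Set.Subset.antisymm (fun f hf => ?_) (fun f hf => ?_)
    · rw [SetLike.mem_coe, hgen] at hf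
      induction hf using Subgroup.closure_induction with
      | mem g hg => exact det_tv (hS g hg)
      | one => exact LinearMap.det_id
      | mul g g' _ _ hg hg' =>
        show LinearMap.det ((g : V →ₗ[ZMod p] V).comp (g' : V →ₗ[ZMod p] V)) = 1
        rw [LinearMap.det_comp, hg, hg', mul_one]
      | inv g _ hg =>
        have h1 := congrArg Units.val (map_inv (LinearEquiv.det (R := ZMod p) (M := V)) g)
        rw [LinearEquiv.coe_det, Units.val_inv_eq_inv_val, LinearEquiv.coe_det] at h1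
        rw [Set.mem_setOf_eq] at hg ⊢
        rw [h1, hg, inv_one]
    · refine mem_of_det_one (Module.finBasis (ZMod p) V) (fun i j hij => hall _ _ ?_) hf
      simp [Module.Basis.coord_apply, hij]
  by_cases h2 : 2 ≤ rk M a₀
  · have hall : ∀ a φ, φ a = 0 → Th M a φ := by
      intro a φ h
      by_cases ha : a = 0
      · exact ⟨h, 1, one_mem M, fun x => by simp [ha]⟩
      · exact phi_full hp2 hsym hrk ha (by rw [hrk a a₀ ha ha₀.1]; exact h2) h
    exact Or.inl ⟨hall, hfull hall⟩
  have hr1 : ∀ a : V, a ≠ 0 → rk M a = 1 := by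
    intro a ha
    obtain ⟨φ, hφ0, hφ⟩ := (hcen a ha).2
    have h1 : Phi M a ≠ ⊥ := fun e => hφ0 (by
      have h3 : φ ∈ Phi M a := hφ
      rwa [e, Submodule.mem_bot] at h3)
    have h3 := Submodule.one_le_finrank_iff.2 h1
    have h4 := hrk a a₀ ha ha₀.1
    unfold rk at *
    omega
  by_cases hdim : 3 ≤ Module.finrank (ZMod p) V
  · obtain ⟨B, halt, hnd, hB⟩ := phi_form hsym hr1 hdim
    refine Or.inr ⟨B, halt, hnd, Set.Subset.antisymm (fun f hf => ?_) (fun f hf => ?_)⟩
    · rw [SetLike.mem_coe, hgen] at hf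
      induction hf using Subgroup.closure_induction with
      | mem g hg =>
        obtain ⟨a, φ, hφ, hgx⟩ := (hS g hg).th (M := M) (hgen ▸ Subgroup.subset_closure hg)
        intro x y
        by_cases ha : a = 0
        · simp [hgx, ha]
        have h3 : φ ∈ Phi M a := hφ
        rw [hB a ha] at h3
        obtain ⟨c, rfl⟩ := Submodule.mem_span_singleton.1 h3
        simp only [hgx, map_add, map_smul, LinearMap.add_apply, LinearMap.smul_apply, smul_eq_mul,
          halt.self_eq_zero a, mul_zero, add_zero]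
        rw [← halt.neg_eq x a]
        ring
      | one => intro x y; rfl
      | mul g g' _ _ hg hg' => intro x y; exact (hg _ _).trans (hg' x y)
      | inv g _ hg =>
        intro x y
        have h3 := (hg (g.symm x) (g.symm y)).symm
        rw [g.apply_symm_apply, g.apply_symm_apply] at h3
        exact h3
    · refine ((Subgroup.closure_le M).2 ?_) (CfsgLib.Geometry.alt_mem_transvGroup hnd halt f hf)
      rintro g ⟨c, d, hgx⟩
      by_cases hd : d = 0
      · rw [show g = 1 from LinearEquiv.ext fun v => by rw [hgx, hd, smul_zero, add_zero]; rfl]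
        exact one_mem M
      have h3 : (-c) • B d ∈ Phi M d := by
        rw [hB d hd]; exact Submodule.smul_mem _ _ (Submodule.mem_span_singleton_self _)
      obtain ⟨-, g', hg', hgx'⟩ : Th M d ((-c) • B d) := h3
      have hgg : g = g' := LinearEquiv.ext fun v => ?_
      · rw [hgg]; exact hg'
      rw [hgx, hgx', LinearMap.smul_apply, smul_eq_mul, ← halt.neg_eq d v]
      congr 2
      ring
  have hall : ∀ a φ, φ a = 0 → Th M a φ := by
    intro a φ h
    by_cases ha : a = 0
    · exact ⟨h, 1, one_mem M, fun x => by simp [ha]⟩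
    have h1 : Phi M a = (Submodule.span (ZMod p) {a}).dualAnnihilator := by
      refine Submodule.eq_of_le_of_finrank_le (fun ψ hψ => ?_) ?_
      · rw [Submodule.mem_dualAnnihilator]
        intro x hx
        obtain ⟨c, rfl⟩ := Submodule.mem_span_singleton.1 hx
        rw [map_smul, (hψ : Th M a ψ).1, smul_zero]
      · have h3 := Subspace.finrank_add_finrank_dualAnnihilator_eq (Submodule.span (ZMod p) {a})
        rw [finrank_span_singleton ha] at h3
        have h4 := hr1 a ha
        unfold rk at h4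
        omega
    show φ ∈ Phi M a
    rw [h1, Submodule.mem_dualAnnihilator]
    intro x hx
    obtain ⟨c, rfl⟩ := Submodule.mem_span_singleton.1 hx
    rw [map_smul, h, smul_zero]
  exact Or.inl ⟨hall, hfull hall⟩

omit [Finite V] in
/-- With all transvections present, a set closed under conjugation and powers contains them all. -/
theorem pairs_transitive [FiniteDimensional (ZMod p) V] (hall : ∀ a φ, φ a = 0 → Th M a φ)
    (P : V → Module.Dual (ZMod p) V → Prop)
    (hconj : ∀ g ∈ M, ∀ a φ, P a φ → P (g a) (φ ∘ₗ g.symm.toLinearMap))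
    (hscal : ∀ a φ, P a φ → ∀ c : ZMod p, c ≠ 0 → P (c • a) φ ∧ P a (c • φ))
    (hne : ∃ a φ, P a φ ∧ a ≠ 0 ∧ φ ≠ 0 ∧ φ a = 0) {a : V} {φ : Module.Dual (ZMod p) V} (ha : a ≠ 0)
    (hφ : φ ≠ 0) (h0 : φ a = 0) : P a φ := by
  obtain ⟨a₁, φ₁, hP, ha₁, hφ₁, h₁⟩ := hne
  -- the centre
  obtain ⟨φ₂, hP2, hφ₂, h₂⟩ : ∃ φ₂, P a φ₂ ∧ φ₂ ≠ 0 ∧ φ₂ a = 0 := by
    by_cases hdep : a ∈ Submodule.span (ZMod p) {a₁}
    · obtain ⟨c, rfl⟩ := Submodule.mem_span_singleton.1 hdep
      exact ⟨φ₁, (hscal _ _ hP c fun e => ha (by rw [e, zero_smul])).1, hφ₁, by rw [map_smul, h₁, smul_zero]⟩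
    · have hn : a₁ ∉ Submodule.span (ZMod p) {a - a₁} := fun hm => by
        obtain ⟨c, hc⟩ := Submodule.mem_span_singleton.1 hm
        by_cases hc0 : c = 0
        · exact ha₁ (by rw [← hc, hc0, zero_smul])
        · apply hdep
          refine Submodule.mem_span_singleton.2 ⟨c⁻¹ * (1 + c), ?_⟩
          have e : c • a = (1 + c) • a₁ := by linear_combination (norm := module) hc
          rw [mul_smul, ← e, inv_smul_smul₀ hc0]
      obtain ⟨η, hη1, hη2⟩ := Submodule.exists_dual_map_eq_bot_of_notMem hn inferInstance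
      have hη : η (a - a₁) = 0 := (Submodule.mem_bot (R := ZMod p)).1
        (hη2 ▸ Submodule.mem_map_of_mem (Submodule.mem_span_singleton_self _))
      obtain ⟨-, g, hg, hgx⟩ := hall (a - a₁) ((η a₁)⁻¹ • η) (by rw [LinearMap.smul_apply, hη, smul_zero])
      have e : g a₁ = a := by
        rw [hgx, LinearMap.smul_apply, smul_eq_mul, inv_mul_cancel₀ hη1, one_smul, add_sub_cancel]
      refine ⟨_, e ▸ hconj g hg _ _ hP, comp_symm_ne_zero hφ₁, ?_⟩
      rw [LinearMap.comp_apply, ← e, LinearEquiv.coe_coe, g.symm_apply_apply, h₁]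
  -- the axis
  by_cases hdep : φ ∈ Submodule.span (ZMod p) {φ₂}
  · obtain ⟨c, rfl⟩ := Submodule.mem_span_singleton.1 hdep
    exact (hscal _ _ hP2 c fun e => hφ (by rw [e, zero_smul])).2
  obtain ⟨c, hc1, hc2⟩ : ∃ c : V, φ₂ c = 1 ∧ (φ₂ - φ) c = 0 := by
    have hn : ¬ LinearMap.ker (φ₂ - φ) ≤ LinearMap.ker φ₂ := fun hle => hdep <| by
      have h3 : φ₂ ∈ Submodule.span (ZMod p) (Set.range ![φ₂ - φ]) :=
        mem_span_of_iInf_ker_le_ker (L := ![φ₂ - φ]) fun x hx => by
          rw [Submodule.mem_iInf] at hx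
          exact hle (hx 0)
      obtain ⟨d, hd⟩ := (Submodule.mem_span_range_iff_exists_fun _).1 h3
      simp only [Fin.sum_univ_one, Matrix.cons_val_fin_one] at hd
      by_cases hd0 : d 0 = 0
      · exact absurd (by rw [← hd, hd0, zero_smul]) hφ₂
      refine Submodule.mem_span_singleton.2 ⟨(d 0)⁻¹ * (d 0 - 1), ?_⟩
      have e : (d 0 - 1) • φ₂ = d 0 • φ := by linear_combination (norm := module) hd
      rw [mul_smul, e, inv_smul_smul₀ hd0]
    obtain ⟨x, hx1, hx2⟩ := SetLike.not_le_iff_exists.1 hn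
    exact ⟨(φ₂ x)⁻¹ • x, by rw [map_smul, smul_eq_mul, inv_mul_cancel₀ hx2],
      by rw [map_smul, hx1, smul_zero]⟩
  obtain ⟨-, g, hg, hgx⟩ := hall c (φ₂ - φ) hc2
  have hga : g a = a := by rw [hgx, LinearMap.sub_apply, h₂, h0, sub_zero, zero_smul, add_zero]
  have hsym : ∀ x, g.symm x = x - (φ₂ - φ) x • c := fun x => by
    apply g.injective
    rw [LinearEquiv.apply_symm_apply, hgx, map_sub, map_smul, hc2, smul_eq_mul, mul_zero, sub_zero]
    module
  have hφe : φ₂ ∘ₗ g.symm.toLinearMap = φ := LinearMap.ext fun x => by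
    rw [LinearMap.comp_apply, LinearEquiv.coe_coe, hsym, map_sub, map_smul, hc1, smul_eq_mul, mul_one,
      LinearMap.sub_apply, sub_sub_cancel]
  have h := hconj g hg _ _ hP2
  rwa [hga, hφe] at h

end CfsgLib.ThreeTransp.McL
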