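import Cfsg.Agent.Lib.ThreeTransp.McLBlock

/-!
A transvection group without normal `p`-subgroup is a product of special linear and symplectic groups.
-/

set_option autoImplicit false

namespace CfsgLib.ThreeTransp.McL

variable {p : ℕ} [Fact p.Prime] {V : Type*} [AddCommGroup V] [Module (ZMod p) V] [Finite V]

theorem finite_equiv : Finite (V ≃ₗ[ZMod p] V) := DFunLike.finite _

/-- The product decomposition. -/
theorem decompose (hp2 : p ≠ 2) : ∀ (N : ℕ) (H : Subgroup (V ≃ₗ[ZMod p] V)), Nat.card H ≤ N →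
    (∃ S, H = Subgroup.closure S ∧ ∀ g ∈ S, IsTv g) →
    (∀ U ≤ H, (∀ h ∈ H, ∀ u ∈ U, h * u * h⁻¹ ∈ U) → (∀ u ∈ U, u ^ p = 1) → U = ⊥) →
    ∃ (n : ℕ) (K : Fin n → Subgroup (V ≃ₗ[ZMod p] V)) (W C : Fin n → Submodule (ZMod p) V),
      (∀ j, Block (K j) (W j) (C j)) ∧ ⨆ j, K j = H ∧
        (∀ j j', j ≠ j' → ∀ a ∈ K j, ∀ b ∈ K j', a * b = b * a) ∧ ∀ j j', j ≠ j' → W j ≤ C j' := by
  haveI := finite_equiv (p := p) (V := V)
  intro N
  induction N with
  | zero =>
    intro H hN
    have : 0 < Nat.card H := Nat.card_pos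
    omega
  | succ N ih =>
    intro H hN ⟨S, hSH, hS⟩ hU
    by_cases hH : H = ⊥
    · exact ⟨0, Fin.elim0, Fin.elim0, Fin.elim0, fun j => j.elim0, by rw [iSup_of_empty, hH],
        fun j => j.elim0, fun j => j.elim0⟩
    let Inv : Submodule (ZMod p) V → Prop := fun Z => ∀ g ∈ H, ∀ z ∈ Z, g z ∈ Z
    obtain ⟨Y, ⟨hYinv, hYmov⟩, hYmin⟩ := (Set.toFinite {Z | Inv Z ∧ ∃ g ∈ H, ∃ z ∈ Z, g z ≠ z}).exists_minimal
      ⟨⊤, fun _ _ _ _ => trivial, by
        by_contra hn
        push Not at hn
        exact hH ((Subgroup.eq_bot_iff_forall H).2 fun g hg => LinearEquiv.ext fun z => hn g hg z trivial)⟩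
    obtain ⟨g₀, hg₀, y₀, hy₀, hne₀⟩ := hYmov
    obtain ⟨X, ⟨hXinv, hXY⟩, hXmax⟩ := (Set.toFinite {Z | Inv Z ∧ Z < Y}).exists_maximal
      ⟨⊥, fun g _ z hz => by rw [(Submodule.mem_bot _).1 hz, map_zero]; exact zero_mem _,
        bot_lt_iff_ne_bot.2 fun e => hne₀ (by
          rw [e, Submodule.mem_bot] at hy₀
          rw [hy₀, map_zero])⟩
    have hfixX : ∀ g ∈ H, ∀ x ∈ X, g x = x := fun g hg x hx => by
      by_contra hn
      exact hXY.2 (hYmin ⟨hXinv, g, hg, x, hx, hn⟩ hXY.le)
    -- elements trivial on every factor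
    let U : Subgroup (V ≃ₗ[ZMod p] V) :=
      { carrier := {u | u ∈ H ∧ (∀ y ∈ Y, u y - y ∈ X) ∧ ∀ v, u v - v ∈ Y}
        one_mem' := ⟨one_mem H, fun y _ => by simp, fun v => by simp⟩
        mul_mem' := fun {u u'} h h' => ⟨mul_mem h.1 h'.1, fun y hy => by
            rw [LinearEquiv.mul_apply, show u (u' y) - y = (u (u' y) - u' y) + (u' y - y) by abel]
            exact X.add_mem (h.2.1 _ (hYinv _ h'.1 y hy)) (h'.2.1 y hy), fun v => by
            rw [LinearEquiv.mul_apply, show u (u' v) - v = (u (u' v) - u' v) + (u' v - v) by abel]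
            exact Y.add_mem (h.2.2 _) (h'.2.2 v)⟩
        inv_mem' := fun {u} h => ⟨inv_mem h.1, fun y hy => by
            have h1 := h.2.1 _ (hYinv _ (inv_mem h.1) y hy)
            rw [show u (u⁻¹ y) = y from u.apply_symm_apply y] at h1
            simpa using X.neg_mem h1, fun v => by
            have h1 := h.2.2 (u⁻¹ v)
            rw [show u (u⁻¹ v) = v from u.apply_symm_apply v] at h1
            simpa using Y.neg_mem h1⟩ }
    have hUbot : U = ⊥ := hU U (fun u hu => hu.1)
      (fun h hh u hu => ⟨mul_mem (mul_mem hh hu.1) (inv_mem hh), fun y hy => by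
          rw [LinearEquiv.mul_apply, LinearEquiv.mul_apply,
            show h (u (h⁻¹ y)) - y = h (u (h⁻¹ y) - h⁻¹ y) by
              rw [map_sub, show h (h⁻¹ y) = y from h.apply_symm_apply y]]
          exact hXinv _ hh _ (hu.2.1 _ (hYinv _ (inv_mem hh) y hy)), fun v => by
          rw [LinearEquiv.mul_apply, LinearEquiv.mul_apply,
            show h (u (h⁻¹ v)) - v = h (u (h⁻¹ v) - h⁻¹ v) by
              rw [map_sub, show h (h⁻¹ v) = v from h.apply_symm_apply v]]
          exact hYinv _ hh _ (hu.2.2 _)⟩)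
      (fun u hu => LinearEquiv.ext fun v => by
        obtain ⟨huH, h1, h2⟩ := hu
        set w := u v - v with hw
        set x := u w - w with hx
        have hux : u x = x := hfixX u huH x (h1 w (h2 v))
        have hm : ∀ m : ℕ, (u ^ m) v = v + (m : ZMod p) • w + (m.choose 2 : ZMod p) • x := by
          intro m
          induction m with
          | zero => simp
          | succ m ihm =>
            rw [pow_succ', LinearEquiv.mul_apply, ihm, map_add, map_add, map_smul, map_smul, hux,
              show u v = v + w by rw [hw]; abel, show u w = w + x by rw [hx]; abel,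
              Nat.choose_succ_succ, Nat.choose_one_right, Nat.cast_add, Nat.cast_succ]
            module
        have h3 : ((p.choose 2 : ℕ) : ZMod p) = 0 := (ZMod.natCast_eq_zero_iff _ _).2
          ((Fact.out : p.Prime).dvd_choose_self two_ne_zero
            (lt_of_le_of_ne (Fact.out : p.Prime).two_le (Ne.symm hp2)))
        rw [hm, ZMod.natCast_self, h3, zero_smul, zero_smul, add_zero, add_zero]
        rfl)
    have hU1 : ∀ u ∈ H, (∀ y ∈ Y, u y - y ∈ X) → (∀ v, u v - v ∈ Y) → u = 1 := fun u h1 h2 h3 => by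
      have h4 : u ∈ U := ⟨h1, h2, h3⟩
      rwa [hUbot, Subgroup.mem_bot] at h4
    -- the two sets of generators
    let S₁ := {t ∈ S | (∀ v, t v - v ∈ Y) ∧ ∀ x ∈ X, t x = x}
    let S₂ := {t ∈ S | ∀ y ∈ Y, t y = y}
    have hS12 : ∀ t ∈ S, t ∈ S₁ ∨ t ∈ S₂ := by
      intro t ht
      by_cases h2 : ∀ y ∈ Y, t y = y
      · exact Or.inr ⟨ht, h2⟩
      push Not at h2
      obtain ⟨y, hy, hty⟩ := h2
      obtain ⟨a, φ, h0, hx⟩ := hS t ht
      have htH : t ∈ H := hSH ▸ Subgroup.subset_closure ht
      have h3 := Y.sub_mem (hYinv t htH y hy) hy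
      rw [hx, add_sub_cancel_left] at h3
      have ha : a ∈ Y := (Y.smul_mem_iff fun e => hty (by rw [hx, e, zero_smul, add_zero])).1 h3
      exact Or.inl ⟨ht, fun v => by rw [hx, add_sub_cancel_left]; exact Y.smul_mem _ ha, hfixX t htH⟩
    let K := Subgroup.closure S₁
    let K' := Subgroup.closure S₂
    have hKH : K ≤ H := hSH ▸ Subgroup.closure_mono fun t ht => ht.1
    have hK'H : K' ≤ H := hSH ▸ Subgroup.closure_mono fun t ht => ht.1
    have hsup : K ⊔ K' = H := by
      refine le_antisymm (sup_le hKH hK'H) ?_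
      rw [hSH, Subgroup.closure_le]
      intro t ht
      rcases hS12 t ht with h | h
      · exact Subgroup.mem_sup_left (Subgroup.subset_closure h)
      · exact Subgroup.mem_sup_right (Subgroup.subset_closure h)
    have hK'Y : ∀ g ∈ K', ∀ y ∈ Y, g y = y := fun g hg => by
      induction hg using Subgroup.closure_induction with
      | mem x hx => exact hx.2
      | one => intro y _; rfl
      | mul x y _ _ hx hy => intro z hz; exact (congrArg x (hy z hz)).trans (hx z hz)
      | inv x _ hx => intro z hz; exact x.symm_apply_eq.2 (hx z hz).symm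
    have hKY : ∀ g ∈ K, ∀ v, g v - v ∈ Y := fun g hg => by
      induction hg using Subgroup.closure_induction with
      | mem x hx => exact hx.2.1
      | one => intro v; simp
      | mul x y _ _ hx hy =>
        intro v
        rw [LinearEquiv.mul_apply, show x (y v) - v = (x (y v) - y v) + (y v - v) by abel]
        exact Y.add_mem (hx _) (hy v)
      | inv x _ hx =>
        intro v
        have h1 := hx (x⁻¹ v)
        rw [show x (x⁻¹ v) = v from x.apply_symm_apply v] at h1
        simpa using Y.neg_mem h1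
    have hKne : K ≠ ⊥ := fun e => hne₀ (hK'Y g₀ (by rw [← hsup, e, bot_sup_eq] at hg₀; exact hg₀) y₀ hy₀)
    have hcomm : ∀ g ∈ K, ∀ g' ∈ K', g * g' = g' * g := by
      intro g hg g' hg'
      have h1 : g * g' * g⁻¹ * g'⁻¹ = 1 := hU1 _
        (mul_mem (mul_mem (mul_mem (hKH hg) (hK'H hg')) (inv_mem (hKH hg))) (inv_mem (hK'H hg')))
        (fun y hy => by
          simp only [LinearEquiv.mul_apply]
          rw [hK'Y _ (inv_mem hg') y hy, hK'Y g' hg' _ (hYinv _ (inv_mem (hKH hg)) y hy),
            show g (g⁻¹ y) = y from g.apply_symm_apply y, sub_self]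
          exact X.zero_mem)
        (fun v => by
          simp only [LinearEquiv.mul_apply]
          set u := g'⁻¹ v
          have e1 : g (g' (g⁻¹ u)) - g' (g⁻¹ u) ∈ Y := hKY g hg _
          have e2 : g' (g⁻¹ u - u) ∈ Y := hYinv _ (hK'H hg') _ (hKY _ (inv_mem hg) u)
          rw [map_sub, show g' u = v from g'.apply_symm_apply v] at e2
          have e3 := Y.add_mem e1 e2
          rwa [show g (g' (g⁻¹ u)) - g' (g⁻¹ u) + (g' (g⁻¹ u) - v) = g (g' (g⁻¹ u)) - v by abel] at e3)
      rwa [mul_inv_eq_one, mul_inv_eq_iff_eq_mul] at h1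
    have hsec : Section K X Y :=
      { le := hXY.le
        gen := ⟨S₁, rfl, fun g hg => hS g hg.1⟩
        fixX := fun g hg => hfixX g (hKH hg)
        intoY := hKY
        faithful := fun g hg h => hU1 g (hKH hg) h (hKY g hg)
        irred := fun Z h1 h2 h3 => by
          by_cases hZY : Z = Y
          · exact Or.inr hZY
          refine Or.inl (le_antisymm (hXmax ⟨fun g hg => ?_, lt_of_le_of_ne h2 hZY⟩ h1) h1)
          rw [← hsup, Subgroup.sup_eq_closure] at hg
          induction hg using Subgroup.closure_induction with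
          | mem x hx =>
            intro z hz
            rcases hx with hx | hx
            · exact h3 x hx z hz
            · rw [hK'Y x hx z (h2 hz)]; exact hz
          | one => intro z hz; exact hz
          | mul x y _ _ hx hy => intro z hz; exact hx _ (hy z hz)
          | inv x _ hx =>
            intro z hz
            have hfin : Z.map (x : V →ₗ[ZMod p] V) = Z :=
              Submodule.eq_of_le_of_finrank_eq (Submodule.map_le_iff_le_comap.2 fun w hw => hx w hw)
                (x.finrank_map_eq Z)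
            rw [← hfin] at hz
            obtain ⟨w, hw, rfl⟩ := hz
            show x.symm (x w) ∈ Z
            rwa [x.symm_apply_apply]
        nontriv := hKne }
    obtain ⟨W, C, hWY, hblock⟩ := hsec.block hp2
    have hWfix : ∀ g ∈ K', ∀ w ∈ W, g w = w := fun g hg w hw => hK'Y g hg w (hWY hw)
    have hlt : Nat.card K' < Nat.card H := by
      refine lt_of_le_of_ne (Nat.le_of_dvd Nat.card_pos (Subgroup.card_dvd_of_le hK'H)) fun e => ?_
      exact hne₀ (hK'Y g₀ ((Subgroup.eq_of_le_of_card_ge hK'H e.ge).symm ▸ hg₀) y₀ hy₀)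
    obtain ⟨n, K₁, W₁, C₁, hb, hs, hc, hwc⟩ := ih K' (by omega) ⟨S₂, rfl, fun g hg => hS g hg.1⟩
      fun U' hU' hnorm hexp => hU U' (hU'.trans hK'H) (fun h hh u hu => by
        rw [← hsup, Subgroup.sup_eq_closure] at hh
        induction hh using Subgroup.closure_induction generalizing u with
        | mem x hx =>
          rcases hx with hx | hx
          · rw [hcomm x hx u (hU' hu), mul_inv_cancel_right]; exact hu
          · exact hnorm x hx u hu
        | one => simpa using hu
        | mul x y _ _ hx hy =>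
          rw [show x * y * u * (x * y)⁻¹ = x * (y * u * y⁻¹) * x⁻¹ by group]
          exact hx _ (hy u hu)
        | inv x _ hx =>
          obtain ⟨⟨u', hu'⟩, e⟩ := (Finite.injective_iff_surjective.1
            (show Function.Injective (fun u : ↥U' => (⟨x * u.1 * x⁻¹, hx u.1 u.2⟩ : ↥U')) from fun a b h =>
              Subtype.ext (mul_left_cancel (mul_right_cancel (congrArg Subtype.val h))))) ⟨u, hu⟩
          have e' : x * u' * x⁻¹ = u := congrArg Subtype.val e
          rwa [← e', show x⁻¹ * (x * u' * x⁻¹) * x⁻¹⁻¹ = u' by group]) hexp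
    have hle1 : ∀ j, K₁ j ≤ K' := fun j => hs ▸ le_iSup K₁ j
    refine ⟨n + 1, Fin.cons K K₁, Fin.cons W W₁, Fin.cons C C₁, Fin.cases hblock hb, ?_, ?_, ?_⟩
    · refine le_antisymm (iSup_le (Fin.cases hKH fun j => (hle1 j).trans hK'H)) ?_
      rw [← hsup, ← hs]
      refine sup_le (le_iSup (Fin.cons K K₁) 0) (iSup_le fun j => ?_)
      exact (le_iSup (Fin.cons K K₁) j.succ).trans' (le_of_eq (by rw [Fin.cons_succ]))
    · intro i i'
      induction i using Fin.cases with
      | zero =>
        induction i' using Fin.cases with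
        | zero => exact fun h => absurd rfl h
        | succ i' => exact fun _ a ha b hb' => hcomm a ha b (hle1 i' hb')
      | succ i =>
        induction i' using Fin.cases with
        | zero => exact fun _ a ha b hb' => (hcomm b hb' a (hle1 i ha)).symm
        | succ i' => exact fun h => hc i i' fun e => h (by rw [e])
    · intro i i'
      induction i using Fin.cases with
      | zero =>
        induction i' using Fin.cases with
        | zero => exact fun h => absurd rfl h
        | succ i' =>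
          exact fun _ w hw => (hb i').fixed_le w fun g hg => hWfix g (hle1 i' hg) w hw
      | succ i =>
        induction i' using Fin.cases with
        | succ i' => exact fun h => hwc i i' fun e => h (by rw [e])
        | zero =>
          intro _
          refine (hb i).le_span.trans (Submodule.span_le.2 ?_)
          rintro _ ⟨g, hg, v, rfl⟩
          obtain ⟨w, hw, c, hc', rfl⟩ := Submodule.mem_sup.1 (show v ∈ W ⊔ C by rw [hblock.compl.sup_eq_top]; trivial)
          have hgC := (hblock.commutes fun k hk => (hcomm k hk g (hle1 i hg)).symm).2 c hc'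
          rw [map_add, hWfix g (hle1 i hg) w hw, add_sub_add_left_eq_sub]
          exact C.sub_mem hgC hc'

/-- The decomposition in the form of a direct sum. -/
theorem mclaughlin (hp : Odd p) (H : Subgroup (V ≃ₗ[ZMod p] V)) (T : Set (V ≃ₗ[ZMod p] V))
    (hHT : H = Subgroup.closure T) (hT : ∀ t ∈ T, IsTv t)
    (hOp : ∀ U ≤ H, (∀ h ∈ H, ∀ u ∈ U, h * u * h⁻¹ ∈ U) → (∀ u ∈ U, u ^ p = 1) → U = ⊥) :
    ∃ (n : ℕ) (W : Fin (n + 1) → Submodule (ZMod p) V) (K : Fin n → Subgroup (V ≃ₗ[ZMod p] V)),
      1 ≤ n ∧ DirectSum.IsInternal W ∧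
      (∀ h ∈ H, ∀ i, (W i).map (h : V →ₗ[ZMod p] V) = W i) ∧
      (∀ j, K j ≤ H ∧ ((K j).subgroupOf H).Normal) ∧ ⨆ j, K j = H ∧
      (∀ j, K j ⊓ (⨆ j' ∈ {j' : Fin n | j' ≠ j}, K j') = ⊥) ∧
      (∀ j j', j ≠ j' → ∀ a ∈ K j, ∀ b ∈ K j', a * b = b * a) ∧
      (∀ j, ∀ h ∈ K j, ∀ i : Fin (n + 1), i ≠ j.succ → ∀ v ∈ W i, h v = v) ∧
      (∀ j, ∃ ρ : ↥(K j) →* (↥(W j.succ) ≃ₗ[ZMod p] ↥(W j.succ)),
        (∀ (h : ↥(K j)) (v : ↥(W j.succ)), ((ρ h v : ↥(W j.succ)) : V) = (h : V ≃ₗ[ZMod p] V) (v : V)) ∧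
        ((ρ.range : Set (↥(W j.succ) ≃ₗ[ZMod p] ↥(W j.succ))) =
            {f : ↥(W j.succ) ≃ₗ[ZMod p] ↥(W j.succ) | LinearMap.det (f : ↥(W j.succ) →ₗ[ZMod p] ↥(W j.succ)) = 1} ∨
          ∃ B : LinearMap.BilinForm (ZMod p) ↥(W j.succ), B.IsAlt ∧ B.Nondegenerate ∧
            (ρ.range : Set (↥(W j.succ) ≃ₗ[ZMod p] ↥(W j.succ))) = {f : ↥(W j.succ) ≃ₗ[ZMod p] ↥(W j.succ) | ∀ x y, B (f x) (f y) = B x y})) := by
  have hp2 : p ≠ 2 := by rintro rfl; exact absurd hp (by decide)
  obtain ⟨n, K, W₁, C, hb, hs, hc, hwc⟩ := decompose hp2 _ H le_rfl ⟨T, hHT, hT⟩ hOp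
  rcases Nat.eq_zero_or_pos n with rfl | hn
  · have hH : H = ⊥ := by rw [← hs, iSup_of_empty]
    subst hH
    refine ⟨1, Fin.cons ⊤ fun _ => ⊥, fun _ => ⊥, le_rfl, ?_, ?_, fun j => ⟨le_rfl, inferInstance⟩,
      iSup_const, fun j => bot_inf_eq _, fun _ _ _ a ha b hb => ?_, fun j h hh i _ v _ => ?_, fun j => ⟨1, ?_, ?_⟩⟩
    · rw [DirectSum.isInternal_submodule_iff_iSupIndep_and_iSup_eq_top]
      refine ⟨fun i => ?_, eq_top_iff.2 (le_iSup_of_le 0 (by rw [Fin.cons_zero]))⟩
      induction i using Fin.cases with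
      | zero =>
        refine disjoint_bot_right.mono_right (iSup₂_le fun j hj => ?_)
        induction j using Fin.cases with
        | zero => exact absurd rfl hj
        | succ j => exact le_rfl
      | succ i => exact disjoint_bot_left
    · intro h hh i
      rw [Subgroup.mem_bot] at hh
      subst hh
      exact Submodule.map_id _
    · rw [Subgroup.mem_bot] at ha hb; rw [ha, hb]
    · rw [Subgroup.mem_bot] at hh; rw [hh]; rfl
    · intro h v
      rw [show (h : V ≃ₗ[ZMod p] V) = 1 from Subgroup.mem_bot.1 h.2]; rfl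
    · refine Or.inl ?_
      haveI : Subsingleton ↥((Fin.cons ⊤ fun _ => ⊥ : Fin 2 → Submodule (ZMod p) V) j.succ) :=
        (inferInstance : Subsingleton ↥(⊥ : Submodule (ZMod p) V))
      ext f
      simp only [SetLike.mem_coe, MonoidHom.mem_range, Set.mem_setOf_eq]
      refine ⟨fun _ => ?_, fun _ => ⟨1, LinearEquiv.ext fun x => Subsingleton.elim _ _⟩⟩
      rw [show (f : ↥((Fin.cons ⊤ fun _ => ⊥ : Fin 2 → Submodule (ZMod p) V) j.succ) →ₗ[ZMod p] _) =
        LinearMap.id from LinearMap.ext fun x => Subsingleton.elim _ _, LinearMap.det_id]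
  let W : Fin (n + 1) → Submodule (ZMod p) V := Fin.cons (⨅ j, C j) W₁
  have hWC : ∀ (j : Fin n) (i : Fin (n + 1)), i ≠ j.succ → W i ≤ C j := by
    intro j i
    induction i using Fin.cases with
    | zero => exact fun _ => iInf_le C j
    | succ i => exact fun h => hwc i j fun e => h (by rw [e])
  have hle : ∀ j, K j ≤ H := fun j => hs ▸ le_iSup K j
  have hout : ∀ j, ∀ g ∈ ⨆ j' ∈ {j' : Fin n | j' ≠ j}, K j', (∀ a ∈ K j, g * a = a * g) ∧ ∀ w ∈ W₁ j, g w = w := by
    intro j g hg
    rw [iSup_subtype', Subgroup.iSup_eq_closure] at hg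
    induction hg using Subgroup.closure_induction with
    | mem x hx =>
      obtain ⟨⟨j', hj'⟩, hx⟩ := Set.mem_iUnion.1 hx
      exact ⟨fun a ha => (hc j j' (Ne.symm hj') a ha x hx).symm,
        fun w hw => (hb j').fix x hx w (hwc j j' (Ne.symm hj') hw)⟩
    | one => exact ⟨fun a _ => by rw [one_mul, mul_one], fun w _ => rfl⟩
    | mul x y _ _ hx hy =>
      exact ⟨fun a ha => by rw [mul_assoc, hy.1 a ha, ← mul_assoc, hx.1 a ha, mul_assoc],
        fun w hw => (congrArg x (hy.2 w hw)).trans (hx.2 w hw)⟩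
    | inv x _ hx =>
      exact ⟨fun a ha => inv_mul_eq_iff_eq_mul.2 (by rw [← mul_assoc, hx.1 a ha, mul_inv_cancel_right]),
        fun w hw => x.symm_apply_eq.2 (hx.2 w hw).symm⟩
  refine ⟨n, W, K, hn, ?_, ?_, fun j => ⟨hle j, ?_⟩, hs, ?_, hc, ?_, fun j => (hb j).classical⟩
  · rw [DirectSum.isInternal_submodule_iff_iSupIndep_and_iSup_eq_top]
    refine ⟨fun i => ?_, ?_⟩
    · induction i using Fin.cases with
      | succ j =>
        refine Disjoint.mono_right (iSup₂_le fun i hi => hWC j i hi) ?_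
        exact (hb j).compl.disjoint
      | zero =>
        rw [Submodule.disjoint_def]
        intro v hv hv'
        have hsum : v ∈ ⨆ j, W₁ j := by
          refine (iSup₂_le fun i hi => ?_ : (⨆ i, ⨆ (_ : i ≠ 0), W i) ≤ _) hv'
          induction i using Fin.cases with
          | zero => exact absurd rfl hi
          | succ i => exact le_iSup W₁ i
        obtain ⟨μ, hμ, rfl⟩ := (Submodule.mem_iSup_iff_exists_finsupp W₁ v).1 hsum
        rw [Finsupp.sum_fintype _ _ fun _ => rfl] at hv ⊢
        refine Finset.sum_eq_zero fun j _ => ?_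
        have h1 := (Submodule.mem_iInf _).1 hv j
        have hs' := Finset.add_sum_erase Finset.univ (fun k => μ k) (Finset.mem_univ j)
        rw [← hs', (C j).add_mem_iff_left
          (Submodule.sum_mem _ fun k hk => hwc k j (Finset.ne_of_mem_erase hk) (hμ k))] at h1
        exact (Submodule.disjoint_def.1 (hb j).compl.disjoint) _ (hμ j) h1
    · refine Submodule.eq_top_iff'.2 fun v => ?_
      choose w hw c hc' hwc' using fun j => Submodule.mem_sup.1
        (show v ∈ W₁ j ⊔ C j by rw [(hb j).compl.sup_eq_top]; trivial)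
      have h0 : v - ∑ j, w j ∈ ⨅ j, C j := by
        refine (Submodule.mem_iInf _).2 fun j => ?_
        rw [← Finset.add_sum_erase _ _ (Finset.mem_univ j), ← hwc' j, add_sub_add_left_eq_sub]
        exact (C j).sub_mem (hc' j) (Submodule.sum_mem _ fun k hk => hwc k j (Finset.ne_of_mem_erase hk) (hw k))
      rw [← sub_add_cancel v (∑ j, w j)]
      exact Submodule.add_mem _ (le_iSup W 0 h0) (Submodule.sum_mem _ fun j _ => le_iSup W j.succ (hw j))
  · intro h hh i
    refine Submodule.eq_of_le_of_finrank_eq (Submodule.map_le_iff_le_comap.2 ?_) (h.finrank_map_eq _)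
    rw [← hs, Subgroup.iSup_eq_closure] at hh
    induction hh using Subgroup.closure_induction with
    | mem x hx =>
      intro w hw
      obtain ⟨j, hx⟩ := Set.mem_iUnion.1 hx
      by_cases hij : i = j.succ
      · subst hij; exact (hb j).inv x hx w hw
      · show x w ∈ W i
        rw [(hb j).fix x hx w (hWC j i hij hw)]; exact hw
    | one => intro w hw; exact hw
    | mul x y _ _ hx hy => intro w hw; exact hx (hy hw)
    | inv x _ hx =>
      intro w hw
      have hfin' : (W i).map (x : V →ₗ[ZMod p] V) = W i :=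
        Submodule.eq_of_le_of_finrank_eq (Submodule.map_le_iff_le_comap.2 hx) (x.finrank_map_eq _)
      rw [← hfin'] at hw
      obtain ⟨u, hu, rfl⟩ := hw
      show x.symm (x u) ∈ W i
      rwa [x.symm_apply_apply]
  · refine Subgroup.normal_subgroupOf_iff_le_normalizer (hle j) |>.2 ?_
    rw [← hs]
    refine iSup_le fun j' => ?_
    by_cases hjj : j' = j
    · subst hjj; exact Subgroup.le_normalizer
    · refine le_trans (fun g hg => Subgroup.mem_centralizer_iff.2 fun a ha => hc j j' (Ne.symm hjj) a ha g hg)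
        (Subgroup.centralizer_le_normalizer _)
  · intro j
    rw [eq_bot_iff]
    rintro g ⟨hg, hg'⟩
    refine Subgroup.mem_bot.2 (LinearEquiv.ext fun v => ?_)
    obtain ⟨w, hw, c, hc', rfl⟩ := Submodule.mem_sup.1 (show v ∈ W₁ j ⊔ C j by rw [(hb j).compl.sup_eq_top]; trivial)
    rw [map_add, (hb j).fix g hg c hc', (hout j g hg').2 w hw]; rfl
  · exact fun j g hg i hi v hv => (hb j).fix g hg v (hWC j i hi hv)

end CfsgLib.ThreeTransp.McL
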