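import Cfsg.Agent.Lib.ThreeTransp.McLGroup

/-!
A transvection group that is trivial below and above one irreducible section splits off that section.
-/

set_option autoImplicit false

namespace CfsgLib.ThreeTransp.McL

variable {p : ℕ} [Fact p.Prime] {V : Type*} [AddCommGroup V] [Module (ZMod p) V]
variable {K : Subgroup (V ≃ₗ[ZMod p] V)}

/-- Restriction to an invariant subspace. -/
noncomputable def restr (W : Submodule (ZMod p) V) (hW : ∀ g ∈ K, ∀ x ∈ W, g x ∈ W) :
    ↥K →* (↥W ≃ₗ[ZMod p] ↥W) where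
  toFun g :=
    LinearEquiv.ofLinear ((g.1 : V →ₗ[ZMod p] V).restrict fun x hx => hW g.1 g.2 x hx)
      (((g⁻¹ : ↥K).1 : V →ₗ[ZMod p] V).restrict fun x hx => hW _ (g⁻¹).2 x hx)
      (LinearMap.ext fun x => Subtype.ext (g.1.apply_symm_apply x.1))
      (LinearMap.ext fun x => Subtype.ext (g.1.symm_apply_apply x.1))
  map_one' := LinearEquiv.ext fun _ => Subtype.ext rfl
  map_mul' _ _ := LinearEquiv.ext fun _ => Subtype.ext rfl

theorem restr_apply {W : Submodule (ZMod p) V} (hW : ∀ g ∈ K, ∀ x ∈ W, g x ∈ W) (g : ↥K) (x : W) :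
    ((restr W hW g x : ↥W) : V) = g.1 x := rfl

/-- Action on a quotient by an invariant subspace. -/
noncomputable def quotRep {Q : Type*} [AddCommGroup Q] [Module (ZMod p) Q] {G : Type*} [Group G]
    (ρ : G →* (Q ≃ₗ[ZMod p] Q)) (U : Submodule (ZMod p) Q) (hU : ∀ g, ∀ x ∈ U, ρ g x ∈ U) :
    G →* ((Q ⧸ U) ≃ₗ[ZMod p] (Q ⧸ U)) where
  toFun g :=
    LinearEquiv.ofLinear (U.mapQ U (ρ g : Q →ₗ[ZMod p] Q) fun x hx => hU g x hx)
      (U.mapQ U (ρ g⁻¹ : Q →ₗ[ZMod p] Q) fun x hx => hU g⁻¹ x hx)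
      (Submodule.linearMap_qext _ (LinearMap.ext fun x => congrArg (Submodule.Quotient.mk (p := U))
        (show ρ g (ρ g⁻¹ x) = x by rw [← LinearEquiv.mul_apply, ← map_mul, mul_inv_cancel, map_one]; rfl)))
      (Submodule.linearMap_qext _ (LinearMap.ext fun x => congrArg (Submodule.Quotient.mk (p := U))
        (show ρ g⁻¹ (ρ g x) = x by rw [← LinearEquiv.mul_apply, ← map_mul, inv_mul_cancel, map_one]; rfl)))
  map_one' := LinearEquiv.ext fun x => by
    induction x using Submodule.Quotient.induction_on with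
    | H x => exact congrArg (Submodule.Quotient.mk (p := U)) (show ρ 1 x = x by rw [map_one]; rfl)
  map_mul' g h := LinearEquiv.ext fun x => by
    induction x using Submodule.Quotient.induction_on with
    | H x => exact congrArg (Submodule.Quotient.mk (p := U)) (show ρ (g * h) x = ρ g (ρ h x) by rw [map_mul]; rfl)

theorem quotRep_mk {Q : Type*} [AddCommGroup Q] [Module (ZMod p) Q] {G : Type*} [Group G]
    (ρ : G →* (Q ≃ₗ[ZMod p] Q)) (U : Submodule (ZMod p) Q) (hU : ∀ g, ∀ x ∈ U, ρ g x ∈ U) (g : G) (x : Q) :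
    quotRep ρ U hU g (Submodule.Quotient.mk x) = Submodule.Quotient.mk (ρ g x) := rfl

/-- A group acting only on the section `Y/X`, irreducibly. -/
structure Section (K : Subgroup (V ≃ₗ[ZMod p] V)) (X Y : Submodule (ZMod p) V) : Prop where
  le : X ≤ Y
  gen : ∃ S, K = Subgroup.closure S ∧ ∀ g ∈ S, IsTv g
  fixX : ∀ g ∈ K, ∀ x ∈ X, g x = x
  intoY : ∀ g ∈ K, ∀ v, g v - v ∈ Y
  faithful : ∀ g ∈ K, (∀ y ∈ Y, g y - y ∈ X) → g = 1
  irred : ∀ Z, X ≤ Z → Z ≤ Y → (∀ g ∈ K, ∀ z ∈ Z, g z ∈ Z) → Z = X ∨ Z = Y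
  nontriv : K ≠ ⊥

/-- Generation passes to an image. -/
theorem range_gen {Q : Type*} [AddCommGroup Q] [Module (ZMod p) Q] {S : Set (V ≃ₗ[ZMod p] V)}
    (hS : K = Subgroup.closure S) (π : ↥K →* (Q ≃ₗ[ZMod p] Q)) :
    π.range = Subgroup.closure {f | ∃ g : ↥K, g.1 ∈ S ∧ π g = f} := by
  refine le_antisymm ?_ ((Subgroup.closure_le _).2 ?_)
  · rintro _ ⟨g, rfl⟩
    obtain ⟨g, hg⟩ := g
    have hK : g ∈ Subgroup.closure S := hS ▸ hg
    induction hK using Subgroup.closure_induction with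
    | mem x hx => exact Subgroup.subset_closure ⟨⟨x, hg⟩, hx, rfl⟩
    | one => exact (show π (1 : ↥K) ∈ _ by rw [map_one]; exact one_mem _)
    | mul x y hx hy ihx ihy =>
      rw [← hS] at hx hy
      rw [show (⟨x * y, hg⟩ : ↥K) = ⟨x, hx⟩ * ⟨y, hy⟩ from rfl, map_mul]
      exact mul_mem (ihx hx) (ihy hy)
    | inv x hx ih =>
      rw [← hS] at hx
      rw [show (⟨x⁻¹, hg⟩ : ↥K) = (⟨x, hx⟩ : ↥K)⁻¹ from rfl, map_inv]
      exact inv_mem (ih hx)
  · rintro _ ⟨g, -, rfl⟩
    exact ⟨g, rfl⟩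

variable [Finite V] {X Y : Submodule (ZMod p) V}

/-- The section has an invariant complement, fixed by the group outside of it. -/
theorem Section.split (hp2 : p ≠ 2) (h : Section K X Y) :
    ∃ W C : Submodule (ZMod p) V, IsCompl W C ∧ W ≤ Y ∧ W ⊓ X = ⊥ ∧ W ⊔ X = Y ∧
      (∀ g ∈ K, ∀ c ∈ C, g c = c) ∧ ∀ g ∈ K, ∀ w ∈ W, g w ∈ W := by
  obtain ⟨S, hSK, hS⟩ := h.gen
  have hYinv : ∀ g ∈ K, ∀ y ∈ Y, g y ∈ Y := fun g hg y hy => by
    simpa using Y.add_mem (h.intoY g hg y) hy
  let X' : Submodule (ZMod p) ↥Y := X.comap Y.subtype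
  have hX' : ∀ g : ↥K, ∀ y ∈ X', restr Y hYinv g y ∈ X' := fun g y hy => by
    show g.1 y.1 ∈ X
    rw [h.fixX _ g.2 y.1 hy]
    exact hy
  haveI : Finite (↥Y ⧸ X') := Finite.of_surjective _ (Submodule.Quotient.mk_surjective X')
  let π : ↥K →* ((↥Y ⧸ X') ≃ₗ[ZMod p] (↥Y ⧸ X')) := quotRep (restr Y hYinv) X' hX'
  have hπ : ∀ (g : ↥K) (y : Y), π g (Submodule.Quotient.mk y) =
      Submodule.Quotient.mk ⟨g.1 y.1, hYinv _ g.2 _ y.2⟩ := fun g y => rfl
  have hinj : ∀ g, π g = 1 → g = 1 := fun g hg => Subtype.ext <| h.faithful _ g.2 fun y hy => by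
    have h1 := LinearEquiv.congr_fun hg (Submodule.Quotient.mk ⟨y, hy⟩)
    rw [hπ] at h1
    exact (Submodule.Quotient.eq X').1 h1
  have hinj' : ∀ g g', π g = π g' → g = g' := fun g g' e =>
    inv_mul_eq_one.1 (hinj (g⁻¹ * g') (by rw [map_mul, map_inv, e, inv_mul_cancel])) ▸ rfl
  -- the images of transvections
  have htv : ∀ (g : ↥K) (a : V) (φ : Module.Dual (ZMod p) V), φ a = 0 → (∀ x, g.1 x = x + φ x • a) → g ≠ 1 →
      ∃ (ha : a ∈ Y) (ψ : Module.Dual (ZMod p) (↥Y ⧸ X')), (∀ y : Y, ψ (Submodule.Quotient.mk y) = φ y.1) ∧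
        ψ (Submodule.Quotient.mk ⟨a, ha⟩) = 0 ∧ (Submodule.Quotient.mk ⟨a, ha⟩ : ↥Y ⧸ X') ≠ 0 ∧ ψ ≠ 0 ∧
        ∀ q, π g q = q + ψ q • Submodule.Quotient.mk ⟨a, ha⟩ := by
    intro g a φ h0 hx hg
    obtain ⟨x₀, hx₀⟩ : ∃ x, φ x • a ≠ 0 := by
      by_contra hn
      push Not at hn
      exact hg (Subtype.ext (LinearEquiv.ext fun x => by rw [hx, hn x, add_zero]; rfl))
    have hφx : φ x₀ ≠ 0 := fun e => hx₀ (by rw [e, zero_smul])
    have ha : a ∈ Y := by
      have h1 := h.intoY _ g.2 x₀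
      rw [hx, add_sub_cancel_left] at h1
      exact (Y.smul_mem_iff hφx).1 h1
    have hker : X' ≤ LinearMap.ker (φ ∘ₗ Y.subtype) := fun y hy => by
      have h1 := h.fixX _ g.2 _ hy
      change g.1 y.1 = y.1 at h1
      rw [hx, add_eq_left] at h1
      rcases smul_eq_zero.1 h1 with e | e
      · exact e
      · exact absurd (by rw [e, smul_zero]) hx₀
    refine ⟨ha, X'.liftQ _ hker, fun y => rfl, h0, fun e => hg (Subtype.ext ?_), fun e => hg (Subtype.ext ?_), fun q => ?_⟩
    · refine h.faithful _ g.2 fun y hy => ?_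
      rw [hx, add_sub_cancel_left]
      exact X.smul_mem _ ((Submodule.Quotient.mk_eq_zero X').1 e)
    · refine h.faithful _ g.2 fun y hy => ?_
      have h1 : φ y = 0 := LinearMap.congr_fun e (Submodule.Quotient.mk ⟨y, hy⟩)
      rw [hx, h1, zero_smul, add_zero, sub_self]
      exact X.zero_mem
    · induction q using Submodule.Quotient.induction_on with
      | H y =>
        rw [hπ, Submodule.liftQ_apply, ← Submodule.Quotient.mk_smul, ← Submodule.Quotient.mk_add]
        exact congrArg _ (Subtype.ext (hx y.1))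
  have hS' : ∀ g : ↥K, IsTv g.1 → IsTv (π g) := by
    rintro g ⟨a, φ, h0, hx⟩
    by_cases hg : g = 1
    · exact ⟨0, 0, rfl, fun q => by rw [hg, map_one]; simp⟩
    obtain ⟨ha, ψ, -, hψ0, -, -, hq⟩ := htv g a φ h0 hx hg
    exact ⟨_, ψ, hψ0, hq⟩
  obtain ⟨t, htS, ht1⟩ : ∃ t : ↥K, t.1 ∈ S ∧ t ≠ 1 := by
    by_contra hn
    push Not at hn
    refine h.nontriv ?_
    rw [hSK, Subgroup.closure_eq_bot_iff]
    exact fun x hx => congrArg Subtype.val (hn ⟨x, hSK ▸ Subgroup.subset_closure hx⟩ hx)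
  have hirr : Irred π.range := by
    intro U hU
    let Z := (U.comap X'.mkQ).map Y.subtype
    have hXZ : X ≤ Z := fun x hx => ⟨⟨x, h.le hx⟩, by
      show X'.mkQ _ ∈ U
      rw [Submodule.mkQ_apply, (Submodule.Quotient.mk_eq_zero X').2 (show (⟨x, h.le hx⟩ : ↥Y) ∈ X' from hx)]
      exact U.zero_mem, rfl⟩
    have hUπ : ∀ f ∈ π.range, ∀ u ∈ U, f u ∈ U := by
      intro f hf
      rw [range_gen hSK π] at hf
      induction hf using Subgroup.closure_induction_left with
      | one => intro u hu; exact hu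
      | mul_left x hx y hy ih =>
        intro u hu
        obtain ⟨g, hg, rfl⟩ := hx
        obtain ⟨a, φ, h0, hgx⟩ := hS' g (hS _ hg)
        rw [LinearEquiv.mul_apply, hgx]
        exact U.add_mem (ih u hu) (hU a φ ⟨h0, π g, ⟨g, rfl⟩, hgx⟩ _ (ih u hu))
      | inv_mul_cancel x hx y hy ih =>
        intro u hu
        obtain ⟨g, hg, rfl⟩ := hx
        obtain ⟨a, φ, h0, hgx⟩ := hS' g (hS _ hg)
        have h1 : (π g)⁻¹ (y u) = y u - φ (y u) • a := by
          apply (π g).injective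
          show π g ((π g).symm (y u)) = _
          rw [LinearEquiv.apply_symm_apply, hgx, map_sub, map_smul, h0, smul_eq_mul, mul_zero, sub_zero]
          module
        rw [LinearEquiv.mul_apply, h1]
        exact U.sub_mem (ih u hu) (hU a φ ⟨h0, π g, ⟨g, rfl⟩, hgx⟩ _ (ih u hu))
    rcases h.irred Z hXZ (Submodule.map_subtype_le _ _) (by
        rintro g hg _ ⟨y, hy, rfl⟩
        exact ⟨⟨g y.1, hYinv g hg _ y.2⟩, hUπ _ ⟨⟨g, hg⟩, rfl⟩ _ hy, rfl⟩) with e | e
    · left
      refine (Submodule.eq_bot_iff _).2 fun q hq => ?_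
      induction q using Submodule.Quotient.induction_on with
      | H y =>
        refine (Submodule.Quotient.mk_eq_zero X').2 ?_
        show y.1 ∈ X
        rw [← e]
        exact ⟨y, hq, rfl⟩
    · right
      refine Submodule.eq_top_iff'.2 fun q => ?_
      induction q using Submodule.Quotient.induction_on with
      | H y =>
        have hyZ : y.1 ∈ Z := by rw [e]; exact y.2
        obtain ⟨y', hy', e'⟩ := hyZ
        rw [← (Subtype.ext e' : y' = y)]
        exact hy'
  obtain ⟨a, φ, h0, hx⟩ := hS _ htS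
  obtain ⟨ha, ψ, hψ, hψ0, hā, hψne, hq⟩ := htv t a φ h0 hx ht1
  have hgen : π.range = Subgroup.closure {f | ∃ g : ↥K, g.1 ∈ S ∧ π g = f} := range_gen hSK π
  have hgenTv : ∀ f ∈ {f | ∃ g : ↥K, g.1 ∈ S ∧ π g = f}, IsTv f := by
    rintro _ ⟨g, hg, rfl⟩
    exact hS' g (hS _ hg)
  rcases classify hp2 hgen hgenTv hirr ⟨_, hā, ψ, hψne, hψ0, π t, ⟨t, rfl⟩, hq⟩ with
    ⟨hall, hM⟩ | ⟨B, -, -, hM⟩
  · -- cyclic lifts
    let P : (↥Y ⧸ X') → Module.Dual (ZMod p) (↥Y ⧸ X') → Prop := fun a φ =>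
      ∃ g : ↥K, IsTv g.1 ∧ ∀ q, π g q = q + φ q • a
    have hP : ∀ (a : ↥Y ⧸ X') φ, a ≠ 0 → φ ≠ 0 → φ a = 0 → P a φ := by
      intro a' φ' ha' hφ' h0'
      refine pairs_transitive hall (fun a φ => φ a = 0 ∧ P a φ) ?_ ?_
        ⟨_, ψ, ⟨hψ0, t, hS _ htS, hq⟩, hā, hψne, hψ0⟩ ha' hφ' h0' |>.2
      · rintro f ⟨k, rfl⟩ a φ ⟨h0, g, hg, hgq⟩
        refine ⟨by simpa using h0, k * g * k⁻¹, isTv_conj hg _, fun q => ?_⟩
        rw [map_mul, map_mul, map_inv]
        show π k (π g ((π k).symm q)) = _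
        rw [hgq, map_add, map_smul, LinearEquiv.apply_symm_apply]
        rfl
      · rintro a φ ⟨h0, g, ⟨v, θ, hθ, hgx⟩, hgq⟩ c hc
        have hpow : P a (c • φ) := by
          refine ⟨g ^ c.val, ⟨v, c • θ, by rw [LinearMap.smul_apply, hθ, smul_zero], fun x => ?_⟩, fun q => ?_⟩
          · rw [Subgroup.coe_pow, tv_pow_apply hθ hgx, ZMod.natCast_zmod_val]; rfl
          · rw [map_pow, tv_pow_apply h0 hgq, ZMod.natCast_zmod_val]; rfl
        refine ⟨⟨by rw [map_smul, h0, smul_zero], ?_⟩, by rw [LinearMap.smul_apply, h0, smul_zero], hpow⟩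
        obtain ⟨g', hg', hgq'⟩ := hpow
        exact ⟨g', hg', fun q => by rw [hgq', LinearMap.smul_apply, smul_comm, smul_assoc]⟩
    obtain ⟨n, ⟨b⟩⟩ : ∃ n, Nonempty (Module.Basis (Fin n) (ZMod p) (↥Y ⧸ X')) := ⟨_, ⟨Module.finBasis _ _⟩⟩
    have hn : 2 ≤ n := by
      by_contra hn
      haveI : Subsingleton (Fin n) := ⟨fun i j => Fin.ext (by omega)⟩
      obtain ⟨i, hi⟩ : ∃ i, b.repr (Submodule.Quotient.mk ⟨a, ha⟩) i ≠ 0 := by
        by_contra hh
        push Not at hh
        exact hā (b.repr.map_eq_zero_iff.1 (Finsupp.ext hh))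
      refine hψne (b.ext fun j => ?_)
      rw [Subsingleton.elim j i]
      have h1 := hψ0
      rw [← b.sum_repr (Submodule.Quotient.mk ⟨a, ha⟩), map_sum,
        Finset.sum_eq_single i (fun j _ hj => absurd (Subsingleton.elim j i) hj)
          (fun hh => absurd (Finset.mem_univ i) hh), map_smul, smul_eq_zero] at h1
      exact h1.resolve_left hi
    obtain ⟨m, rfl⟩ : ∃ m, n = m + 2 := ⟨n - 2, by omega⟩
    let s : Fin (m + 2) ≃ Fin (m + 2) := Equiv.addRight 1
    have hs : ∀ i, s i = i + 1 := fun i => rfl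
    have hsne : ∀ i, i ≠ s i := fun i e => by
      rw [hs] at e
      simpa using e
    have hlift : ∀ i, ∃ (g : ↥K) (a : Y) (φ : Module.Dual (ZMod p) V), φ a.1 = 0 ∧
        (∀ x, g.1 x = x + φ x • a.1) ∧ Submodule.Quotient.mk a = b i ∧
        (∀ y : Y, φ y.1 = b.coord (s i) (Submodule.Quotient.mk y)) ∧
        ∀ q, π g q = q + b.coord (s i) q • b i := by
      intro i
      have hne : b.coord (s i) ≠ 0 := fun e => by
        have h1 := LinearMap.congr_fun e (b (s i))
        simp at h1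
      obtain ⟨g, ⟨v, θ, hθ, hgx⟩, hgq⟩ := hP (b i) (b.coord (s i)) (b.ne_zero i) hne
        (by simp [hsne i])
      have hg1 : g ≠ 1 := fun e => by
        have h1 := hgq (b (s i))
        rw [e, map_one] at h1
        simp [b.ne_zero i] at h1
      obtain ⟨hv, η, hη, -, -, -, hgη⟩ := htv g v θ hθ hgx hg1
      obtain ⟨y₀, hy₀⟩ := Submodule.Quotient.mk_surjective X' (b (s i))
      set c := η (b (s i)) with hc
      have heq : ∀ q, η q • (Submodule.Quotient.mk ⟨v, hv⟩ : ↥Y ⧸ X') = b.coord (s i) q • b i := fun q =>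
        add_left_cancel ((hgη q).symm.trans (hgq q))
      have h1 : c • (Submodule.Quotient.mk ⟨v, hv⟩ : ↥Y ⧸ X') = b i := by
        rw [hc, heq]; simp
      have hc0 : c ≠ 0 := fun e => b.ne_zero i (by rw [← h1, e, zero_smul])
      refine ⟨g, ⟨c • v, Y.smul_mem _ hv⟩, c⁻¹ • θ, by simp [hθ], fun x => ?_, ?_, fun y => ?_, hgq⟩
      · rw [hgx, LinearMap.smul_apply, smul_eq_mul, smul_smul]
        congr 2
        field_simp
      · rw [← h1]; rfl
      · have h2 := heq (Submodule.Quotient.mk y)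
        rw [hη, ← h1, smul_smul] at h2
        have h3 := smul_left_injective (ZMod p) (show (Submodule.Quotient.mk ⟨v, hv⟩ : ↥Y ⧸ X') ≠ 0 from
          fun e => b.ne_zero i (by rw [← h1, e, smul_zero])) h2
        rw [LinearMap.smul_apply, smul_eq_mul, h3]
        field_simp
    choose g a' φ' h0' hx' hmk hco hq' using hlift
    let W := Submodule.span (ZMod p) (Set.range fun i => (a' i).1)
    let C := ⨅ i, LinearMap.ker (φ' i)
    have hWY : W ≤ Y := Submodule.span_le.2 (by rintro _ ⟨i, rfl⟩; exact (a' i).2)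
    have hmkQ : ∀ r : Fin (m + 2) → ZMod p,
        (Submodule.Quotient.mk (∑ i, r i • a' i) : ↥Y ⧸ X') = ∑ i, r i • b i := fun r => by
      rw [← Submodule.mkQ_apply, map_sum]
      simp only [map_smul, Submodule.mkQ_apply, hmk]
    have hmem : ∀ w ∈ W, ∃ r : Fin (m + 2) → ZMod p, ((∑ i, r i • a' i : ↥Y) : V) = w := fun w hw => by
      obtain ⟨r, hr⟩ := (Submodule.mem_span_range_iff_exists_fun _).1 hw
      exact ⟨r, by rw [← hr]; simp⟩
    have hφW : ∀ i (r : Fin (m + 2) → ZMod p), φ' i ((∑ j, r j • a' j : ↥Y) : V) = r (s i) := fun i r => by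
      rw [hco, hmkQ, Module.Basis.coord_apply, b.repr_sum_self]
    refine ⟨W, C, ⟨?_, ?_⟩, hWY, ?_, ?_, ?_, ?_⟩
    · rw [Submodule.disjoint_def]
      intro w hw hwC
      obtain ⟨r, rfl⟩ := hmem w hw
      have : r = 0 := funext fun j => by
        have h1 := (Submodule.mem_iInf _).1 hwC (s.symm j)
        rw [LinearMap.mem_ker, hφW, Equiv.apply_symm_apply] at h1
        exact h1
      simp [this]
    · rw [codisjoint_iff, Submodule.eq_top_iff']
      intro v
      refine Submodule.mem_sup.2 ⟨((∑ j, φ' (s.symm j) v • a' j : ↥Y) : V), ?_,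
        v - ((∑ j, φ' (s.symm j) v • a' j : ↥Y) : V), ?_, by abel⟩
      · simp only [AddSubmonoidClass.coe_finsetSum, Submodule.coe_smul]
        exact Submodule.sum_mem _ fun j _ => Submodule.smul_mem _ _ (Submodule.subset_span ⟨j, rfl⟩)
      · refine (Submodule.mem_iInf _).2 fun i => ?_
        rw [LinearMap.mem_ker, map_sub, hφW, Equiv.symm_apply_apply, sub_self]
    · rw [eq_bot_iff]
      rintro w ⟨hw, hwX⟩
      obtain ⟨r, rfl⟩ := hmem w hw
      have h1 := (Submodule.Quotient.mk_eq_zero X').2 hwX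
      rw [hmkQ] at h1
      have : r = 0 := funext (Fintype.linearIndependent_iff.1 b.linearIndependent r h1)
      simp [this]
    · refine le_antisymm (sup_le hWY h.le) fun y hy => ?_
      let r := b.repr (Submodule.Quotient.mk ⟨y, hy⟩)
      refine Submodule.mem_sup.2 ⟨((∑ j, r j • a' j : ↥Y) : V), ?_, y - ((∑ j, r j • a' j : ↥Y) : V), ?_, by abel⟩
      · simp only [AddSubmonoidClass.coe_finsetSum, Submodule.coe_smul]
        exact Submodule.sum_mem _ fun j _ => Submodule.smul_mem _ _ (Submodule.subset_span ⟨j, rfl⟩)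
      · refine (Submodule.Quotient.eq X').1 (?_ : (Submodule.Quotient.mk ⟨y, hy⟩ : ↥Y ⧸ X') = _)
        rw [hmkQ, b.sum_repr]
    all_goals
      intro k hk
      have hL : (⟨k, hk⟩ : ↥K) ∈ Subgroup.closure (Set.range g) := by
        let L := (Subgroup.closure (Set.range g)).map π
        have hbase : ∀ j, Th L (b j) (b.coord (s j)) := fun j =>
          ⟨by simp [hsne j], π (g j), ⟨g j, Subgroup.subset_closure ⟨j, rfl⟩, rfl⟩, hq' j⟩
        have hgen' : ∀ (d : ℕ) (i j : Fin (m + 2)), (j - i).val = d → i ≠ j → Th L (b i) (b.coord j) := by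
          intro d
          induction d with
          | zero => intro i j h1 h3; exact absurd (sub_eq_zero.1 (Fin.ext h1)).symm h3
          | succ d ih =>
            intro i j hd hij
            obtain ⟨j', rfl⟩ : ∃ j', j = s j' := ⟨s.symm j, (s.apply_symm_apply j).symm⟩
            by_cases hji : j' = i
            · subst hji; exact hbase j'
            have h1 : (j' - i).val = d := by
              rw [show j' - i = s j' - i - 1 by rw [hs]; abel, Fin.coe_sub_one, if_neg, hd, Nat.add_sub_cancel]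
              intro e
              rw [e] at hd
              simp at hd
            have h3 := (ih i j' h1 (Ne.symm hji)).comm (hbase j') (by simp [hij])
            simpa using h3
        have hall' : ∀ i j, i ≠ j → Th L (b i) (b.coord j) := fun i j hij => hgen' _ i j rfl hij
        have hdet : π ⟨k, hk⟩ ∈ (π.range : Set _) := ⟨⟨k, hk⟩, rfl⟩
        rw [hM] at hdet
        obtain ⟨l, hl, he⟩ := mem_of_det_one b hall' hdet
        rwa [← hinj' _ _ he]
      obtain ⟨k', hk'⟩ : ∃ k' : ↥K, k'.1 = k := ⟨⟨k, hk⟩, rfl⟩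
      rw [show (⟨k, hk⟩ : ↥K) = k' from Subtype.ext hk'.symm] at hL
      subst hk'
    · induction hL using Subgroup.closure_induction with
      | mem x hx =>
        obtain ⟨i, rfl⟩ := hx
        intro c hc
        rw [hx', LinearMap.mem_ker.1 ((Submodule.mem_iInf _).1 hc i), zero_smul, add_zero]
      | one => intro c _; rfl
      | mul x y _ _ hx hy => intro c hc; exact (congrArg x.1 (hy y.2 c hc)).trans (hx x.2 c hc)
      | inv x _ hx => intro c hc; exact x.1.symm_apply_eq.2 (hx x.2 c hc).symm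
    · induction hL using Subgroup.closure_induction with
      | mem x hx =>
        obtain ⟨i, rfl⟩ := hx
        intro c hc
        rw [hx']
        exact W.add_mem hc (W.smul_mem _ (Submodule.subset_span ⟨i, rfl⟩))
      | one => intro c hc; exact hc
      | mul x y _ _ hx hy => intro c hc; exact hx x.2 _ (hy y.2 c hc)
      | inv x _ hx =>
        intro c hc
        have hfin : (W.map (x.1 : V →ₗ[ZMod p] V)) = W :=
          Submodule.eq_of_le_of_finrank_eq (Submodule.map_le_iff_le_comap.2 fun w hw => hx x.2 w hw)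
            (x.1.finrank_map_eq W)
        rw [← hfin] at hc
        obtain ⟨w, hw, rfl⟩ := hc
        show x.1.symm (x.1 w) ∈ W
        rwa [x.1.symm_apply_apply]
  · -- the preimage of `-1`
    have hneg : (LinearEquiv.neg (ZMod p) : (↥Y ⧸ X') ≃ₗ[ZMod p] _) ∈ (π.range : Set _) := by
      rw [hM]; intro x y; simp
    obtain ⟨z, hz⟩ := hneg
    have hzq : ∀ q, π z q = -q := fun q => by rw [hz]; rfl
    have hz2 : ∀ v, z.1 (z.1 v) = v := fun v => by
      have h1 : z * z = 1 := hinj _ (LinearEquiv.ext fun q => by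
        rw [map_mul, LinearEquiv.mul_apply, hzq, hzq, neg_neg]; rfl)
      exact LinearEquiv.congr_fun (congrArg Subtype.val h1) v
    have hzc : ∀ g ∈ K, ∀ v, z.1 (g v) = g (z.1 v) := fun g hg v => by
      have h1 : z * ⟨g, hg⟩ = ⟨g, hg⟩ * z := hinj' _ _ (LinearEquiv.ext fun q => by
        rw [map_mul, map_mul, LinearEquiv.mul_apply, LinearEquiv.mul_apply, hzq, hzq, map_neg])
      exact LinearEquiv.congr_fun (congrArg Subtype.val h1) v
    let W := LinearMap.ker ((z.1 : V →ₗ[ZMod p] V) + LinearMap.id)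
    let C := LinearMap.ker ((z.1 : V →ₗ[ZMod p] V) - LinearMap.id)
    have hW : ∀ v, v ∈ W ↔ z.1 v = -v := fun v => by simp [W, add_eq_zero_iff_eq_neg]
    have hC : ∀ v, v ∈ C ↔ z.1 v = v := fun v => by simp [C, sub_eq_zero]
    have h2 := two_ne hp2
    have hhalf : ∀ (Z : Submodule (ZMod p) V) (v : V), (2 : ZMod p) • v ∈ Z → v ∈ Z := fun Z v hv =>
      (Z.smul_mem_iff h2).1 hv
    have hzy : ∀ y (hy : y ∈ Y), z.1 y + y ∈ X := fun y hy => by
      have h1 := hzq (Submodule.Quotient.mk ⟨y, hy⟩)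
      rw [hπ, ← Submodule.Quotient.mk_neg] at h1
      have h3 : z.1 y - -y ∈ X := (Submodule.Quotient.eq X').1 h1
      simpa using h3
    have hCY : ∀ c ∈ C, c ∈ Y → c ∈ X := fun c hc hy => hhalf X c (by
      have h1 := hzy c hy
      rwa [(hC c).1 hc, ← two_smul (ZMod p)] at h1)
    have hWY : W ≤ Y := fun w hw => hhalf Y w (by
      have h1 := Y.neg_mem (h.intoY _ z.2 w)
      rw [(hW w).1 hw] at h1
      simpa [two_smul] using h1)
    refine ⟨W, C, ⟨?_, ?_⟩, hWY, ?_, ?_, ?_, ?_⟩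
    · rw [Submodule.disjoint_def]
      intro v h1 h3
      have h4 : -v = v := ((hW v).1 h1).symm.trans ((hC v).1 h3)
      exact (Submodule.mem_bot (R := ZMod p)).1 (hhalf ⊥ v (by
        rw [Submodule.mem_bot, two_smul]; exact add_eq_zero_iff_eq_neg.2 h4.symm))
    · rw [codisjoint_iff, Submodule.eq_top_iff']
      intro v
      refine Submodule.mem_sup.2 ⟨(2 : ZMod p)⁻¹ • (v - z.1 v), (hW _).2 ?_,
        (2 : ZMod p)⁻¹ • (v + z.1 v), (hC _).2 ?_, ?_⟩
      · rw [map_smul, map_sub, hz2]; module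
      · rw [map_smul, map_add, hz2]; module
      · rw [← smul_add, show v - z.1 v + (v + z.1 v) = (2 : ZMod p) • v by module, inv_smul_smul₀ h2]
    · rw [eq_bot_iff]
      rintro w ⟨hw, hwX⟩
      refine hhalf ⊥ w ?_
      have h1 := ((hW w).1 hw).symm.trans (h.fixX _ z.2 w hwX)
      rw [Submodule.mem_bot, two_smul]
      exact add_eq_zero_iff_eq_neg.2 h1.symm
    · refine le_antisymm (sup_le hWY h.le) fun y hy => ?_
      refine Submodule.mem_sup.2 ⟨(2 : ZMod p)⁻¹ • (y - z.1 y), (hW _).2 ?_,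
        (2 : ZMod p)⁻¹ • (z.1 y + y), X.smul_mem _ (hzy y hy), ?_⟩
      · rw [map_smul, map_sub, hz2]; module
      · rw [← smul_add, show y - z.1 y + (z.1 y + y) = (2 : ZMod p) • y by module, inv_smul_smul₀ h2]
    · intro k hk
      rw [hSK] at hk
      induction hk using Subgroup.closure_induction with
      | mem x hx =>
        intro c hc
        obtain ⟨a, φ, h0, hxx⟩ := hS x hx
        have hxK : x ∈ K := hSK ▸ Subgroup.subset_closure hx
        by_contra hne
        rw [hxx, add_eq_left, smul_eq_zero] at hne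
        push Not at hne
        have h1 : φ c • a ∈ C := by
          have h3 : x c - c ∈ C := C.sub_mem ((hC _).2 (by rw [hzc x hxK, (hC c).1 hc])) hc
          rwa [hxx, add_sub_cancel_left] at h3
        have h3 : φ c • a ∈ Y := by
          have := h.intoY x hxK c
          rwa [hxx, add_sub_cancel_left] at this
        have ha : a ∈ X := (X.smul_mem_iff hne.1).1 (hCY _ h1 h3)
        have := h.faithful x hxK fun y _ => by rw [hxx, add_sub_cancel_left]; exact X.smul_mem _ ha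
        have h4 := hxx c
        rw [this] at h4
        exact smul_ne_zero hne.1 hne.2 (left_eq_add.1 h4)
      | one => intro c _; rfl
      | mul x y _ _ hx hy => intro c hc; exact (congrArg x (hy c hc)).trans (hx c hc)
      | inv x _ hx => intro c hc; exact x.symm_apply_eq.2 (hx c hc).symm
    · intro g hg w hw
      exact (hW _).2 (by rw [hzc g hg, (hW w).1 hw, map_neg])

end CfsgLib.ThreeTransp.McL
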