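import Cfsg.Agent.Lib.ThreeTransp.MonsterTypePlus
import Cfsg.Agent.Lib.ThreeTransp.CentralPair
import Cfsg.Agent.Lib.ThreeTransp.LargeSimple
import Cfsg.Agent.Lib.Components.FStar
import Cfsg.Agent.Lib.Spor.LeechShortStab

/-!
The classes of the centralizer on the extraspecial group in a group of Monster type: the conjugates
of the central involution are the lifts of the classes of norm 64, the other involutions those of
the classes of norm 32.
-/

set_option autoImplicit false

namespace CfsgLib.ThreeTransp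

open Cfsg CfsgLib.Spor
open CfsgLib.ThreeTransp.LeechSingular (evenSub)
open CfsgLib.ThreeTransp.CoReduce (bigE)

/-- The centralizer of an element of an extraspecial subgroup has index at most two in it. -/
theorem XCent.card_le_two_mul {G : Type*} [Group G] [Finite G] {P : Subgroup G} {x y : G}
    (h : XCent P x) (hy : y ∈ P) :
    Nat.card P ≤ 2 * Nat.card ↥(P ⊓ Subgroup.centralizer ({y} : Set G)) := by
  classical
  obtain ⟨p1, hp1, hp1'⟩ : ∃ p1 ∈ P, ∀ p ∈ P, p ∈ P ⊓ Subgroup.centralizer ({y} : Set G) ∨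
      p1⁻¹ * p ∈ P ⊓ Subgroup.centralizer ({y} : Set G) := by
    by_cases hex : ∃ p ∈ P, p * y * p⁻¹ = x * y
    · obtain ⟨p1, hp1, hp1'⟩ := hex
      refine ⟨p1, hp1, fun p hp => ?_⟩
      rcases h.commEl p hp y hy with hh | hh
      · exact Or.inl ⟨hp, Subgroup.mem_centralizer_singleton_iff.2 (mul_inv_eq_iff_eq_mul.1 hh)⟩
      · refine Or.inr ⟨P.mul_mem (P.inv_mem hp1) hp, Subgroup.mem_centralizer_singleton_iff.2 ?_⟩
        rw [← hp1', mul_inv_eq_iff_eq_mul] at hh
        rw [mul_assoc, hh]; group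
    · push Not at hex
      refine ⟨1, one_mem P, fun p hp => Or.inl ⟨hp, Subgroup.mem_centralizer_singleton_iff.2 ?_⟩⟩
      exact mul_inv_eq_iff_eq_mul.1 ((h.commEl p hp y hy).resolve_right (hex p hp))
  have := Nat.card_le_card_of_surjective
    (fun s : Bool × ↥(P ⊓ Subgroup.centralizer ({y} : Set G)) =>
      (⟨(if s.1 then p1 else 1) * (s.2 : G),
        mul_mem (by split_ifs <;> [exact hp1; exact one_mem P]) s.2.2.1⟩ : P)) (fun p => by
      rcases hp1' p p.2 with hd | hd
      · exact ⟨(false, ⟨p, hd⟩), Subtype.ext (by simp)⟩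
      · exact ⟨(true, ⟨_, hd⟩), Subtype.ext (by simp)⟩)
  rwa [Nat.card_prod, Nat.card_eq_fintype_card (α := Bool), Fintype.card_bool] at this

/-- A group of Monster type together with its lattice identification. -/
structure MonsterFrame {G : Type*} [Group G] (z : G)
    (Q : Subgroup (Subgroup.centralizer ({z} : Set G))) [Q.Normal]
    (e : (Subgroup.centralizer ({z} : Set G)) ⧸ Q ≃* Spor.Co1)
    (ψ : leechLattice → Q ⧸ Subgroup.center Q) : Prop where
  setting : IsExtraspecialCentralizerSetting z Q 12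
  iso : IsLeechModTwoIso Q e ψ

namespace MonsterFrame

variable {G : Type*} [Group G] {z : G}
  {Q : Subgroup (Subgroup.centralizer ({z} : Set G))} [Q.Normal]
  {e : (Subgroup.centralizer ({z} : Set G)) ⧸ Q ≃* Spor.Co1}
  {ψ : leechLattice → Q ⧸ Subgroup.center Q}

/-- the subgroup `Q` as a subgroup of `G` -/
abbrev qImage (Q : Subgroup (Subgroup.centralizer ({z} : Set G))) : Subgroup G :=
  Q.map (Subgroup.centralizer ({z} : Set G)).subtype

/-- the underlying element of `G` -/
abbrev up (x : Q) : G := ((x : Subgroup.centralizer ({z} : Set G)) : G)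

theorem up_mul (x y : Q) : up (x * y) = up x * up y := rfl

theorem up_inj {x y : Q} (h : up x = up y) : x = y := Subtype.ext (Subtype.ext h)

variable [Finite G] (M : MonsterFrame z Q e ψ)
include M

theorem z_mem : ∃ h : z ∈ Subgroup.centralizer ({z} : Set G),
    (⟨z, h⟩ : Subgroup.centralizer ({z} : Set G)) ∈ Q := by
  refine ⟨Subgroup.mem_centralizer_singleton_iff.2 rfl, ?_⟩
  conv_lhs => rw [← M.setting.2.1]
  refine CfsgLib.Components.centralizer_fstar_le (Subgroup.mem_centralizer_iff.2 fun y _ => ?_)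
  exact Subtype.ext (Subgroup.mem_centralizer_singleton_iff.1 y.2)

theorem xcent : XCent (qImage Q) z := by
  have hz := M.setting.1
  obtain ⟨hzc, hzQ⟩ := M.z_mem
  refine xCent_mk (extraspecial_map M.setting.2.2.1) (fun c hc => ?_)
    (mem_centerIn.2 ⟨⟨_, hzQ, rfl⟩, ?_⟩) (CfsgLib.Involutions.invol_ne_one hz) ?_
  · have hcz : c ∈ Subgroup.centralizer ({z} : Set G) :=
      Subgroup.mem_centralizer_singleton_iff.2
        (Subgroup.mem_centralizer_iff.1 hc z ⟨_, hzQ, rfl⟩).symm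
    refine ⟨⟨c, hcz⟩, ?_, rfl⟩
    conv_lhs => rw [← M.setting.2.1]
    refine CfsgLib.Components.centralizer_fstar_le (Subgroup.mem_centralizer_iff.2 fun y hy => ?_)
    exact Subtype.ext (Subgroup.mem_centralizer_iff.1 hc _ ⟨y, M.setting.2.1.le hy, rfl⟩)
  · rintro _ ⟨y, -, rfl⟩
    exact Subgroup.mem_centralizer_singleton_iff.1 y.2
  · intro c hc
    refine Subgroup.mem_normalizer_iff.2 fun y => ⟨?_, fun h => ?_⟩
    · rintro ⟨w, hw, rfl⟩
      exact ⟨⟨c, hc⟩ * w * ⟨c, hc⟩⁻¹, Subgroup.Normal.conj_mem inferInstance w hw _, rfl⟩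
    · obtain ⟨w, hw, hwe⟩ := h
      refine ⟨⟨c, hc⟩⁻¹ * w * ⟨c, hc⟩,
        Subgroup.Normal.conj_mem' inferInstance w hw _, ?_⟩
      show c⁻¹ * (w : G) * c = y
      rw [show (w : G) = c * y * c⁻¹ from hwe]; group

theorem mem_QG (x : Q) : up x ∈ (qImage Q) := ⟨_, x.2, rfl⟩

theorem center_cases {x : Q} (hx : x ∈ Subgroup.center Q) : up x = 1 ∨ up x = z :=
  M.xcent.center _ (M.mem_QG x) fun q hq => by
    obtain ⟨w, hw, rfl⟩ := hq
    exact congrArg (fun t : Q => up t) (Subgroup.mem_center_iff.1 hx ⟨w, hw⟩)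

theorem mem_center_of {x : Q} (hx : up x = 1 ∨ up x = z) : x ∈ Subgroup.center Q := by
  rw [Subgroup.mem_center_iff]
  intro y
  apply up_inj
  show up y * up x = up x * up y
  rcases hx with h | h <;> rw [h]
  · simp
  · exact Subgroup.mem_centralizer_singleton_iff.1 (y : Subgroup.centralizer ({z} : Set G)).2

theorem psi_zero : ψ 0 = 1 := (M.iso.2.2.1 0).2 ⟨0, (add_zero _).symm⟩

theorem psi_neg (v : leechLattice) : ψ (-v) = (ψ v)⁻¹ :=
  eq_inv_of_mul_eq_one_left (by rw [← M.iso.1, neg_add_cancel, M.psi_zero])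

theorem psi_congr {v w u : leechLattice} (h : v = w + (u + u)) : ψ v = ψ w := by
  rw [h, M.iso.1, (M.iso.2.2.1 (u + u)).2 ⟨u, rfl⟩, mul_one]

theorem psi_ne_one {v : leechLattice} {n : ℤ} (hn : n = 32 ∨ n = 48 ∨ n = 64)
    (hv : sqNorm (v : GolayPt → ℤ) = n) : ψ v ≠ 1 := by
  intro h
  obtain ⟨w, hw⟩ := (M.iso.2.2.1 v).1 h
  have h' := short_classes (v := (v : GolayPt → ℤ)) (w := 0) (zero_mem _) (by omega)
    (by simp [sqNorm]) ⟨w, w.2, by rw [sub_zero, hw, AddSubgroup.coe_add, two_nsmul]⟩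
  rw [hv] at h'
  have h0 : sqNorm (0 : GolayPt → ℤ) = 0 := by simp [sqNorm]
  omega

theorem noncentral {v : leechLattice} {n : ℤ} (hn : n = 32 ∨ n = 48 ∨ n = 64)
    (hv : sqNorm (v : GolayPt → ℤ) = n) {x : Q} (hx : ψ v = QuotientGroup.mk x) :
    x ∉ Subgroup.center Q := fun h =>
  M.psi_ne_one hn hv (hx.trans ((QuotientGroup.eq_one_iff x).2 h))

theorem exists_type {x : Q} (hx : x ∉ Subgroup.center Q) :
    ∃ n : ℤ, (n = 32 ∨ n = 48 ∨ n = 64) ∧ ∃ v : leechLattice,
      sqNorm (v : GolayPt → ℤ) = n ∧ ψ v = QuotientGroup.mk x := by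
  obtain ⟨v0, hv0⟩ := M.iso.2.1 (QuotientGroup.mk x)
  obtain ⟨y, hy, hy64, t, ht, hd⟩ := modTwo_rep v0.2
  have he : ψ v0 = ψ ⟨y, hy⟩ := M.psi_congr (u := ⟨t, ht⟩) (Subtype.ext (by
    simp only [AddSubgroup.coe_add]
    rw [← two_nsmul, ← hd]; abel))
  have hy0 : y ≠ 0 := by
    rintro rfl
    refine hx ((QuotientGroup.eq_one_iff x).1 ?_)
    rw [← hv0, he]
    exact M.psi_zero
  have := min_norm hy hy0
  have := sixteen_dvd_sqNorm hy
  exact ⟨sqNorm y, by omega, ⟨y, hy⟩, rfl, he.symm.trans hv0⟩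

/-- Elements of the centralizer lifting an automorphism of the lattice, with prescribed image. -/
theorem exists_lift {g : Co0} {v : leechLattice} {x y : Q} (hx : x ∉ Subgroup.center Q)
    (hv : ψ v = QuotientGroup.mk x) (hw : ψ (g • v) = QuotientGroup.mk y) :
    ∃ h : Subgroup.centralizer ({z} : Set G),
      (QuotientGroup.mk g : Spor.Co1) = e (QuotientGroup.mk h) ∧
      (h : G) * up x * (h : G)⁻¹ = up y := by
  classical
  obtain ⟨h0, hh0⟩ := QuotientGroup.mk_surjective (e.symm (QuotientGroup.mk g))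
  have hg : (QuotientGroup.mk g : Spor.Co1) = e (QuotientGroup.mk h0) := by
    rw [hh0, e.apply_symm_apply]
  let y' : Q := ⟨h0 * x * h0⁻¹, (inferInstance : Q.Normal).conj_mem _ x.2 h0⟩
  have hyy : (QuotientGroup.mk y' : Q ⧸ Subgroup.center Q) = QuotientGroup.mk y :=
    (M.iso.2.2.2 h0 g hg v x hv).symm.trans hw
  have hcases := M.center_cases (QuotientGroup.eq.1 hyy)
  have hy' : up y' = (h0 : G) * up x * (h0 : G)⁻¹ := rfl
  rcases hcases with h1 | h1
  · refine ⟨h0, hg, ?_⟩
    rw [← hy']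
    have : (up y')⁻¹ * up y = 1 := h1
    exact inv_mul_eq_one.1 this
  · obtain ⟨p, hp⟩ : ∃ p : Q, up p * up y' * (up p)⁻¹ = z * up y' := by
      by_contra hno
      push Not at hno
      have hy'' : y' ∈ Subgroup.center Q := Subgroup.mem_center_iff.2 fun q => by
        rcases M.xcent.commEl _ (M.mem_QG q) _ (M.mem_QG y') with hh | hh
        · exact up_inj (mul_inv_eq_iff_eq_mul.1 hh)
        · exact absurd hh (hno q)
      refine hx (Subgroup.mem_center_iff.2 fun q => ?_)
      have := Subgroup.mem_center_iff.1 hy''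
        ⟨h0 * q * h0⁻¹, (inferInstance : Q.Normal).conj_mem _ q.2 h0⟩
      apply up_inj
      have h2 : ((h0 : G) * up q * (h0 : G)⁻¹) * ((h0 : G) * up x * (h0 : G)⁻¹) =
          ((h0 : G) * up x * (h0 : G)⁻¹) * ((h0 : G) * up q * (h0 : G)⁻¹) :=
        congrArg (fun t : Q => up t) this
      have h3 := congrArg (fun t => (h0 : G)⁻¹ * t * h0) h2
      simp [mul_assoc] at h3
      exact h3
    refine ⟨(p : Subgroup.centralizer ({z} : Set G)) * h0, ?_, ?_⟩
    · rw [QuotientGroup.mk_mul, (QuotientGroup.eq_one_iff _).2 p.2, one_mul, hg]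
    · have h2 : up y = z * up y' := by
        have h3 : (up y')⁻¹ * up y = z := h1
        rw [inv_mul_eq_iff_eq_mul] at h3
        rw [h3]
        exact Subgroup.mem_centralizer_singleton_iff.1
          (y' : Subgroup.centralizer ({z} : Set G)).2
      rw [h2, ← hp, hy']
      show up p * (h0 : G) * up x * (up p * (h0 : G))⁻¹ = _
      group

/-- Lifts of vectors of equal norm are conjugate in the centralizer. -/
theorem exists_conj {n : ℤ} (hn : n = 32 ∨ n = 48 ∨ n = 64) {v w : leechLattice}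
    (hv : sqNorm (v : GolayPt → ℤ) = n) (hw : sqNorm (w : GolayPt → ℤ) = n) {x y : Q}
    (hx : ψ v = QuotientGroup.mk x) (hy : ψ w = QuotientGroup.mk y) :
    ∃ h ∈ Subgroup.centralizer ({z} : Set G), h * up x * h⁻¹ = up y := by
  obtain ⟨g, rfl⟩ := exists_map hn v w hv hw
  obtain ⟨h, -, hh⟩ := M.exists_lift (M.noncentral hn hv hx) hx hy
  exact ⟨h, h.2, hh⟩

omit M in
theorem conj_sq {h a b : G} (hab : h * a * h⁻¹ = b) (ha : a * a = 1) : b * b = 1 := by
  rw [← hab, show h * a * h⁻¹ * (h * a * h⁻¹) = h * (a * a) * h⁻¹ by group, ha]; group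

theorem sq_eq_one {n : ℤ} (hn : n = 32 ∨ n = 64) {v : leechLattice}
    (hv : sqNorm (v : GolayPt → ℤ) = n) {x : Q} (hx : ψ v = QuotientGroup.mk x) :
    up x * up x = 1 := by
  obtain ⟨w, hw, hwe⟩ : ∃ w : leechLattice, sqNorm (w : GolayPt → ℤ) = n ∧ w ∈ evenSub := by
    rcases hn with rfl | rfl
    · exact ⟨shortV, sqNorm_shortV, AddSubgroup.mem_addSubgroupOf.2 ⟨shortV.2,
        (show ∀ i, (2 : ℤ) ∣ (shortV : GolayPt → ℤ) i ∧
          (4 : ℤ) ∣ (shortV : GolayPt → ℤ) i - (shortV : GolayPt → ℤ) none by decide +kernel)⟩⟩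
    · exact ⟨bigE none, sqNorm_bigE none,
        AddSubgroup.mem_addSubgroupOf.2 ⟨(bigE none).2,
          (show ∀ i, (2 : ℤ) ∣ (bigE none : GolayPt → ℤ) i ∧
            (4 : ℤ) ∣ (bigE none : GolayPt → ℤ) i - (bigE none : GolayPt → ℤ) none by decide +kernel)⟩⟩
  obtain ⟨y, hy⟩ := QuotientGroup.mk_surjective (ψ w)
  obtain ⟨h, -, hh⟩ := M.exists_conj (by omega) hw hv hy.symm hx
  exact conj_sq hh
    (congrArg (fun t : Q => up t) (monster_type_even_sq Q M.setting.2.2.1 M.iso hwe hy.symm))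

theorem sq_ne_one {v : leechLattice} (hv : sqNorm (v : GolayPt → ℤ) = 48) {x : Q}
    (hx : ψ v = QuotientGroup.mk x) : up x * up x ≠ 1 := by
  intro h1
  have hall : ∀ q : Q, q * q = 1 := fun q => by
    apply up_inj
    show up q * up q = 1
    by_cases hq : q ∈ Subgroup.center Q
    · rcases M.center_cases hq with h | h <;> rw [h]
      · exact one_mul 1
      · exact M.xcent.inv
    obtain ⟨n, hn, w, hw, hwq⟩ := M.exists_type hq
    rcases hn with rfl | rfl | rfl
    · exact M.sq_eq_one (Or.inl rfl) hw hwq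
    · obtain ⟨h, -, hh⟩ := M.exists_conj (by omega) hv hw hx hwq
      exact conj_sq hh h1
    · exact M.sq_eq_one (Or.inr rfl) hw hwq
  have hinv : ∀ q : Q, q⁻¹ = q := fun q => inv_eq_of_mul_eq_one_right (hall q)
  have htop : Subgroup.center Q = ⊤ := by
    rw [eq_top_iff]
    exact fun q _ => Subgroup.mem_center_iff.2 fun r => by
      rw [← hinv (r * q), mul_inv_rev, hinv, hinv]
  have := M.setting.2.2.1.2
  rw [htop, Subgroup.card_top, M.setting.2.2.2.1] at this
  norm_num at this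

theorem short_not_conj {x : Q} (hx : ψ shortV = QuotientGroup.mk x) : ¬ IsConj z (up x) := by
  classical
  intro hconj
  obtain ⟨g, hg⟩ := isConj_iff.1 hconj
  have hxz := M.noncentral (Or.inl rfl) sqNorm_shortV hx
  have h := M.xcent
  have h' : XCent ((qImage Q).map (MulAut.conj g).toMonoidHom) (up x) := hg ▸ h.conj g
  have hzP : z ∈ (qImage Q).map (MulAut.conj g).toMonoidHom := h.mem_conj g (hg.symm ▸ M.mem_QG x)
  have hcardQ : Nat.card (qImage Q) = 2 ^ 25 := by
    rw [Subgroup.card_map_of_injective (Subgroup.subtype_injective _), M.setting.2.2.2.1]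
  have hPcard : Nat.card ((qImage Q).map (MulAut.conj g).toMonoidHom) = 2 ^ 25 := by
    rw [Subgroup.card_map_of_injective (MulAut.conj g).injective, hcardQ]
  generalize hP : (qImage Q).map (MulAut.conj g).toMonoidHom = P at h' hzP hPcard
  have hxP : up x ∈ P := h'.mem
  -- the intersection in the lattice
  let U : AddSubgroup leechLattice :=
    { carrier := {v | ∃ q : Q, up q ∈ P ∧ ψ v = QuotientGroup.mk q}
      zero_mem' := ⟨1, one_mem P, M.psi_zero⟩
      add_mem' := by
        rintro a b ⟨q, hq, ha⟩ ⟨r, hr, hb⟩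
        exact ⟨q * r, mul_mem hq hr, by rw [M.iso.1, ha, hb, QuotientGroup.mk_mul]⟩
      neg_mem' := by
        rintro a ⟨q, hq, ha⟩
        exact ⟨q⁻¹, inv_mem hq, by rw [M.psi_neg, ha, QuotientGroup.mk_inv]⟩ }
  have hU : ShortStabInv U := by
    refine ⟨⟨⟨x, hxP, hx⟩, fun w => ⟨1, one_mem P, (M.iso.2.2.1 _).2 ⟨w, rfl⟩⟩, ?_⟩, ?_⟩
    · rintro g' hg' u ⟨q, hq, hu⟩
      have hfix : ψ (g' • shortV) = QuotientGroup.mk x := by
        rcases hg' with e1 | e1
        · rw [e1, hx]
        · rw [e1, ← hx]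
          exact M.psi_congr (u := -shortV) (by abel)
      obtain ⟨h₁, hh, hhx⟩ := M.exists_lift hxz hx hfix
      refine ⟨⟨h₁ * q * h₁⁻¹, (inferInstance : Q.Normal).conj_mem _ q.2 h₁⟩, ?_,
        M.iso.2.2.2 h₁ g' hh u q hu⟩
      exact h'.norm (h₁ : G) (mul_inv_eq_iff_eq_mul.1 hhx) _ hq
    · rintro u ⟨q, hq, hu⟩
      have hq1 : up q * up q = 1 := by
        rcases h.sq _ (M.mem_QG q) with h1 | h1
        · exact h1
        rcases h'.sq _ hq with h2 | h2
        · exact h2
        exact absurd (M.mem_center_of (Or.inr (h2.symm.trans h1))) hxz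
      have hdvd : ∀ y : leechLattice, ψ u = ψ y → (32 : ℤ) ∣ sqNorm (y : GolayPt → ℤ) →
          (32 : ℤ) ∣ sqNorm (u : GolayPt → ℤ) := by
        intro y hy hy32
        have h1 : ψ (u - y) = 1 := by rw [sub_eq_add_neg, M.iso.1, M.psi_neg, hy, mul_inv_cancel]
        obtain ⟨w, hw⟩ := (M.iso.2.2.1 _).1 h1
        have hu' : (u : GolayPt → ℤ) = (y : GolayPt → ℤ) + 2 • (w : GolayPt → ℤ) := by
          have := congrArg Subtype.val hw
          rw [AddSubgroup.coe_sub, AddSubgroup.coe_add, ← two_nsmul] at this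
          rw [← this]; abel
        have hdot : dotInt (y : GolayPt → ℤ) (2 • (w : GolayPt → ℤ)) =
            2 * dotInt (y : GolayPt → ℤ) (w : GolayPt → ℤ) := by
          simp only [dotInt, Finset.mul_sum]
          exact Finset.sum_congr rfl fun i _ => by simp; ring
        rw [hu', (sqNorm_add_sub _ _).2, sqNorm_two_smul, hdot]
        have h2 := (sqNorm_add_sub (y : GolayPt → ℤ) (w : GolayPt → ℤ)).2
        have := sixteen_dvd_sqNorm y.2
        have := sixteen_dvd_sqNorm w.2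
        have := sixteen_dvd_sqNorm (AddSubgroup.add_mem _ y.2 w.2)
        omega
      by_cases hqc : q ∈ Subgroup.center Q
      · refine hdvd 0 ?_ (by simp [sqNorm])
        rw [hu, M.psi_zero, (QuotientGroup.eq_one_iff q).2 hqc]
      obtain ⟨n, hn, y, hy, hyq⟩ := M.exists_type hqc
      refine hdvd y (hu.trans hyq.symm) ?_
      rcases hn with rfl | rfl | rfl
      · rw [hy]
      · exact absurd hq1 (M.sq_ne_one hy hyq)
      · rw [hy]; norm_num
  -- hence at most four elements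
  have hI : ∀ a, a ∈ (qImage Q) → a ∈ P → a ∈ ({1, z, up x, z * up x} : Finset G) := by
    rintro _ ⟨w, hw, rfl⟩ haP
    obtain ⟨v, hv⟩ := M.iso.2.1 (QuotientGroup.mk (⟨w, hw⟩ : Q))
    obtain ⟨t, ht⟩ := hU.eq_pair (x := v) ⟨⟨w, hw⟩, haP, hv⟩
    rcases ht with rfl | rfl
    · rw [(M.iso.2.2.1 (t + t)).2 ⟨t, rfl⟩] at hv
      rcases M.center_cases ((QuotientGroup.eq_one_iff _).1 hv.symm) with h1 | h1 <;>
        · simp only [Finset.mem_insert, Finset.mem_singleton]
          first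
            | exact Or.inl h1
            | exact Or.inr (Or.inl h1)
    · rw [M.psi_congr (u := t) rfl, hx] at hv
      simp only [Finset.mem_insert, Finset.mem_singleton]
      rcases M.center_cases (QuotientGroup.eq.1 hv) with h1 | h1
      · exact Or.inr (Or.inr (Or.inl (inv_mul_eq_one.1 h1).symm))
      · refine Or.inr (Or.inr (Or.inr ?_))
        have h3 : (up x)⁻¹ * (w : G) = z := h1
        rw [inv_mul_eq_iff_eq_mul] at h3
        show (w : G) = _
        rw [h3]
        exact Subgroup.mem_centralizer_singleton_iff.1 (x : Subgroup.centralizer ({z} : Set G)).2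
  -- the centralizer of z in P maps into the quotient
  let D : Subgroup G := P ⊓ Subgroup.centralizer ({z} : Set G)
  let f : D →* (Subgroup.centralizer ({z} : Set G)) ⧸ Q :=
    (QuotientGroup.mk' Q).comp (Subgroup.inclusion inf_le_right)
  have hker : Nat.card f.ker ≤ 4 := by
    refine le_trans (Nat.card_le_card_of_injective
      (fun a : f.ker => (⟨((a : D) : G), ?_⟩ : ({1, z, up x, z * up x} : Finset G))) ?_) ?_
    · refine hI _ ?_ a.1.2.1
      exact ⟨_, (QuotientGroup.eq_one_iff _).1 a.2, rfl⟩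
    · intro a b hab
      exact Subtype.ext (Subtype.ext (congrArg (fun t : ({1, z, up x, z * up x} : Finset G) => (t : G)) hab))
    · rw [Nat.card_eq_finsetCard]
      exact Finset.card_le_four
  have hD : Nat.card P ≤ 2 * Nat.card D := h'.card_le_two_mul hzP
  have hDdvd : Nat.card f.range ∣ 2 ^ 25 :=
    (Subgroup.card_range_dvd f).trans (hPcard ▸ Subgroup.card_dvd_of_le inf_le_left)
  obtain ⟨k, -, hk⟩ := (Nat.dvd_prime_pow Nat.prime_two).1 hDdvd
  have hco : Nat.card f.range ∣ 4157776806543360000 := by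
    have := Subgroup.card_subgroup_dvd_card f.range
    rwa [Nat.card_congr e.toEquiv, natCard_co1] at this
  have hk21 : k ≤ 21 := by
    by_contra hk'
    have h22 : 2 ^ 22 ∣ (4157776806543360000 : ℕ) :=
      (pow_dvd_pow 2 (show 22 ≤ k by omega)).trans (hk ▸ hco)
    norm_num at h22
  have hDle : Nat.card D ≤ 4 * 2 ^ 21 := by
    rw [← Subgroup.card_mul_index f.ker, Subgroup.index_ker]
    refine Nat.mul_le_mul hker ?_
    rw [hk]
    exact Nat.pow_le_pow_right (by norm_num) hk21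
  rw [hPcard] at hD
  omega

/-- A conjugate of `z` in `Q` other than `z` lifts a class of norm 64. -/
theorem exists_norm64_of_conj {x : Q} (hx : IsConj z (up x)) (hne : up x ≠ z) :
    ∃ v : leechLattice, sqNorm (v : GolayPt → ℤ) = 64 ∧ ψ v = QuotientGroup.mk x := by
  obtain ⟨g, hg⟩ := isConj_iff.1 hx
  have hx1 : up x * up x = 1 := conj_sq hg M.xcent.inv
  have hxc : x ∉ Subgroup.center Q := by
    intro hc
    rcases M.center_cases hc with h | h
    · exact M.xcent.ne_one (conj_eq_one_iff.1 (hg.trans h))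
    · exact hne h
  obtain ⟨n, hn, v, hv, hvx⟩ := M.exists_type hxc
  rcases hn with rfl | rfl | rfl
  · exfalso
    obtain ⟨y, hy⟩ := QuotientGroup.mk_surjective (ψ shortV)
    obtain ⟨h, -, hh⟩ := M.exists_conj (Or.inl rfl) hv sqNorm_shortV hvx hy.symm
    exact M.short_not_conj hy.symm (hx.trans (isConj_iff.2 ⟨h, hh⟩))
  · exact absurd hx1 (M.sq_ne_one hv hvx)
  · exact ⟨v, hv, hvx⟩

theorem norm64_iff (x : Q) : (IsConj z (up x) ∧ up x ≠ z) ↔
    ∃ v : leechLattice, sqNorm (v : GolayPt → ℤ) = 64 ∧ ψ v = QuotientGroup.mk x := by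
  refine ⟨fun h => M.exists_norm64_of_conj h.1 h.2, ?_⟩
  rintro ⟨v, hv, hvx⟩
  obtain ⟨g, ⟨hq, hqQ⟩, hgne⟩ := M.setting.2.2.2.2
  have hconj : IsConj z (up (⟨⟨_, hq⟩, hqQ⟩ : Q)) := isConj_iff.2 ⟨g, rfl⟩
  obtain ⟨w, hw, hwy⟩ := M.exists_norm64_of_conj hconj hgne
  obtain ⟨h, -, hh⟩ := M.exists_conj (Or.inr (Or.inr rfl)) hw hv hwy hvx
  refine ⟨hconj.trans (isConj_iff.2 ⟨h, hh⟩), fun he => ?_⟩
  exact M.noncentral (Or.inr (Or.inr rfl)) hv hvx (M.mem_center_of (Or.inr he))

theorem transitive_conjugates (x y : Q) (hx : IsConj z (up x)) (hy : IsConj z (up y))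
    (hx1 : up x ≠ z) (hy1 : up y ≠ z) :
    ∃ h ∈ Subgroup.centralizer ({z} : Set G), h * up x * h⁻¹ = up y := by
  obtain ⟨v, hv, hvx⟩ := M.exists_norm64_of_conj hx hx1
  obtain ⟨w, hw, hwy⟩ := M.exists_norm64_of_conj hy hy1
  exact M.exists_conj (Or.inr (Or.inr rfl)) hv hw hvx hwy

theorem norm32_of_involution {x : Q} (h2 : orderOf (up x) = 2) (hn : ¬ IsConj z (up x)) :
    ∃ v : leechLattice, sqNorm (v : GolayPt → ℤ) = 32 ∧ ψ v = QuotientGroup.mk x := by
  have hxc : x ∉ Subgroup.center Q := by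
    intro hc
    rcases M.center_cases hc with h | h
    · rw [h, orderOf_one] at h2; omega
    · exact hn (by simp only [h]; exact IsConj.refl z)
  obtain ⟨n, hn', v, hv, hvx⟩ := M.exists_type hxc
  rcases hn' with rfl | rfl | rfl
  · exact ⟨v, hv, hvx⟩
  · exact absurd (CfsgLib.Involutions.invol_mul_self h2) (M.sq_ne_one hv hvx)
  · exact absurd ((M.norm64_iff x).2 ⟨v, hv, hvx⟩).1 hn

theorem transitive_involutions (x y : Q) (hx : orderOf (up x) = 2) (hy : orderOf (up y) = 2)
    (hx1 : ¬ IsConj z (up x)) (hy1 : ¬ IsConj z (up y)) :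
    ∃ h ∈ Subgroup.centralizer ({z} : Set G), h * up x * h⁻¹ = up y := by
  obtain ⟨v, hv, hvx⟩ := M.norm32_of_involution hx hx1
  obtain ⟨w, hw, hwy⟩ := M.norm32_of_involution hy hy1
  exact M.exists_conj (Or.inl rfl) hv hw hvx hwy

end MonsterFrame

end CfsgLib.ThreeTransp
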