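import Cfsg.Agent.Lib.ThreeTransp.MonsterTypeClasses
import Cfsg.Agent.Lib.Spor.MathieuSimple
import Cfsg.Agent.Lib.PGroups.Extraspecial

/-!
In a group of Monster type a conjugate of `z` in `Q` lifts a frame, whose stabilizer is `2^11 : M24`.
-/

set_option autoImplicit false
set_option linter.unusedSectionVars false

namespace CfsgLib.ThreeTransp.MonsterFrame

open Cfsg CfsgLib.Spor
open CfsgLib.ThreeTransp.CoReduce (bigE)
open scoped Pointwise symmDiff

variable {G : Type*} [Group G] [Finite G] {z : G}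
  {Q : Subgroup (Subgroup.centralizer ({z} : Set G))} [Q.Normal]
  {e : (Subgroup.centralizer ({z} : Set G)) ⧸ Q ≃* Spor.Co1}
  {ψ : leechLattice → Q ⧸ Subgroup.center Q} (M : MonsterFrame z Q e ψ)
include M

/-- Change of the identification by a lattice automorphism. -/
theorem twist (g₀ : Co0) :
    MonsterFrame z Q (e.trans (MulAut.conj (QuotientGroup.mk g₀ : Spor.Co1)⁻¹))
      (fun v => ψ (g₀ • v)) := by
  refine ⟨M.setting, fun v w => ?_, fun y => ?_, fun v => ?_, fun h g hg v q hq => ?_⟩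
  · show ψ (g₀ • (v + w)) = _
    rw [coe_smul_add, M.iso.1]
  · obtain ⟨v, hv⟩ := M.iso.2.1 y
    exact ⟨g₀⁻¹ • v, by show ψ (g₀ • g₀⁻¹ • v) = y; rw [smul_inv_smul, hv]⟩
  · show ψ (g₀ • v) = 1 ↔ _
    rw [M.iso.2.2.1]
    refine ⟨fun ⟨w, hw⟩ => ⟨g₀⁻¹ • w, ?_⟩, fun ⟨w, hw⟩ => ⟨g₀ • w, ?_⟩⟩
    · rw [← coe_smul_add, ← hw, inv_smul_smul]
    · rw [hw, coe_smul_add]
  · have hg' : (QuotientGroup.mk (g₀ * g * g₀⁻¹) : Spor.Co1) = e (QuotientGroup.mk h) := by
      rw [QuotientGroup.mk_mul, QuotientGroup.mk_mul, QuotientGroup.mk_inv, hg]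
      simp [mul_assoc]
    have := M.iso.2.2.2 h (g₀ * g * g₀⁻¹) hg' (g₀ • v) q hq
    rw [mul_smul, mul_smul, inv_smul_smul] at this
    exact this

/-- The stabilizer of a frame element, and the image of the other extraspecial group. -/
theorem frame_structure {x : Q} (hx : ψ eTop = QuotientGroup.mk x) {g : G}
    (hg : g * z * g⁻¹ = up x)
    (X E : Subgroup ((Subgroup.centralizer ({z} : Set G)) ⧸ Q))
    (hX : X = ((Subgroup.centralizer ({z} : Set G) ⊓
      Subgroup.centralizer ({up x} : Set G)).subgroupOf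
        (Subgroup.centralizer ({z} : Set G))).map (QuotientGroup.mk' Q))
    (hE : E = (((qImage Q).map (MulAut.conj g).toMonoidHom ⊓
      Subgroup.centralizer ({z} : Set G)).subgroupOf
        (Subgroup.centralizer ({z} : Set G))).map (QuotientGroup.mk' Q)) :
    Nat.card ↥(qImage Q ⊓ (qImage Q).map (MulAut.conj g).toMonoidHom) = 2 ^ 13 ∧
    E ≤ X ∧ (∀ a ∈ X, ∀ b ∈ E, a * b * a⁻¹ ∈ E) ∧ IsElementaryAbelian 2 E ∧
    Nat.card E = 2 ^ 11 ∧
    ∃ K : Subgroup ((Subgroup.centralizer ({z} : Set G)) ⧸ Q),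
      K ≤ X ∧ E ⊓ K = ⊥ ∧ E ⊔ K = X ∧ Nonempty (K ≃* M24) := by
  classical
  have hxz := M.noncentral (Or.inr (Or.inr rfl)) (sqNorm_bigE none) hx
  have h := M.xcent
  have hcardQ : Nat.card (qImage Q) = 2 ^ 25 := by
    rw [Subgroup.card_map_of_injective (Subgroup.subtype_injective _), M.setting.2.2.2.1]
  have h' : XCent ((qImage Q).map (MulAut.conj g).toMonoidHom) (up x) := hg ▸ h.conj g
  have hzP : z ∈ (qImage Q).map (MulAut.conj g).toMonoidHom := h.mem_conj g (hg.symm ▸ M.mem_QG x)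
  have hPcard : Nat.card ((qImage Q).map (MulAut.conj g).toMonoidHom) = 2 ^ 25 := by
    rw [Subgroup.card_map_of_injective (MulAut.conj g).injective, hcardQ]
  generalize hP : (qImage Q).map (MulAut.conj g).toMonoidHom = P at h' hzP hPcard hE ⊢
  have hzx : up x ≠ z := fun he => hxz (M.mem_center_of (Or.inr he))
  -- the intersection is abelian
  have hQes : IsExtraspecial 2 ↥(qImage Q) := extraspecial_map M.setting.2.2.1
  have hIab : ∀ a ∈ qImage Q ⊓ P, ∀ b ∈ qImage Q ⊓ P, a * b = b * a := by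
    intro a ha b hb
    rcases h.commEl a ha.1 b hb.1 with h1 | h1
    · exact mul_inv_eq_iff_eq_mul.1 h1
    rcases h'.commEl a ha.2 b hb.2 with h2 | h2
    · exact mul_inv_eq_iff_eq_mul.1 h2
    exact absurd (mul_right_cancel (h2.symm.trans h1)) hzx
  have hIle : Nat.card ↥(qImage Q ⊓ P) ≤ 2 ^ 13 := by
    have hfact : Fact (Nat.Prime 2) := ⟨Nat.prime_two⟩
    rw [← Nat.card_congr (Subgroup.subgroupOfEquivOfLe (inf_le_left :
      qImage Q ⊓ P ≤ qImage Q)).toEquiv]
    refine CfsgLib.PGroups.Extraspecial.card_le_of_abelian hQes (n := 12) ?_ hcardQ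
    intro a ha b hb
    exact Subtype.ext (hIab _ hb _ ha)
  -- E and X
  have hEX : E ≤ X := by
    subst hE hX
    refine Subgroup.map_mono fun a ha => ⟨a.2, Subgroup.mem_centralizer_singleton_iff.2 ?_⟩
    exact h'.comm _ ha.1
  have hnorm : ∀ a ∈ X, ∀ b ∈ E, a * b * a⁻¹ ∈ E := by
    subst hE hX
    rintro _ ⟨a, ha, rfl⟩ _ ⟨b, hb, rfl⟩
    exact ⟨a * b * a⁻¹, ⟨h'.norm (a : G) (Subgroup.mem_centralizer_singleton_iff.1 ha.2) _ hb.1,
      (a * b * a⁻¹).2⟩, by rw [map_mul, map_mul, map_inv]⟩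
  have hxQ : ∀ a : G, a = 1 ∨ a = up x → ∀ ha : a ∈ Subgroup.centralizer ({z} : Set G),
      (⟨a, ha⟩ : Subgroup.centralizer ({z} : Set G)) ∈ Q := by
    rintro a (rfl | rfl) ha
    · exact one_mem Q
    · exact x.2
  have hEel : IsElementaryAbelian 2 E := by
    subst hE
    refine ⟨⟨⟨?_⟩⟩, ?_⟩
    · rintro ⟨_, a, ha, rfl⟩ ⟨_, b, hb, rfl⟩
      refine Subtype.ext ?_
      show QuotientGroup.mk' Q a * QuotientGroup.mk' Q b = _ * _
      rw [← map_mul, ← map_mul, QuotientGroup.mk'_apply, QuotientGroup.mk'_apply, QuotientGroup.eq]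
      have hc : ((b : G)⁻¹ * (a : G)⁻¹ * (b : G) * (a : G)) = 1 ∨
          ((b : G)⁻¹ * (a : G)⁻¹ * (b : G) * (a : G)) = up x := by
        have h0 : (b : G)⁻¹ * (a : G)⁻¹ * (b : G) * (a : G) =
            (b : G)⁻¹ * ((a : G)⁻¹ * (b : G) * ((a : G)⁻¹)⁻¹) := by simp [mul_assoc]
        rw [h0]
        rcases h'.commEl ((a : G)⁻¹) (inv_mem ha.1) (b : G) hb.1 with h1 | h1
        · left; rw [h1, inv_mul_cancel]
        · right
          rw [h1, ← mul_assoc, h'.comm ((b : G)⁻¹) (inv_mem hb.1), mul_assoc]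
          simp
      have key : ((a * b)⁻¹ * (b * a) : Subgroup.centralizer ({z} : Set G)) =
          ⟨(b : G)⁻¹ * (a : G)⁻¹ * (b : G) * (a : G),
            mul_mem (mul_mem (mul_mem (inv_mem b.2) (inv_mem a.2)) b.2) a.2⟩ :=
        Subtype.ext (by simp [mul_assoc])
      rw [key]
      exact hxQ _ hc _
    · rintro _ ⟨a, ha, rfl⟩
      rw [pow_two, ← map_mul, QuotientGroup.mk'_apply, QuotientGroup.eq_one_iff]
      exact hxQ _ (h'.sq _ ha.1) (a * a).2
  -- the stabilizer in the first Conway group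
  have hXto : ∀ k ∈ X, ∃ g' ∈ crossStab, (QuotientGroup.mk g' : Spor.Co1) = e k := by
    subst hX
    rintro _ ⟨a, ha, rfl⟩
    obtain ⟨g', hg'⟩ := QuotientGroup.mk_surjective (e (QuotientGroup.mk a))
    refine ⟨g', mem_crossStab_of_top ?_, hg'⟩
    have h1 := M.iso.2.2.2 a g' hg' eTop x hx
    have hax : (⟨a * x * a⁻¹, (inferInstance : Q.Normal).conj_mem _ x.2 a⟩ : Q) = x :=
      Subtype.ext (Subtype.ext (mul_inv_eq_iff_eq_mul.2
        (Subgroup.mem_centralizer_singleton_iff.1 ha.2)))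
    rw [hax, ← hx] at h1
    have h2 : ψ (g' • eTop - eTop) = 1 := by
      rw [sub_eq_add_neg, M.iso.1, M.psi_neg, h1, mul_inv_cancel]
    obtain ⟨w, hw⟩ := (M.iso.2.2.1 _).1 h2
    refine mem_stdCross_iff.2 ⟨SetLike.coe_mem _,
      (coe_smul_sqNorm g' eTop).trans (sqNorm_bigE none), -(w : GolayPt → ℤ),
      AddSubgroup.neg_mem _ w.2, ?_⟩
    have h3 := congrArg Subtype.val hw
    rw [AddSubgroup.coe_sub, AddSubgroup.coe_add, ← two_nsmul, eTop_coe] at h3
    rw [smul_neg, ← h3]; abel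
  have hXfrom : ∀ g' ∈ crossStab, ∃ k ∈ X, (QuotientGroup.mk g' : Spor.Co1) = e k := by
    intro g' hg'
    have hst := mem_crossStab.1 hg' eTop (bigE_mem_stdCross none)
    obtain ⟨-, -, w, hw, hd⟩ := mem_stdCross_iff.1 hst
    have hfix : ψ (g' • eTop) = QuotientGroup.mk x := by
      rw [← hx]
      refine M.psi_congr (u := -⟨w, hw⟩) (Subtype.ext ?_)
      rw [AddSubgroup.coe_add, AddSubgroup.coe_add, AddSubgroup.coe_neg]
      show _ = ((eTop : leechLattice) : GolayPt → ℤ) + (-w + -w)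
      rw [eTop_coe, ← neg_add, ← two_nsmul, ← hd]; abel
    obtain ⟨a, ha, hax⟩ := M.exists_lift hxz hx hfix
    refine ⟨QuotientGroup.mk a, ?_, ha⟩
    subst hX
    exact ⟨a, ⟨a.2, Subgroup.mem_centralizer_singleton_iff.2 (mul_inv_eq_iff_eq_mul.1 hax)⟩, rfl⟩
  -- the preimage of E in the automorphism group of the lattice
  let π : Co0 →* Spor.Co1 := QuotientGroup.mk' (Subgroup.center Co0)
  let F : Subgroup Co0 := (E.map e.toMonoidHom).comap π
  have hFcross : F ≤ crossStab := by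
    rintro f ⟨k, hk, hkf⟩
    obtain ⟨g', hg', hge⟩ := hXto k (hEX hk)
    have hcen : g'⁻¹ * f ∈ Subgroup.center Co0 := QuotientGroup.eq.1 (hge.trans hkf)
    have : g'⁻¹ * f ∈ crossStab := by
      rcases eq_of_central hcen with h1 | h1
      · rw [h1]; exact one_mem _
      · rw [h1]; exact monoEl_mem_crossStab _
    simpa using mul_mem hg' this
  have hFnorm : ∀ a ∈ crossStab, ∀ f ∈ F, a * f * a⁻¹ ∈ F := by
    rintro a ha f ⟨k, hk, hkf⟩
    obtain ⟨l, hl, hle⟩ := hXfrom a ha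
    refine ⟨l * k * l⁻¹, hnorm l hl k hk, ?_⟩
    show e (l * k * l⁻¹) = π (a * f * a⁻¹)
    rw [map_mul, map_mul, map_inv, map_mul, map_mul, map_inv, ← hle, ← hkf]
    rfl
  have hF4 : ∀ f ∈ F, f ^ 4 = 1 := by
    rintro f ⟨k, hk, hkf⟩
    have hk2 : k ^ 2 = 1 := hEel.2 k hk
    have h2 : π (f ^ 2) = 1 := by
      rw [map_pow, ← hkf]
      show (e k) ^ 2 = 1
      rw [← map_pow, hk2, map_one]
    rw [show (4 : ℕ) = 2 * 2 by rfl, pow_mul]
    rcases eq_of_central ((QuotientGroup.eq_one_iff _).1 h2) with h1 | h1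
    · rw [h1, one_pow]
    · rw [h1, pow_two]
      exact co0_ext fun i => by rw [mul_smul, negEl_smul, negEl_smul, neg_neg, one_smul]
  have hpart : permPart F = ⊥ := by
    have hS : (permPart F).Normal := ⟨fun σ ⟨c, hc⟩ τ => ⟨⟨(τ : Equiv.Perm GolayPt) • c.1,
      smul_supports τ.2 c.2⟩, by
        convert hFnorm _ (monoEl_mem_crossStab (τ, ⟨∅, empty_supports⟩)) _ hc using 1
        show _ = permEl τ * _ * (permEl τ)⁻¹
        rw [← permEl_inv, permEl, permEl, monoEl_mul, monoEl_mul]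
        congr 1
        exact Prod.ext rfl (Subtype.ext (by simp [Finset.smul_finset_empty]))⟩⟩
    have := isSimpleGroup_M24
    refine (IsSimpleGroup.eq_bot_or_eq_top_of_normal _ hS).resolve_right fun htop => ?_
    obtain ⟨c, hc⟩ : (⟨gT, gT_mem⟩ : ↥M24) ∈ permPart F := htop ▸ Subgroup.mem_top _
    have h4 := hF4 _ hc
    rw [show (4 : ℕ) = 2 * 2 by rfl, pow_mul, pow_two, pow_two, monoEl_mul, monoEl_mul] at h4
    have h5 := congrArg Prod.fst (monoEl_injective (h4.trans monoEl_one.symm))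
    have h6 : orderOf (⟨gT, gT_mem⟩ : ↥M24) ∣ 4 := orderOf_dvd_of_pow_eq_one (by
      rw [show (4 : ℕ) = 2 * 2 by rfl, pow_mul, pow_two, pow_two]; exact h5)
    rw [orderOf_gT] at h6
    norm_num at h6
  have hFeps : ∀ f : F, ∃ c, epsEl c = (f : Co0) := fun f => by
    obtain ⟨p, hp⟩ := exists_monoEl_of_mem (hFcross f.2)
    have : p.1 ∈ permPart F := ⟨p.2, by show monoEl (p.1, p.2) ∈ F; rw [Prod.mk.eta, hp]; exact f.2⟩
    rw [hpart, Subgroup.mem_bot] at this
    exact ⟨p.2, by rw [← hp, epsEl]; congr 1; exact Prod.ext this.symm rfl⟩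
  choose cF hcF using hFeps
  have hcFinj : Function.Injective cF := fun a b hab => Subtype.ext (by rw [← hcF a, ← hcF b, hab])
  have hFcard : Nat.card F = 2 * Nat.card E := by
    have h1 := Subgroup.card_mul_index F
    have h2 := Subgroup.card_mul_index (E.map e.toMonoidHom)
    have h3 : F.index = (E.map e.toMonoidHom).index :=
      Subgroup.index_comap_of_surjective _ (QuotientGroup.mk'_surjective _)
    rw [natCard_Co0, h3] at h1
    rw [Subgroup.card_map_of_injective e.injective, natCard_co1] at h2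
    refine Nat.eq_of_mul_eq_mul_right (Nat.pos_of_ne_zero
      (Subgroup.FiniteIndex.index_ne_zero (H := E.map e.toMonoidHom))) ?_
    rw [h1, mul_assoc, h2]; norm_num
  have hElE : Nat.card E ≤ 2 ^ 11 := by
    have := Nat.card_le_card_of_injective cF hcFinj
    rw [hFcard, natCard_supports] at this
    omega
  -- the counting
  let D : Subgroup G := P ⊓ Subgroup.centralizer ({z} : Set G)
  let f : D →* (Subgroup.centralizer ({z} : Set G)) ⧸ Q :=
    (QuotientGroup.mk' Q).comp (Subgroup.inclusion inf_le_right)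
  have hfE : f.range = E := by
    subst hE
    ext k
    constructor
    · rintro ⟨d, rfl⟩; exact ⟨⟨d, d.2.2⟩, d.2, rfl⟩
    · rintro ⟨a, ha, rfl⟩; exact ⟨⟨a, ha⟩, rfl⟩
  have hker : Nat.card f.ker ≤ Nat.card ↥(qImage Q ⊓ P) :=
    Nat.card_le_card_of_injective
      (fun a : f.ker => (⟨((a : D) : G), ⟨_, (QuotientGroup.eq_one_iff _).1 a.2, rfl⟩, a.1.2.1⟩ :
        ↥(qImage Q ⊓ P)))
      fun a b hab => Subtype.ext (Subtype.ext (congrArg (fun t : ↥(qImage Q ⊓ P) => (t : G)) hab))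
  have hD := h'.card_le_two_mul hzP
  rw [hPcard] at hD
  have hmul : 2 ^ 24 ≤ Nat.card ↥(qImage Q ⊓ P) * Nat.card E := by
    have h1 : Nat.card D ≤ Nat.card ↥(qImage Q ⊓ P) * Nat.card E := by
      rw [← Subgroup.card_mul_index f.ker, Subgroup.index_ker, hfE]
      exact Nat.mul_le_mul_right _ hker
    have h2 : 2 ^ 24 ≤ Nat.card D := by
      change 2 ^ 25 ≤ 2 * Nat.card D at hD
      omega
    exact h2.trans h1
  have hI13 : Nat.card ↥(qImage Q ⊓ P) = 2 ^ 13 := by nlinarith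
  have hE11 : Nat.card E = 2 ^ 11 := by
    rw [hI13] at hmul
    omega
  have hall : ∀ c, epsEl c ∈ F := fun c => by
    have hbij : Function.Bijective cF :=
      (Nat.bijective_iff_injective_and_card cF).2 ⟨hcFinj, by
        rw [hFcard, natCard_supports, hE11]; norm_num⟩
    obtain ⟨a, rfl⟩ := hbij.2 c
    rw [hcF a]; exact a.2
  -- the complement
  let κ : ↥M24 →* (Subgroup.centralizer ({z} : Set G)) ⧸ Q :=
    e.symm.toMonoidHom.comp (π.comp (MonoidHom.mk' permEl permEl_mul))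
  have hκ : ∀ σ, e (κ σ) = π (permEl σ) := fun σ => e.apply_symm_apply _
  have hκinj : Function.Injective κ := by
    rw [injective_iff_map_eq_one]
    intro σ hσ
    have h1 : π (permEl σ) = 1 := by rw [← hκ, hσ, map_one]
    rcases eq_of_central ((QuotientGroup.eq_one_iff _).1 h1) with h2 | h2
    · exact congrArg Prod.fst (monoEl_injective (h2.trans monoEl_one.symm))
    · exact congrArg Prod.fst (monoEl_injective h2)
  have hκX : κ.range ≤ X := by
    rintro _ ⟨σ, rfl⟩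
    obtain ⟨k, hk, hke⟩ := hXfrom _ (monoEl_mem_crossStab (σ, ⟨∅, empty_supports⟩))
    rwa [show κ σ = k from e.injective ((hκ σ).trans hke)]
  refine ⟨hI13, hEX, hnorm, hEel, hE11, κ.range, hκX, ?_, ?_,
    ⟨(MonoidHom.ofInjective hκinj).symm⟩⟩
  · rw [eq_bot_iff]
    rintro _ ⟨hk, σ, rfl⟩
    have h1 : σ ∈ permPart F :=
      ⟨⟨∅, empty_supports⟩, ⟨κ σ, hk, hκ σ⟩⟩
    rw [hpart, Subgroup.mem_bot] at h1
    rw [Subgroup.mem_bot, h1, map_one]
  · refine le_antisymm (sup_le hEX hκX) fun k hk => ?_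
    obtain ⟨g', hg', hge⟩ := hXto k hk
    obtain ⟨⟨σ, c⟩, rfl⟩ := exists_monoEl_of_mem hg'
    obtain ⟨l, hl, hle⟩ := hall c
    have e1 : monoEl (σ, c) = epsEl c * permEl σ := by
      rw [epsEl, permEl, monoEl_mul]
      congr 1
      exact Prod.ext (one_mul _).symm
        (Subtype.ext (by simp [Finset.smul_finset_empty]; exact (symmDiff_bot _).symm))
    have : k = l * κ σ := e.injective (by
      rw [← hge, map_mul, hκ, e1, show e l = π (epsEl c) from hle]
      rfl)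
    rw [this]
    exact Subgroup.mul_mem_sup hl ⟨σ, rfl⟩

/-- The version for an arbitrary conjugate of `z` in `Q`. -/
theorem conjugate_structure {x : Q} {g : G} (hg : g * z * g⁻¹ = up x) (hne : up x ≠ z)
    (X E : Subgroup ((Subgroup.centralizer ({z} : Set G)) ⧸ Q))
    (hX : X = ((Subgroup.centralizer ({z} : Set G) ⊓
      Subgroup.centralizer ({up x} : Set G)).subgroupOf
        (Subgroup.centralizer ({z} : Set G))).map (QuotientGroup.mk' Q))
    (hE : E = (((qImage Q).map (MulAut.conj g).toMonoidHom ⊓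
      Subgroup.centralizer ({z} : Set G)).subgroupOf
        (Subgroup.centralizer ({z} : Set G))).map (QuotientGroup.mk' Q)) :
    Nat.card ↥(qImage Q ⊓ (qImage Q).map (MulAut.conj g).toMonoidHom) = 2 ^ 13 ∧
    E ≤ X ∧ (∀ a ∈ X, ∀ b ∈ E, a * b * a⁻¹ ∈ E) ∧ IsElementaryAbelian 2 E ∧
    Nat.card E = 2 ^ 11 ∧
    ∃ K : Subgroup ((Subgroup.centralizer ({z} : Set G)) ⧸ Q),
      K ≤ X ∧ E ⊓ K = ⊥ ∧ E ⊔ K = X ∧ Nonempty (K ≃* M24) := by
  obtain ⟨v, hv, hvx⟩ := M.exists_norm64_of_conj (isConj_iff.2 ⟨g, hg⟩) hne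
  obtain ⟨g₀, rfl⟩ := exists_map (Or.inr (Or.inr rfl)) eTop v (sqNorm_bigE none) hv
  exact (M.twist g₀).frame_structure hvx hg X E hX hE

end CfsgLib.ThreeTransp.MonsterFrame
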