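import Cfsg.Agent.Lib.ThreeTransp.LeechTotallySingular
import Cfsg.Prelude.Def_MonsterType

/-!
In a group of Monster type the extraspecial group Q has plus type.
-/

set_option autoImplicit false

namespace CfsgLib.ThreeTransp

open Cfsg LeechSingular

open scoped commutatorElement

theorem monster_type_even_sq {G : Type*} [Group G] [Finite G] {z : G}
    (Q : Subgroup (Subgroup.centralizer ({z} : Set G))) [Q.Normal]
    {e : (Subgroup.centralizer ({z} : Set G)) ⧸ Q ≃* Spor.Co1}
    {ψ : leechLattice → Q ⧸ Subgroup.center Q}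
    (hQ : IsExtraspecial 2 Q) (hψ : IsLeechModTwoIso Q e ψ) {v : leechLattice} (hv : v ∈ evenSub)
    {x : Q} (hx : ψ v = QuotientGroup.mk x) : x * x = 1 := by
  classical
  obtain ⟨⟨-, -, hcomm⟩, hZ⟩ := hQ
  obtain ⟨hadd, hsurj, hker, hequiv⟩ := hψ
  obtain ⟨c, hc1, hcu⟩ := (Nat.card_eq_two_iff' (1 : Subgroup.center Q)).1 hZ
  have hsq : ∀ a : Subgroup.center Q, a * a = 1 := fun a => by
    have h := pow_card_eq_one' (x := a)
    rwa [hZ, pow_two] at h
  have lift : ∀ v, ∃ x : Q, ψ v = QuotientGroup.mk x := fun v =>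
    ⟨(Quotient.out (ψ v)), (QuotientGroup.out_eq' (ψ v)).symm⟩
  choose s hs using lift
  have hmk : ∀ x : Q, x ∈ Subgroup.center Q ↔ (QuotientGroup.mk x : Q ⧸ Subgroup.center Q) = 1 :=
    fun x => (QuotientGroup.eq_one_iff x).symm
  have hxx : ∀ x : Q, x * x ∈ Subgroup.center Q := fun x => by
    obtain ⟨v, hv⟩ := hsurj (QuotientGroup.mk x)
    rw [hmk, QuotientGroup.mk_mul, ← hv, ← hadd]
    exact (hker _).2 ⟨v, rfl⟩
  have hcm : ∀ x y : Q, ⁅x, y⁆ ∈ Subgroup.center Q := fun x y =>
    hcomm ▸ Subgroup.commutator_mem_commutator (Subgroup.mem_top x) (Subgroup.mem_top y)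
  -- the square of a lift
  have hsame : ∀ x y : Q, (QuotientGroup.mk x : Q ⧸ Subgroup.center Q) = QuotientGroup.mk y →
      y * y = x * x := by
    intro x y h
    obtain ⟨a, ha, rfl⟩ : ∃ a ∈ Subgroup.center Q, y = x * a :=
      ⟨x⁻¹ * y, QuotientGroup.eq.1 h, (mul_inv_cancel_left x y).symm⟩
    have hc : a * x = x * a := ((Subgroup.mem_center_iff.1 ha) x).symm
    have ha2 : a * a = 1 := congrArg Subtype.val (hsq ⟨a, ha⟩)
    calc x * a * (x * a) = x * (a * x) * a := by group
      _ = x * x * (a * a) := by rw [hc]; group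
      _ = x * x := by rw [ha2, mul_one]
  let q : leechLattice → Additive (Subgroup.center Q) := fun v =>
    Additive.ofMul ⟨s v * s v, hxx _⟩
  let B : leechLattice → leechLattice → Additive (Subgroup.center Q) := fun v w =>
    Additive.ofMul ⟨⁅(s v)⁻¹, s w⁆, hcm _ _⟩
  have hlift : ∀ v (x : Q), ψ v = QuotientGroup.mk x → s v * s v = x * x := fun v x hx =>
    hsame x (s v) (hx.symm.trans (hs v))
  have hsum : ∀ v w, ψ (v + w) = QuotientGroup.mk (s v * s w) := fun v w => by
    rw [hadd, hs v, hs w, QuotientGroup.mk_mul]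
  letI : CommGroup (Subgroup.center Q) :=
    { (inferInstance : Group (Subgroup.center Q)) with
      mul_comm := fun a b => Subtype.ext (Subgroup.mem_center_iff.1 b.2 (a : Q)) }
  let F : InvQuad (Additive (Subgroup.center Q)) :=
    { q := q
      B := B
      two := fun a => Additive.toMul.injective (hsq (Additive.toMul a))
      polar := fun v w => by
        apply Additive.toMul.injective
        apply Subtype.ext
        show s (v + w) * s (v + w) = s v * s v * (s w * s w) * ⁅(s v)⁻¹, s w⁆
        rw [hlift _ _ (hsum v w), mul_assoc (s v * s v) (s w * s w) ⁅(s v)⁻¹, s w⁆,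
          Subgroup.mem_center_iff.1 (hcm _ _) (s w * s w), commutatorElement_def]
        group
      lin := fun u v w => by
        apply Additive.toMul.injective
        apply Subtype.ext
        show ⁅(s u)⁻¹, s (v + w)⁆ = ⁅(s u)⁻¹, s v⁆ * ⁅(s u)⁻¹, s w⁆
        obtain ⟨a, ha, hav⟩ : ∃ a ∈ Subgroup.center Q, s (v + w) = s v * s w * a :=
          ⟨(s v * s w)⁻¹ * s (v + w), QuotientGroup.eq.1 ((hsum v w).symm.trans (hs _)),
            (mul_inv_cancel_left _ _).symm⟩
        have h1 : ⁅(s u)⁻¹, s (v + w)⁆ = ⁅(s u)⁻¹, s v * s w⁆ := by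
          rw [hav, commutatorElement_def, commutatorElement_def, inv_inv,
            mul_assoc _ (s v * s w * a) (s u), mul_assoc (s v * s w) a (s u),
            ← Subgroup.mem_center_iff.1 ha (s u)]
          group
        rw [h1]
        have hc := Subgroup.mem_center_iff.1 (hcm (s u)⁻¹ (s w)) (s v)
        calc ⁅(s u)⁻¹, s v * s w⁆
            = ⁅(s u)⁻¹, s v⁆ * (s v * ⁅(s u)⁻¹, s w⁆ * (s v)⁻¹) := by
              simp only [commutatorElement_def]; group
          _ = _ := by rw [hc]; group
      dbl := fun v => by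
        apply Additive.toMul.injective
        apply Subtype.ext
        show s (v + v) * s (v + v) = 1
        rw [hlift (v + v) (s v * s v) (hsum v v)]
        exact congrArg Subtype.val (hsq ⟨_, hxx (s v)⟩)
      inv := fun g hg v => by
        apply Additive.toMul.injective
        apply Subtype.ext
        obtain ⟨h, hh⟩ := QuotientGroup.mk_surjective (e.symm (QuotientGroup.mk (⟨g, hg⟩ : Co0)))
        have hgh : (QuotientGroup.mk (⟨g, hg⟩ : Co0) : Spor.Co1) = e (QuotientGroup.mk h) := by
          rw [hh, e.apply_symm_apply]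
        have h2 := hequiv h ⟨g, hg⟩ hgh v (s v) (hs v)
        show s (g v) * s (g v) = s v * s v
        rw [hlift (g v) _ h2]
        have key : ∀ x : Q, x ∈ Subgroup.center Q → MulAut.conjNormal h x = x := by
          intro x hx
          have hx' : MulAut.conjNormal h x ∈ Subgroup.center Q := by
            rw [Subgroup.mem_center_iff]
            intro y
            obtain ⟨y, rfl⟩ := (MulAut.conjNormal h).surjective y
            rw [← map_mul, ← map_mul, Subgroup.mem_center_iff.1 hx y]
          by_cases hx1 : x = 1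
          · rw [hx1, map_one]
          · have e1 := hcu ⟨x, hx⟩ (fun he => hx1 (congrArg Subtype.val he))
            have e2 := hcu ⟨_, hx'⟩ (fun he => hx1 ((MulEquiv.map_eq_one_iff _).1
              (congrArg Subtype.val he)))
            exact congrArg Subtype.val (e2.trans e1.symm)
        have := key _ (hxx (s v))
        rw [map_mul] at this
        exact this }
  have h : s v * s v = 1 :=
    congrArg (fun a => ((Additive.toMul a : Subgroup.center Q) : Q)) (F.q_evenSub_zero hv)
  rw [← hlift v x hx, h]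

theorem monster_type_plus {G : Type*} [Group G] [Finite G] (z : G)
    (Q : Subgroup (Subgroup.centralizer ({z} : Set G))) [Q.Normal] (hM : IsOfMonsterType z Q) :
    ∃ E : Subgroup Q, IsElementaryAbelian 2 E ∧ Nat.card E = 2 ^ 13 := by
  classical
  obtain ⟨⟨-, -, hQ, hcardQ, -⟩, e, ψ, hψ⟩ := hM
  obtain ⟨hadd, hsurj, hker, hequiv⟩ := hψ
  -- the homomorphism onto the quotient
  let φ : Multiplicative leechLattice →* Q ⧸ Subgroup.center Q :=
    MonoidHom.mk' (fun v => ψ (Multiplicative.toAdd v)) fun v w => hadd _ _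
  let P : Subgroup (Multiplicative leechLattice) := AddSubgroup.toSubgroup evenSub
  let E : Subgroup Q := (P.map φ).comap (QuotientGroup.mk' _)
  have hE : ∀ x ∈ E, x * x = 1 := by
    rintro x ⟨v, hv, hvx⟩
    exact monster_type_even_sq Q hQ ⟨hadd, hsurj, hker, hequiv⟩ (v := Multiplicative.toAdd v) hv hvx
  refine ⟨E, ⟨⟨⟨fun a b => ?_⟩⟩, fun a ha => by rw [pow_two]; exact hE a ha⟩, ?_⟩
  · have hinv : ∀ x : E, x⁻¹ = x := fun x =>
      inv_eq_of_mul_eq_one_right (Subtype.ext (hE _ x.2))
    calc a * b = (a * b)⁻¹ := (hinv _).symm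
      _ = b⁻¹ * a⁻¹ := mul_inv_rev a b
      _ = b * a := by rw [hinv, hinv]
  · have hidx : E.index = 2 ^ 12 := by
      show ((P.map φ).comap (QuotientGroup.mk' _)).index = _
      rw [Subgroup.index_comap_of_surjective _ (QuotientGroup.mk'_surjective _),
        Subgroup.index_map_eq _ (fun y => by
          obtain ⟨v, hv⟩ := hsurj y; exact ⟨Multiplicative.ofAdd v, hv⟩)]
      · exact evenSub_index
      · intro v hv
        obtain ⟨w, hw⟩ := (hker (Multiplicative.toAdd v)).1 hv
        show Multiplicative.toAdd v ∈ evenSub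
        rw [hw]; exact dbl_mem_evenSub w
    have h := E.card_mul_index
    rw [hidx, hcardQ] at h
    norm_num at h ⊢
    omega

end CfsgLib.ThreeTransp
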