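import Cfsg.Prelude.Def_Classical
import Cfsg.Agent.Lib.Geometry.OrthMatrix
import Cfsg.Agent.Lib.Geometry.OmegaMore
import Cfsg.Agent.Lib.Geometry.StdForms

/-!
A checkable certificate that every cocycle of an orthogonal commutator group over the field with two
elements on its natural module is a coboundary.
-/

set_option autoImplicit false

namespace CfsgLib.ThreeTransp.OmegaH1

open QuadraticMap CfsgLib.Geometry
open scoped commutatorElement

/-- Apply a matrix, given by its columns as bit masks, to a bit mask. -/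
def act : List ℕ → ℕ → ℕ
  | [], _ => 0
  | c :: L, x => (if x % 2 = 1 then c else 0) ^^^ act L (x / 2)

/-- Apply a product of matrices. -/
def run (M : List (List ℕ)) : List ℕ → ℕ → ℕ
  | [], x => x
  | j :: w, x => act (M.getD j []) (run M w x)

/-- The value of a cocycle on a word, when it is `v` at `s` and vanishes on the other generators. -/
def val (M : List (List ℕ)) (s v : ℕ) : List ℕ → ℕ
  | [] => 0
  | j :: w => (if j = s then v else 0) ^^^ act (M.getD j []) (val M s v w)

/-- A step of the certificate. -/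
def stepOK (n : ℕ) (M : List (List ℕ)) (s : ℕ) (rels : List (List ℕ)) : Bool :=
  (rels.all fun w => (w.all fun j => decide (j ≤ s)) &&
    (List.range (2 ^ n)).all fun x => run M w x == x) &&
  (List.range (2 ^ n)).all fun v => v == 0 || rels.any fun w => val M s v w != 0

/-- The edges form a connected tree rooted at zero. -/
def treeOK : List (ℕ × ℕ) → List ℕ → List ℕ
  | [], acc => acc
  | (c, p) :: t, acc => if p ∈ acc then treeOK t (c :: acc) else []

/-- Extend a list of roots along simple reflections. -/
def orbRun (cols : List (List ℕ)) : List (ℕ × ℕ × ℕ) → List ℕ → List ℕ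
  | [], acc => acc
  | (w, v, s) :: t, acc =>
    if v ∈ acc ∧ s < cols.length ∧ act (cols.getD s []) w = v then orbRun cols t (w :: acc) else []

/-- The data of a certificate. -/
structure Cert where
  /-- the dimension -/
  n : ℕ
  /-- simple roots -/
  roots : List ℕ
  /-- their reflections -/
  cols : List (List ℕ)
  /-- generators, as words in the reflections -/
  gens : List (List ℕ)
  /-- their matrices -/
  gcols : List (List ℕ)
  /-- relations forcing the vanishing of a cocycle -/
  steps : List (List (List ℕ))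
  /-- edges of the diagram -/
  tree : List (ℕ × ℕ)
  /-- orbit of the roots -/
  orb : List (ℕ × ℕ × ℕ)

/-- The part of the check not involving the quadratic form. -/
def Cert.ok (c : Cert) : Bool :=
  let d := List.range (2 ^ c.n)
  decide (c.cols.length = c.roots.length ∧ 0 < c.roots.length) &&
  decide (c.gcols.length = c.gens.length ∧ c.steps.length + 1 = c.gens.length) &&
  (c.gens.all fun w => decide (Even w.length) && w.all fun i => decide (i < c.roots.length)) &&
  ((List.range c.gens.length).all fun j =>
    d.all fun x => act (c.gcols.getD j []) x == run c.cols (c.gens.getD j []) x) &&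
  (d.all fun v => v == 0 || act (c.gcols.getD 0 []) v != v) &&
  ((List.range c.steps.length).all fun s => stepOK c.n c.gcols (s + 1) (c.steps.getD s [])) &&
  ((List.range c.roots.length).all fun i =>
    decide (i = 0) || (c.gens.tail.any fun w => decide (w = [i, 0]))) &&
  (c.tree.all fun e => decide (e.1 < c.roots.length ∧ e.2 < c.roots.length) && d.all fun x =>
    run c.cols [e.1, e.2, e.1] x == run c.cols [e.2, e.1, e.2] x) &&
  (List.range c.roots.length).all fun i => decide (i ∈ treeOK c.tree [0])

variable {ι : Type} [Fintype ι] [DecidableEq ι] {n : ℕ}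

/-- Bit mask of a vector. -/
def enc (e : Fin n ≃ ι) (x : ι → ZMod 2) : ℕ := Nat.ofBits fun i => decide (x (e i) = 1)

theorem z2_one : ∀ a : ZMod 2, a ≠ 0 → a = 1 := by decide

theorem z2_eq : ∀ a b : ZMod 2, (decide (a = 1) = decide (b = 1)) → a = b := by decide

theorem z2_xor : ∀ a b : ZMod 2,
    decide (a + b = 1) = (decide (a = 1) ^^ decide (b = 1)) := by decide

theorem enc_lt (e : Fin n ≃ ι) (x : ι → ZMod 2) : enc e x < 2 ^ n := Nat.ofBits_lt_two_pow _

theorem enc_inj (e : Fin n ≃ ι) : Function.Injective (enc e) := by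
  intro x y h
  funext s
  obtain ⟨i, rfl⟩ := e.surjective s
  have := congrArg (fun t => Nat.testBit t i) h
  simp only [enc, Nat.testBit_ofBits_lt _ _ i.2, Fin.eta] at this
  exact z2_eq _ _ this

theorem enc_add (e : Fin n ≃ ι) (x y : ι → ZMod 2) : enc e (x + y) = enc e x ^^^ enc e y := by
  refine Nat.eq_of_testBit_eq fun i => ?_
  rw [Nat.testBit_xor]
  simp only [enc]
  by_cases h : i < n
  · simp only [Nat.testBit_ofBits_lt _ _ h, Pi.add_apply, z2_xor]
  · have h' := not_lt.1 h
    simp only [Nat.testBit_ofBits_ge _ _ h', Bool.false_bne]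

theorem enc_zero (e : Fin n ≃ ι) : enc e 0 = 0 := by
  refine Nat.eq_of_testBit_eq fun i => ?_
  simp only [enc]
  by_cases h : i < n
  · simp [Nat.testBit_ofBits_lt _ _ h]
  · simp [Nat.testBit_ofBits_ge _ _ (not_lt.1 h)]

theorem commutator_le_of_pairs {H : Type*} [Group H] {N : ℕ} (r : Fin (N + 1) → H)
    (hinv : ∀ i, r i * r i = 1) (hgen : Subgroup.closure (Set.range r) = ⊤) (S : Subgroup H)
    (hS : ∀ i, r i * r 0 ∈ S) : commutator H ≤ S := by
  set K := Subgroup.closure (Set.range fun i => r i * r 0) with hK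
  have hr : ∀ i, (r i)⁻¹ = r i := fun i => inv_eq_of_mul_eq_one_right (hinv i)
  have h0 : ∀ i, r 0 * r i ∈ K := fun i => by
    have : r 0 * r i = (r i * r 0)⁻¹ := by rw [mul_inv_rev, hr, hr]
    rw [this]; exact inv_mem (Subgroup.subset_closure ⟨i, rfl⟩)
  have hmem : ∀ i j, r i * r j ∈ K := fun i j => by
    have : r i * r j = (r i * r 0) * (r 0 * r j) := by
      rw [mul_assoc, ← mul_assoc (r 0), hinv, one_mul]
    rw [this]; exact mul_mem (Subgroup.subset_closure ⟨i, rfl⟩) (h0 j)
  have hcj : ∀ j, ∀ k ∈ K, r j * k * r j ∈ K := by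
    intro j k hk
    induction hk using Subgroup.closure_induction with
    | mem k hk =>
      obtain ⟨i, rfl⟩ := hk
      rw [show r j * (r i * r 0) * r j = (r j * r i) * (r 0 * r j) by group]
      exact mul_mem (hmem _ _) (hmem _ _)
    | one => rw [mul_one, hinv]; exact one_mem _
    | mul p q _ _ hp hq =>
      rw [show r j * (p * q) * r j = (r j * p * r j) * (r j * q * r j) by
        simp only [mul_assoc]; rw [← mul_assoc (r j) (r j), hinv, one_mul]]
      exact mul_mem hp hq
    | inv p _ hp =>
      rw [show r j * p⁻¹ * r j = (r j * p * r j)⁻¹ by rw [mul_inv_rev, mul_inv_rev, hr, mul_assoc]]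
      exact inv_mem hp
  haveI : K.Normal := by
    rw [← Subgroup.normalizer_eq_top_iff, eq_top_iff, ← hgen, Subgroup.closure_le]
    rintro _ ⟨j, rfl⟩
    rw [SetLike.mem_coe, Subgroup.mem_normalizer_iff]
    intro k
    rw [hr]
    refine ⟨hcj j k, fun h => ?_⟩
    have := hcj j _ h
    rwa [show r j * (r j * k * r j) * r j = k by
      rw [← mul_assoc, ← mul_assoc, hinv, one_mul, mul_assoc, hinv, mul_one]] at this
  refine le_trans ?_ ((Subgroup.closure_le S).2 (by rintro _ ⟨i, rfl⟩; exact hS i) : K ≤ S)
  have hπ : ∀ i, QuotientGroup.mk' K (r i) ∈ Subgroup.zpowers (QuotientGroup.mk' K (r 0)) := by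
    intro i
    have e : QuotientGroup.mk' K (r i * r 0) = 1 :=
      (QuotientGroup.eq_one_iff _).2 (Subgroup.subset_closure ⟨i, rfl⟩)
    rw [map_mul] at e
    rw [eq_inv_of_mul_eq_one_left e]
    exact inv_mem (Subgroup.mem_zpowers _)
  have hall : ∀ g, QuotientGroup.mk' K g ∈ Subgroup.zpowers (QuotientGroup.mk' K (r 0)) := by
    have h : (⊤ : Subgroup H) ≤
        (Subgroup.zpowers (QuotientGroup.mk' K (r 0))).comap (QuotientGroup.mk' K) := by
      rw [← hgen, Subgroup.closure_le]
      rintro _ ⟨i, rfl⟩
      exact hπ i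
    exact fun g => h (Subgroup.mem_top g)
  rw [commutator_def, Subgroup.commutator_le]
  intro a _ b _
  rw [← QuotientGroup.eq_one_iff]
  show QuotientGroup.mk' K ⁅a, b⁆ = 1
  obtain ⟨i, hi⟩ := Subgroup.mem_zpowers_iff.1 (hall a)
  obtain ⟨j, hj⟩ := Subgroup.mem_zpowers_iff.1 (hall b)
  rw [map_commutatorElement, ← hi, ← hj, commutatorElement_eq_one_iff_commute]
  exact (Commute.refl _).zpow_zpow _ _

variable (Q : QuadraticForm (ZMod 2) (ι → ZMod 2))

/-- The check of the data against the quadratic form. -/
def Linked (Qf : (ι → ZMod 2) → ZMod 2) (c : Cert) (e : Fin c.n ≃ ι)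
    (r : Fin c.roots.length → ι → ZMod 2) : Prop :=
  (∀ i, Qf (r i) = 1 ∧ enc e (r i) = c.roots.getD i 0) ∧
  (∀ i x, enc e (x + polar Qf x (r i) • r i) = act (c.cols.getD i []) (enc e x)) ∧
  ∀ x, Qf x = 1 → enc e x ∈ orbRun c.cols c.orb c.roots

/-- Decode a bit mask. -/
def dec (e : Fin n ≃ ι) (m : ℕ) : ι → ZMod 2 := fun s => if m.testBit (e.symm s) then 1 else 0

theorem h1_vanish (Qf : (ι → ZMod 2) → ZMod 2) (hQf : ⇑Q = Qf) (hR : reflGroup Q = orth Q)
    (c : Cert) (hok : c.ok = true) (e : Fin c.n ≃ ι) (r : Fin c.roots.length → ι → ZMod 2)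
    (hlink : Linked Qf c e r)
    (f : ↥(Cfsg.Omega (ZMod 2) Qf) → (ι → ZMod 2))
    (hf : ∀ g h : ↥(Cfsg.Omega (ZMod 2) Qf), f (g * h) = f g + Matrix.mulVec
      (((g : ↥(Cfsg.isometryGroup (ZMod 2) Qf)) : GL ι (ZMod 2)) : Matrix ι ι (ZMod 2)) (f h)) :
    ∃ v : ι → ZMod 2, ∀ g : ↥(Cfsg.Omega (ZMod 2) Qf), f g = Matrix.mulVec
      (((g : ↥(Cfsg.isometryGroup (ZMod 2) Qf)) : GL ι (ZMod 2)) : Matrix ι ι (ZMod 2)) v - v := by
  subst hQf
  classical
  obtain ⟨hr, hrc, horb⟩ := hlink
  simp only [Cert.ok, Bool.and_eq_true, List.all_eq_true, List.mem_range, decide_eq_true_eq] at hok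
  obtain ⟨⟨⟨⟨⟨⟨⟨⟨⟨hlen, hpos⟩, hglen, hslen⟩, hgens⟩, hgcols⟩, hk⟩, hsteps⟩, hpairs⟩, htree⟩,
    htree'⟩ := hok
  have hne : ∀ i, Q (r i) ≠ 0 := fun i => by rw [(hr i).1]; decide
  -- the reflections
  let R : Fin c.roots.length → ↥(Cfsg.isometryGroup (ZMod 2) ⇑Q) := fun i =>
    (isomEquiv Q).symm ⟨refl Q (r i) (hne i), refl_mem_orth Q _ _⟩
  let mv : ↥(Cfsg.isometryGroup (ZMod 2) ⇑Q) → (ι → ZMod 2) → (ι → ZMod 2) := fun g x =>
    Matrix.mulVec ((g : GL ι (ZMod 2)) : Matrix ι ι (ZMod 2)) x
  have mv_mul : ∀ g h x, mv (g * h) x = mv g (mv h x) := fun g h x =>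
    (Matrix.mulVec_mulVec x _ _).symm
  have mv_one : ∀ x, mv 1 x = x := fun x => Matrix.one_mulVec x
  have mv_inj : ∀ g h, (∀ x, mv g x = mv h x) → g = h := fun g h hx =>
    Subtype.ext (Units.ext (Matrix.ext_of_mulVec_single fun i => hx _))
  have mvR : ∀ i x, enc e (mv (R i) x) = act (c.cols.getD i []) (enc e x) := by
    intro i x
    rw [← hrc]
    congr 1
    show Matrix.mulVec _ x = _
    rw [isomEquiv_symm_mulVec, refl_apply, (hr i).1, inv_one, one_mul]
    funext s
    simp only [Pi.sub_apply, Pi.add_apply]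
    exact CharTwo.sub_eq_add _ _
  have R2 : ∀ i, R i * R i = 1 := fun i => by
    show (isomEquiv Q).symm _ * (isomEquiv Q).symm _ = 1
    rw [← map_mul, ← map_one (isomEquiv Q).symm]
    exact congrArg _ (Subtype.ext (refl_mul_self Q _ (hne i)))
  let rr : ℕ → ↥(Cfsg.isometryGroup (ZMod 2) ⇑Q) := fun i =>
    if h : i < c.roots.length then R ⟨i, h⟩ else 1
  have mvW : ∀ w : List ℕ, (∀ i ∈ w, i < c.roots.length) → ∀ x,
      enc e (mv (w.map rr).prod x) = run c.cols w (enc e x) := by
    intro w
    induction w with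
    | nil => intro _ x; rw [List.map_nil, List.prod_nil, mv_one]; rfl
    | cons i w ih =>
      intro hw x
      have hi : i < c.roots.length := hw i (List.mem_cons_self ..)
      rw [List.map_cons, List.prod_cons, mv_mul, run, ← ih (fun j hj => hw j (List.mem_cons_of_mem _ hj))]
      simp only [rr, hi, dite_true]
      exact mvR ⟨i, hi⟩ _
  -- they generate
  have hgen : Subgroup.closure (Set.range R) = ⊤ := by
    rw [eq_top_iff, ← closure_matRefls Q hR, Subgroup.closure_le]
    rintro g ⟨v, hv, hg⟩
    have hg' : g = (isomEquiv Q).symm ⟨refl Q v hv, refl_mem_orth Q v hv⟩ := by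
      rw [← (isomEquiv Q).symm_apply_apply g]
      exact congrArg _ (Subtype.ext ((isomEquiv_eq_refl_iff Q g v hv).1 hg))
    let P : ℕ → Prop := fun t => ∀ (v : ι → ZMod 2) (hv : Q v ≠ 0), enc e v = t →
      (isomEquiv Q).symm ⟨refl Q v hv, refl_mem_orth Q v hv⟩ ∈ Subgroup.closure (Set.range R)
    have key : ∀ (t : List (ℕ × ℕ × ℕ)) (acc : List ℕ), (∀ a ∈ acc, P a) →
        ∀ a ∈ orbRun c.cols t acc, P a := by
      intro t
      induction t with
      | nil => intro acc h a ha; exact h a ha
      | cons p t ih =>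
        obtain ⟨w, v0, s⟩ := p
        intro acc h a ha
        rw [orbRun] at ha
        split at ha
        next hcond =>
          refine ih _ ?_ a ha
          intro b hb
          rcases List.mem_cons.1 hb with rfl | hb
          · intro v hv hev
            obtain ⟨h1, h2, h3⟩ := hcond
            let s' : Fin c.roots.length := ⟨s, hlen ▸ h2⟩
            have hs2 : ∀ y, mv (R s') (mv (R s') y) = y := fun y => by
              rw [← mv_mul, R2, mv_one]
            set u := mv (R s') v with hu
            have hQu : Q u ≠ 0 := by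
              have e1 : Q u = Q v := (R s').2 v v
              rwa [e1]
            have heu : enc e u = v0 := by
              rw [hu, mvR, hev, ← h3]
            have hmem := h v0 h1 u hQu heu
            have hconj : (isomEquiv Q).symm ⟨refl Q v hv, refl_mem_orth Q v hv⟩ =
                R s' * (isomEquiv Q).symm ⟨refl Q u hQu, refl_mem_orth Q u hQu⟩ * (R s')⁻¹ := by
              rw [← map_inv, ← map_mul, ← map_mul]
              refine congrArg _ (Subtype.ext ?_)
              show refl Q v hv = refl Q (r s') (hne s') * refl Q u hQu * (refl Q (r s') (hne s'))⁻¹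
              rw [refl_conj Q (refl_mem_orth Q _ _) u hQu]
              congr 1
              rw [hu]
              show v = refl Q (r s') _ (mv (R s') v)
              rw [← isomEquiv_symm_mulVec Q ⟨refl Q (r s') (hne s'), refl_mem_orth Q _ _⟩]
              exact (hs2 v).symm
            rw [hconj]
            exact mul_mem (mul_mem (Subgroup.subset_closure ⟨s', rfl⟩) hmem)
              (inv_mem (Subgroup.subset_closure ⟨s', rfl⟩))
          · exact h b hb
        next => simp at ha
    rw [hg']
    refine key c.orb c.roots ?_ _ (horb v (z2_one _ hv)) v hv rfl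
    intro a ha v hv hev
    obtain ⟨i, hi, rfl⟩ := List.mem_iff_getElem.1 ha
    have e1 : v = r ⟨i, hi⟩ := enc_inj e (by
      rw [hev, (hr ⟨i, hi⟩).2, List.getD_eq_getElem _ _ hi])
    subst e1
    exact Subgroup.subset_closure ⟨⟨i, hi⟩, rfl⟩
  -- even products lie in the commutator subgroup
  let π := Abelianization.of (G := ↥(Cfsg.isometryGroup (ZMod 2) ⇑Q))
  have hπ : ∀ i, i < c.roots.length → π (rr i) = π (rr 0) := by
    have key : ∀ (t : List (ℕ × ℕ)) (acc : List ℕ), (∀ p ∈ t, p ∈ c.tree) →
        (∀ a ∈ acc, π (rr a) = π (rr 0)) → ∀ a ∈ treeOK t acc, π (rr a) = π (rr 0) := by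
      intro t
      induction t with
      | nil => intro acc _ h a ha; exact h a ha
      | cons p t ih =>
        obtain ⟨a1, b1⟩ := p
        intro acc ht h a ha
        rw [treeOK] at ha
        split at ha
        next hcond =>
          refine ih _ (fun q hq => ht q (List.mem_cons_of_mem _ hq)) ?_ a ha
          intro b hb
          rcases List.mem_cons.1 hb with rfl | hb
          · obtain ⟨⟨ha1, hb1⟩, hbr⟩ := htree _ (ht _ (List.mem_cons_self ..))
            have hb' : ([b, b1, b].map rr).prod = ([b1, b, b1].map rr).prod := by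
              refine mv_inj _ _ fun x => enc_inj e ?_
              have l1 : ∀ i ∈ [b, b1, b], i < c.roots.length := by
                simp only [List.mem_cons, List.not_mem_nil, or_false]
                rintro i (rfl | rfl | rfl) <;> assumption
              have l2 : ∀ i ∈ [b1, b, b1], i < c.roots.length := by
                simp only [List.mem_cons, List.not_mem_nil, or_false]
                rintro i (rfl | rfl | rfl) <;> assumption
              rw [mvW _ l1, mvW _ l2]
              exact beq_iff_eq.1 (hbr _ (enc_lt e x))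
            have h2 := congrArg π hb'
            simp only [List.map_cons, List.map_nil, List.prod_cons, List.prod_nil, mul_one,
              map_mul] at h2
            rw [← h b1 hcond]
            rw [← mul_assoc, ← mul_assoc, mul_comm (π (rr b1)) (π (rr b))] at h2
            exact mul_left_cancel h2
          · exact h b hb
        next => simp at ha
    intro i hi
    exact key c.tree [0] (fun p hp => hp) (by simp) i (htree' i hi)
  have rr2 : π (rr 0) * π (rr 0) = 1 := by
    rw [← map_mul]
    simp only [rr, hpos, dite_true, R2, map_one]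
  have hmemΩ : ∀ w : List ℕ, (∀ i ∈ w, i < c.roots.length) → Even w.length →
      (w.map rr).prod ∈ Cfsg.Omega (ZMod 2) ⇑Q := by
    intro w hw hev
    have e1 : ∀ w : List ℕ, (∀ i ∈ w, i < c.roots.length) →
        π (w.map rr).prod = π (rr 0) ^ w.length := by
      intro w
      induction w with
      | nil => intro _; simp
      | cons i w ih =>
        intro hw
        rw [List.map_cons, List.prod_cons, map_mul, ih (fun j hj => hw j (List.mem_cons_of_mem _ hj)),
          hπ i (hw i (List.mem_cons_self ..)), List.length_cons, pow_succ']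
    obtain ⟨k, hk⟩ := hev
    show _ ∈ commutator _
    rw [← Abelianization.ker_of, MonoidHom.mem_ker, e1 w hw, hk, ← two_mul, pow_mul, pow_two, rr2,
      one_pow]
  -- the generators
  let g : ℕ → ↥(Cfsg.Omega (ZMod 2) ⇑Q) := fun j =>
    if h : j < c.gens.length then
      ⟨((c.gens[j]).map rr).prod, hmemΩ _ (fun i hi => (hgens _ (List.getElem_mem h)).2 i hi)
        (hgens _ (List.getElem_mem h)).1⟩
    else 1
  have mvg : ∀ j, j < c.gens.length → ∀ x,
      enc e (mv (g j).1 x) = act (c.gcols.getD j []) (enc e x) := by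
    intro j hj x
    simp only [g, hj, dite_true]
    rw [mvW _ (fun i hi => (hgens _ (List.getElem_mem hj)).2 i hi)]
    have := beq_iff_eq.1 (hgcols j hj _ (enc_lt e x))
    rw [List.getD_eq_getElem _ _ hj] at this
    exact this.symm
  -- normalisation on the first generator
  have hg0 : 0 < c.gens.length := by omega
  let φ : (ι → ZMod 2) → (ι → ZMod 2) := fun v => mv (g 0).1 v - v
  have hφ : Function.Injective φ := by
    intro a b hab
    have e1 : mv (g 0).1 (a - b) = a - b := by
      have : mv (g 0).1 a - mv (g 0).1 b = a - b := by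
        have hab' : mv (g 0).1 a - a = mv (g 0).1 b - b := hab
        rw [sub_eq_sub_iff_add_eq_add] at hab' ⊢
        rw [hab', add_comm]
      exact (Matrix.mulVec_sub _ a b).trans this
    have e2 := congrArg (enc e) e1
    rw [mvg 0 hg0] at e2
    have := hk _ (enc_lt e (a - b))
    rw [Bool.or_eq_true, beq_iff_eq, bne_iff_ne] at this
    rcases this with h0 | h0
    · rw [← enc_zero e] at h0
      exact sub_eq_zero.1 (enc_inj e h0)
    · exact absurd e2 h0
  obtain ⟨v0, hv0⟩ := (Finite.injective_iff_surjective.1 hφ) (f (g 0))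
  refine ⟨v0, ?_⟩
  let F : ↥(Cfsg.Omega (ZMod 2) ⇑Q) → (ι → ZMod 2) := fun h => f h - (mv h.1 v0 - v0)
  have hF : ∀ a b, F (a * b) = F a + mv a.1 (F b) := by
    intro a b
    show f (a * b) - (mv (a.1 * b.1) v0 - v0) = _
    rw [hf, mv_mul]
    show f a + mv a.1 (f b) - (mv a.1 (mv b.1 v0) - v0) =
      f a - (mv a.1 v0 - v0) + mv a.1 (f b - (mv b.1 v0 - v0))
    show f a + Matrix.mulVec _ (f b) - (Matrix.mulVec _ _ - v0) =
      f a - (Matrix.mulVec _ v0 - v0) + Matrix.mulVec _ (f b - (mv b.1 v0 - v0))
    rw [Matrix.mulVec_sub, Matrix.mulVec_sub]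
    abel
  have hF1 : F 1 = 0 := by
    have h := hF 1 1
    rw [mul_one] at h
    have e1 : mv (1 : ↥(Cfsg.Omega (ZMod 2) ⇑Q)).1 (F 1) = F 1 := mv_one _
    rw [e1] at h
    exact left_eq_add.1 h
  have hFg : ∀ j, j < c.gens.length → F (g j) = 0 := by
    intro j
    induction j using Nat.strong_induction_on with
    | _ j ih =>
      intro hj
      rcases Nat.eq_zero_or_pos j with rfl | hjpos
      · show f (g 0) - (mv (g 0).1 v0 - v0) = 0
        rw [← hv0]; exact sub_self _
      obtain ⟨s, rfl⟩ : ∃ s, j = s + 1 := ⟨j - 1, by omega⟩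
      have hs : s < c.steps.length := by omega
      have hst := hsteps s hs
      simp only [stepOK, Bool.and_eq_true, List.all_eq_true, List.mem_range, decide_eq_true_eq]
        at hst
      obtain ⟨hrels, hinj⟩ := hst
      have hword : ∀ w : List ℕ, (∀ i ∈ w, i ≤ s + 1) →
          enc e (F (w.map g).prod) = val c.gcols (s + 1) (enc e (F (g (s + 1)))) w ∧
          ∀ x, enc e (mv ((w.map g).prod).1 x) = run c.gcols w (enc e x) := by
        intro w
        induction w with
        | nil =>
          intro _
          refine ⟨by rw [List.map_nil, List.prod_nil, hF1, enc_zero]; rfl, fun x => ?_⟩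
          rw [List.map_nil, List.prod_nil]
          show enc e (mv 1 x) = _
          rw [mv_one]; rfl
        | cons i w ihw =>
          intro hw
          have hi : i ≤ s + 1 := hw i (List.mem_cons_self ..)
          obtain ⟨h1, h2⟩ := ihw fun k hk => hw k (List.mem_cons_of_mem _ hk)
          constructor
          · rw [List.map_cons, List.prod_cons, hF, enc_add, mvg i (by omega), h1, val]
            congr 1
            split_ifs with h
            · rw [h]
            · rw [ih i (by omega) (by omega), enc_zero]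
          · intro x
            rw [List.map_cons, List.prod_cons, run]
            show enc e (mv ((g i).1 * ((w.map g).prod).1) x) = _
            rw [mv_mul, mvg i (by omega), h2]
      have hv := hinj _ (enc_lt e (F (g (s + 1))))
      rw [Bool.or_eq_true, beq_iff_eq, List.any_eq_true] at hv
      rcases hv with h0 | ⟨w, hw, hne'⟩
      · rw [← enc_zero e] at h0
        exact enc_inj e h0
      · obtain ⟨hle, hid⟩ := hrels w hw
        obtain ⟨h1, h2⟩ := hword w hle
        have hprod : (w.map g).prod = 1 := Subtype.ext (mv_inj _ _ fun x => enc_inj e (by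
          rw [h2, beq_iff_eq.1 (hid _ (enc_lt e x))]
          show _ = enc e (mv 1 x)
          rw [mv_one]))
        rw [hprod, hF1, enc_zero] at h1
        simp [← h1] at hne'
  let Z : Subgroup ↥(Cfsg.Omega (ZMod 2) ⇑Q) :=
    { carrier := {h | F h = 0}
      one_mem' := hF1
      mul_mem' := fun {a b} (ha : F a = 0) (hb : F b = 0) => by
        show F (a * b) = 0
        rw [hF, ha, hb, zero_add]
        exact Matrix.mulVec_zero _
      inv_mem' := fun {a} (ha : F a = 0) => by
        show F a⁻¹ = 0
        have h := hF a⁻¹ a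
        rw [inv_mul_cancel, hF1, ha] at h
        rw [show mv (a⁻¹).1 0 = 0 from Matrix.mulVec_zero _, add_zero] at h
        exact h.symm }
  obtain ⟨N, hN⟩ : ∃ N, c.roots.length = N + 1 := ⟨c.roots.length - 1, by omega⟩
  have hOle : commutator ↥(Cfsg.isometryGroup (ZMod 2) ⇑Q) ≤
      Z.map (Cfsg.Omega (ZMod 2) ⇑Q).subtype := by
    refine commutator_le_of_pairs (fun i : Fin (N + 1) => R (Fin.cast hN.symm i))
      (fun i => R2 _) ?_ _ fun i => ?_
    · rw [← hgen]
      congr 1
      ext t
      constructor
      · rintro ⟨i, rfl⟩; exact ⟨_, rfl⟩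
      · rintro ⟨i, rfl⟩; exact ⟨Fin.cast hN i, by simp⟩
    · have hR0 : R (Fin.cast hN.symm 0) = rr 0 := by simp [rr, hpos, Fin.cast]
      by_cases hi : (i : ℕ) = 0
      · rw [show i = 0 from Fin.ext hi, R2]
        exact one_mem _
      · have hi' : (i : ℕ) < c.roots.length := by omega
        have hp := hpairs i hi'
        rw [Bool.or_eq_true, decide_eq_true_eq, List.any_eq_true] at hp
        obtain ⟨w, hw, hweq⟩ := hp.resolve_left hi
        rw [decide_eq_true_eq] at hweq
        obtain ⟨j, hj, hje⟩ := List.mem_iff_getElem.1 (List.mem_of_mem_tail hw)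
        refine ⟨g j, hFg j hj, ?_⟩
        show (g j).1 = _
        simp only [g, hj, dite_true, hje, hweq]
        rw [List.map_cons, List.map_cons, List.map_nil, List.prod_cons, List.prod_cons,
          List.prod_nil, mul_one, hR0]
        simp [rr, hi', Fin.cast]
  intro h
  obtain ⟨z, hz, hzh⟩ := hOle h.2
  have hFh : F h = 0 := by rw [← show z = h from Subtype.ext hzh]; exact hz
  exact sub_eq_zero.1 hFh

end CfsgLib.ThreeTransp.OmegaH1
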