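import Cfsg.Agent.Lib.ThreeTransp.OmegaH1Data
import Cfsg.Agent.Lib.Geometry.EvenClass
import Cfsg.Agent.Lib.Classical.OmegaSixMinus

/-!
Vanishing of the first cohomology of three orthogonal groups on their natural modules.
-/

set_option autoImplicit false
set_option maxRecDepth 20000
set_option maxHeartbeats 1000000

namespace CfsgLib.ThreeTransp.OmegaH1

open QuadraticMap CfsgLib.Geometry

/-- Coordinates of a minus space. -/
def idxMinus (m : ℕ) : Fin (m + m + 2) ≃ (Fin m ⊕ Fin m) ⊕ Fin 2 :=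
  ((Equiv.sumCongr finSumFinEquiv (Equiv.refl _)).trans finSumFinEquiv).symm

/-- Coordinates of a plus space. -/
def idxPlus (m : ℕ) : Fin (m + m) ≃ Fin m ⊕ Fin m := finSumFinEquiv.symm

/-- The roots. -/
def rootsA4 (i : Fin certA4.roots.length) : (Fin 1 ⊕ Fin 1) ⊕ Fin 2 → ZMod 2 :=
  dec (idxMinus 1) certA4.roots[i]

/-- The roots. -/
def rootsE6 (i : Fin certE6.roots.length) : (Fin 2 ⊕ Fin 2) ⊕ Fin 2 → ZMod 2 :=
  dec (idxMinus 2) certE6.roots[i]

/-- The roots. -/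
def rootsE8 (i : Fin certE8.roots.length) : Fin 4 ⊕ Fin 4 → ZMod 2 :=
  dec (idxPlus 4) certE8.roots[i]

theorem okA4 : certA4.ok = true := by decide +kernel
theorem okE6 : certE6.ok = true := by decide +kernel
theorem okE8 : certE8.ok = true := by decide +kernel

theorem linkA4 : Linked (Cfsg.quadFormMinus 1 (ZMod 2) 1 1) certA4 (idxMinus 1) rootsA4 := by
  unfold Linked; decide +kernel

theorem linkE6 : Linked (Cfsg.quadFormMinus 2 (ZMod 2) 1 1) certE6 (idxMinus 2) rootsE6 := by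
  unfold Linked; decide +kernel

theorem linkE8 : Linked (Cfsg.quadFormPlus 4 (ZMod 2)) certE8 (idxPlus 4) rootsE8 := by
  unfold Linked; decide +kernel

theorem binAnisoTwo : ∀ z₁ z₂ : ZMod 2, z₁ ^ 2 + 1 * z₁ * z₂ + 1 * z₂ ^ 2 = 0 → z₁ = 0 ∧ z₂ = 0 := by
  decide

set_option synthInstance.maxSize 4000 in
theorem singA4 : ∀ e u : (Fin 1 ⊕ Fin 1) ⊕ Fin 2 → ZMod 2, e ≠ 0 →
    Cfsg.quadFormMinus 1 (ZMod 2) 1 1 e = 0 →
    polar (Cfsg.quadFormMinus 1 (ZMod 2) 1 1) e u = 0 →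
    Cfsg.quadFormMinus 1 (ZMod 2) 1 1 u = 0 → u = 0 ∨ u = e := by decide +kernel

theorem split_A4 : SplitSingular (matQuad (minusMat 1 (ZMod 2) 1 1)) := by
  intro e u he0 he heu hu
  rw [coe_matQuad_minus] at he heu hu
  rcases singA4 e u he0 he heu hu with rfl | rfl
  · exact Or.inl (Submodule.zero_mem _)
  · exact Or.inl (Submodule.mem_span_singleton_self _)

theorem refl_A4 :
    reflGroup (matQuad (minusMat 1 (ZMod 2) 1 1)) = orth (matQuad (minusMat 1 (ZMod 2) 1 1)) := by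
  have hQ : (polarBilin (matQuad (minusMat 1 (ZMod 2) 1 1))).Nondegenerate :=
    nondegenerate_matQuad (by rw [det_minus_gram]; decide)
  refine le_antisymm (reflGroup_le_orth _) fun g hg => ?_
  exact mem_reflGroup_of_fix hQ split_A4
    (Module.finrank (ZMod 2) ((Fin 1 ⊕ Fin 1) ⊕ Fin 2 → ZMod 2)) ⊥ (by simp)
    (Or.inl fun t ht _ => (Submodule.mem_bot _).1 ht) g hg
    (fun t ht => by rw [(Submodule.mem_bot _).1 ht, map_zero])

theorem refl_E6 :
    reflGroup (matQuad (minusMat 2 (ZMod 2) 1 1)) = orth (matQuad (minusMat 2 (ZMod 2) 1 1)) :=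
  reflGroup_eq_orth (CfsgLib.Classical.nondeg_minus_two binAnisoTwo) (Or.inl (by simp))

theorem refl_E8 : reflGroup (matQuad (plusMat 4 (ZMod 2))) = orth (matQuad (plusMat 4 (ZMod 2))) :=
  (evenHyp_plus (F := ZMod 2) (m := 4) le_rfl).reflGroup

end CfsgLib.ThreeTransp.OmegaH1
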