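import Cfsg.Agent.Lib.ThreeTransp.OmegaH1

/-!
Certificates for three orthogonal groups over the field with two elements.
-/

set_option autoImplicit false

namespace CfsgLib.ThreeTransp.OmegaH1

/-- The certificate of type A4. -/
def certA4 : Cert where
  n := 4
  roots := [3, 5, 8, 4]
  cols := [[2, 1, 4, 8], [1, 7, 4, 13], [1, 2, 12, 8], [1, 2, 4, 12]]
  gens := [[0, 1, 2, 3], [0, 1], [1, 0], [2, 0], [3, 0]]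
  gcols := [[2, 7, 10, 4], [2, 7, 4, 14], [7, 1, 4, 13], [2, 1, 12, 8], [2, 1, 4, 12]]
  steps := [[[1, 1, 1], [0, 0, 1, 0, 0, 1]], [[2, 1]], [[3, 3], [3, 0, 3, 0, 3, 0]], [[3, 2, 0, 4]]]
  tree := [(1, 0), (2, 1), (3, 2)]
  orb := [(6, 3, 1), (13, 5, 2), (12, 8, 3), (14, 6, 2), (9, 13, 3), (10, 14, 3)]

/-- The certificate of type E6. -/
def certE6 : Cert where
  n := 6
  roots := [5, 7, 11, 24, 32, 16]
  cols := [[4, 2, 1, 8, 16, 32], [6, 2, 3, 15, 16, 32], [1, 9, 15, 3, 16, 32], [1, 26, 4, 8, 16, 56], [1, 2, 4, 8, 48, 32], [1, 2, 4, 8, 16, 48]]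
  gens := [[0, 1, 2, 3, 4, 5], [0, 4, 2, 5], [1, 0], [2, 0], [3, 0], [4, 0], [5, 0]]
  gcols := [[3, 29, 8, 1, 33, 16], [4, 12, 15, 6, 48, 16], [3, 2, 6, 15, 16, 32], [15, 9, 1, 3, 16, 32], [4, 26, 1, 8, 16, 56], [4, 2, 1, 8, 48, 32], [4, 2, 1, 8, 16, 48]]
  steps := [[[1, 1, 1], [0, 1, 1, 0, 1, 1, 0, 1, 1]], [[2, 2], [1, 2, 1, 0, 1, 2, 1, 0, 1, 2, 1, 0], [2, 0, 2, 0, 2, 0, 2, 0, 2, 0]], [[3, 3, 3], [3, 1, 3, 1, 3, 1]], [[4, 4], [3, 4, 3, 4, 3, 4], [2, 0, 4, 1, 2, 0, 4, 1]], [[5, 5], [5, 4, 5, 4, 5, 4], [1, 5, 1, 5]], [[5, 3, 1, 6]]]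
  tree := [(2, 0), (3, 2), (1, 3), (4, 3), (5, 4)]
  orb := [(14, 5, 2), (31, 7, 3), (19, 11, 3), (56, 24, 4), (48, 32, 5), (22, 14, 3), (20, 31, 2), (63, 31, 4), (51, 19, 4), (40, 56, 5), (17, 22, 1), (54, 22, 4), (52, 20, 4), (47, 63, 5), (35, 51, 5), (49, 17, 4), (38, 54, 5), (44, 52, 3), (36, 52, 5), (41, 49, 3), (33, 49, 5), (60, 44, 5), (34, 41, 2), (57, 41, 5), (28, 60, 4), (50, 34, 5), (25, 57, 4), (18, 50, 4), (10, 18, 3), (13, 10, 1)]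

/-- The certificate of type E8. -/
def certE8 : Cert where
  n := 8
  roots := [17, 19, 35, 100, 27, 136, 31, 68]
  cols := [[16, 2, 4, 8, 1, 32, 64, 128], [18, 2, 4, 8, 3, 51, 64, 128], [1, 33, 4, 8, 51, 3, 64, 128], [1, 102, 96, 8, 16, 32, 36, 128], [26, 2, 4, 8, 11, 59, 64, 155], [1, 2, 4, 128, 16, 32, 64, 8], [30, 2, 4, 8, 15, 63, 95, 159], [1, 2, 64, 8, 16, 32, 4, 128]]
  gens := [[0, 1, 2, 3, 4, 5, 6, 7], [2, 1, 4, 1, 7, 7], [1, 0], [2, 0], [3, 0], [4, 0], [5, 0], [6, 0], [7, 0]]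
  gcols := [[148, 117, 204, 222, 183, 150, 65, 193], [26, 33, 4, 8, 40, 24, 64, 155], [3, 2, 4, 8, 18, 51, 64, 128], [51, 33, 4, 8, 1, 3, 64, 128], [16, 102, 96, 8, 1, 32, 36, 128], [11, 2, 4, 8, 26, 59, 64, 155], [16, 2, 4, 128, 1, 32, 64, 8], [15, 2, 4, 8, 30, 63, 95, 159], [16, 2, 64, 8, 1, 32, 4, 128]]
  steps := [[[1, 1], [0, 1, 0, 1, 0, 1, 0, 1, 0, 1, 0, 1, 0, 1, 0, 1, 0, 1, 0, 1], [1, 0, 1, 0, 1, 0, 0, 1, 0, 1, 0, 1, 0, 1, 0, 0, 1, 0, 1, 0, 1, 0, 1, 0, 0, 1, 0, 1, 0, 1, 0, 1, 0, 0, 1, 0, 1, 0, 1, 0, 1, 0, 0, 1, 0]], [[2, 2], [0, 1, 2, 0, 1, 2, 0, 1, 2, 0, 1, 2, 0, 1, 2], [0, 2, 0, 2, 0, 1, 0, 2, 0, 2, 0, 1, 0, 2, 0, 2, 0, 1, 0, 2, 0, 2, 0, 1, 0, 2, 0, 2, 0, 1, 0, 2, 0, 2, 0, 1], [2, 1, 2, 1, 2, 1, 2, 1, 2, 1, 2, 1]], [[3, 3, 3], [2, 1, 2, 3, 1]], [[4, 4], [4, 3, 4, 3, 4, 3], [4, 3, 0, 4, 3, 0, 4, 3, 0, 4, 3,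 0, 4, 3, 0, 4, 3, 0]], [[3, 5, 1]], [[6, 6], [6, 5, 6, 5, 6, 5], [2, 0, 6, 1, 2, 0, 6, 1, 2, 0, 6, 1, 2, 0, 6, 1]], [[7, 7], [6, 7, 6, 7, 6, 7], [7, 0, 1, 7, 0, 1, 7, 0, 1, 7, 0, 1, 7, 0, 1]], [[8, 8], [8, 7, 8, 7, 8, 7], [8, 0, 1, 8, 0, 1, 8, 0, 1, 8, 0, 1, 8, 0, 1]]]
  tree := [(2, 0), (3, 2), (1, 3), (4, 3), (5, 4), (6, 5), (7, 6)]
  orb := [(50, 17, 2), (119, 19, 3), (71, 35, 3), (127, 100, 4), (147, 27, 5), (151, 136, 6), (91, 31, 7), (86, 50, 3), (84, 119, 2), (108, 119, 4), (92, 71, 4), (247, 127, 5), (140, 147, 6), (211, 151, 7), (69, 86, 1), (77, 86, 4), (79, 84, 4), (228, 108, 5), (212, 92, 5), (232, 247, 6), (200, 140, 7), (94, 69, 4), (197, 77, 5), (43, 79, 3), (199, 79, 5), (251, 228, 6), (203, 212, 6), (172, 232, 7), (58, 94, 3), (214, 94, 5), (218, 197, 6), (163, 43, 5), (216, 199, 6), (191, 251, 7),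 (143, 203, 7), (25, 58, 2), (178, 58, 5), (201, 214, 6), (158, 218, 7), (184, 163, 4), (188, 163, 6), (156, 216, 7), (145, 25, 5), (169, 178, 4), (173, 178, 6), (141, 201, 7), (167, 184, 6), (248, 188, 7), (138, 145, 4), (142, 145, 6), (182, 169, 6), (233, 173, 7), (47, 167, 5), (227, 167, 7), (238, 138, 3), (149, 138, 6), (202, 142, 7), (62, 182, 5), (242, 182, 7), (107, 47, 7), (253, 238, 1), (241, 238, 6), (29, 149, 5), (209, 149, 7), (122, 62, 7), (116, 107, 6), (226, 253, 6), (121, 241, 5), (181, 241, 7), (89, 29, 7), (101, 122, 6), (106, 226, 5), (166, 226, 7), (98, 121, 4), (61, 121, 7), (70, 89, 6), (113, 106, 4), (46, 106, 7), (38, 98, 7), (34, 61, 6), (21, 113, 3), (53, 113, 7), (49, 46, 6), (57, 38, 6), (54, 21, 2), (81, 21, 7), (42, 53, 6), (177, 57, 5), (39, 54, 0), (114, 54, 7), (78, 81, 6), (162, 42,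 5), (99, 39, 7), (109, 114, 6), (198, 78, 5), (124, 99, 6), (229, 109, 5), (221, 198, 4), (244, 124, 5), (254, 229, 4), (239, 244, 4), (154, 254, 3), (139, 239, 3), (137, 154, 1), (152, 139, 1), (168, 139, 2), (187, 152, 2), (223, 187, 3), (196, 223, 4), (76, 196, 5), (83, 76, 6), (23, 83, 7)]

end CfsgLib.ThreeTransp.OmegaH1
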