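import Mathlib
import Cfsg.Agent.Lib.ThreeTransp.TwistF2
import Cfsg.Agent.Lib.ThreeTransp.Large
import Cfsg.Agent.Lib.Base.Cores

/-!
The centralizer shape `2^(1+2n) : GL_n(2)` and its two-core.
-/

set_option autoImplicit false

namespace CfsgLib.ThreeTransp

namespace Par

open Matrix

/-- Row vectors over the field with two elements. -/
abbrev V (n : ℕ) : Type := Fin n → ZMod 2

/-- Elements of `2^(1+2n) : GL_n(2)`. -/
@[ext]
structure P (n : ℕ) where
  /-- central part -/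
  s : ZMod 2
  /-- row part -/
  f : V n
  /-- column part -/
  a : V n
  /-- linear part -/
  A : GL (Fin n) (ZMod 2)

variable {n : ℕ}

theorem vtwo (v : V n) : v + v = 0 := TwistF2.vec_two v

instance : Group (P n) where
  mul p q := ⟨p.s + q.s + p.f ⬝ᵥ q.a, q.f + p.f ᵥ* (q.A : Matrix (Fin n) (Fin n) (ZMod 2)),
    p.a + (p.A : Matrix (Fin n) (Fin n) (ZMod 2)) *ᵥ q.a, p.A * q.A⟩
  one := ⟨0, 0, 0, 1⟩
  inv p := ⟨p.s + p.f ⬝ᵥ ((p.A⁻¹ : GL (Fin n) (ZMod 2)) : Matrix (Fin n) (Fin n) (ZMod 2)) *ᵥ p.a,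
    p.f ᵥ* ((p.A⁻¹ : GL (Fin n) (ZMod 2)) : Matrix (Fin n) (Fin n) (ZMod 2)),
    ((p.A⁻¹ : GL (Fin n) (ZMod 2)) : Matrix (Fin n) (Fin n) (ZMod 2)) *ᵥ p.a, p.A⁻¹⟩
  mul_assoc p q r := by
    ext : 1
    · show p.s + q.s + p.f ⬝ᵥ q.a + r.s + (q.f + p.f ᵥ* _) ⬝ᵥ r.a =
        p.s + (q.s + r.s + q.f ⬝ᵥ r.a) + p.f ⬝ᵥ (q.a + _ *ᵥ r.a)
      rw [add_dotProduct, dotProduct_add, dotProduct_mulVec]; ring
    · show r.f + (q.f + p.f ᵥ* _) ᵥ* _ = r.f + q.f ᵥ* _ + p.f ᵥ* ((q.A * r.A : GL _ _) : Matrix _ _ _)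
      rw [add_vecMul, Units.val_mul, vecMul_vecMul, add_assoc]
    · show p.a + _ *ᵥ q.a + ((p.A * q.A : GL _ _) : Matrix _ _ _) *ᵥ r.a = p.a + _ *ᵥ (q.a + _ *ᵥ r.a)
      rw [mulVec_add, Units.val_mul, mulVec_mulVec, add_assoc]
    · exact mul_assoc _ _ _
  one_mul p := by
    ext : 1
    · show 0 + p.s + 0 ⬝ᵥ p.a = p.s
      simp
    · show p.f + 0 ᵥ* _ = p.f
      simp
    · show 0 + ((1 : GL (Fin n) (ZMod 2)) : Matrix _ _ _) *ᵥ p.a = p.a
      simp
    · exact one_mul _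
  mul_one p := by
    ext : 1
    · show p.s + 0 + p.f ⬝ᵥ 0 = p.s
      simp
    · show 0 + p.f ᵥ* ((1 : GL (Fin n) (ZMod 2)) : Matrix _ _ _) = p.f
      simp
    · show p.a + _ *ᵥ 0 = p.a
      simp
    · exact mul_one _
  inv_mul_cancel p := by
    ext : 1
    · show p.s + p.f ⬝ᵥ _ *ᵥ p.a + p.s + (p.f ᵥ* _) ⬝ᵥ p.a = 0
      rw [dotProduct_mulVec, add_comm (p.s + _) p.s, ← add_assoc, TwistF2.two_zero, zero_add, TwistF2.two_zero]
    · show p.f + (p.f ᵥ* _) ᵥ* (p.A : Matrix (Fin n) (Fin n) (ZMod 2)) = 0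
      rw [vecMul_vecMul, ← Units.val_mul, inv_mul_cancel, Units.val_one, vecMul_one, vtwo]
    · exact vtwo _
    · exact inv_mul_cancel _

theorem mul_s (p q : P n) : (p * q).s = p.s + q.s + p.f ⬝ᵥ q.a := rfl
theorem mul_f (p q : P n) : (p * q).f = q.f + p.f ᵥ* (q.A : Matrix (Fin n) (Fin n) (ZMod 2)) := rfl
theorem mul_a (p q : P n) : (p * q).a = p.a + (p.A : Matrix (Fin n) (Fin n) (ZMod 2)) *ᵥ q.a := rfl
theorem mul_A (p q : P n) : (p * q).A = p.A * q.A := rfl
theorem one_eq : (1 : P n) = ⟨0, 0, 0, 1⟩ := rfl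

instance : Finite (P n) :=
  Finite.of_injective (fun p : P n => (p.s, p.f, p.a, p.A)) fun p q h => by
    simp only [Prod.mk.injEq] at h
    exact P.ext h.1 h.2.1 h.2.2.1 h.2.2.2

/-- The linear part. -/
def proj (n : ℕ) : P n →* GL (Fin n) (ZMod 2) where
  toFun := P.A
  map_one' := rfl
  map_mul' _ _ := rfl

/-- The complement. -/
def sec (n : ℕ) : GL (Fin n) (ZMod 2) →* P n where
  toFun A := ⟨0, 0, 0, A⟩
  map_one' := rfl
  map_mul' A B := by ext : 1 <;> simp [mul_s, mul_f, mul_a, mul_A]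

/-- The cocycle. -/
def cocBil (n : ℕ) : LinearMap.BilinForm (ZMod 2) (CfsgLib.LocalEven.Pauli.W n) :=
  LinearMap.mk₂ _ CfsgLib.LocalEven.Pauli.coc CfsgLib.LocalEven.Pauli.coc_add_left
    CfsgLib.LocalEven.Pauli.coc_smul_left CfsgLib.LocalEven.Pauli.coc_add_right
    CfsgLib.LocalEven.Pauli.coc_smul_right

theorem cocBil_nondeg (n : ℕ) : TwistF2.Nondeg (cocBil n) :=
  fun _ h => CfsgLib.LocalEven.Pauli.form_nondeg fun w => h w

/-- The radical as a twisted product. -/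
def inl (n : ℕ) : TwistF2.Tw (cocBil n) →* P n where
  toFun t := ⟨t.s, fun i => t.v (.inl i), fun i => t.v (.inr i), 1⟩
  map_one' := rfl
  map_mul' t u := by
    ext : 1
    · show t.s + u.s + ∑ i, u.v (.inr i) * t.v (.inl i) = t.s + u.s + ∑ i, t.v (.inl i) * u.v (.inr i)
      exact congrArg _ (Finset.sum_congr rfl fun i _ => mul_comm _ _)
    · simp only [mul_f, Units.val_one, vecMul_one]; funext i
      exact add_comm (t.v (Sum.inl i)) (u.v (Sum.inl i))
    · simp only [mul_a, Units.val_one, one_mulVec]; funext i; rfl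
    · exact (one_mul 1).symm

theorem inl_injective (n : ℕ) : Function.Injective (inl n) := by
  intro t u h
  refine TwistF2.Tw.ext (funext fun i => ?_) (congrArg P.s h)
  rcases i with i | i
  · exact congrFun (congrArg P.f h) i
  · exact congrFun (congrArg P.a h) i

theorem range_inl (n : ℕ) : (inl n).range = (proj n).ker := by
  ext p
  constructor
  · rintro ⟨t, rfl⟩; rfl
  · intro hp
    exact ⟨⟨Sum.elim p.f p.a, p.s⟩, P.ext rfl rfl rfl (MonoidHom.mem_ker.1 hp).symm⟩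

/-- A linear equivalence sending a given non-zero vector to the first unit vector. -/
theorem exists_equiv_single {W : Type*} [AddCommGroup W] [Module (ZMod 2) W] [Module.Finite (ZMod 2) W]
    {m : ℕ} (hW : Module.finrank (ZMod 2) W = m + 1) {v : W} (hv : v ≠ 0) :
    ∃ L : W ≃ₗ[ZMod 2] (Fin (m + 1) → ZMod 2), L v = Pi.single 0 1 := by
  haveI : Fact (Nat.Prime 2) := ⟨Nat.prime_two⟩
  obtain ⟨U, hU⟩ := Submodule.exists_isCompl (ZMod 2 ∙ v)
  have h1 := Submodule.finrank_add_eq_of_isCompl hU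
  rw [finrank_span_singleton hv, hW] at h1
  let e : U ≃ₗ[ZMod 2] (Fin m → ZMod 2) :=
    LinearEquiv.ofFinrankEq _ _ (by rw [Module.finrank_fintype_fun_eq_card, Fintype.card_fin]; omega)
  let c : (ZMod 2 × (Fin m → ZMod 2)) ≃ₗ[ZMod 2] (Fin (m + 1) → ZMod 2) :=
    { toFun := fun p => Fin.cons p.1 p.2
      invFun := fun x => (x 0, Fin.tail x)
      map_add' := fun p q => by funext i; refine Fin.cases ?_ ?_ i <;> simp
      map_smul' := fun r p => by funext i; refine Fin.cases ?_ ?_ i <;> simp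
      left_inv := fun p => by simp
      right_inv := fun x => Fin.cons_self_tail x }
  refine ⟨(Submodule.prodEquivOfIsCompl _ _ hU).symm ≪≫ₗ
    ((LinearEquiv.toSpanNonzeroSingleton (ZMod 2) W v hv).symm.prodCongr e) ≪≫ₗ c, ?_⟩
  have h2 : (Submodule.prodEquivOfIsCompl _ _ hU).symm v = (⟨v, Submodule.mem_span_singleton_self v⟩, 0) :=
    Submodule.prodEquivOfIsCompl_symm_apply_left (ZMod 2 ∙ v) U hU ⟨v, _⟩
  have h3 : (LinearEquiv.toSpanNonzeroSingleton (ZMod 2) W v hv).symm ⟨v, Submodule.mem_span_singleton_self v⟩ = 1 := by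
    rw [LinearEquiv.symm_apply_eq, LinearEquiv.toSpanNonzeroSingleton_one]
  simp only [LinearEquiv.trans_apply, h2, LinearEquiv.prodCongr_apply, map_zero, h3]
  show (Fin.cons (1 : ZMod 2) (0 : Fin m → ZMod 2) : Fin (m + 1) → ZMod 2) = _
  funext i; refine Fin.cases ?_ ?_ i <;> simp

/-- The invertible matrix of a linear automorphism. -/
def toGL (e : V n ≃ₗ[ZMod 2] V n) : GL (Fin n) (ZMod 2) where
  val := LinearMap.toMatrix' e.toLinearMap
  inv := LinearMap.toMatrix' e.symm.toLinearMap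
  val_inv := by rw [← LinearMap.toMatrix'_comp]; simp
  inv_val := by rw [← LinearMap.toMatrix'_comp]; simp

theorem toGL_mulVec (e : V n ≃ₗ[ZMod 2] V n) (v : V n) :
    (toGL e : Matrix (Fin n) (Fin n) (ZMod 2)) *ᵥ v = e v := LinearMap.toMatrix'_mulVec _ v

theorem transitive {v w : V n} (hv : v ≠ 0) (hw : w ≠ 0) :
    ∃ g : GL (Fin n) (ZMod 2), (g : Matrix (Fin n) (Fin n) (ZMod 2)) *ᵥ v = w := by
  cases n with
  | zero => exact absurd (Subsingleton.elim v 0) hv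
  | succ m =>
    have hr : Module.finrank (ZMod 2) (V (m + 1)) = m + 1 := by simp
    obtain ⟨L, hL⟩ := exists_equiv_single hr hv
    obtain ⟨L', hL'⟩ := exists_equiv_single hr hw
    exact ⟨toGL (L.trans L'.symm), by
      rw [toGL_mulVec, LinearEquiv.trans_apply, hL, LinearEquiv.symm_apply_eq, hL']⟩

theorem gl_pCore (n : ℕ) : Cfsg.pCore 2 (GL (Fin n) (ZMod 2)) = ⊥ := by
  haveI : Fact (Nat.Prime 2) := ⟨Nat.prime_two⟩
  set N := Cfsg.pCore 2 (GL (Fin n) (ZMod 2)) with hN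
  rw [eq_bot_iff]
  rcases Nat.eq_zero_or_pos n with rfl | hn
  · intro g _
    exact Subgroup.mem_bot.2 (Units.ext (Subsingleton.elim _ _))
  letI : MulAction N (V n) :=
    { smul := fun g v => ((g : GL (Fin n) (ZMod 2)) : Matrix (Fin n) (Fin n) (ZMod 2)) *ᵥ v
      one_smul := fun v => one_mulVec v
      mul_smul := fun g h v => (mulVec_mulVec _ _ _).symm }
  have h0 : (0 : V n) ∈ MulAction.fixedPoints N (V n) := fun g => mulVec_zero _
  have hdvd : 2 ∣ Nat.card (V n) := by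
    rw [Nat.card_fun, Nat.card_zmod, Nat.card_fin]; exact dvd_pow_self 2 hn.ne'
  obtain ⟨v, hv, hv0⟩ :=
    (CfsgLib.Base.isPGroup_pCore 2 _).exists_fixed_point_of_prime_dvd_card_of_fixed_point (V n) hdvd h0
  intro g hg
  rw [Subgroup.mem_bot]
  refine Units.ext (Matrix.ext_of_mulVec_single fun i => ?_)
  rw [Units.val_one, one_mulVec]
  obtain ⟨h, hh⟩ := transitive (Ne.symm hv0) (show (Pi.single i 1 : V n) ≠ 0 by simp)
  have hc : h⁻¹ * g * h ∈ N := by
    have := (Cfsg.pCore_normal 2 (GL (Fin n) (ZMod 2))).conj_mem g hg h⁻¹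
    rwa [inv_inv] at this
  have hfix : ((h⁻¹ * g * h : GL (Fin n) (ZMod 2)) : Matrix (Fin n) (Fin n) (ZMod 2)) *ᵥ v = v :=
    hv ⟨_, hc⟩
  rw [← hh, mulVec_mulVec, ← Units.val_mul, show g * h = h * (h⁻¹ * g * h) by group, Units.val_mul,
    ← mulVec_mulVec, hfix]

theorem isPGroup_inl (n : ℕ) : IsPGroup 2 (inl n).range := by
  haveI : Fact (Nat.Prime 2) := ⟨Nat.prime_two⟩
  have hP : IsPGroup 2 (TwistF2.Tw (cocBil n)) := fun a => ⟨2, by
    rw [pow_two 2, pow_mul, TwistF2.sq_eq, TwistF2.sq_eq]; ext <;> simp [TwistF2.one_v, TwistF2.one_s]⟩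
  exact hP.of_surjective (inl n).rangeRestrict (inl n).rangeRestrict_surjective

theorem pCore_eq (n : ℕ) : Cfsg.pCore 2 (P n) = (inl n).range := by
  refine le_antisymm (fun p hp => ?_) ?_
  · rw [range_inl, MonoidHom.mem_ker, ← Subgroup.mem_bot, ← gl_pCore n]
    exact CfsgLib.Base.map_pCore_le (proj n) (fun A => ⟨sec n A, rfl⟩) ⟨p, hp, rfl⟩
  · haveI : (inl n).range.Normal := by rw [range_inl]; infer_instance
    exact CfsgLib.Base.le_pCore (isPGroup_inl n)

theorem comm_inl {p : P n} (h : ∀ t, inl n t * p = p * inl n t) : p ∈ (inl n).range := by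
  rw [range_inl, MonoidHom.mem_ker]
  refine Units.ext (Matrix.ext fun i j => ?_)
  have := congrArg (fun q => q.f j) (h ⟨Sum.elim (Pi.single i 1) 0, 0⟩)
  simp only [mul_f, inl, MonoidHom.coe_mk, OneHom.coe_mk, Pi.add_apply, Units.val_one, vecMul_one, Sum.elim_inl,
    Matrix.single_one_vecMul] at this
  rw [Units.val_one, Matrix.one_apply]
  simp [Pi.single_apply, eq_comm] at this ⊢
  show (if i = j then 1 else 0) = (p.A : Matrix (Fin n) (Fin n) (ZMod 2)) i j
  linear_combination this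

theorem conclusion {G : Type*} [Group G] [Finite G] (hn : 1 ≤ n) (C : Subgroup G) (e : P n ≃* C)
    (z : G) (hz : (e ⟨1, 0, 0, 1⟩ : G) = z) (hC : C = Subgroup.centralizer ({z} : Set G))
    (Q : Subgroup G) (hQ : Q = (Cfsg.pCore 2 C).map C.subtype) :
    Cfsg.IsExtraspecial 2 Q ∧ Nat.card Q = 2 ^ (2 * n + 1) ∧
      (∃ E : Subgroup G, E ≤ Q ∧ Cfsg.IsElementaryAbelian 2 E ∧ Nat.card E = 2 ^ (n + 1)) ∧
      Subgroup.centralizer (Q : Set G) = centerIn Q ∧
      Subgroup.centralizer (centerIn Q : Set G) ≤ Subgroup.normalizer (Q : Set G) ∧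
      z ∈ centerIn Q ∧
      ∃ K : Subgroup G, K ≤ C ∧ Q ⊓ K = ⊥ ∧ Q ⊔ K = C ∧ Nonempty (K ≃* GL (Fin n) (ZMod 2)) := by
  haveI : Fact (Nat.Prime 2) := ⟨Nat.prime_two⟩
  haveI : Nonempty (Fin n) := ⟨⟨0, hn⟩⟩
  haveI : Nonempty (Fin n ⊕ Fin n) := ⟨.inl ⟨0, hn⟩⟩
  let φ : P n →* G := C.subtype.comp e.toMonoidHom
  have hφ : Function.Injective φ := Subtype.val_injective.comp e.injective
  have hφr : φ.range = C := by
    rw [MonoidHom.range_comp, MonoidHom.range_eq_top.2 e.surjective, ← MonoidHom.range_eq_map, Subgroup.range_subtype]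
  let ψ : TwistF2.Tw (cocBil n) →* G := φ.comp (inl n)
  have hψ : Function.Injective ψ := hφ.comp (inl_injective n)
  have hQψ : Q = ψ.range := by
    rw [hQ, ← CfsgLib.Base.map_pCore_mulEquiv e, pCore_eq, Subgroup.map_map, MonoidHom.range_comp]
  let eQ : TwistF2.Tw (cocBil n) ≃* Q := (MonoidHom.ofInjective hψ).trans (MulEquiv.subgroupCongr hQψ.symm)
  have hTw := TwistF2.extraspecial (cocBil_nondeg n)
  have hX : Cfsg.IsExtraspecial 2 Q := TwistF2.transfer eQ hTw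
  have hcard : Nat.card Q = 2 ^ (2 * n + 1) := by
    rw [← Nat.card_congr eQ.toEquiv, TwistF2.card_eq, Nat.card_fun, Nat.card_zmod, Nat.card_sum, Nat.card_fin,
      pow_succ, two_mul]
  have hzQ : z ∈ centerIn Q := by
    refine mem_centerIn.2 ⟨hQψ ▸ ⟨⟨0, 1⟩, hz⟩, ?_⟩
    rw [hQψ]
    rintro _ ⟨t, rfl⟩
    rw [show z = ψ ⟨0, 1⟩ from hz.symm, ← map_mul, ← map_mul]
    exact congrArg ψ ((TwistF2.comm_iff _ _).2 (by simp))
  have hz1 : z ≠ 1 := by
    intro h
    have := hφ (show φ ⟨1, 0, 0, 1⟩ = φ 1 by rw [map_one]; exact hz.trans h)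
    exact one_ne_zero (congrArg P.s this)
  have hcin : centerIn Q = Subgroup.zpowers z := by
    refine (Subgroup.eq_of_le_of_card_ge (Subgroup.zpowers_le.2 hzQ) ?_).symm
    rw [card_centerIn hX, Nat.card_zpowers]
    refine Nat.succ_le_of_lt (lt_of_le_of_ne (orderOf_pos z) (fun h => hz1 (orderOf_eq_one_iff.1 h.symm)))
  have hcentz : Subgroup.centralizer (centerIn Q : Set G) = C := by
    rw [hcin, Subgroup.zpowers_eq_closure, Subgroup.centralizer_closure, hC]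
  refine ⟨hX, hcard, ?_, ?_, ?_, hzQ, ?_⟩
  · let j : (Fin n → ZMod 2) →ₗ[ZMod 2] CfsgLib.LocalEven.Pauli.W n :=
      { toFun := fun v => Sum.elim v 0
        map_add' := fun v w => by funext i; rcases i with i | i <;> simp
        map_smul' := fun r v => by funext i; rcases i with i | i <;> simp }
    obtain ⟨A, hA, hAc⟩ := TwistF2.exists_elementary (β := cocBil n) (LinearMap.range j) (by
      rintro _ ⟨v, rfl⟩
      show CfsgLib.LocalEven.Pauli.coc _ _ = 0
      simp [CfsgLib.LocalEven.Pauli.coc, j])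
    refine ⟨A.map ψ, hQψ ▸ Subgroup.map_le_range _ _, ⟨?_, ?_⟩, ?_⟩
    · haveI := hA.1; infer_instance
    · rintro _ ⟨a, ha, rfl⟩; rw [← map_pow, hA.2 a ha, map_one]
    · rw [Subgroup.card_map_of_injective hψ, hAc, Nat.card_congr (LinearEquiv.ofInjective j fun v w h =>
        funext fun i => congrFun h (Sum.inl i)).toEquiv.symm, Nat.card_fun, Nat.card_zmod, Nat.card_fin, pow_succ]
  · refine le_antisymm (fun g hg => ?_) fun g hg => ?_
    · have hgC : g ∈ C := hC ▸ Subgroup.mem_centralizer_singleton_iff.2 (hg z (mem_centerIn.1 hzQ).1).symm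
      obtain ⟨p, rfl⟩ := hφr.symm ▸ hgC
      obtain ⟨t, rfl⟩ := comm_inl (p := p) fun t => hφ (by
        rw [map_mul, map_mul]; exact hg _ (hQψ ▸ ⟨t, rfl⟩))
      exact mem_centerIn.2 ⟨hQψ ▸ ⟨t, rfl⟩, fun q hq => hg q hq⟩
    · exact Subgroup.mem_centralizer_iff.2 (mem_centerIn.1 hg).2
  · rw [hcentz, hQ]
    have := Subgroup.le_normalizer_map C.subtype (H := Cfsg.pCore 2 C)
    rw [Subgroup.normalizer_eq_top, ← MonoidHom.range_eq_map, Subgroup.range_subtype] at this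
    exact this
  · refine ⟨(φ.comp (sec n)).range, ?_, ?_, ?_, ⟨(MonoidHom.ofInjective (f := φ.comp (sec n)) (hφ.comp ?_)).symm⟩⟩
    · rw [← hφr]; rintro _ ⟨A, rfl⟩; exact ⟨_, rfl⟩
    · rw [eq_bot_iff, hQψ]
      rintro _ ⟨⟨t, rfl⟩, A, hA⟩
      have h1 := congrArg P.A (hφ hA)
      have h2 : A = 1 := h1
      rw [← hA, h2, map_one]; exact one_mem _
    · rw [hQψ, MonoidHom.range_comp, MonoidHom.range_comp, ← Subgroup.map_sup, range_inl]
      rw [← hφr, MonoidHom.range_eq_map φ]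
      congr 1
      rw [eq_top_iff]
      intro p _
      have : p * (sec n p.A)⁻¹ ∈ (proj n).ker := by
        rw [MonoidHom.mem_ker, map_mul, map_inv, mul_inv_eq_one]; rfl
      have h3 := Subgroup.mul_mem_sup this (show sec n p.A ∈ (sec n).range from ⟨_, rfl⟩)
      rwa [inv_mul_cancel_right] at h3
    · exact fun A B h => congrArg P.A h

end Par

end CfsgLib.ThreeTransp
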