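import Cfsg.Agent.Lib.ThreeTransp.Par

/-!
The centralizer of a translation in an affine general linear group over the field with two elements.
-/

set_option autoImplicit false

namespace CfsgLib.ThreeTransp.Par

open Matrix

variable {n : ℕ}

/-- The action on the translation space. -/
def act (p : P n) : V (n + 1) →ₗ[ZMod 2] V (n + 1) where
  toFun x := Fin.cons (x 0 + p.f ⬝ᵥ Fin.tail x) ((p.A : Matrix (Fin n) (Fin n) (ZMod 2)) *ᵥ Fin.tail x)
  map_add' x y := by
    rw [show Fin.tail (x + y) = Fin.tail x + Fin.tail y from rfl, dotProduct_add, mulVec_add]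
    funext i; refine Fin.cases ?_ (fun i => ?_) i
    · simp only [Fin.cons_zero, Pi.add_apply]; ring
    · simp
  map_smul' r x := by
    rw [show Fin.tail (r • x) = r • Fin.tail x from rfl, dotProduct_smul, mulVec_smul]
    funext i; refine Fin.cases ?_ (fun i => ?_) i <;> simp [mul_add]

theorem act_apply (p : P n) (x : V (n + 1)) :
    act p x = Fin.cons (x 0 + p.f ⬝ᵥ Fin.tail x) ((p.A : Matrix (Fin n) (Fin n) (ZMod 2)) *ᵥ Fin.tail x) := rfl

theorem act_one (x : V (n + 1)) : act (1 : P n) x = x := by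
  rw [act_apply, one_eq]
  simp [Fin.cons_self_tail]

theorem act_mul (p q : P n) (x : V (n + 1)) : act (p * q) x = act p (act q x) := by
  rw [act_apply, act_apply, act_apply, mul_f, mul_A, Fin.cons_zero, Fin.tail_cons, add_dotProduct,
    ← dotProduct_mulVec, Units.val_mul, mulVec_mulVec, add_assoc]

theorem exists_iota {G : Type*} [Group G] [Finite G] (U : Subgroup G) (hU : Cfsg.IsElementaryAbelian 2 U)
    {m : ℕ} (hcard : Nat.card U = 2 ^ (m + 1)) {z : G} (hzU : z ∈ U) (hz : z ≠ 1) :
    ∃ ι : Multiplicative (V (m + 1)) ≃* U, (ι (Multiplicative.ofAdd (Pi.single 0 1)) : G) = z := by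
  haveI : Fact (Nat.Prime 2) := ⟨Nat.prime_two⟩
  letI : CommGroup U := { (inferInstance : Group U) with mul_comm := hU.1.is_comm.comm }
  have h2 : ∀ x : Additive U, 2 • x = 0 := fun x => Subtype.ext (hU.2 _ (Additive.toMul x).2)
  letI : Module (ZMod 2) (Additive U) := AddCommGroup.zmodModule h2
  haveI : Module.Finite (ZMod 2) (Additive U) := Module.Finite.of_finite
  have hr : Module.finrank (ZMod 2) (Additive U) = m + 1 := by
    have h1 := Module.natCard_eq_pow_finrank (K := ZMod 2) (V := Additive U)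
    rw [Nat.card_congr Additive.toMul, hcard, Nat.card_zmod] at h1
    exact (Nat.pow_right_injective (le_refl 2) h1).symm
  obtain ⟨L, hL⟩ := exists_equiv_single hr (v := Additive.ofMul (⟨z, hzU⟩ : U))
    (fun h => hz (congrArg Subtype.val h))
  refine ⟨AddEquiv.toMultiplicativeLeft L.toAddEquiv.symm, ?_⟩
  show ((L.symm (Pi.single 0 1)).toMul : G) = z
  rw [← hL, LinearEquiv.symm_apply_apply]
  rfl

theorem affine_conclusion {G : Type*} [Group G] [Finite G] (hn : 1 ≤ n) (U M : Subgroup G) [U.Normal]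
    (hU : Cfsg.IsElementaryAbelian 2 U) (hUcard : Nat.card U = 2 ^ (n + 1)) (hUM : U ⊓ M = ⊥) (hUM' : U ⊔ M = ⊤)
    (hfaith : ∀ m ∈ M, (∀ u ∈ U, m * u * m⁻¹ = u) → m = 1)
    (hfull : ∀ φ : ↥U ≃* ↥U, ∃ m ∈ M, ∀ u : ↥U, ((φ u : ↥U) : G) = m * u * m⁻¹)
    (Z : Subgroup G) (hZU : Z ≤ U) (hZ : Nat.card Z = 2) (Q : Subgroup G)
    (hQ : Q = (Cfsg.pCore 2 ↥(Subgroup.centralizer (Z : Set G))).map (Subgroup.centralizer (Z : Set G)).subtype) :
    Cfsg.IsExtraspecial 2 Q ∧ Nat.card Q = 2 ^ (2 * n + 1) ∧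
      (∃ E : Subgroup G, E ≤ Q ∧ Cfsg.IsElementaryAbelian 2 E ∧ Nat.card E = 2 ^ (n + 1)) ∧
      Cfsg.IsLargeExtraspecial Q ∧
      ∃ K : Subgroup G, K ≤ Subgroup.centralizer (Z : Set G) ∧ Q ⊓ K = ⊥ ∧
        Q ⊔ K = Subgroup.centralizer (Z : Set G) ∧ Nonempty (K ≃* GL (Fin n) (ZMod 2)) := by
  haveI : Fact (Nat.Prime 2) := ⟨Nat.prime_two⟩
  obtain ⟨⟨z, hzZ⟩, hzne, hzu⟩ := (Nat.card_eq_two_iff' (1 : Z)).1 hZ
  have hz : z ≠ 1 := fun h => hzne (Subtype.ext h)
  have hZeq : ∀ x ∈ Z, x = 1 ∨ x = z := fun x hx => (em (x = 1)).imp_right fun h =>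
    congrArg Subtype.val (hzu ⟨x, hx⟩ fun h' => h (congrArg Subtype.val h'))
  have hCz : Subgroup.centralizer ({z} : Set G) = Subgroup.centralizer (Z : Set G) := by
    refine le_antisymm (fun g hg x hx => ?_) (Subgroup.centralizer_le (Set.singleton_subset_iff.2 hzZ))
    rcases hZeq x hx with rfl | rfl
    · rw [one_mul, mul_one]
    · exact hg _ rfl
  obtain ⟨ι, hι⟩ := exists_iota U hU hUcard (hZU hzZ) hz
  let i : V (n + 1) → G := fun x => (ι (Multiplicative.ofAdd x) : G)
  have i_add : ∀ x y, i (x + y) = i x * i y := fun x y => by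
    show ((ι _ : U) : G) = _
    rw [ofAdd_add, map_mul]; rfl
  have i_zero : i 0 = 1 := by show ((ι _ : U) : G) = 1; rw [ofAdd_zero, map_one]; rfl
  have i_inj : Function.Injective i := fun x y h => Multiplicative.ofAdd.injective (ι.injective (Subtype.ext h))
  have i_surj : ∀ u ∈ U, ∃ x, i x = u := fun u hu =>
    ⟨(ι.symm ⟨u, hu⟩).toAdd, congrArg Subtype.val (ι.apply_symm_apply ⟨u, hu⟩)⟩
  have uniq : ∀ m ∈ M, ∀ m' ∈ M, (∀ x, m * i x * m⁻¹ = m' * i x * m'⁻¹) → m = m' := by
    intro m hm m' hm' h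
    refine (inv_mul_eq_one.1 (hfaith _ (mul_mem (inv_mem hm') hm) fun u hu => ?_)).symm
    obtain ⟨x, rfl⟩ := i_surj u hu
    have := h x
    calc m'⁻¹ * m * i x * (m'⁻¹ * m)⁻¹ = m'⁻¹ * (m * i x * m⁻¹) * m' := by group
      _ = i x := by rw [this]; group
  have hex : ∀ p : P n, ∃ m ∈ M, ∀ x, m * i x * m⁻¹ = i (act p x) := by
    intro p
    let a : V (n + 1) ≃+ V (n + 1) :=
      { toFun := act p, invFun := act p⁻¹
        left_inv := fun x => by rw [← act_mul, inv_mul_cancel, act_one]
        right_inv := fun x => by rw [← act_mul, mul_inv_cancel, act_one]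
        map_add' := fun x y => map_add _ x y }
    obtain ⟨m, hm, hm'⟩ := hfull ((ι.symm.trans (AddEquiv.toMultiplicative a)).trans ι)
    refine ⟨m, hm, fun x => ?_⟩
    rw [← hm' (ι (Multiplicative.ofAdd x))]
    simp [i, a]
  choose mp hmp hmp' using hex
  let φ : P n →* G :=
    { toFun := fun p => i (Fin.cons p.s p.a) * mp p
      map_one' := by
        have : mp 1 = 1 := uniq _ (hmp 1) _ (one_mem M) fun x => by rw [hmp', act_one, one_mul, inv_one, mul_one]
        rw [this, mul_one, one_eq]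
        convert i_zero
        funext j; refine Fin.cases ?_ ?_ j <;> simp
      map_mul' := fun p q => by
        have hm : mp (p * q) = mp p * mp q := uniq _ (hmp _) _ (mul_mem (hmp p) (hmp q)) fun x => by
          rw [hmp', act_mul, ← hmp' p, ← hmp' q]; group
        rw [hm, show (Fin.cons (p * q).s (p * q).a : V (n + 1)) = Fin.cons p.s p.a + act p (Fin.cons q.s q.a) from ?_,
          i_add, ← hmp' p]
        · group
        rw [act_apply, mul_s, mul_a, Fin.cons_zero, Fin.tail_cons]
        funext j; refine Fin.cases ?_ (fun j => ?_) j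
        · simp only [Fin.cons_zero, Pi.add_apply]; ring
        · simp }
  have hφ : Function.Injective φ := by
    rw [injective_iff_map_eq_one]
    intro p hp
    change i (Fin.cons p.s p.a) * mp p = 1 at hp
    have hm : mp p = 1 := by
      have : mp p ∈ U ⊓ M := ⟨by
        rw [eq_inv_of_mul_eq_one_right hp]; exact U.inv_mem (ι _).2, hmp p⟩
      rwa [hUM, Subgroup.mem_bot] at this
    rw [hm, mul_one, ← i_zero] at hp
    have hu := i_inj hp
    have hact : ∀ x, act p x = x := fun x => i_inj (by rw [← hmp' p x, hm, one_mul, inv_one, mul_one])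
    refine P.ext (congrFun hu 0) (funext fun j => ?_) (funext fun j => congrFun hu j.succ) (Units.ext (Matrix.ext fun j k => ?_))
    · have := congrFun (hact (Fin.cons 0 (Pi.single j 1))) 0
      simpa [act_apply, one_eq] using this
    · have := congrFun (hact (Fin.cons 0 (Pi.single k 1))) j.succ
      simpa [act_apply, one_eq, Matrix.one_apply, Pi.single_apply] using this
  have hr : φ.range = Subgroup.centralizer (Z : Set G) := by
    rw [← hCz]
    refine le_antisymm ?_ fun g hg => ?_
    · rintro _ ⟨p, rfl⟩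
      have h1 := hmp' p (Pi.single 0 1)
      have h2 : act p (Pi.single 0 1) = Pi.single 0 1 := by
        rw [act_apply]
        funext j; refine Fin.cases ?_ ?_ j <;> simp [Fin.tail_def, mulVec, dotProduct]
      rw [h2, show i (Pi.single 0 1) = z from hι, mul_inv_eq_iff_eq_mul] at h1
      rw [Subgroup.mem_centralizer_singleton_iff]
      show i _ * mp p * z = z * (i _ * mp p)
      rw [mul_assoc, h1, ← mul_assoc, ← mul_assoc, show z = i (Pi.single 0 1) from hι.symm, ← i_add, ← i_add, add_comm]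
    · rw [Subgroup.mem_centralizer_singleton_iff] at hg
      obtain ⟨u, hu, m, hm, rfl⟩ := Subgroup.mem_sup_of_normal_left.1 (hUM'.ge (Subgroup.mem_top g))
      obtain ⟨w, rfl⟩ := i_surj u hu
      have hmz : m * z = z * m := by
        rw [mul_assoc, ← mul_assoc z, show z = i (Pi.single 0 1) from hι.symm, ← i_add, add_comm (Pi.single 0 1) w, i_add,
          show i (Pi.single 0 1) = z from hι, mul_assoc] at hg
        exact mul_left_cancel hg
      have hN : ∀ m ∈ M, ∀ x, ∃ y, i y = m * i x * m⁻¹ := fun m _ x =>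
        i_surj _ (Subgroup.Normal.conj_mem inferInstance _ (ι _).2 m)
      choose T hT using hN m hm
      choose T' hT' using hN m⁻¹ (inv_mem hm)
      have Tadd : ∀ x y, T (x + y) = T x + T y := fun x y => i_inj (by rw [i_add, hT, hT, hT, i_add]; group)
      have T'T : ∀ x, T' (T x) = x := fun x => i_inj (by rw [hT', hT]; group)
      have TT' : ∀ x, T (T' x) = x := fun x => i_inj (by rw [hT, hT']; group)
      let TL : V (n + 1) ≃ₗ[ZMod 2] V (n + 1) :=
        { ((AddMonoidHom.mk' T Tadd).toZModLinearMap 2) with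
          invFun := T', left_inv := T'T, right_inv := TT' }
      have hTL : ∀ x, TL x = T x := fun x => rfl
      have he : TL (Pi.single 0 1) = Pi.single 0 1 := i_inj (by
        rw [hTL, hT, show i (Pi.single 0 1) = z from hι, hmz, mul_inv_cancel_right])
      let c : V n →ₗ[ZMod 2] V (n + 1) :=
        { toFun := fun x => Fin.cons 0 x
          map_add' := fun x y => by funext j; refine Fin.cases ?_ ?_ j <;> simp
          map_smul' := fun r x => by funext j; refine Fin.cases ?_ ?_ j <;> simp }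
      let t : V (n + 1) →ₗ[ZMod 2] V n :=
        { toFun := Fin.tail, map_add' := fun x y => rfl, map_smul' := fun r x => rfl }
      have ht : ∀ x, t x = Fin.tail x := fun _ => rfl
      have hdec : ∀ x : V (n + 1), x = x 0 • (Pi.single 0 1 : V (n + 1)) + c (t x) := fun x => by
        funext j; refine Fin.cases ?_ ?_ j <;> simp [c, ht, Fin.tail_def]
      have hsplit : ∀ (F : V (n + 1) ≃ₗ[ZMod 2] V (n + 1)), F (Pi.single 0 1) = Pi.single 0 1 → ∀ x,
          F x = x 0 • (Pi.single 0 1 : V (n + 1)) + F (c (t x)) := fun F hF x => by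
        conv_lhs => rw [hdec x, map_add, map_smul, hF]
      have htl : ∀ (F : V (n + 1) ≃ₗ[ZMod 2] V (n + 1)), F (Pi.single 0 1) = Pi.single 0 1 → ∀ x,
          t (F x) = t (F (c (t x))) := fun F hF x => by
        conv_lhs => rw [hsplit F hF x, map_add]
        rw [add_eq_right]
        funext j; simp [ht, Fin.tail_def]
      have he' : TL.symm (Pi.single 0 1) = Pi.single 0 1 := by rw [LinearEquiv.symm_apply_eq, he]
      have hinv : ∀ y, t (TL.symm (c (t (TL (c y))))) = y := fun y => by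
        rw [← htl _ he', LinearEquiv.symm_apply_apply]; simp [ht, c]
      have hinv' : ∀ y, t (TL (c (t (TL.symm (c y))))) = y := fun y => by
        rw [← htl _ he, LinearEquiv.apply_symm_apply]; simp [ht, c]
      let B : V n ≃ₗ[ZMod 2] V n :=
        { (t ∘ₗ TL.toLinearMap ∘ₗ c) with
          invFun := fun y => t (TL.symm (c y)), left_inv := hinv, right_inv := hinv' }
      let ℓ : V n →ₗ[ZMod 2] ZMod 2 := LinearMap.proj 0 ∘ₗ TL.toLinearMap ∘ₗ c
      let p : P n := ⟨w 0, fun j => ℓ (Pi.single j 1), Fin.tail w, toGL B⟩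
      refine ⟨p, ?_⟩
      show i (Fin.cons (w 0) (Fin.tail w)) * mp p = _
      rw [Fin.cons_self_tail]
      congr 1
      refine uniq _ (hmp p) _ hm fun x => ?_
      rw [hmp', ← hT]
      congr 1
      rw [← hTL, hsplit TL he x, act_apply, toGL_mulVec]
      have hl : (fun j => ℓ (Pi.single j 1)) ⬝ᵥ Fin.tail x = ℓ (Fin.tail x) := by
        conv_rhs => rw [pi_eq_sum_univ' (Fin.tail x), map_sum]
        exact Finset.sum_congr rfl fun j _ => by rw [map_smul, smul_eq_mul, mul_comm]
      show (Fin.cons (x 0 + (fun j => ℓ (Pi.single j 1)) ⬝ᵥ Fin.tail x) _ : V (n + 1)) = _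
      rw [hl]
      funext j
      refine Fin.cases ?_ (fun j => ?_) j
      · simp [ℓ, ht]
      · simp [B, ht, Fin.tail_def]
  let e := (MonoidHom.ofInjective hφ).trans (MulEquiv.subgroupCongr hr)
  have hez : (e ⟨1, 0, 0, 1⟩ : G) = z := by
    show i (Fin.cons 1 0) * mp _ = z
    have : mp (⟨1, 0, 0, 1⟩ : P n) = 1 := uniq _ (hmp _) _ (one_mem M) fun x => by
      rw [hmp', one_mul, inv_one, mul_one, act_apply]; simp [Fin.cons_self_tail]
    rw [this, mul_one, ← hι]
    show _ = i (Pi.single 0 1)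
    congr 1
    funext j; refine Fin.cases ?_ ?_ j <;> simp
  obtain ⟨hX, hcard, hE, hC, hN, hzQ, K, hK, hQK, hsup, eK⟩ := conclusion hn _ e z hez hCz.symm Q hQ
  refine ⟨hX, hcard, hE, ⟨hX, hC, hN, fun W hW hQW => odd_invariant_eq_bot hX hC hN hW hQW fun k hk => ?_⟩,
    K, hK, hQK, hsup, eK⟩
  rw [Subgroup.mem_centralizer_iff]
  intro x hx
  have h1 : x * k * x⁻¹ * k⁻¹ ∈ W :=
    mul_mem ((Subgroup.mem_normalizer_iff.1 (hQW (mem_centerIn.1 hx).1) k).1 hk) (inv_mem hk)
  have hxU : x ∈ U := by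
    obtain ⟨y, -, -, hy⟩ := exists_centerIn_gen hX
    rcases hy x hx with rfl | rfl
    · exact one_mem _
    · rw [← (hy z hzQ).resolve_left hz]; exact hZU hzZ
  have h2 : x * k * x⁻¹ * k⁻¹ ∈ U := by
    simpa [mul_assoc] using mul_mem hxU (Subgroup.Normal.conj_mem inferInstance _ (inv_mem hxU) k)
  have hp : IsPGroup 2 U := fun u => ⟨1, Subtype.ext (by simpa using hU.2 u u.2)⟩
  have h3 := eq_one_of_pgroup_odd hp hW h2 h1
  rwa [mul_inv_eq_one, mul_inv_eq_iff_eq_mul] at h3

end CfsgLib.ThreeTransp.Par
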