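import Cfsg.Agent.Lib.AschbacherForm.Cases.UnitFourFrame
import Mathlib.GroupTheory.Perm.Cycle.Type

/-!
The Pauli group in dimension four and the elements of prime order normalising it.
-/

set_option autoImplicit false

namespace CfsgLib.ThreeTransp.PauliFour

open Matrix
open CfsgLib.AschbacherForm.Cases (pairBit bitSign pauliMat bitSign_ne bitSign_add pauliMat_mul pauliMat_zero)

/-- The labels of the Pauli matrices. -/
abbrev K : Type := (Fin 2 × Fin 2) × (Fin 2 × Fin 2)

/-- The identification of the index sets. -/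
abbrev e4 : Fin 2 × Fin 2 ≃ Fin 4 := finProdFinEquiv

variable {F : Type*} [Field F]

/-- The Pauli matrix of a label. -/
def P (F : Type*) [Field F] (k : K) : Matrix (Fin 4) (Fin 4) F :=
  Matrix.reindexAlgEquiv F F e4 (pauliMat F k.1 k.2)

/-- The sign of a product. -/
def sgn (F : Type*) [Field F] (k l : K) : F := bitSign F (pairBit l.1 k.2)

theorem P_mul (k l : K) : P F k * P F l = sgn F k l • P F (k + l) := by
  rw [P, P, ← map_mul, pauliMat_mul, map_smul]
  rfl

theorem P_zero : P F 0 = 1 := by rw [P, Prod.fst_zero, Prod.snd_zero, pauliMat_zero, map_one]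

theorem sgn_ne (k l : K) : sgn F k l ≠ 0 := bitSign_ne _

theorem sgn_sq (k l : K) : sgn F k l * sgn F k l = 1 := by
  simp only [sgn, bitSign]; split_ifs <;> ring

theorem label_add_self : ∀ k : K, k + k = 0 := by decide

theorem P_sq (k : K) : P F k * P F k = sgn F k k • (1 : Matrix (Fin 4) (Fin 4) F) := by
  rw [P_mul, label_add_self, P_zero]

theorem P_cancel (k : K) : P F k * (sgn F k k • P F k) = 1 := by
  rw [mul_smul_comm, P_sq, smul_smul, sgn_sq, one_smul]

theorem trace_P (k : K) (hk : k ≠ 0) : (P F k).trace = 0 := by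
  obtain ⟨⟨a, b⟩, c, d⟩ := k
  fin_cases a <;> fin_cases b <;> fin_cases c <;> fin_cases d <;>
    first
    | exact absurd rfl hk
    | simp [P, Matrix.trace, pauliMat, bitSign, pairBit, e4, finProdFinEquiv, Fin.sum_univ_four, Fin.divNat,
        Fin.modNat]

theorem two_ne (h2 : (2 : F) ≠ 0) : (4 : F) ≠ 0 := by
  rw [show (4 : F) = 2 * 2 by norm_num]; exact mul_ne_zero h2 h2

theorem label_unique (h2 : (2 : F) ≠ 0) {c d : F} (hc : c ≠ 0) {k l : K} (h : c • P F k = d • P F l) :
    k = l ∧ c = d := by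
  have h1 := congrArg (fun M => (M * P F k).trace) h
  simp only [smul_mul_assoc, P_mul, label_add_self, P_zero, smul_smul, trace_smul, trace_one, Fintype.card_fin,
    smul_eq_mul] at h1
  by_cases hkl : k = l
  · subst hkl
    rw [label_add_self, P_zero, trace_one, Fintype.card_fin] at h1
    exact ⟨rfl, mul_right_cancel₀ (sgn_ne k k) (mul_right_cancel₀ (two_ne h2) (by simpa using h1))⟩
  · rw [trace_P _ (fun h0 => hkl (by rw [← zero_add k, ← h0, add_assoc, label_add_self, add_zero])), mul_zero] at h1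
    exact absurd h1 (mul_ne_zero (mul_ne_zero hc (sgn_ne k k)) (by simpa using two_ne h2))

/-- The labels `(a, 0)`, `(0, v)` of the four generators. -/
def gA : K := (((1 : Fin 2), (0 : Fin 2)), 0)

/-- Second generator. -/
def gB : K := (((0 : Fin 2), (1 : Fin 2)), 0)

/-- Third generator. -/
def gC : K := (0, ((1 : Fin 2), (0 : Fin 2)))

/-- Fourth generator. -/
def gD : K := (0, ((0 : Fin 2), (1 : Fin 2)))

theorem P_gA : P F gA = !![1, 0, 0, 0; 0, 1, 0, 0; 0, 0, -1, 0; 0, 0, 0, -1] := by
  ext i j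
  fin_cases i <;> fin_cases j <;>
    simp [P, gA, pauliMat, bitSign, pairBit, e4, finProdFinEquiv, Fin.divNat, Fin.modNat]

theorem P_gB : P F gB = !![1, 0, 0, 0; 0, -1, 0, 0; 0, 0, 1, 0; 0, 0, 0, -1] := by
  ext i j
  fin_cases i <;> fin_cases j <;>
    simp [P, gB, pauliMat, bitSign, pairBit, e4, finProdFinEquiv, Fin.divNat, Fin.modNat]

theorem P_gC : P F gC = !![0, 0, 1, 0; 0, 0, 0, 1; 1, 0, 0, 0; 0, 1, 0, 0] := by
  ext i j
  fin_cases i <;> fin_cases j <;>
    simp [P, gC, pauliMat, bitSign, pairBit, e4, finProdFinEquiv, Fin.divNat, Fin.modNat]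

theorem P_gD : P F gD = !![0, 1, 0, 0; 1, 0, 0, 0; 0, 0, 0, 1; 0, 0, 1, 0] := by
  ext i j
  fin_cases i <;> fin_cases j <;>
    simp [P, gD, pauliMat, bitSign, pairBit, e4, finProdFinEquiv, Fin.divNat, Fin.modNat]

theorem label_ind {motive : K → Prop} (h0 : motive 0) (hA : motive gA) (hB : motive gB) (hC : motive gC)
    (hD : motive gD) (hadd : ∀ k l, motive k → motive l → motive (k + l)) (k : K) : motive k := by
  obtain ⟨⟨a, b⟩, c, d⟩ := k
  have e : ∀ a b c d : Fin 2, (((a, b), (c, d)) : K) = (if a = 1 then gA else 0) + (if b = 1 then gB else 0) +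
      (if c = 1 then gC else 0) + (if d = 1 then gD else 0) := by decide
  rw [e]
  refine hadd _ _ (hadd _ _ (hadd _ _ ?_ ?_) ?_) ?_ <;> split_ifs <;> assumption

theorem scalar_of_commute (h2 : (2 : F) ≠ 0) {M : Matrix (Fin 4) (Fin 4) F} (hA : M * P F gA = P F gA * M)
    (hB : M * P F gB = P F gB * M) (hC : M * P F gC = P F gC * M) (hD : M * P F gD = P F gD * M) :
    M = M 0 0 • 1 := by
  have hne : ∀ x : F, x = -x → x = 0 := fun x hx =>
    (mul_eq_zero.1 (show (2 : F) * x = 0 by linear_combination hx)).resolve_left h2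
  have eA := fun i j => congrFun (congrFun hA i) j
  have eB := fun i j => congrFun (congrFun hB i) j
  have eC := fun i j => congrFun (congrFun hC i) j
  have eD := fun i j => congrFun (congrFun hD i) j
  simp [P_gA, P_gB, P_gC, P_gD, Matrix.mul_apply, Fin.sum_univ_four] at eA eB eC eD
  have a02 := eA 0 2; have a03 := eA 0 3; have a12 := eA 1 2; have a13 := eA 1 3
  have a20 := eA 2 0; have a30 := eA 3 0; have a21 := eA 2 1; have a31 := eA 3 1
  have b01 := eB 0 1; have b10 := eB 1 0; have b23 := eB 2 3; have b32 := eB 3 2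
  have c02 := eC 0 2; have c13 := eC 1 3; have d01 := eD 0 1
  simp at a02 a03 a12 a13 a20 a30 a21 a31 b01 b10 b23 b32 c02 c13 d01
  ext i j
  fin_cases i <;> fin_cases j <;> simp [Matrix.one_apply] <;>
    first
    | (apply hne; linear_combination a02) | (apply hne; linear_combination -a02)
    | (apply hne; linear_combination a03) | (apply hne; linear_combination -a03)
    | (apply hne; linear_combination a12) | (apply hne; linear_combination -a12)
    | (apply hne; linear_combination a13) | (apply hne; linear_combination -a13)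
    | (apply hne; linear_combination a20) | (apply hne; linear_combination -a20)
    | (apply hne; linear_combination a30) | (apply hne; linear_combination -a30)
    | (apply hne; linear_combination a21) | (apply hne; linear_combination -a21)
    | (apply hne; linear_combination a31) | (apply hne; linear_combination -a31)
    | (apply hne; linear_combination b01) | (apply hne; linear_combination -b01)
    | (apply hne; linear_combination b10) | (apply hne; linear_combination -b10)
    | (apply hne; linear_combination b23) | (apply hne; linear_combination -b23)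
    | (apply hne; linear_combination b32) | (apply hne; linear_combination -b32)
    | linear_combination d01 | linear_combination -d01
    | linear_combination c02 | linear_combination -c02
    | linear_combination c13 + d01 | linear_combination c13 - d01
    | linear_combination -c13 + d01 | linear_combination -c13 - d01

/-- Averaging over the Pauli matrices gives the trace. -/
theorem twirl (h2 : (2 : F) ≠ 0) (M : Matrix (Fin 4) (Fin 4) F) :
    ∑ k, sgn F k k • (P F k * M * P F k) = (4 * M.trace) • (1 : Matrix (Fin 4) (Fin 4) F) := by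
  set T : Matrix (Fin 4) (Fin 4) F := ∑ k, sgn F k k • (P F k * M * P F k) with hT
  have hsym' : ∀ k l : K, sgn F (k + l) (k + l) = sgn F k k * sgn F l k * sgn F k l * sgn F l l := by
    intro k l
    have h1 : pairBit (k + l).1 (k + l).2 =
        pairBit k.1 k.2 + pairBit k.1 l.2 + pairBit l.1 k.2 + pairBit l.1 l.2 := by
      revert k l; decide +kernel
    simp only [sgn, h1, bitSign_add]
  have hcomm : ∀ l, P F l * T = T * P F l := by
    intro l
    rw [hT, Finset.mul_sum, Finset.sum_mul]
    refine Fintype.sum_equiv (Equiv.addLeft l) _ _ fun k => ?_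
    show P F l * (sgn F k k • (P F k * M * P F k)) = sgn F (l + k) (l + k) • (P F (l + k) * M * P F (l + k)) * P F l
    have e1 : P F (l + k) = sgn F l k • (P F l * P F k) := by rw [P_mul, smul_smul, sgn_sq, one_smul]
    have e2 : P F (l + k) * P F l = sgn F (l + k) l • P F k := by
      rw [P_mul, add_comm l k, add_assoc, label_add_self, add_zero]
    rw [smul_mul_assoc, mul_assoc (P F (l + k) * M), e2, e1]
    simp only [mul_smul_comm, smul_mul_assoc, smul_smul, mul_assoc]
    congr 1
    have h1 : sgn F (l + k) l = sgn F l l * sgn F k l := by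
      have : pairBit l.1 (l + k).2 = pairBit l.1 l.2 + pairBit l.1 k.2 :=
        (show ∀ a b c : Fin 2 × Fin 2, pairBit a (b + c) = pairBit a b + pairBit a c by decide) _ _ _
      simp only [sgn, this, bitSign_add]
    rw [h1, add_comm l k]
    linear_combination (norm := ring_nf) (-(sgn F l l * sgn F k l * sgn F l k)) * hsym' k l
    linear_combination (norm := ring_nf) (-(sgn F k k * sgn F l l ^ 2 * sgn F l k ^ 2)) * sgn_sq (F := F) k l -
      (sgn F k k * sgn F l k ^ 2) * sgn_sq (F := F) l l - (sgn F k k) * sgn_sq (F := F) l k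
  have hs := scalar_of_commute h2 (hcomm gA).symm (hcomm gB).symm (hcomm gC).symm (hcomm gD).symm
  have htr : T.trace = 16 * M.trace := by
    rw [hT, trace_sum, Finset.sum_congr rfl fun k _ =>
      show (sgn F k k • (P F k * M * P F k)).trace = M.trace by
        rw [trace_smul, trace_mul_cycle, P_sq, smul_mul_assoc, one_mul, trace_smul, smul_eq_mul, smul_eq_mul,
          ← mul_assoc, sgn_sq, one_mul]]
    rw [Finset.sum_const, Finset.card_univ, show Fintype.card K = 16 from rfl, nsmul_eq_mul]
    norm_num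
  rw [hs, trace_smul, trace_one, Fintype.card_fin, smul_eq_mul] at htr
  rw [hs]
  congr 1
  exact mul_right_cancel₀ (two_ne h2) (by linear_combination htr)

/-- Conjugation by `y` permutes the lines of the Pauli matrices. -/
def Normal (y : Matrix (Fin 4) (Fin 4) F) : Prop :=
  ∀ k, ∃ (c : F) (l : K), y * P F k = (c • P F l) * y

theorem normal_of_gen {y : Matrix (Fin 4) (Fin 4) F}
    (hA : ∃ (c : F) (l : K), y * P F gA = (c • P F l) * y) (hB : ∃ (c : F) (l : K), y * P F gB = (c • P F l) * y)
    (hC : ∃ (c : F) (l : K), y * P F gC = (c • P F l) * y) (hD : ∃ (c : F) (l : K), y * P F gD = (c • P F l) * y) :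
    Normal y := fun k => by
  induction k using label_ind with
  | h0 => exact ⟨1, 0, by rw [P_zero, mul_one, one_smul, one_mul]⟩
  | hA => exact hA
  | hB => exact hB
  | hC => exact hC
  | hD => exact hD
  | hadd k l hk hl =>
    obtain ⟨c, k', hk'⟩ := hk
    obtain ⟨d, l', hl'⟩ := hl
    refine ⟨sgn F k l * c * d * sgn F k' l', k' + l', ?_⟩
    have : P F (k + l) = sgn F k l • (P F k * P F l) := by rw [P_mul, smul_smul, sgn_sq, one_smul]
    rw [this, mul_smul_comm, ← mul_assoc, hk', mul_assoc, hl', ← mul_assoc, smul_mul_smul_comm, P_mul, smul_smul,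
      ← smul_mul_assoc, smul_smul]
    congr 2
    ring

theorem normal_smul {y : Matrix (Fin 4) (Fin 4) F} (a : F) (h : Normal y) : Normal (a • y) := fun k => by
  obtain ⟨c, l, hcl⟩ := h k
  exact ⟨c, l, by rw [smul_mul_assoc, hcl, mul_smul_comm]⟩

theorem end_pow {α : Type*} (f : α → α) (j : ℕ) (a : α) :
    ((show Function.End α from f) ^ j : Function.End α) a = f^[j] a := by
  induction j generalizing a with
  | zero => rfl
  | succ j ih => rw [pow_succ', Function.iterate_succ_apply', ← ih]; rfl

theorem odd_prime {r : ℕ} (hr : r.Prime) (hr2 : r ≠ 2) : Odd r := hr.odd_of_ne_two hr2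

/-- The permutation of the labels induced by an element of odd prime order. -/
theorem exists_perm (h2 : (2 : F) ≠ 0) {r : ℕ} (hr : r.Prime) (hr2 : r ≠ 2) {y : GL (Fin 4) F}
    (hy : (y : Matrix (Fin 4) (Fin 4) F) ^ r = 1) (hN : Normal (y : Matrix (Fin 4) (Fin 4) F)) :
    ∃ (c : K → F) (π : K → K), (∀ k, (y : Matrix (Fin 4) (Fin 4) F) * P F k = (c k • P F (π k)) * y) ∧
      (∀ k, c k ≠ 0) ∧ (∀ k, π^[r] k = k) ∧ (∀ k l, π (k + l) = π k + π l) ∧ (∀ k, π k = k → c k = 1) ∧
      ∀ k l, sgn F k l * sgn F l k = sgn F (π k) (π l) * sgn F (π l) (π k) := by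
  choose c π hcπ using hN
  set Y := (y : Matrix (Fin 4) (Fin 4) F) with hY
  have hinv : Y * ((y⁻¹ : GL (Fin 4) F) : Matrix (Fin 4) (Fin 4) F) = 1 := y.mul_inv
  have hinv' : ((y⁻¹ : GL (Fin 4) F) : Matrix (Fin 4) (Fin 4) F) * Y = 1 := y.inv_mul
  have hu : IsUnit Y.det := (Matrix.isUnit_iff_isUnit_det _).1 y.isUnit
  have hcan : ∀ {A B : Matrix (Fin 4) (Fin 4) F}, A * Y = B * Y → A = B := fun {A B} h => by
    have := congrArg (· * ((y⁻¹ : GL (Fin 4) F) : Matrix (Fin 4) (Fin 4) F)) h
    simpa only [mul_assoc, hinv, mul_one] using this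
  have hc0 : ∀ k, c k ≠ 0 := fun k h0 => by
    have h := hcπ k
    rw [h0, zero_smul, zero_mul] at h
    have h' := congrArg (fun A => ((y⁻¹ : GL (Fin 4) F) : Matrix (Fin 4) (Fin 4) F) * A * (sgn F k k • P F k)) h
    simp only [← mul_assoc, hinv', one_mul, mul_zero, zero_mul, P_cancel] at h'
    exact one_ne_zero h'
  have hmul : ∀ k l, (c k * c l * sgn F (π k) (π l)) • P F (π k + π l) = (sgn F k l * c (k + l)) • P F (π (k + l)) := by
    intro k l
    refine hcan ?_
    calc (c k * c l * sgn F (π k) (π l)) • P F (π k + π l) * Y = (c k • P F (π k)) * ((c l • P F (π l)) * Y) := by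
          rw [← mul_assoc, smul_mul_smul_comm, P_mul, smul_smul]
      _ = Y * (P F k * P F l) := by rw [← hcπ, ← mul_assoc, ← hcπ, mul_assoc]
      _ = _ := by rw [P_mul, mul_smul_comm, hcπ, ← smul_mul_assoc, smul_smul]
  have hadd : ∀ k l, π (k + l) = π k + π l := fun k l =>
    (label_unique h2 (mul_ne_zero (mul_ne_zero (hc0 k) (hc0 l)) (sgn_ne _ _)) (hmul k l)).1.symm
  have hiter : ∀ (j : ℕ) k, ∃ d : F, Y ^ j * P F k = (d • P F (π^[j] k)) * Y ^ j ∧ (π k = k → d = c k ^ j) := by
    intro j
    induction j with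
    | zero => exact fun k => ⟨1, by simp, fun _ => (pow_zero _).symm⟩
    | succ j ih =>
      intro k
      obtain ⟨d, hd, hd'⟩ := ih k
      refine ⟨d * c (π^[j] k), ?_, fun hk => ?_⟩
      · rw [pow_succ', mul_assoc, hd, ← mul_assoc, mul_smul_comm, hcπ, Function.iterate_succ_apply']
        simp only [smul_mul_assoc, mul_smul_comm, mul_assoc, smul_smul]
      · rw [hd' hk, Function.iterate_fixed hk, pow_succ]
  have hπr : ∀ k, π^[r] k = k ∧ (π k = k → c k ^ r = 1) := fun k => by
    obtain ⟨d, hd, hd'⟩ := hiter r k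
    rw [hy, one_mul, mul_one, ← one_smul F (P F k)] at hd
    obtain ⟨e1, e2⟩ := label_unique h2 one_ne_zero hd
    exact ⟨e1.symm, fun hk => by rw [← hd' hk]; exact e2.symm⟩
  refine ⟨c, π, hcπ, hc0, fun k => (hπr k).1, hadd, fun k hk => ?_, fun k l => ?_⟩
  · have h1 := hmul k k
    rw [hk, label_add_self] at h1
    have h0 : c 0 = 1 := by
      have h := hmul 0 0
      rw [label_add_self, add_zero] at h
      obtain ⟨-, e⟩ := label_unique h2 (mul_ne_zero (mul_ne_zero (hc0 0) (hc0 0)) (sgn_ne _ _)) h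
      have hp0 : π 0 = 0 := by
        have := hadd 0 0
        rw [add_zero, label_add_self] at this
        exact this
      rw [hp0] at e
      exact mul_left_cancel₀ (mul_ne_zero (hc0 0) (sgn_ne (F := F) 0 0)) (by linear_combination e)
    obtain ⟨-, e⟩ := label_unique h2 (mul_ne_zero (mul_ne_zero (hc0 k) (hc0 k)) (sgn_ne _ _)) h1
    rw [h0, mul_one] at e
    have hsq : c k * c k = 1 := mul_right_cancel₀ (sgn_ne (F := F) k k) (by linear_combination e)
    obtain ⟨m, hm⟩ := odd_prime hr hr2
    have := (hπr k).2 hk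
    rwa [hm, pow_succ, pow_mul, pow_two, hsq, one_pow, one_mul] at this
  · have h1 := hmul k l
    have h1' := hmul l k
    rw [hadd] at h1
    rw [hadd, add_comm (π l), add_comm l k] at h1'
    obtain ⟨-, e⟩ := label_unique h2 (mul_ne_zero (mul_ne_zero (hc0 k) (hc0 l)) (sgn_ne _ _)) h1
    obtain ⟨-, e'⟩ := label_unique h2 (mul_ne_zero (mul_ne_zero (hc0 l) (hc0 k)) (sgn_ne _ _)) h1'
    have hne : c k * c l * sgn F (π k) (π l) * sgn F l k ≠ 0 :=
      mul_ne_zero (mul_ne_zero (mul_ne_zero (hc0 k) (hc0 l)) (sgn_ne _ _)) (sgn_ne _ _)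
    have := sgn_sq (F := F) (π k) (π l)
    have := sgn_sq (F := F) l k
    have key : sgn F (π k) (π l) * sgn F l k = sgn F (π l) (π k) * sgn F k l := by
      refine mul_left_cancel₀ (mul_ne_zero (hc0 k) (hc0 l)) ?_
      linear_combination (sgn F l k) * e - (sgn F k l) * e'
    calc sgn F k l * sgn F l k = sgn F k l * sgn F (π k) (π l) * (sgn F (π k) (π l) * sgn F l k) := by
          linear_combination (-(sgn F k l * sgn F l k)) * sgn_sq (F := F) (π k) (π l)
      _ = sgn F (π k) (π l) * sgn F (π l) (π k) * (sgn F k l * sgn F k l) := by rw [key]; ring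
      _ = _ := by rw [sgn_sq, mul_one]

theorem card_comm : ∀ v : K, v ≠ 0 →
    (Finset.univ.filter fun k : K => pairBit k.1 v.2 = pairBit v.1 k.2).card = 8 := by decide +kernel

/-- An element of odd prime order normalising the Pauli group: its fixed labels. -/
theorem normal_count_fixed (h2 : (2 : F) ≠ 0) {r : ℕ} (hr : r.Prime) (hr2 : r ≠ 2) {y : GL (Fin 4) F}
    (hy : (y : Matrix (Fin 4) (Fin 4) F) ^ r = 1) (hN : Normal (y : Matrix (Fin 4) (Fin 4) F))
    (hns : ∀ z : F, (y : Matrix (Fin 4) (Fin 4) F) ≠ z • 1) :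
    ∃ s : ℕ, (y : Matrix (Fin 4) (Fin 4) F).trace * ((y⁻¹ : GL (Fin 4) F) : Matrix (Fin 4) (Fin 4) F).trace = s ∧
      (r = 3 ∧ (s = 1 ∨ s = 4) ∨ r = 5 ∧ s = 1) ∧
      (s = 1 → ∀ (k : K) (d : F), (y : Matrix (Fin 4) (Fin 4) F) * P F k = (d • P F k) * y → k = 0) := by
  classical
  haveI := Fact.mk hr
  obtain ⟨c, π, hcπ, hc0, hπr, hadd, hfix, hsym⟩ := exists_perm h2 hr hr2 hy hN
  let Sg : AddSubgroup K :=
    { carrier := {k | π k = k}
      zero_mem' := by
        have := hadd 0 0
        rw [add_zero] at this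
        show π 0 = 0
        exact left_eq_add.1 this
      add_mem' := fun {a b} (ha : π a = a) (hb : π b = b) => show π (a + b) = a + b by rw [hadd, ha, hb]
      neg_mem' := fun {a} (ha : π a = a) => show π (-a) = -a by
        rw [show -a = a from neg_eq_of_add_eq_zero_left (label_add_self a), ha] }
  set S := Finset.univ.filter fun k : K => π k = k with hS
  have hSc : S.card = Nat.card Sg := by
    rw [Nat.card_eq_fintype_card, Fintype.card_subtype, hS]
    exact congrArg Finset.card (Finset.filter_congr fun k _ => Iff.rfl)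
  have h16 : S.card ∣ 16 := by
    rw [hSc]
    have := Sg.card_addSubgroup_dvd_card
    rwa [Nat.card_eq_fintype_card (α := K), show Fintype.card K = 16 from rfl] at this
  have hmodS : 16 ≡ S.card [MOD r] := by
    have h := Equiv.Perm.card_fixedPoints_modEq (p := r) (n := 1) (f := (show Function.End K from π))
      (by rw [pow_one]; funext k; rw [end_pow, hπr]; rfl)
    rw [show Fintype.card K = 16 from rfl] at h
    convert h using 1
    rw [hS, Fintype.card_subtype]
    exact congrArg Finset.card (Finset.filter_congr fun k _ => Iff.rfl)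
  have htrace : (y : Matrix (Fin 4) (Fin 4) F).trace * ((y⁻¹ : GL (Fin 4) F) : Matrix (Fin 4) (Fin 4) F).trace = S.card := by
    set Y := (y : Matrix (Fin 4) (Fin 4) F)
    set Y' := ((y⁻¹ : GL (Fin 4) F) : Matrix (Fin 4) (Fin 4) F)
    have hinv : Y * Y' = 1 := y.mul_inv
    have hsum : Y * (∑ k, sgn F k k • (P F k * Y' * P F k)) = (4 * Y'.trace) • Y := by
      rw [twirl h2, mul_smul_comm, mul_one]
    have hk : ∀ k, (Y * (sgn F k k • (P F k * Y' * P F k))).trace = if π k = k then 4 else 0 := fun k => by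
      have e : Y * (sgn F k k • (P F k * Y' * P F k)) = (sgn F k k * c k * sgn F (π k) k) • P F (π k + k) := by
        rw [mul_smul_comm, ← mul_assoc, ← mul_assoc, hcπ, mul_assoc _ Y Y', hinv, mul_one, smul_mul_assoc, P_mul,
          smul_smul, smul_smul]
      rw [e, trace_smul, smul_eq_mul]
      split_ifs with hk
      · rw [hk, label_add_self, P_zero, trace_one, Fintype.card_fin, hfix k hk, mul_one, sgn_sq, one_mul]
        norm_num
      · rw [trace_P _ (fun h0 => hk (by rw [← add_zero (π k), ← label_add_self k, ← add_assoc, h0, zero_add])), mul_zero]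
    have h := congrArg Matrix.trace hsum
    rw [Finset.mul_sum, trace_sum, Finset.sum_congr rfl fun k _ => hk k, trace_smul, smul_eq_mul,
      ← Finset.sum_filter, Finset.sum_const, nsmul_eq_mul, ← hS] at h
    exact mul_left_cancel₀ (two_ne h2) (by linear_combination -h)
  have hS16 : S.card ≠ 16 := by
    intro h
    have hall : ∀ k, π k = k := by
      have : S = Finset.univ := Finset.eq_univ_of_card _ (by rw [h]; rfl)
      exact fun k => (Finset.mem_filter.1 (show k ∈ S by rw [this]; exact Finset.mem_univ k)).2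
    have hcom : ∀ k, (y : Matrix (Fin 4) (Fin 4) F) * P F k = P F k * y := fun k => by
      rw [hcπ, hfix k (hall k), hall k, one_smul]
    exact hns _ (scalar_of_commute h2 (hcom gA) (hcom gB) (hcom gC) (hcom gD))
  refine ⟨S.card, htrace, ?_, fun hs k d hk => ?_⟩
  swap
  · have hu : π k = k := by
      have h := congrArg (· * ((y⁻¹ : GL (Fin 4) F) : Matrix (Fin 4) (Fin 4) F)) ((hcπ k).symm.trans hk)
      simp only [mul_assoc, Units.mul_inv, mul_one] at h
      exact (label_unique h2 (hc0 k) h).1
    have h0 : π 0 = 0 := Sg.zero_mem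
    exact Finset.card_le_one.1 hs.le k (by simp [hS, hu]) 0 (by simp [hS, h0])
  have hd : r ∣ 16 - S.card :=
    (Nat.modEq_iff_dvd' (by simpa using Finset.card_le_univ S)).1 hmodS.symm
  have hr3 : 3 ≤ r := by have := hr.two_le; omega
  obtain ⟨j, hj, hj'⟩ := (Nat.dvd_prime_pow Nat.prime_two (m := 4)).1 (show S.card ∣ 2 ^ 4 from h16)
  have hcases : ∀ q : ℕ, q.Prime → r ∣ q → r = q := fun q hq h => (Nat.prime_dvd_prime_iff_eq hr hq).1 h
  rcases (show j = 0 ∨ j = 1 ∨ j = 2 ∨ j = 3 ∨ j = 4 by omega) with rfl | rfl | rfl | rfl | rfl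
  · rw [hj', show 16 - 2 ^ 0 = 3 * 5 by norm_num] at hd
    rcases hr.dvd_mul.1 hd with h | h
    · exact Or.inl ⟨hcases 3 Nat.prime_three h, Or.inl hj'⟩
    · exact Or.inr ⟨hcases 5 (by norm_num) h, hj'⟩
  · exfalso
    rw [hj', show 16 - 2 ^ 1 = 2 * 7 by norm_num] at hd
    obtain rfl : r = 7 := by
      rcases hr.dvd_mul.1 hd with h | h
      · have := hcases 2 Nat.prime_two h; omega
      · exact hcases 7 (by norm_num) h
    obtain ⟨a, b, hab, hSab⟩ := Finset.card_eq_two.1 (hj'.trans (by norm_num))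
    obtain ⟨v, hv0, hv⟩ : ∃ v : K, v ≠ 0 ∧ π v = v := by
      have ha : π a = a := (Finset.mem_filter.1 (show a ∈ S by rw [hSab]; exact Finset.mem_insert_self a _)).2
      have hb : π b = b := (Finset.mem_filter.1 (show b ∈ S by
        rw [hSab]; exact Finset.mem_insert_of_mem (Finset.mem_singleton_self b))).2
      by_cases h0 : a = 0
      · exact ⟨b, fun h => hab (h0.trans h.symm), hb⟩
      · exact ⟨a, h0, ha⟩
    let Wv : Type := {k : K // sgn F k v = sgn F v k}
    have hstab : ∀ k, sgn F k v = sgn F v k → sgn F (π k) v = sgn F v (π k) := fun k hk => by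
      have h := hsym k v
      rw [hv, hk, sgn_sq] at h
      exact mul_right_cancel₀ (sgn_ne v (π k)) (by rw [sgn_sq]; exact h.symm)
    let g : Wv → Wv := fun k => ⟨π k.1, hstab k.1 k.2⟩
    have hg : ∀ (m : ℕ) (k : Wv), (g^[m] k).1 = π^[m] k.1 := by
      intro m
      induction m with
      | zero => exact fun k => rfl
      | succ m ih => intro k; rw [Function.iterate_succ_apply', Function.iterate_succ_apply', ← ih]
    have h := Equiv.Perm.card_fixedPoints_modEq (p := 7) (n := 1) (f := (show Function.End Wv from g))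
      (funext fun k => by rw [pow_one, end_pow]; exact Subtype.ext ((hg 7 k).trans (hπr k.1)))
    have hWv : Fintype.card Wv = 8 := by
      rw [Fintype.card_subtype, ← card_comm v hv0]
      refine congrArg Finset.card (Finset.filter_congr fun k _ => ?_)
      simp only [sgn]
      refine ⟨fun h => ?_, fun h => by rw [h]⟩
      have hinj : ∀ i j : Fin 2, bitSign F i = bitSign F j → i = j := fun i j hij => by
        have : (1 : F) ≠ -1 := fun e => h2 (by linear_combination e)
        fin_cases i <;> fin_cases j <;> simp [bitSign, this, Ne.symm this] at hij ⊢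
      exact (hinj _ _ h).symm
    have hfx : Fintype.card (Function.fixedPoints g) = 2 := by
      refine Eq.trans ?_ (show S.card = 2 by simpa using hj')
      rw [← Fintype.card_coe S]
      refine Fintype.card_congr
        { toFun := fun k => ⟨k.1.1, Finset.mem_filter.2 ⟨Finset.mem_univ _, congrArg Subtype.val k.2⟩⟩
          invFun := fun k => ⟨⟨k.1, ?_⟩, Subtype.ext (Finset.mem_filter.1 k.2).2⟩
          left_inv := fun k => rfl
          right_inv := fun k => rfl }
      have h0 : π 0 = 0 := Sg.zero_mem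
      have hz : (0 : K) ∈ S ∧ v ∈ S := ⟨by simp [hS, h0], by simp [hS, hv]⟩
      have hS2 : S = {0, v} := (Finset.eq_of_subset_of_card_le (by
        intro z hz'
        rcases Finset.mem_insert.1 hz' with rfl | hz'
        · exact hz.1
        · rw [Finset.mem_singleton.1 hz']; exact hz.2) (by rw [hj', Finset.card_pair hv0.symm]; norm_num)).symm
      have hk := k.2
      simp only [hS2, Finset.mem_insert, Finset.mem_singleton] at hk
      rcases hk with h | h <;> rw [h]
      simp [sgn, pairBit]
    rw [hWv, hfx] at h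
    exact absurd h (by decide)
  · rw [hj', show 16 - 2 ^ 2 = 2 ^ 2 * 3 by norm_num] at hd
    rcases hr.dvd_mul.1 hd with h | h
    · have := hcases 2 Nat.prime_two (hr.dvd_of_dvd_pow h); omega
    · exact Or.inl ⟨hcases 3 Nat.prime_three h, Or.inr hj'⟩
  · rw [hj', show 16 - 2 ^ 3 = 2 ^ 3 by norm_num] at hd
    have := hcases 2 Nat.prime_two (hr.dvd_of_dvd_pow hd); omega
  · exact absurd hj' hS16

theorem normal_count (h2 : (2 : F) ≠ 0) {r : ℕ} (hr : r.Prime) (hr2 : r ≠ 2) {y : GL (Fin 4) F}
    (hy : (y : Matrix (Fin 4) (Fin 4) F) ^ r = 1) (hN : Normal (y : Matrix (Fin 4) (Fin 4) F))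
    (hns : ∀ z : F, (y : Matrix (Fin 4) (Fin 4) F) ≠ z • 1) :
    ∃ s : ℕ, (y : Matrix (Fin 4) (Fin 4) F).trace * ((y⁻¹ : GL (Fin 4) F) : Matrix (Fin 4) (Fin 4) F).trace = s ∧
      (r = 3 ∧ (s = 1 ∨ s = 4) ∨ r = 5 ∧ s = 1) := by
  obtain ⟨s, hs, hs', -⟩ := normal_count_fixed h2 hr hr2 hy hN hns
  exact ⟨s, hs, hs'⟩

/-- A transvection of order five does not normalise the Pauli group. -/
theorem not_normal_quadratic (h2 : (2 : F) ≠ 0) {y : GL (Fin 4) F} {e : Matrix (Fin 4) (Fin 4) F}
    (hy : (y : Matrix (Fin 4) (Fin 4) F) = 1 + e) (he : e * e = 0) (hy5 : (y : Matrix (Fin 4) (Fin 4) F) ^ 5 = 1)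
    (hns : ∀ z : F, (y : Matrix (Fin 4) (Fin 4) F) ≠ z • 1) : ¬ Normal (y : Matrix (Fin 4) (Fin 4) F) := by
  intro hN
  obtain ⟨c, π, hcπ, hc0, hπr, hadd, hfix, -⟩ := exists_perm h2 (by norm_num : Nat.Prime 5) (by norm_num) hy5 hN
  obtain ⟨k, hk⟩ : ∃ k, π k ≠ k := by
    by_contra h
    push Not at h
    have hcom : ∀ k, (y : Matrix (Fin 4) (Fin 4) F) * P F k = P F k * y := fun k => by
      rw [hcπ, hfix k (h k), h k, one_smul]
    exact hns _ (scalar_of_commute h2 (hcom gA) (hcom gB) (hcom gC) (hcom gD))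
  have h5 : π (π (π (π (π k)))) = k := hπr k
  have hinj : ∀ {a b : K}, π a = π b → a = b := fun {a b} h => by
    have ha : π (π (π (π (π a)))) = a := hπr a
    have hb : π (π (π (π (π b)))) = b := hπr b
    rw [← ha, h, hb]
  have h2' : π (π k) ≠ k := fun h => hk (by rwa [h, h] at h5)
  have h3' : π (π (π k)) ≠ k := fun h => h2' (by rwa [h] at h5)
  set Y := (y : Matrix (Fin 4) (Fin 4) F) with hY
  set Y' : Matrix (Fin 4) (Fin 4) F := 1 - e with hY'
  have hYY : Y * Y' = 1 := by rw [hy, hY', add_mul, one_mul, mul_sub, mul_one, he]; abel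
  have hstep : ∀ l, Y * P F l * Y' = c l • P F (π l) := fun l => by rw [hcπ, mul_assoc, hYY, mul_one]
  have g1 := hstep k
  have g2 := hstep (π k)
  have g3 := hstep (π (π k))
  set a₁ := c k; set a₂ := c (π k); set a₃ := c (π (π k))
  have t1 : Y * P F k * Y' = a₁ • P F (π k) := g1
  have t2 : Y * (Y * P F k * Y') * Y' = (a₁ * a₂) • P F (π (π k)) := by
    rw [t1, mul_smul_comm, smul_mul_assoc, g2, smul_smul]
  have t3 : Y * (Y * (Y * P F k * Y') * Y') * Y' = (a₁ * a₂ * a₃) • P F (π (π (π k))) := by
    rw [t2, mul_smul_comm, smul_mul_assoc, g3, smul_smul]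
  have hzero : Y * (Y * (Y * P F k * Y') * Y') * Y' - (3 : F) • (Y * (Y * P F k * Y') * Y') +
      (3 : F) • (Y * P F k * Y') - P F k = 0 := by
    rw [hy, hY']
    simp only [add_mul, mul_add, sub_mul, mul_sub, one_mul, mul_one, mul_assoc, he, mul_zero, ← mul_assoc e e, zero_mul,
      smul_add, smul_sub, smul_zero, add_zero, sub_zero, zero_sub, zero_add]
    module
  rw [t3, t2, t1, smul_smul, smul_smul] at hzero
  have h := congrArg (fun A => (A * P F k).trace) hzero
  simp only [sub_mul, add_mul, smul_mul_assoc, P_mul, label_add_self, P_zero, trace_sub, trace_add, trace_smul,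
    zero_mul, trace_zero, trace_one, Fintype.card_fin, smul_eq_mul] at h
  have z : ∀ l, l ≠ k → (P F (l + k)).trace = 0 := fun l hl =>
    trace_P _ (fun h0 => hl (by rw [← add_zero l, ← label_add_self k, ← add_assoc, h0, zero_add]))
  rw [z _ h3', z _ h2', z _ hk] at h
  simp only [mul_zero, sub_zero, zero_add, zero_sub, neg_eq_zero] at h
  exact mul_ne_zero (sgn_ne k k) (by simpa using two_ne h2) h

end CfsgLib.ThreeTransp.PauliFour
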