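import Cfsg.Prelude.Def_GeometricClasses
import Cfsg.Agent.Lib.Techniques.SymplecticNeighbour
import Cfsg.Agent.Lib.Aschbacher.Basic
import Cfsg.Agent.Lib.ThreeTransp.PauliFour

/-!
A symplectic-type group of order 64 in `GL₄` is the Pauli group.
-/

set_option autoImplicit false

namespace CfsgLib.ThreeTransp.PauliFour

open Matrix Cfsg Cfsg.Geo
open scoped commutatorElement

variable {F : Type*} [Field F] [Fintype F]

theorem exists_frame_of (h2 : (2 : F) ≠ 0) {R : Subgroup (GL (Fin 4) F)} (hs : IsSymplecticTypeGroup 2 R)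
    (hi : ActsAbsolutelyIrreducibly (matrixSet R)) (hR6 : Nat.card R = 2 ^ 6) (hZ4 : Nat.card (Subgroup.center R) = 4) :
    ∃ Q : GL (Fin 4) F, ∀ x : GL (Fin 4) F, x ∈ R ↔ ∃ (c : F) (k : K), c ^ 4 = 1 ∧
      ((Q⁻¹ * x * Q : GL (Fin 4) F) : Matrix (Fin 4) (Fin 4) F) = c • P F k := by
  classical
  have he4 : ∀ t : R, t ^ 4 = 1 := fun t => by
    have := Monoid.pow_exponent_eq_one t
    rwa [hs.exponent_eq] at this
  have hT : Cfsg.IsOfSymplecticType R := ⟨hs.pGroup, hs.cyclic_of_characteristic⟩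
  have h4 : ∀ x : GL (Fin 4) F, x ∈ R → (x : Matrix (Fin 4) (Fin 4) F) ^ 4 = 1 := fun x hx => by
    rw [← Units.val_pow_eq_pow_val, show x ^ 4 = 1 from congrArg Subtype.val (he4 ⟨x, hx⟩), Units.val_one]
  have hsc : ∀ x : GL (Fin 4) F, x ∈ R → (∀ y ∈ R, y * x = x * y) →
      ∃ c : F, c ^ 4 = 1 ∧ (x : Matrix (Fin 4) (Fin 4) F) = c • 1 := fun x hx hc => by
    obtain ⟨c, hxc⟩ := CfsgLib.Aschbacher.eq_smul_one_of_commutes hi (x := (x : Matrix (Fin 4) (Fin 4) F))
      (fun g hg => by rw [← Units.val_mul, ← Units.val_mul, hc g hg])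
    refine ⟨c, ?_, hxc⟩
    have h := congrFun (congrFun (h4 x hx) 0) 0
    simpa [hxc, smul_pow] using h
  have hsign : ∀ {x y : GL (Fin 4) F}, x ∈ R → y ∈ R → (y : Matrix (Fin 4) (Fin 4) F) * x = x * y ∨
      (y : Matrix (Fin 4) (Fin 4) F) * x = -((x : Matrix (Fin 4) (Fin 4) F) * y) := by
    intro x y hx hy
    obtain ⟨hcen, hsq⟩ := CfsgLib.Techniques.SymplecticNeighbour.commutator_central hT he4 ⟨y, hy⟩ ⟨x, hx⟩
    set z := ⁅(⟨y, hy⟩ : R), (⟨x, hx⟩ : R)⁆ with hz
    obtain ⟨c, -, hc⟩ := hsc z z.2 (fun u hu => congrArg Subtype.val (Subgroup.mem_center_iff.1 hcen ⟨u, hu⟩))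
    have hyx : (y : Matrix (Fin 4) (Fin 4) F) * x = c • ((x : Matrix (Fin 4) (Fin 4) F) * y) := by
      have : y * x = (z : GL (Fin 4) F) * (x * y) := by
        rw [hz, show ((⁅(⟨y, hy⟩ : R), (⟨x, hx⟩ : R)⁆ : R) : GL (Fin 4) F) = y * x * y⁻¹ * x⁻¹ from rfl]
        group
      rw [← Units.val_mul, this, Units.val_mul, Units.val_mul, hc, smul_mul_assoc, one_mul]
    have hc2 : c * c = 1 := by
      have h : ((z : GL (Fin 4) F) : Matrix (Fin 4) (Fin 4) F) * ((z : GL (Fin 4) F) : Matrix (Fin 4) (Fin 4) F) = 1 := by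
        rw [← Units.val_mul, show (z : GL (Fin 4) F) * z = 1 from congrArg Subtype.val hsq, Units.val_one]
      have h' := congrFun (congrFun h 0) 0
      simpa [hc, smul_smul] using h'
    rcases mul_self_eq_one_iff.1 hc2 with rfl | rfl
    · exact Or.inl (by rw [hyx, one_smul])
    · exact Or.inr (by rw [hyx, neg_one_smul])
  have hscal : ∀ c : F, c ^ 4 = 1 → ∃ g ∈ R, (g : Matrix (Fin 4) (Fin 4) F) = c • 1 := by
    intro c hc
    haveI : Fintype (Subgroup.center R) := Fintype.ofFinite _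
    have hex : ∀ z : Subgroup.center R, ∃ d : F, d ^ 4 = 1 ∧
        (((z : R) : GL (Fin 4) F) : Matrix (Fin 4) (Fin 4) F) = d • 1 := fun z =>
      hsc _ (z : R).2 (fun u hu => congrArg Subtype.val (Subgroup.mem_center_iff.1 z.2 ⟨u, hu⟩))
    choose d hd hdz using hex
    have hinj : Function.Injective d := fun a b h => Subtype.ext (Subtype.ext (Units.ext (by rw [hdz, hdz, h])))
    by_contra hno
    push Not at hno
    have hsub : insert c (Finset.univ.image d) ⊆ (Polynomial.nthRoots 4 (1 : F)).toFinset := by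
      intro e he
      rw [Multiset.mem_toFinset, Polynomial.mem_nthRoots (by norm_num)]
      rcases Finset.mem_insert.1 he with rfl | he
      · exact hc
      · obtain ⟨z, -, rfl⟩ := Finset.mem_image.1 he; exact hd z
    have h := (Finset.card_le_card hsub).trans ((Multiset.toFinset_card_le _).trans (Polynomial.card_nthRoots 4 1))
    rw [Finset.card_insert_of_notMem (fun he => by
      obtain ⟨z, -, rfl⟩ := Finset.mem_image.1 he
      exact hno _ (z : R).2 (hdz z)), Finset.card_image_of_injective _ hinj, Finset.card_univ,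
      ← Nat.card_eq_fintype_card, hZ4] at h
    omega
  obtain ⟨gneg, hgneg, hgnv⟩ := hscal (-1) (by norm_num)
  have hsq : ∀ x ∈ R, ∃ x' ∈ R, ∃ d : F, d ^ 4 = 1 ∧ (x' : Matrix (Fin 4) (Fin 4) F) = d • (x : Matrix (Fin 4) (Fin 4) F) ∧
      (x' : Matrix (Fin 4) (Fin 4) F) * x' = 1 := by
    intro x hx
    obtain ⟨c, -, hc⟩ := hsc (x * x) (mul_mem hx hx) fun y hy => Units.ext (by
      rw [Units.val_mul, Units.val_mul, Units.val_mul, Units.val_mul]
      rcases hsign hx hy with h | h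
      · rw [← mul_assoc, h, mul_assoc, h, mul_assoc]
      · rw [← mul_assoc, h, neg_mul, mul_assoc, h, mul_neg, neg_neg, mul_assoc])
    rw [Units.val_mul] at hc
    have hc2 : c * c = 1 := by
      have h : ((x : Matrix (Fin 4) (Fin 4) F) ^ 2) * ((x : Matrix (Fin 4) (Fin 4) F) ^ 2) = 1 := by
        rw [← pow_add]; exact h4 x hx
      rw [pow_two, hc, smul_mul_smul_comm, one_mul] at h
      simpa using congrFun (congrFun h 0) 0
    rcases mul_self_eq_one_iff.1 hc2 with rfl | rfl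
    · exact ⟨x, hx, 1, one_pow 4, (one_smul _ _).symm, by rw [hc, one_smul]⟩
    · obtain ⟨i, hi⟩ : ∃ i : F, i * i = -1 := by
        by_contra hno
        push Not at hno
        haveI : Fintype (Subgroup.center R) := Fintype.ofFinite _
        have hex : ∀ z : Subgroup.center R, ∃ d : F, d * d = 1 ∧
            (((z : R) : GL (Fin 4) F) : Matrix (Fin 4) (Fin 4) F) = d • 1 := fun z => by
          obtain ⟨d, hd, hdz⟩ := hsc _ (z : R).2
            (fun u hu => congrArg Subtype.val (Subgroup.mem_center_iff.1 z.2 ⟨u, hu⟩))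
          refine ⟨d, (mul_self_eq_one_iff.1 (show (d * d) * (d * d) = 1 by linear_combination hd)).resolve_right
            (hno d), hdz⟩
        choose d hd hdz using hex
        have hinj : Function.Injective d := fun a b h => Subtype.ext (Subtype.ext (Units.ext (by rw [hdz, hdz, h])))
        have hsub : Finset.univ.image d ⊆ ({1, -1} : Finset F) := fun e he => by
          obtain ⟨z, -, rfl⟩ := Finset.mem_image.1 he
          rcases mul_self_eq_one_iff.1 (hd z) with h | h <;> simp [h]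
        have h := (Finset.card_le_card hsub).trans Finset.card_le_two
        rw [Finset.card_image_of_injective _ hinj, Finset.card_univ, ← Nat.card_eq_fintype_card, hZ4] at h
        omega
      obtain ⟨g, hg, hgv⟩ := hscal i (by linear_combination (i * i - 1) * hi)
      refine ⟨g * x, mul_mem hg hx, i, by linear_combination (i * i - 1) * hi,
        by rw [Units.val_mul, hgv, smul_mul_assoc, one_mul], ?_⟩
      rw [Units.val_mul, hgv, smul_mul_assoc, one_mul, smul_mul_smul_comm, hc, smul_smul, hi, neg_mul_neg, one_mul,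
        one_smul]
  -- scalars among the commuting elements
  have hfull : ∀ x : GL (Fin 4) F, x ∈ R → (∃ y ∈ R, (y : Matrix (Fin 4) (Fin 4) F) * x ≠ x * y) ∨
      ∃ c : F, c ^ 4 = 1 ∧ (x : Matrix (Fin 4) (Fin 4) F) = c • 1 := fun x hx => by
    by_cases h : ∀ y ∈ R, y * x = x * y
    · exact Or.inr (hsc x hx h)
    · push Not at h
      obtain ⟨y, hy, hne⟩ := h
      exact Or.inl ⟨y, hy, fun e => hne (Units.ext e)⟩
  have hanti : ∀ {a b : GL (Fin 4) F}, a ∈ R → b ∈ R → (b : Matrix (Fin 4) (Fin 4) F) * a ≠ a * b →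
      (b : Matrix (Fin 4) (Fin 4) F) * a = -((a : Matrix (Fin 4) (Fin 4) F) * b) := fun ha hb h =>
    (hsign ha hb).resolve_left h
  -- correction by a pair
  have hcor : ∀ a b : GL (Fin 4) F, a ∈ R → b ∈ R → (a : Matrix (Fin 4) (Fin 4) F) * a = 1 →
      (b : Matrix (Fin 4) (Fin 4) F) * b = 1 →
      (b : Matrix (Fin 4) (Fin 4) F) * a = -((a : Matrix (Fin 4) (Fin 4) F) * b) → ∀ x ∈ R,
      ∃ x' ∈ R, (∃ g ∈ Subgroup.closure ({a, b} : Set (GL (Fin 4) F)), x = x' * g) ∧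
        (x' : Matrix (Fin 4) (Fin 4) F) * a = a * x' ∧ (x' : Matrix (Fin 4) (Fin 4) F) * b = b * x' ∧
        ∀ c : GL (Fin 4) F, (a : Matrix (Fin 4) (Fin 4) F) * c = c * a →
          (b : Matrix (Fin 4) (Fin 4) F) * c = c * b →
          ((x : Matrix (Fin 4) (Fin 4) F) * c ≠ c * x → (x' : Matrix (Fin 4) (Fin 4) F) * c ≠ c * x') := by
    intro a b ha hb ha2 hb2 hab x hx
    have hau : a * a = 1 := Units.ext (by rw [Units.val_mul, ha2, Units.val_one])
    have hbu : b * b = 1 := Units.ext (by rw [Units.val_mul, hb2, Units.val_one])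
    have hba : (a : Matrix (Fin 4) (Fin 4) F) * b = -((b : Matrix (Fin 4) (Fin 4) F) * a) := by rw [hab, neg_neg]
    have key : ∀ (u s : GL (Fin 4) F), (s : Matrix (Fin 4) (Fin 4) F) * s = 1 → ∀ c : GL (Fin 4) F,
        (s : Matrix (Fin 4) (Fin 4) F) * c = c * s → (u : Matrix (Fin 4) (Fin 4) F) * c ≠ c * u →
        ((u * s : GL (Fin 4) F) : Matrix (Fin 4) (Fin 4) F) * c ≠ c * ((u * s : GL (Fin 4) F) : Matrix (Fin 4) (Fin 4) F) := by
      intro u s hs c hsc' hne h
      apply hne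
      rw [Units.val_mul, mul_assoc, hsc', ← mul_assoc, ← mul_assoc] at h
      have := congrArg (· * (s : Matrix (Fin 4) (Fin 4) F)) h
      simpa only [mul_assoc, hs, mul_one] using this
    have haA : a ∈ Subgroup.closure ({a, b} : Set (GL (Fin 4) F)) := Subgroup.subset_closure (Or.inl rfl)
    have hbA : b ∈ Subgroup.closure ({a, b} : Set (GL (Fin 4) F)) := Subgroup.subset_closure (Or.inr rfl)
    obtain ⟨y, hy, ⟨g, hg, hxy⟩, hya, hyc⟩ : ∃ y ∈ R,
        (∃ g ∈ Subgroup.closure ({a, b} : Set (GL (Fin 4) F)), x = y * g) ∧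
        (y : Matrix (Fin 4) (Fin 4) F) * a = a * y ∧ ∀ c : GL (Fin 4) F,
          (b : Matrix (Fin 4) (Fin 4) F) * c = c * b → (x : Matrix (Fin 4) (Fin 4) F) * c ≠ c * x →
            (y : Matrix (Fin 4) (Fin 4) F) * c ≠ c * y := by
      rcases hsign ha hx with h | h
      · exact ⟨x, hx, ⟨1, one_mem _, (mul_one x).symm⟩, h, fun c _ hne => hne⟩
      · refine ⟨x * b, mul_mem hx hb, ⟨b, hbA, by rw [mul_assoc, hbu, mul_one]⟩, ?_,
          fun c hbc hne => key x b hb2 c hbc hne⟩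
        rw [Units.val_mul, mul_assoc, hab, mul_neg, ← mul_assoc, h, neg_mul, neg_neg, mul_assoc]
    rcases hsign hb hy with h | h
    · exact ⟨y, hy, ⟨g, hg, hxy⟩, hya, h, fun c _ hbc hne => hyc c hbc hne⟩
    · refine ⟨y * a, mul_mem hy ha, ⟨a * g, mul_mem haA hg, by rw [hxy, mul_assoc y a, ← mul_assoc a a, hau, one_mul]⟩,
        ?_, ?_, fun c hac hbc hne => key y a ha2 c hac (hyc c hbc hne)⟩
      · rw [Units.val_mul, ← mul_assoc (a : Matrix (Fin 4) (Fin 4) F), ← hya]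
      · rw [Units.val_mul, mul_assoc, hba, mul_neg, ← mul_assoc, h, neg_mul, neg_neg, mul_assoc]
  -- the first pair
  have hnonc : ∃ a ∈ R, ∃ b ∈ R, (b : Matrix (Fin 4) (Fin 4) F) * a ≠ a * b := by
    by_contra h
    push Not at h
    have htop : Subgroup.center R = ⊤ := (Subgroup.eq_top_iff' _).2 fun u => Subgroup.mem_center_iff.2 fun v =>
      Subtype.ext (Units.ext (h u u.2 v v.2))
    rw [htop, Subgroup.card_top, hR6] at hZ4
    norm_num at hZ4
  obtain ⟨a₀, ha₀, b₀, hb₀, hab₀⟩ := hnonc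
  obtain ⟨a₁, ha₁, d, hd, hav, ha1sq⟩ := hsq a₀ ha₀
  obtain ⟨b₁, hb₁, d', hd', hbv, hb1sq⟩ := hsq b₀ hb₀
  have hd0 : ∀ {d : F}, d ^ 4 = 1 → d ≠ 0 := fun {d} hd h => by rw [h, zero_pow (by norm_num)] at hd; exact zero_ne_one hd
  have hab₁ : (b₁ : Matrix (Fin 4) (Fin 4) F) * a₁ = -((a₁ : Matrix (Fin 4) (Fin 4) F) * b₁) := by
    rw [hav, hbv, smul_mul_smul_comm, hanti ha₀ hb₀ hab₀, smul_neg, smul_mul_smul_comm, mul_comm d']
  have hba₁ : (a₁ : Matrix (Fin 4) (Fin 4) F) * b₁ = -((b₁ : Matrix (Fin 4) (Fin 4) F) * a₁) := by rw [hab₁, neg_neg]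
  have hau₁ : a₁ * a₁ = 1 := Units.ext (by rw [Units.val_mul, ha1sq, Units.val_one])
  have hbu₁ : b₁ * b₁ = 1 := Units.ext (by rw [Units.val_mul, hb1sq, Units.val_one])
  obtain ⟨a₂, ha₂, ha2sq, c₀, hc₀, hac₀, hA1, hA2⟩ : ∃ a₂ ∈ R, (a₂ : Matrix (Fin 4) (Fin 4) F) * a₂ = 1 ∧
      ∃ c ∈ R, (c : Matrix (Fin 4) (Fin 4) F) * a₂ ≠ a₂ * c ∧
      (a₂ : Matrix (Fin 4) (Fin 4) F) * a₁ = a₁ * a₂ ∧ (a₂ : Matrix (Fin 4) (Fin 4) F) * b₁ = b₁ * a₂ := by
    by_contra hno
    push Not at hno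
    have hcom1 : a₁ * b₁ = gneg * (b₁ * a₁) :=
      Units.ext (by rw [Units.val_mul, Units.val_mul, Units.val_mul, hgnv, hba₁, neg_smul, one_smul, neg_mul, one_mul])
    let S : Subgroup (GL (Fin 4) F) := Subgroup.closure ({a₁, b₁} : Set (GL (Fin 4) F))
    haveI : Fintype (Subgroup.center R) := Fintype.ofFinite _
    let f : Subgroup.center R × Fin 2 × Fin 2 → GL (Fin 4) F := fun z =>
      ((z.1 : R) : GL (Fin 4) F) * (a₁ ^ (z.2.1 : ℕ) * b₁ ^ (z.2.2 : ℕ))
    have hgc : ∀ u ∈ R, u * gneg = gneg * u := fun u _ => Units.ext (by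
      rw [Units.val_mul, Units.val_mul, hgnv, mul_smul_comm, mul_one, smul_mul_assoc, one_mul])
    have hZg : (⟨gneg, hgneg⟩ : R) ∈ Subgroup.center R :=
      Subgroup.mem_center_iff.2 fun u => Subtype.ext (hgc u u.2)
    have hz : ∀ (z : Subgroup.center R) (u : GL (Fin 4) F), u ∈ R → u * ((z : R) : GL (Fin 4) F) = ((z : R) : GL (Fin 4) F) * u :=
      fun z u hu => congrArg Subtype.val (Subgroup.mem_center_iff.1 z.2 ⟨u, hu⟩)
    have hrange : ∀ u ∈ S, ∀ w : GL (Fin 4) F, w ∈ Set.range f → w * u ∈ Set.range f := by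
      intro u hu
      induction hu using Subgroup.closure_induction with
      | mem u hu =>
        rintro _ ⟨⟨z, e, g⟩, rfl⟩
        rcases hu with rfl | hu
        · fin_cases g
          · fin_cases e
            · exact ⟨(z, 1, 0), by simp [f]⟩
            · exact ⟨(z, 0, 0), by simp [f, mul_assoc, hau₁]⟩
          · have hba : b₁ * u = gneg * (u * b₁) := Units.ext (by
              rw [Units.val_mul, Units.val_mul, Units.val_mul, hgnv, hab₁, neg_smul, one_smul, neg_mul, one_mul])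
            fin_cases e
            · refine ⟨(z * ⟨⟨gneg, hgneg⟩, hZg⟩, 1, 1), ?_⟩
              simp [f, mul_assoc, hba]
            · refine ⟨(z * ⟨⟨gneg, hgneg⟩, hZg⟩, 0, 1), ?_⟩
              simp only [f, Fin.mk_one, Fin.val_one, pow_one, Fin.val_zero, pow_zero, one_mul, Subgroup.coe_mul]
              rw [mul_assoc _ (u * b₁), mul_assoc u b₁, hba, ← mul_assoc u gneg, hgc u ha₁]
              simp [mul_assoc, hau₁, ← mul_assoc u u]
        · rw [Set.mem_singleton_iff] at hu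
          subst hu
          fin_cases g
          · exact ⟨(z, e, 1), by simp [f, mul_assoc]⟩
          · exact ⟨(z, e, 0), by simp [f, mul_assoc, hbu₁]⟩
      | one => intro w hw; rwa [mul_one]
      | mul u v _ _ hu hv => intro w hw; rw [← mul_assoc]; exact hv _ (hu w hw)
      | inv u hu' hu =>
        intro w hw
        have hord : u ^ 4 = 1 := by
          have hRu : u ∈ R := (Subgroup.closure_le R).2 (by rintro _ (rfl | rfl) <;> assumption) hu'
          exact congrArg Subtype.val (he4 ⟨u, hRu⟩)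
        rw [show u⁻¹ = u * (u * u) from inv_eq_of_mul_eq_one_right (by rw [← hord]; simp [pow_succ, mul_assoc]),
          ← mul_assoc, ← mul_assoc]
        exact hu _ (hu _ (hu _ hw))
    have hall : (R : Set (GL (Fin 4) F)) ⊆ Set.range f := fun x hx => by
      obtain ⟨x', hx', ⟨g, hg, hxg⟩, h1, h2', -⟩ := hcor a₁ b₁ ha₁ hb₁ ha1sq hb1sq hab₁ x hx
      have hx'c : ∀ y ∈ R, y * x' = x' * y := by
        intro y hy
        obtain ⟨w, hw, e, he, hwv, hwsq⟩ := hsq x' hx'
        have h := hno w hw hwsq y hy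
        by_contra hne
        refine h (fun h3 => hne (Units.ext ?_)) (by rw [hwv, smul_mul_assoc, h1, mul_smul_comm])
          (by rw [hwv, smul_mul_assoc, h2', mul_smul_comm])
        rw [hwv, mul_smul_comm, smul_mul_assoc] at h3
        rw [Units.val_mul, Units.val_mul]
        exact smul_right_injective _ (hd0 he) h3
      rw [hxg]
      refine hrange g hg x' ⟨(⟨⟨x', hx'⟩, Subgroup.mem_center_iff.2 fun u => Subtype.ext (hx'c u u.2)⟩, 0, 0), ?_⟩
      simp [f]
    have h1 := Nat.card_mono (Set.finite_range f) hall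
    have h2' := Finite.card_range_le f
    rw [show Nat.card ((R : Set (GL (Fin 4) F))) = Nat.card R from rfl, hR6] at h1
    rw [Nat.card_prod, Nat.card_prod, hZ4, Nat.card_eq_fintype_card (α := Fin 2), Fintype.card_fin] at h2'
    omega
  obtain ⟨b₂, hb₂, hB1, hB2, hab₂, hb2sq⟩ : ∃ b₂ ∈ R, (b₂ : Matrix (Fin 4) (Fin 4) F) * a₁ = a₁ * b₂ ∧
      (b₂ : Matrix (Fin 4) (Fin 4) F) * b₁ = b₁ * b₂ ∧
      (b₂ : Matrix (Fin 4) (Fin 4) F) * a₂ = -((a₂ : Matrix (Fin 4) (Fin 4) F) * b₂) ∧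
      (b₂ : Matrix (Fin 4) (Fin 4) F) * b₂ = 1 := by
    obtain ⟨y, hy, -, h1, h2', h3⟩ := hcor a₁ b₁ ha₁ hb₁ ha1sq hb1sq hab₁ c₀ hc₀
    have hy' := hanti ha₂ hy (h3 a₂ hA1.symm hA2.symm hac₀)
    obtain ⟨w, hw, e, -, hwv, hwsq⟩ := hsq y hy
    exact ⟨w, hw, by rw [hwv, smul_mul_assoc, h1, mul_smul_comm], by rw [hwv, smul_mul_assoc, h2', mul_smul_comm],
      by rw [hwv, smul_mul_assoc, hy', smul_neg, mul_smul_comm], hwsq⟩
  have hba₂ : (a₂ : Matrix (Fin 4) (Fin 4) F) * b₂ = -((b₂ : Matrix (Fin 4) (Fin 4) F) * a₂) := by rw [hab₂, neg_neg]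
  -- the basis
  set A := (a₁ : Matrix (Fin 4) (Fin 4) F) with hA
  set B := (b₁ : Matrix (Fin 4) (Fin 4) F) with hB
  set A' := (a₂ : Matrix (Fin 4) (Fin 4) F) with hA'
  set B' := (b₂ : Matrix (Fin 4) (Fin 4) F) with hB'
  obtain ⟨v, hv0, hvA, hvA'⟩ : ∃ v : Fin 4 → F, v ≠ 0 ∧ A *ᵥ v = v ∧ A' *ᵥ v = v := by
    have hM : (1 + A') * (1 + A) ≠ 0 := by
      intro h0
      have e : B' * ((1 + A') * (1 + A)) = (1 - A') * (1 + A) * B' := by
        simp only [mul_add, add_mul, sub_mul, mul_one, one_mul, ← mul_assoc, hab₂, hB1]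
        simp only [mul_assoc, hB1, neg_mul]
        abel
      rw [h0, mul_zero] at e
      have e' : (1 - A') * (1 + A) = 0 := by
        have := congrArg (· * B') e
        simpa only [zero_mul, mul_assoc, hb2sq, mul_one, eq_comm] using this
      have e2 : (2 : F) • (1 + A) = 0 := by
        rw [two_smul]
        calc (1 + A) + (1 + A) = (1 + A') * (1 + A) + (1 - A') * (1 + A) := by noncomm_ring
          _ = 0 := by rw [h0, e', add_zero]
      have hA1' : A = -1 := eq_neg_of_add_eq_zero_right ((smul_eq_zero.1 e2).resolve_left h2)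
      have h := hab₁
      rw [hA1', mul_neg, mul_one, neg_mul, one_mul, neg_neg] at h
      exact b₁.isUnit.ne_zero ((smul_eq_zero.1 (show (2 : F) • B = 0 by rw [two_smul]; linear_combination (norm := abel) -h)).resolve_left h2)
    obtain ⟨w, hw⟩ : ∃ w, ((1 + A') * (1 + A)) *ᵥ w ≠ 0 := by
      by_contra hc
      push Not at hc
      exact hM (Matrix.ext_of_mulVec_single fun i => by rw [hc, zero_mulVec])
    refine ⟨_, hw, ?_, ?_⟩
    · rw [mulVec_mulVec]; congr 1
      simp only [mul_add, add_mul, one_mul, mul_one, ← mul_assoc, ← hA1]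
      simp only [mul_assoc, ha1sq, mul_one]
      abel
    · rw [mulVec_mulVec, ← mul_assoc]; congr 2
      rw [mul_add, mul_one, ha2sq, add_comm]
  let col : Fin 4 → Fin 4 → F := ![v, B' *ᵥ v, B *ᵥ v, B *ᵥ (B' *ᵥ v)]
  let Qm : Matrix (Fin 4) (Fin 4) F := Matrix.of fun i j => col j i
  have hcoleq : ∀ (M N : Matrix (Fin 4) (Fin 4) F), (∀ j, M *ᵥ col j = fun i => (Qm * N) i j) → M * Qm = Qm * N :=
    fun M N h => by ext i j; exact congrFun (h j) i
  have eA : ∀ w, A *ᵥ (B *ᵥ w) = -(B *ᵥ (A *ᵥ w)) := fun w => by rw [mulVec_mulVec, mulVec_mulVec, hba₁, neg_mulVec]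
  have eA' : ∀ w, A' *ᵥ (B *ᵥ w) = B *ᵥ (A' *ᵥ w) := fun w => by rw [mulVec_mulVec, mulVec_mulVec, hA2]
  have fA : ∀ w, A *ᵥ (B' *ᵥ w) = B' *ᵥ (A *ᵥ w) := fun w => by rw [mulVec_mulVec, mulVec_mulVec, hB1]
  have fA' : ∀ w, A' *ᵥ (B' *ᵥ w) = -(B' *ᵥ (A' *ᵥ w)) := fun w => by rw [mulVec_mulVec, mulVec_mulVec, hba₂, neg_mulVec]
  have fB : ∀ w, B' *ᵥ (B *ᵥ w) = B *ᵥ (B' *ᵥ w) := fun w => by rw [mulVec_mulVec, mulVec_mulVec, hB2]
  have sB : ∀ w, B *ᵥ (B *ᵥ w) = w := fun w => by rw [mulVec_mulVec, hb1sq, one_mulVec]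
  have sB' : ∀ w, B' *ᵥ (B' *ᵥ w) = w := fun w => by rw [mulVec_mulVec, hb2sq, one_mulVec]
  have mA : A * Qm = Qm * P F gA := hcoleq _ _ fun j => by
    funext i
    fin_cases j <;>
      simp [col, Qm, P_gA, Matrix.mul_apply, Fin.sum_univ_four, eA, eA', fA, fA', hvA, hvA', mulVec_neg, -mulVec_mulVec]
  have mB : A' * Qm = Qm * P F gB := hcoleq _ _ fun j => by
    funext i
    fin_cases j <;>
      simp [col, Qm, P_gB, Matrix.mul_apply, Fin.sum_univ_four, eA, eA', fA, fA', hvA, hvA', mulVec_neg, -mulVec_mulVec]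
  have mC : B * Qm = Qm * P F gC := hcoleq _ _ fun j => by
    funext i
    fin_cases j <;> simp [col, Qm, P_gC, Matrix.mul_apply, Fin.sum_univ_four, sB, -mulVec_mulVec]
  have mD : B' * Qm = Qm * P F gD := hcoleq _ _ fun j => by
    funext i
    fin_cases j <;> simp [col, Qm, P_gD, Matrix.mul_apply, Fin.sum_univ_four, fB, sB', -mulVec_mulVec]
  have hQd : Qm.det ≠ 0 := by
    intro h0
    obtain ⟨x, hx0, hx⟩ := Matrix.exists_mulVec_eq_zero_iff.2 h0
    have h1 : ∀ M N : Matrix (Fin 4) (Fin 4) F, M * Qm = Qm * N → Qm *ᵥ (N *ᵥ x) = 0 := fun M N h => by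
      rw [mulVec_mulVec, ← h, ← mulVec_mulVec, hx, mulVec_zero]
    have hm : A' * A * Qm = Qm * (P F gB * P F gA) := by rw [mul_assoc, mA, ← mul_assoc, mB, mul_assoc]
    have g1 := h1 _ _ mA
    have g2 := h1 _ _ mB
    have g3 := h1 _ _ hm
    have hne : ∀ j, col j ≠ 0 := fun j hc => by
      fin_cases j <;> simp [col, -mulVec_mulVec] at hc
      · exact hv0 hc
      · exact hv0 (by rw [← sB' v, hc, mulVec_zero])
      · exact hv0 (by rw [← sB v, hc, mulVec_zero])
      · exact hv0 (by rw [← sB' v, ← sB (B' *ᵥ v), hc, mulVec_zero, mulVec_zero])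
    refine hx0 (funext fun j => by_contra fun hj => hne j (funext fun i => ?_))
    have q0 := congrFun hx i; have q1 := congrFun g1 i; have q2 := congrFun g2 i; have q3 := congrFun g3 i
    simp [Matrix.mulVec, dotProduct, Fin.sum_univ_four, P_gA, P_gB, Matrix.mul_apply, Qm] at q0 q1 q2 q3
    refine (mul_eq_zero.1 ((mul_eq_zero.1 (show (4 : F) * (col j i * x j) = 0 from ?_)).resolve_left (two_ne h2))).resolve_right hj
    fin_cases j <;> simp only [Fin.zero_eta, Fin.mk_one, Fin.reduceFinMk] <;>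
      first
      | linear_combination q0 + q1 + q2 + q3
      | linear_combination q0 + q1 - q2 - q3
      | linear_combination q0 - q1 + q2 - q3
      | linear_combination q0 - q1 - q2 + q3
  let Q : GL (Fin 4) F := Matrix.GeneralLinearGroup.mkOfDetNeZero Qm hQd
  refine ⟨Q, ?_⟩
  have hval : ∀ (x : GL (Fin 4) F) (N : Matrix (Fin 4) (Fin 4) F),
      ((Q⁻¹ * x * Q : GL (Fin 4) F) : Matrix (Fin 4) (Fin 4) F) = N ↔ (x : Matrix (Fin 4) (Fin 4) F) * Qm = Qm * N := by
    intro x N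
    rw [mul_assoc, Units.val_mul, Units.val_mul, Units.inv_mul_eq_iff_eq_mul]
    rfl
  let good : GL (Fin 4) F → Prop := fun x => ∃ (c : F) (k : K), c ^ 4 = 1 ∧
    (x : Matrix (Fin 4) (Fin 4) F) * Qm = Qm * (c • P F k)
  have hsgn4 : ∀ k l : K, (sgn F k l) ^ 4 = 1 := fun k l => by
    linear_combination (sgn F k l * sgn F k l + 1) * sgn_sq (F := F) k l
  have hgm : ∀ x y, good x → good y → good (x * y) := by
    rintro x y ⟨c, k, hc, hx⟩ ⟨d, l, hd, hy⟩
    refine ⟨c * d * sgn F k l, k + l, by rw [mul_pow, mul_pow, hc, hd, one_mul, one_mul, hsgn4], ?_⟩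
    rw [Units.val_mul, mul_assoc, hy, ← mul_assoc, hx, mul_assoc, smul_mul_smul_comm, P_mul, smul_smul]
  have gGen : good a₁ ∧ good b₁ ∧ good a₂ ∧ good b₂ :=
    ⟨⟨1, gA, one_pow 4, by rw [one_smul]; exact mA⟩, ⟨1, gC, one_pow 4, by rw [one_smul]; exact mC⟩,
      ⟨1, gB, one_pow 4, by rw [one_smul]; exact mB⟩, ⟨1, gD, one_pow 4, by rw [one_smul]; exact mD⟩⟩
  intro x
  constructor
  · intro hx
    have hclo : ∀ a b, good a → good b → a ∈ R → b ∈ R →
        ∀ g ∈ Subgroup.closure ({a, b} : Set (GL (Fin 4) F)), good g := by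
      intro a b hga hgb ha hb g hg
      have hle : Subgroup.closure ({a, b} : Set (GL (Fin 4) F)) ≤ R :=
        (Subgroup.closure_le R).2 (by rintro _ (rfl | rfl) <;> assumption)
      induction hg using Subgroup.closure_induction with
      | mem u hu => rcases hu with rfl | hu; exacts [hga, (Set.mem_singleton_iff.1 hu) ▸ hgb]
      | one => exact ⟨1, 0, one_pow 4, by rw [Units.val_one, one_mul, one_smul, P_zero, mul_one]⟩
      | mul u w _ _ hu hw => exact hgm _ _ hu hw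
      | inv u hu' hu =>
        rw [show u⁻¹ = u * (u * u) from inv_eq_of_mul_eq_one_right (by
          rw [← show u ^ 4 = 1 from congrArg Subtype.val (he4 ⟨u, hle hu'⟩)]; simp [pow_succ, mul_assoc])]
        exact hgm _ _ hu (hgm _ _ hu hu)
    obtain ⟨x', hx', ⟨g, hg, hxg⟩, h1, h2', -⟩ := hcor a₁ b₁ ha₁ hb₁ ha1sq hb1sq hab₁ x hx
    obtain ⟨z, hz, ⟨g', hg', hxg'⟩, h3, h4', h5⟩ := hcor a₂ b₂ ha₂ hb₂ ha2sq hb2sq hab₂ x' hx'
    obtain ⟨c, -, hc, hgz⟩ : ∃ c : F, True ∧ c ^ 4 = 1 ∧ (z : Matrix (Fin 4) (Fin 4) F) * Qm = Qm * (c • P F 0) := by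
      obtain ⟨w, hw, e, he, hwv⟩ : ∃ w ∈ R, ∃ e : GL (Fin 4) F, e ∈ Subgroup.closure ({a₂, b₂} : Set (GL (Fin 4) F)) ∧
          x' = w * e := ⟨z, hz, g', hg', hxg'⟩
      have hgc : ∀ u, u ∈ Subgroup.closure ({a₂, b₂} : Set (GL (Fin 4) F)) → u * a₁ = a₁ * u ∧ u * b₁ = b₁ * u := by
        intro u hu
        induction hu using Subgroup.closure_induction with
        | mem u hu =>
          rcases hu with rfl | hu
          · exact ⟨Units.ext hA1, Units.ext hA2⟩
          · rw [Set.mem_singleton_iff.1 hu]; exact ⟨Units.ext hB1, Units.ext hB2⟩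
        | one => simp
        | mul u w _ _ hu hw =>
          exact ⟨(show Commute u a₁ from hu.1).mul_left hw.1, (show Commute u b₁ from hu.2).mul_left hw.2⟩
        | inv u _ hu => exact ⟨(show Commute u a₁ from hu.1).inv_left, (show Commute u b₁ from hu.2).inv_left⟩
      have hzeq : z = x' * g'⁻¹ := by rw [hxg', mul_inv_cancel_right]
      have hza : (z : Matrix (Fin 4) (Fin 4) F) * A = A * z := by
        have : Commute z a₁ := by
          rw [hzeq]
          exact (show Commute x' a₁ from Units.ext h1).mul_left (show Commute g' a₁ from (hgc g' hg').1).inv_left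
        exact congrArg Units.val this.eq
      have hzb : (z : Matrix (Fin 4) (Fin 4) F) * B = B * z := by
        have : Commute z b₁ := by
          rw [hzeq]
          exact (show Commute x' b₁ from Units.ext h2').mul_left (show Commute g' b₁ from (hgc g' hg').2).inv_left
        exact congrArg Units.val this.eq
      set Z := ((Q⁻¹ * z * Q : GL (Fin 4) F) : Matrix (Fin 4) (Fin 4) F) with hZ
      have hZQ : (z : Matrix (Fin 4) (Fin 4) F) * Qm = Qm * Z := (hval z Z).1 rfl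
      have tr : ∀ (M N : Matrix (Fin 4) (Fin 4) F), M * Qm = Qm * N →
          (z : Matrix (Fin 4) (Fin 4) F) * M = M * z → Z * N = N * Z := fun M N hMN hzM => by
        refine ((Matrix.isUnit_iff_isUnit_det Qm).2 (isUnit_iff_ne_zero.2 hQd)).mul_left_cancel ?_
        rw [← mul_assoc, ← hZQ, mul_assoc, ← hMN, ← mul_assoc, hzM, mul_assoc, hZQ, ← mul_assoc, hMN, mul_assoc]
      have hs := scalar_of_commute h2 (tr _ _ mA hza) (tr _ _ mB h3) (tr _ _ mC hzb) (tr _ _ mD h4')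
      refine ⟨Z 0 0, trivial, ?_, by rw [hZQ, P_zero, ← hs]⟩
      have h : (Z : Matrix (Fin 4) (Fin 4) F) ^ 4 = 1 := by
        rw [hZ, ← Units.val_pow_eq_pow_val, show (Q⁻¹ * z * Q) ^ 4 = Q⁻¹ * z ^ 4 * Q by
          have := conj_pow (a := Q⁻¹) (b := z) (i := 4)
          rwa [inv_inv] at this, show z ^ 4 = 1 from congrArg Subtype.val (he4 ⟨z, hz⟩),
          mul_one, inv_mul_cancel, Units.val_one]
      rw [hs, smul_pow, one_pow] at h
      simpa using congrFun (congrFun h 0) 0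
    obtain ⟨c', k, hc', hk⟩ : good x := by
      rw [hxg, hxg']
      exact hgm _ _ (hgm _ _ ⟨c, 0, hc, hgz⟩ (hclo _ _ gGen.2.2.1 gGen.2.2.2 ha₂ hb₂ g' hg'))
        (hclo _ _ gGen.1 gGen.2.1 ha₁ hb₁ g hg)
    exact ⟨c', k, hc', (hval _ _).2 hk⟩
  · rintro ⟨c, k, hc, hk⟩
    have hall : ∀ k : K, ∃ g ∈ R, (g : Matrix (Fin 4) (Fin 4) F) * Qm = Qm * P F k := fun k => by
      induction k using label_ind with
      | h0 => exact ⟨1, one_mem R, by rw [Units.val_one, one_mul, P_zero, mul_one]⟩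
      | hA => exact ⟨a₁, ha₁, mA⟩
      | hB => exact ⟨a₂, ha₂, mB⟩
      | hC => exact ⟨b₁, hb₁, mC⟩
      | hD => exact ⟨b₂, hb₂, mD⟩
      | hadd k l hk hl =>
        obtain ⟨g, hg, hgk⟩ := hk
        obtain ⟨g', hg', hgl⟩ := hl
        obtain ⟨s, hs, hsv⟩ := hscal (sgn F k l) (hsgn4 k l)
        refine ⟨s * (g * g'), mul_mem hs (mul_mem hg hg'), ?_⟩
        rw [Units.val_mul, Units.val_mul, hsv, smul_mul_assoc, one_mul, smul_mul_assoc, mul_assoc, hgl, ← mul_assoc,
          hgk, mul_assoc, P_mul, mul_smul_comm, smul_smul, sgn_sq, one_smul]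
    obtain ⟨g, hg, hgk⟩ := hall k
    obtain ⟨s, hs, hsv⟩ := hscal c hc
    have : x = s * g := by
      refine mul_right_cancel (b := Q) (Units.ext ?_)
      show (x : Matrix (Fin 4) (Fin 4) F) * Qm = ((s * g : GL (Fin 4) F) : Matrix (Fin 4) (Fin 4) F) * Qm
      rw [Units.val_mul, hsv, smul_mul_assoc, one_mul, smul_mul_assoc, hgk, ← mul_smul_comm]
      exact (hval x _).1 hk
    rw [this]
    exact mul_mem hs hg

theorem exists_frame (h2 : (2 : F) ≠ 0) {R : Subgroup (GL (Fin 4) F)} (hR : IsLinearSymplecticTypeData 2 R)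
    (hR6 : Nat.card R = 2 ^ 6) :
    ∃ Q : GL (Fin 4) F, ∀ x : GL (Fin 4) F, x ∈ R ↔ ∃ (c : F) (k : K), c ^ 4 = 1 ∧
      ((Q⁻¹ * x * Q : GL (Fin 4) F) : Matrix (Fin 4) (Fin 4) F) = c • P F k := by
  have hZ4 : Nat.card (Subgroup.center R) = 4 := by
    obtain ⟨p, e, -, -, h⟩ := hR.field
    rcases h with ⟨h, -⟩ | ⟨-, -, h, -⟩ | ⟨-, -, h, -⟩
    · exact absurd h (by decide)
    · exact h
    · simp at h
  exact exists_frame_of h2 hR.symplecticType hR.absIrred hR6 hZ4

end CfsgLib.ThreeTransp.PauliFour
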