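import Cfsg.Agent.Lib.ThreeTransp.PauliFour

/-!
The extraspecial group of order 32 of minus type in dimension four: its signed monomials, an element of order five
normalising it, and the passage to the Pauli basis.
-/

set_option autoImplicit false

namespace CfsgLib.ThreeTransp.PauliFourMinus

open Matrix CfsgLib.ThreeTransp.PauliFour

variable {F : Type*} [Field F]

/-- The exponent vectors of the signed monomials. -/
abbrev L : Type := (Fin 2 × Fin 2) × (Fin 2 × Fin 2)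

/-- Two commuting pairs of anticommuting matrices, one pair squaring to `1` and one to `-1`. -/
structure Pairs (x₁ y₁ x₂ y₂ : Matrix (Fin 4) (Fin 4) F) : Prop where
  sx₁ : x₁ * x₁ = 1
  sy₁ : y₁ * y₁ = 1
  sx₂ : x₂ * x₂ = -1
  sy₂ : y₂ * y₂ = -1
  a₁ : y₁ * x₁ = -(x₁ * y₁)
  a₂ : y₂ * x₂ = -(x₂ * y₂)
  c₁ : x₂ * x₁ = x₁ * x₂
  c₂ : x₂ * y₁ = y₁ * x₂
  c₃ : y₂ * x₁ = x₁ * y₂
  c₄ : y₂ * y₁ = y₁ * y₂

variable {x₁ y₁ x₂ y₂ : Matrix (Fin 4) (Fin 4) F}

/-- The monomial of an exponent vector. -/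
def mon (x₁ y₁ x₂ y₂ : Matrix (Fin 4) (Fin 4) F) (k : L) : Matrix (Fin 4) (Fin 4) F :=
  (x₁ ^ (k.1.1 : ℕ) * y₁ ^ (k.1.2 : ℕ)) * (x₂ ^ (k.2.1 : ℕ) * y₂ ^ (k.2.2 : ℕ))

/-- The sign of a product of monomials. -/
def sign (k l : L) : ℤ :=
  (-1) ^ ((k.1.2 : ℕ) * l.1.1 + (k.2.2 : ℕ) * l.2.1 + (k.2.1 : ℕ) * l.2.1 + (k.2.2 : ℕ) * l.2.2)

theorem pair_mul {a b : Matrix (Fin 4) (Fin 4) F} (s : ℤ) (hs : s = 1 ∨ s = -1)
    (ha : a * a = (s : F) • 1) (hb : b * b = (s : F) • 1) (hab : b * a = -(a * b)) (i j i' j' : Fin 2) :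
    (a ^ (i : ℕ) * b ^ (j : ℕ)) * (a ^ (i' : ℕ) * b ^ (j' : ℕ)) =
      (((-1) ^ ((j : ℕ) * i') * s ^ ((i : ℕ) * i' + (j : ℕ) * j') : ℤ) : F) •
        (a ^ ((i + i' : Fin 2) : ℕ) * b ^ ((j + j' : Fin 2) : ℕ)) := by
  have h1 : ∀ u, b * (a * u) = -(a * (b * u)) := fun u => by rw [← mul_assoc, hab, neg_mul, mul_assoc]
  have h2 : ∀ u, a * (a * u) = (s : F) • u := fun u => by rw [← mul_assoc, ha, smul_mul_assoc, one_mul]
  have h3 : ∀ u, b * (b * u) = (s : F) • u := fun u => by rw [← mul_assoc, hb, smul_mul_assoc, one_mul]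
  have hss : (s : F) * s = 1 := by rcases hs with rfl | rfl <;> simp
  fin_cases i <;> fin_cases j <;> fin_cases i' <;> fin_cases j' <;>
    simp [mul_assoc, h1, h2, h3, ha, hb, hab, smul_smul, hss] <;>
    rcases hs with rfl | rfl <;> simp

theorem Pairs.swap (h : Pairs x₁ y₁ x₂ y₂) (i j i' j' : Fin 2) :
    (x₂ ^ (i : ℕ) * y₂ ^ (j : ℕ)) * (x₁ ^ (i' : ℕ) * y₁ ^ (j' : ℕ)) =
      (x₁ ^ (i' : ℕ) * y₁ ^ (j' : ℕ)) * (x₂ ^ (i : ℕ) * y₂ ^ (j : ℕ)) :=
  ((((show Commute x₂ x₁ from h.c₁).pow_pow _ _).mul_right ((show Commute x₂ y₁ from h.c₂).pow_pow _ _)).mul_left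
    (((show Commute y₂ x₁ from h.c₃).pow_pow _ _).mul_right ((show Commute y₂ y₁ from h.c₄).pow_pow _ _))).eq

theorem Pairs.mon_mul (h : Pairs x₁ y₁ x₂ y₂) (k l : L) :
    mon x₁ y₁ x₂ y₂ k * mon x₁ y₁ x₂ y₂ l = (sign k l : F) • mon x₁ y₁ x₂ y₂ (k + l) := by
  rw [mon, mon, (show Commute (x₂ ^ (k.2.1 : ℕ) * y₂ ^ (k.2.2 : ℕ)) (x₁ ^ (l.1.1 : ℕ) * y₁ ^ (l.1.2 : ℕ)) from
      h.swap _ _ _ _).mul_mul_mul_comm,
    pair_mul 1 (Or.inl rfl) (by simpa using h.sx₁) (by simpa using h.sy₁) h.a₁,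
    pair_mul (-1) (Or.inr rfl) (by simpa using h.sx₂) (by simpa using h.sy₂) h.a₂, smul_mul_smul_comm, mon,
    ← Int.cast_mul]
  congr 2
  simp only [sign, one_pow, mul_one, ← pow_add]
  congr 1
  ring

theorem mon_zero : mon x₁ y₁ x₂ y₂ 0 = 1 := by simp [mon]

theorem sign_self : ∀ k l : L, sign k l * sign k l = 1 := by decide +kernel

theorem exists_anti : ∀ k : L, k ≠ 0 → ∃ l : L, sign l k = -sign k l := by decide +kernel

theorem label_add_self : ∀ k : L, k + k = 0 := by decide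

theorem sign_cast (k l : L) : (sign k l : F) * (sign k l : F) = 1 := by
  rw [← Int.cast_mul, sign_self, Int.cast_one]

theorem Pairs.mon_ne (h : Pairs x₁ y₁ x₂ y₂) (k : L) : mon x₁ y₁ x₂ y₂ k ≠ 0 := fun h0 => by
  have := h.mon_mul k k
  rw [h0, zero_mul, label_add_self, mon_zero, eq_comm, smul_eq_zero] at this
  exact this.elim (fun e => by simpa [e] using sign_cast (F := F) k k) one_ne_zero

/-- A monomial other than the trivial one is not a scalar. -/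
theorem Pairs.not_scalar (h : Pairs x₁ y₁ x₂ y₂) (h2 : (2 : F) ≠ 0) {k : L} (hk : k ≠ 0) (c : F) :
    mon x₁ y₁ x₂ y₂ k ≠ c • 1 := fun hc => by
  obtain ⟨l, hl⟩ := exists_anti k hk
  have e := h.mon_mul k l
  have e' := h.mon_mul l k
  rw [hc, smul_mul_assoc, one_mul] at e
  rw [hc, mul_smul_comm, mul_one, add_comm l k, hl, Int.cast_neg, neg_smul, ← e] at e'
  have h0 : ((2 : F) * c) • mon x₁ y₁ x₂ y₂ l = 0 := by
    rw [two_mul, add_smul]; nth_rewrite 1 [e']; rw [neg_add_cancel]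
  rcases smul_eq_zero.1 h0 with h0 | h0
  · exact h.mon_ne k (by rw [hc, (mul_eq_zero.1 h0).resolve_left h2, zero_smul])
  · exact h.mon_ne l h0

theorem Pairs.mon_unique (h : Pairs x₁ y₁ x₂ y₂) (h2 : (2 : F) ≠ 0) {k l : L} {c : F}
    (hkl : mon x₁ y₁ x₂ y₂ k = c • mon x₁ y₁ x₂ y₂ l) : k = l := by
  by_contra hne
  have hkl0 : k + l ≠ 0 := fun h0 => hne (by rw [← add_zero k, ← label_add_self l, ← add_assoc, h0, zero_add])
  have e := h.mon_mul k l
  rw [hkl, smul_mul_assoc, h.mon_mul, label_add_self, mon_zero, smul_smul] at e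
  refine h.not_scalar h2 hkl0 ((sign k l : F) * (c * (sign l l : F))) ?_
  rw [← smul_smul, e, smul_smul, sign_cast, one_smul]

/-! ### Integral combinations of monomials -/

/-- The matrix of a combination. -/
def ev (x₁ y₁ x₂ y₂ : Matrix (Fin 4) (Fin 4) F) (a : L → ℤ) : Matrix (Fin 4) (Fin 4) F :=
  ∑ k, (a k : F) • mon x₁ y₁ x₂ y₂ k

/-- The product of combinations. -/
def conv (a b : L → ℤ) (m : L) : ℤ := ∑ k, a k * b (k + m) * sign k (k + m)

/-- The combination with one term. -/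
def sngl (l : L) (c : ℤ) (k : L) : ℤ := if k = l then c else 0

theorem ev_sngl (l : L) (c : ℤ) : ev x₁ y₁ x₂ y₂ (sngl l c) = (c : F) • mon x₁ y₁ x₂ y₂ l := by
  rw [ev, Finset.sum_eq_single l (fun b _ hb => by rw [sngl, if_neg hb, Int.cast_zero, zero_smul]) (by simp), sngl,
    if_pos rfl]

theorem Pairs.ev_mul (h : Pairs x₁ y₁ x₂ y₂) (a b : L → ℤ) :
    ev x₁ y₁ x₂ y₂ a * ev x₁ y₁ x₂ y₂ b = ev x₁ y₁ x₂ y₂ (conv a b) := by
  rw [ev, ev, Finset.sum_mul_sum, ev]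
  simp only [conv, Int.cast_sum, Finset.sum_smul]
  rw [Finset.sum_comm (γ := L) (f := fun m k => ((a k * b (k + m) * sign k (k + m) : ℤ) : F) • mon x₁ y₁ x₂ y₂ m)]
  refine Finset.sum_congr rfl fun k _ => ?_
  rw [← Equiv.sum_comp (Equiv.addLeft k)]
  refine Finset.sum_congr rfl fun m _ => ?_
  rw [Equiv.coe_addLeft, smul_mul_smul_comm, h.mon_mul, smul_smul, ← add_assoc, label_add_self, zero_add]
  congr 1
  push_cast
  ring

/-- The coefficients of four times the element of order five. -/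
def five (k : L) : ℤ :=
  if k.1.1 = 0 then (if k.1.2 = 0 ∨ k.2.1 = 0 then -1 else 1)
  else (if k.1.2 = 0 ∧ k.2.1 = 0 then -1 else 1)

theorem five_pow : ∀ m, conv (conv (conv five five) (conv five five)) five m = sngl 0 1024 m := by decide +kernel

theorem five_x₁ : ∀ m, conv five (sngl ((1, 0), 0) 1) m = conv (sngl ((0, 1), 0) 1) five m := by decide +kernel

theorem five_y₁ : ∀ m, conv five (sngl ((0, 1), 0) 1) m = conv (sngl ((1, 1), (1, 0)) (-1)) five m := by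
  decide +kernel

theorem five_x₂ : ∀ m, conv five (sngl (0, (1, 0)) 1) m = conv (sngl ((0, 1), (1, 1)) (-1)) five m := by
  decide +kernel

theorem five_y₂ : ∀ m, conv five (sngl (0, (0, 1)) 1) m = conv (sngl ((0, 1), (0, 1)) 1) five m := by decide +kernel

theorem Pairs.exists_five (h : Pairs x₁ y₁ x₂ y₂) (h2 : (2 : F) ≠ 0) :
    ∃ W : Matrix (Fin 4) (Fin 4) F, W ^ 5 = 1 ∧ W ≠ 1 ∧ ∀ k : L, ∃ (s : F) (l : L), s * s = 1 ∧
      W * mon x₁ y₁ x₂ y₂ k = (s • mon x₁ y₁ x₂ y₂ l) * W := by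
  have h4 : (4 : F) ≠ 0 := two_ne h2
  let W : Matrix (Fin 4) (Fin 4) F := (4 : F)⁻¹ • ev x₁ y₁ x₂ y₂ five
  have key : ∀ (a b : L → ℤ), (∀ m, conv five a m = conv b five m) →
      W * ev x₁ y₁ x₂ y₂ a = ev x₁ y₁ x₂ y₂ b * W := fun a b hab => by
    rw [smul_mul_assoc, mul_smul_comm, h.ev_mul, h.ev_mul, funext hab]
  have hgen : ∀ (k : L) (s : ℤ) (l : L), (∀ m, conv five (sngl k 1) m = conv (sngl l s) five m) → (s = 1 ∨ s = -1) →
      ∃ (s : F) (l : L), s * s = 1 ∧ W * mon x₁ y₁ x₂ y₂ k = (s • mon x₁ y₁ x₂ y₂ l) * W := fun k s l hkl hs => by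
    refine ⟨(s : F), l, by rcases hs with rfl | rfl <;> simp, ?_⟩
    have := key _ _ hkl
    rwa [ev_sngl, ev_sngl, Int.cast_one, one_smul] at this
  refine ⟨W, ?_, fun h1 => ?_, fun k => ?_⟩
  · have e : W ^ 5 = (4 : F)⁻¹ ^ 5 • ev x₁ y₁ x₂ y₂ five ^ 5 := _root_.smul_pow _ _ _
    rw [e, show (ev x₁ y₁ x₂ y₂ five) ^ 5 = ev x₁ y₁ x₂ y₂ (conv (conv (conv five five) (conv five five)) five) by
      rw [← h.ev_mul, ← h.ev_mul, ← h.ev_mul]; simp [pow_succ, mul_assoc], funext five_pow, ev_sngl, mon_zero, smul_smul]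
    rw [show (4 : F)⁻¹ ^ 5 * ((1024 : ℤ) : F) = 1 by push_cast; field_simp; try norm_num, one_smul]
  · have := key _ _ five_x₁
    rw [ev_sngl, ev_sngl, h1, one_mul, mul_one, Int.cast_one, one_smul, one_smul] at this
    exact absurd (h.mon_unique h2 (k := ((1, 0), 0)) (l := ((0, 1), 0)) (c := 1) (by rw [one_smul]; exact this)) (by decide)
  · obtain ⟨⟨a, b⟩, c, d⟩ := k
    have hmk : ∀ k l, (∃ (s : F) (m : L), s * s = 1 ∧ W * mon x₁ y₁ x₂ y₂ k = (s • mon x₁ y₁ x₂ y₂ m) * W) →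
        (∃ (s : F) (m : L), s * s = 1 ∧ W * mon x₁ y₁ x₂ y₂ l = (s • mon x₁ y₁ x₂ y₂ m) * W) →
        ∃ (s : F) (m : L), s * s = 1 ∧ W * mon x₁ y₁ x₂ y₂ (k + l) = (s • mon x₁ y₁ x₂ y₂ m) * W := by
      rintro k l ⟨s, m, hs, hm⟩ ⟨t, n, ht, hn⟩
      refine ⟨(sign k l : F) * s * t * (sign m n : F), m + n, ?_, ?_⟩
      · calc _ = ((sign k l : F) * sign k l) * (s * s) * (t * t) * ((sign m n : F) * sign m n) := by ring
          _ = 1 := by rw [sign_cast, sign_cast, hs, ht]; ring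
      · have e : mon x₁ y₁ x₂ y₂ (k + l) = (sign k l : F) • (mon x₁ y₁ x₂ y₂ k * mon x₁ y₁ x₂ y₂ l) := by
          rw [h.mon_mul, smul_smul, sign_cast, one_smul]
        rw [e, mul_smul_comm, ← mul_assoc, hm, mul_assoc, hn, ← mul_assoc, smul_mul_smul_comm, h.mon_mul,
          smul_smul, ← smul_mul_assoc, smul_smul, ← mul_assoc, ← mul_assoc]
    have hz : ∃ (s : F) (m : L), s * s = 1 ∧ W * mon x₁ y₁ x₂ y₂ 0 = (s • mon x₁ y₁ x₂ y₂ m) * W :=
      ⟨1, 0, one_mul 1, by rw [mon_zero, mul_one, one_smul, one_mul]⟩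
    have hk : (((a, b), (c, d)) : L) = ((((a, 0), 0) : L) + ((0, b), 0)) + ((0, (c, 0)) + (0, (0, d))) := by
      revert a b c d; decide
    rw [hk]
    refine hmk _ _ (hmk _ _ ?_ ?_) (hmk _ _ ?_ ?_)
    · fin_cases a; exacts [hz, hgen _ _ _ five_x₁ (Or.inl rfl)]
    · fin_cases b; exacts [hz, hgen _ _ _ five_y₁ (Or.inr rfl)]
    · fin_cases c; exacts [hz, hgen _ _ _ five_x₂ (Or.inr rfl)]
    · fin_cases d; exacts [hz, hgen _ _ _ five_y₂ (Or.inl rfl)]

/-- Two commuting pairs of anticommuting involutions are the Pauli generators in a suitable basis. -/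
theorem exists_pauli_basis (h2 : (2 : F) ≠ 0) {A B A' B' : Matrix (Fin 4) (Fin 4) F} (ha1sq : A * A = 1)
    (hb1sq : B * B = 1) (ha2sq : A' * A' = 1) (hb2sq : B' * B' = 1) (hab₁ : B * A = -(A * B))
    (hab₂ : B' * A' = -(A' * B')) (hA1 : A' * A = A * A') (hA2 : A' * B = B * A') (hB1 : B' * A = A * B')
    (hB2 : B' * B = B * B') :
    ∃ Q : GL (Fin 4) F, A * (Q : Matrix (Fin 4) (Fin 4) F) = Q * P F gA ∧
      A' * (Q : Matrix (Fin 4) (Fin 4) F) = Q * P F gB ∧ B * (Q : Matrix (Fin 4) (Fin 4) F) = Q * P F gC ∧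
      B' * (Q : Matrix (Fin 4) (Fin 4) F) = Q * P F gD := by
  have hba₁ : A * B = -(B * A) := by rw [hab₁, neg_neg]
  have hba₂ : A' * B' = -(B' * A') := by rw [hab₂, neg_neg]
  obtain ⟨v, hv0, hvA, hvA'⟩ : ∃ v : Fin 4 → F, v ≠ 0 ∧ A *ᵥ v = v ∧ A' *ᵥ v = v := by
    have hM : (1 + A') * (1 + A) ≠ 0 := by
      intro h0
      have e : B' * ((1 + A') * (1 + A)) = (1 - A') * (1 + A) * B' := by
        simp only [mul_add, add_mul, sub_mul, mul_one, one_mul, ← mul_assoc, hab₂, hB1]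
        simp only [mul_assoc, hB1, neg_mul]
        abel
      rw [h0, mul_zero] at e
      have e' : (1 - A') * (1 + A) = 0 := by
        have := congrArg (· * B') e
        simpa only [zero_mul, mul_assoc, hb2sq, mul_one, eq_comm] using this
      have e2 : (2 : F) • (1 + A) = 0 := by
        rw [two_smul]
        calc (1 + A) + (1 + A) = (1 + A') * (1 + A) + (1 - A') * (1 + A) := by noncomm_ring
          _ = 0 := by rw [h0, e', add_zero]
      have hA1' : A = -1 := eq_neg_of_add_eq_zero_right ((smul_eq_zero.1 e2).resolve_left h2)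
      have h := hab₁
      rw [hA1', mul_neg, mul_one, neg_mul, one_mul, neg_neg] at h
      exact (fun h0 => one_ne_zero (α := Matrix (Fin 4) (Fin 4) F) (by rw [← hb1sq, h0, zero_mul])) ((smul_eq_zero.1 (show (2 : F) • B = 0 by rw [two_smul]; linear_combination (norm := abel) -h)).resolve_left h2)
    obtain ⟨w, hw⟩ : ∃ w, ((1 + A') * (1 + A)) *ᵥ w ≠ 0 := by
      by_contra hc
      push Not at hc
      exact hM (Matrix.ext_of_mulVec_single fun i => by rw [hc, zero_mulVec])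
    refine ⟨_, hw, ?_, ?_⟩
    · rw [mulVec_mulVec]; congr 1
      simp only [mul_add, add_mul, one_mul, mul_one, ← mul_assoc, ← hA1]
      simp only [mul_assoc, ha1sq, mul_one]
      abel
    · rw [mulVec_mulVec, ← mul_assoc]; congr 2
      rw [mul_add, mul_one, ha2sq, add_comm]
  let col : Fin 4 → Fin 4 → F := ![v, B' *ᵥ v, B *ᵥ v, B *ᵥ (B' *ᵥ v)]
  let Qm : Matrix (Fin 4) (Fin 4) F := Matrix.of fun i j => col j i
  have hcoleq : ∀ (M N : Matrix (Fin 4) (Fin 4) F), (∀ j, M *ᵥ col j = fun i => (Qm * N) i j) → M * Qm = Qm * N :=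
    fun M N h => by ext i j; exact congrFun (h j) i
  have eA : ∀ w, A *ᵥ (B *ᵥ w) = -(B *ᵥ (A *ᵥ w)) := fun w => by rw [mulVec_mulVec, mulVec_mulVec, hba₁, neg_mulVec]
  have eA' : ∀ w, A' *ᵥ (B *ᵥ w) = B *ᵥ (A' *ᵥ w) := fun w => by rw [mulVec_mulVec, mulVec_mulVec, hA2]
  have fA : ∀ w, A *ᵥ (B' *ᵥ w) = B' *ᵥ (A *ᵥ w) := fun w => by rw [mulVec_mulVec, mulVec_mulVec, hB1]
  have fA' : ∀ w, A' *ᵥ (B' *ᵥ w) = -(B' *ᵥ (A' *ᵥ w)) := fun w => by rw [mulVec_mulVec, mulVec_mulVec, hba₂, neg_mulVec]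
  have fB : ∀ w, B' *ᵥ (B *ᵥ w) = B *ᵥ (B' *ᵥ w) := fun w => by rw [mulVec_mulVec, mulVec_mulVec, hB2]
  have sB : ∀ w, B *ᵥ (B *ᵥ w) = w := fun w => by rw [mulVec_mulVec, hb1sq, one_mulVec]
  have sB' : ∀ w, B' *ᵥ (B' *ᵥ w) = w := fun w => by rw [mulVec_mulVec, hb2sq, one_mulVec]
  have mA : A * Qm = Qm * P F gA := hcoleq _ _ fun j => by
    funext i
    fin_cases j <;>
      simp [col, Qm, P_gA, Matrix.mul_apply, Fin.sum_univ_four, eA, eA', fA, fA', hvA, hvA', mulVec_neg, -mulVec_mulVec]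
  have mB : A' * Qm = Qm * P F gB := hcoleq _ _ fun j => by
    funext i
    fin_cases j <;>
      simp [col, Qm, P_gB, Matrix.mul_apply, Fin.sum_univ_four, eA, eA', fA, fA', hvA, hvA', mulVec_neg, -mulVec_mulVec]
  have mC : B * Qm = Qm * P F gC := hcoleq _ _ fun j => by
    funext i
    fin_cases j <;> simp [col, Qm, P_gC, Matrix.mul_apply, Fin.sum_univ_four, sB, -mulVec_mulVec]
  have mD : B' * Qm = Qm * P F gD := hcoleq _ _ fun j => by
    funext i
    fin_cases j <;> simp [col, Qm, P_gD, Matrix.mul_apply, Fin.sum_univ_four, fB, sB', -mulVec_mulVec]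
  have hQd : Qm.det ≠ 0 := by
    intro h0
    obtain ⟨x, hx0, hx⟩ := Matrix.exists_mulVec_eq_zero_iff.2 h0
    have h1 : ∀ M N : Matrix (Fin 4) (Fin 4) F, M * Qm = Qm * N → Qm *ᵥ (N *ᵥ x) = 0 := fun M N h => by
      rw [mulVec_mulVec, ← h, ← mulVec_mulVec, hx, mulVec_zero]
    have hm : A' * A * Qm = Qm * (P F gB * P F gA) := by rw [mul_assoc, mA, ← mul_assoc, mB, mul_assoc]
    have g1 := h1 _ _ mA
    have g2 := h1 _ _ mB
    have g3 := h1 _ _ hm
    have hne : ∀ j, col j ≠ 0 := fun j hc => by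
      fin_cases j <;> simp [col, -mulVec_mulVec] at hc
      · exact hv0 hc
      · exact hv0 (by rw [← sB' v, hc, mulVec_zero])
      · exact hv0 (by rw [← sB v, hc, mulVec_zero])
      · exact hv0 (by rw [← sB' v, ← sB (B' *ᵥ v), hc, mulVec_zero, mulVec_zero])
    refine hx0 (funext fun j => by_contra fun hj => hne j (funext fun i => ?_))
    have q0 := congrFun hx i; have q1 := congrFun g1 i; have q2 := congrFun g2 i; have q3 := congrFun g3 i
    simp [Matrix.mulVec, dotProduct, Fin.sum_univ_four, P_gA, P_gB, Matrix.mul_apply, Qm] at q0 q1 q2 q3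
    refine (mul_eq_zero.1 ((mul_eq_zero.1 (show (4 : F) * (col j i * x j) = 0 from ?_)).resolve_left (two_ne h2))).resolve_right hj
    fin_cases j <;> simp only [Fin.zero_eta, Fin.mk_one, Fin.reduceFinMk] <;>
      first
      | linear_combination q0 + q1 + q2 + q3
      | linear_combination q0 + q1 - q2 - q3
      | linear_combination q0 - q1 + q2 - q3
      | linear_combination q0 - q1 - q2 + q3
  let Q : GL (Fin 4) F := Matrix.GeneralLinearGroup.mkOfDetNeZero Qm hQd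
  exact ⟨Q, mA, mB, mC, mD⟩

end CfsgLib.ThreeTransp.PauliFourMinus
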