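import Cfsg.Agent.Lib.ThreeTransp.PauliFourMinus

/-!
Generators of an extraspecial group of order 32 of minus type in dimension four.
-/

set_option autoImplicit false

namespace CfsgLib.ThreeTransp.PauliFourMinus

open Matrix

variable {F : Type*} [Field F]

/-- An anticommuting pair can be chosen so that both squares agree. -/
theorem normalize_pair {S : Submonoid (Matrix (Fin 4) (Fin 4) F)} {a b : Matrix (Fin 4) (Fin 4) F} (ha : a ∈ S)
    (hb : b ∈ S) (hsa : a * a = 1 ∨ a * a = -1) (hsb : b * b = 1 ∨ b * b = -1) (hab : b * a = -(a * b)) :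
    ∃ a' ∈ S, ∃ b' ∈ S, b' * a' = -(a' * b') ∧
      ((a' * a' = 1 ∧ b' * b' = 1) ∨ (a' * a' = -1 ∧ b' * b' = -1)) ∧
      (∀ M, Commute M a → Commute M b → Commute M a' ∧ Commute M b') := by
  have hba : a * b = -(b * a) := by rw [hab, neg_neg]
  have key : ∀ u v : Matrix (Fin 4) (Fin 4) F, u ∈ S → v ∈ S → u * u = 1 → v * v = -1 → v * u = -(u * v) →
      ∃ a' ∈ S, ∃ b' ∈ S, b' * a' = -(a' * b') ∧
        ((a' * a' = 1 ∧ b' * b' = 1) ∨ (a' * a' = -1 ∧ b' * b' = -1)) ∧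
        (∀ M, Commute M u → Commute M v → Commute M a' ∧ Commute M b') := by
    intro u v hu hv huu hvv huv
    refine ⟨u, hu, u * v, mul_mem hu hv, ?_, Or.inl ⟨huu, ?_⟩, fun M h1 h2 => ⟨h1, h1.mul_right h2⟩⟩
    · rw [mul_assoc, huv, mul_neg]
    · calc u * v * (u * v) = u * (v * u) * v := by simp only [mul_assoc]
        _ = -((u * u) * (v * v)) := by rw [huv]; simp [mul_assoc]
        _ = 1 := by rw [huu, hvv, one_mul, neg_neg]
  rcases hsa with hsa | hsa <;> rcases hsb with hsb | hsb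
  · exact ⟨a, ha, b, hb, hab, Or.inl ⟨hsa, hsb⟩, fun M h1 h2 => ⟨h1, h2⟩⟩
  · exact key a b ha hb hsa hsb hab
  · obtain ⟨a', ha', b', hb', h, hs, hc⟩ := key b a hb ha hsb hsa hba
    exact ⟨a', ha', b', hb', h, hs, fun M h1 h2 => hc M h2 h1⟩
  · exact ⟨a, ha, b, hb, hab, Or.inr ⟨hsa, hsb⟩, fun M h1 h2 => ⟨h1, h2⟩⟩

theorem exists_pairs (h2 : (2 : F) ≠ 0) {S : Submonoid (Matrix (Fin 4) (Fin 4) F)} (hneg : -1 ∈ S)
    (hsq : ∀ x ∈ S, x * x = 1 ∨ x * x = -1) (hsign : ∀ x ∈ S, ∀ y ∈ S, y * x = x * y ∨ y * x = -(x * y))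
    (hcent : ∀ x ∈ S, (∀ y ∈ S, y * x = x * y) → x = 1 ∨ x = -1) (hcard : Nat.card S = 32)
    (hminus : ∀ u ∈ S, ∀ v ∈ S, u * u = 1 → v * v = 1 → v * u = u * v → u ≠ 1 → u ≠ -1 → v ≠ 1 → v ≠ -1 →
      u * v ≠ 1 → u * v ≠ -1 → False) :
    ∃ x₁ y₁ x₂ y₂, Pairs x₁ y₁ x₂ y₂ ∧ x₁ ∈ S ∧ x₂ ∈ S ∧
      ∀ M, M ∈ S ↔ ∃ (k : L), M = mon x₁ y₁ x₂ y₂ k ∨ M = -mon x₁ y₁ x₂ y₂ k := by
  classical
  haveI : Finite S := Nat.finite_of_card_ne_zero (by rw [hcard]; norm_num)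
  -- correction by an anticommuting pair
  have hinvol : ∀ x ∈ S, ∀ t, x * t = t * x → x * (x * t) = t * (x * x) := fun x _ t h => by
    rw [h, ← mul_assoc, h, mul_assoc]
  have hcor : ∀ a ∈ S, ∀ b ∈ S, b * a = -(a * b) → ∀ x ∈ S, ∃ x' ∈ S, ∃ i j : Fin 2,
      x' = x * a ^ (i : ℕ) * b ^ (j : ℕ) ∧ Commute x' a ∧ Commute x' b := by
    intro a ha b hb hab x hx
    have hba : a * b = -(b * a) := by rw [hab, neg_neg]
    obtain ⟨j, y, hy, hyj, hya⟩ : ∃ (j : Fin 2) (y : Matrix (Fin 4) (Fin 4) F), y ∈ S ∧ y = x * b ^ (j : ℕ) ∧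
        Commute y a := by
      rcases hsign a ha x hx with h | h
      · exact ⟨0, x, hx, by simp, h⟩
      · refine ⟨1, x * b, mul_mem hx hb, by simp, ?_⟩
        show x * b * a = a * (x * b)
        rw [mul_assoc, hab, mul_neg, ← mul_assoc, h, neg_mul, neg_neg, mul_assoc]
    rcases hsign b hb y hy with h | h
    · exact ⟨y, hy, 0, j, by rw [hyj]; simp, hya, h⟩
    · have hy'a : Commute (y * a) a := hya.mul_left (Commute.refl a)
      have hy'b : Commute (y * a) b := by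
        show y * a * b = b * (y * a)
        rw [mul_assoc, hba, mul_neg, ← mul_assoc, h, neg_mul, neg_neg, mul_assoc]
      have hflip : x * b ^ (j : ℕ) * a = x * a * b ^ (j : ℕ) ∨ x * b ^ (j : ℕ) * a = -1 * (x * a * b ^ (j : ℕ)) := by
        fin_cases j
        · left; simp
        · right; simp [mul_assoc, hab]
      rcases hflip with e | e
      · exact ⟨y * a, mul_mem hy ha, 1, j, by rw [hyj, e]; simp, hy'a, hy'b⟩
      · refine ⟨-1 * (y * a), mul_mem hneg (mul_mem hy ha), 1, j, ?_,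
          ((Commute.neg_one_left a).mul_left hy'a), ((Commute.neg_one_left b).mul_left hy'b)⟩
        rw [hyj, e]
        simp
  obtain ⟨a, ha, b, hb, hne⟩ : ∃ a ∈ S, ∃ b ∈ S, b * a ≠ a * b := by
    by_contra h
    push Not at h
    have : Nat.card S ≤ Nat.card ({1, -1} : Finset (Matrix (Fin 4) (Fin 4) F)) := by
      refine Nat.card_le_card_of_injective (fun x => ⟨x.1, ?_⟩)
        (fun x y e => Subtype.ext (congrArg (fun z => z.1) e))
      rcases hcent x x.2 (fun y hy => h x x.2 y hy) with e | e <;> simp [e]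
    have h3 := Finset.card_le_two (a := (1 : Matrix (Fin 4) (Fin 4) F)) (b := -1)
    rw [Nat.card_eq_finsetCard] at this
    omega
  have hab : b * a = -(a * b) := (hsign a ha b hb).resolve_left hne
  obtain ⟨c, hc, hca, hcb, hc1, hc2⟩ : ∃ c ∈ S, Commute c a ∧ Commute c b ∧ c ≠ 1 ∧ c ≠ -1 := by
    by_contra hno
    push Not at hno
    let cand : Finset (Matrix (Fin 4) (Fin 4) F) := (Finset.univ : Finset (Fin 2 × Fin 2 × Fin 2)).image
      fun z => (-1 : Matrix (Fin 4) (Fin 4) F) ^ (z.1 : ℕ) * b ^ (z.2.2 : ℕ) * a ^ (z.2.1 : ℕ)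
    have hinv : ∀ (u : Matrix (Fin 4) (Fin 4) F) (hu : u ∈ S) (i : Fin 2), ∃ s : Fin 2,
        u ^ (i : ℕ) * ((-1 : Matrix (Fin 4) (Fin 4) F) ^ (s : ℕ) * u ^ (i : ℕ)) = 1 := by
      intro u hu i
      fin_cases i
      · exact ⟨0, by simp⟩
      · rcases hsq u hu with e | e
        · exact ⟨0, by simp [e]⟩
        · exact ⟨1, by simp [e]⟩
    have : Nat.card S ≤ Nat.card cand := by
      refine Nat.card_le_card_of_injective (fun x => ⟨x.1, ?_⟩)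
        (fun x y e => Subtype.ext (congrArg (fun z => z.1) e))
      obtain ⟨x', hx', i, j, he, h1, h2⟩ := hcor a ha b hb hab x x.2
      obtain ⟨s, hs⟩ := hinv a ha i
      obtain ⟨t, ht⟩ := hinv b hb j
      obtain ⟨σ, hσ⟩ : ∃ σ : Fin 2, x' = (-1 : Matrix (Fin 4) (Fin 4) F) ^ (σ : ℕ) := by
        by_cases e1 : x' = 1
        · exact ⟨0, by simp [e1]⟩
        · exact ⟨1, by simp [hno x' hx' h1 h2 e1]⟩
      have hn : ∀ (m : ℕ) (M : Matrix (Fin 4) (Fin 4) F), Commute ((-1 : Matrix (Fin 4) (Fin 4) F) ^ m) M :=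
        fun m M => (Commute.neg_one_left M).pow_left m
      refine Finset.mem_image.2 ⟨(σ + t + s, i, j), Finset.mem_univ _, ?_⟩
      have e : (-1 : Matrix (Fin 4) (Fin 4) F) ^ ((σ + t + s : Fin 2) : ℕ) =
          (-1 : Matrix (Fin 4) (Fin 4) F) ^ (σ : ℕ) * (-1) ^ (t : ℕ) * (-1) ^ (s : ℕ) := by
        fin_cases σ <;> fin_cases t <;> fin_cases s <;> simp
      rw [e, ← hσ, he]
      calc x.1 * a ^ (i : ℕ) * b ^ (j : ℕ) * (-1) ^ (t : ℕ) * (-1) ^ (s : ℕ) * b ^ (j : ℕ) * a ^ (i : ℕ)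
          = x.1 * a ^ (i : ℕ) * (b ^ (j : ℕ) * ((-1) ^ (t : ℕ) * b ^ (j : ℕ))) * ((-1) ^ (s : ℕ) * a ^ (i : ℕ)) := by
            simp only [mul_assoc]
            rw [(hn _ (b ^ (j : ℕ))).left_comm]
        _ = x.1 := by rw [ht, mul_one, mul_assoc, hs, mul_one]
    have h8 : cand.card ≤ 8 := le_trans Finset.card_image_le (by simp)
    rw [Nat.card_eq_finsetCard] at this
    omega
  obtain ⟨d, hd, hne'⟩ : ∃ d ∈ S, d * c ≠ c * d := by
    by_contra h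
    push Not at h
    rcases hcent c hc h with e | e
    exacts [hc1 e, hc2 e]
  obtain ⟨d', hd', i, j, hde, hda, hdb⟩ := hcor a ha b hb hab d hd
  have hcd : d' * c = -(c * d') := by
    refine (hsign c hc d' hd').resolve_left fun h => hne' ?_
    obtain ⟨ia, hia⟩ : ∃ u, a ^ (i : ℕ) * u = 1 ∧ Commute c u := by
      fin_cases i
      · exact ⟨1, by simp⟩
      · rcases hsq a ha with e | e
        · exact ⟨a, by simp [e], hca⟩
        · exact ⟨-a, by simp [e], hca.neg_right⟩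
    obtain ⟨ib, hib⟩ : ∃ u, b ^ (j : ℕ) * u = 1 ∧ Commute c u := by
      fin_cases j
      · exact ⟨1, by simp⟩
      · rcases hsq b hb with e | e
        · exact ⟨b, by simp [e], hcb⟩
        · exact ⟨-b, by simp [e], hcb.neg_right⟩
    have : d = d' * ib * ia := by
      rw [hde, mul_assoc (d * a ^ (i : ℕ)), hib.1, mul_one, mul_assoc, hia.1, mul_one]
    rw [this]
    exact (((show Commute c d' from h.symm).mul_right hib.2).mul_right hia.2).symm.eq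
  obtain ⟨a₁, ha₁, b₁, hb₁, hab₁, hs₁, hcomm₁⟩ := normalize_pair ha hb (hsq a ha) (hsq b hb) hab
  obtain ⟨a₂, ha₂, b₂, hb₂, hab₂, hs₂, hcomm₂⟩ := normalize_pair hc hd' (hsq c hc) (hsq d' hd') hcd
  have p₁ := hcomm₁ c hca hcb
  have p₂ := hcomm₁ d' hda hdb
  have q₁ := hcomm₂ a₁ p₁.1.symm p₂.1.symm
  have q₂ := hcomm₂ b₁ p₁.2.symm p₂.2.symm
  have h1ne : (1 : Matrix (Fin 4) (Fin 4) F) ≠ -1 := fun h => h2 (by
    have := congrFun (congrFun h 0) 0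
    simp at this
    linear_combination this)
  have hns : ∀ (u v : Matrix (Fin 4) (Fin 4) F), v * u = -(u * v) → u ∈ S → v ∈ S → u ≠ 1 ∧ u ≠ -1 := by
    intro u v huv hu hv
    have hz : u * v ≠ 0 := fun h0 => by
      rcases hsq u hu with e | e <;> rcases hsq v hv with e' | e' <;>
        (have := congrArg (fun M => u * M * v) h0
         simp [← mul_assoc, e] at this
         simp [e'] at this)
    have key : v * u ≠ u * v := fun h => hz (by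
      rw [huv] at h
      have : (2 : F) • (u * v) = 0 := by rw [two_smul]; nth_rewrite 1 [← h]; rw [neg_add_cancel]
      exact (smul_eq_zero.1 this).resolve_left h2)
    constructor <;> rintro rfl <;> simp at key
  have hpick : ∃ x₁ y₁ x₂ y₂, Pairs x₁ y₁ x₂ y₂ ∧ x₁ ∈ S ∧ y₁ ∈ S ∧ x₂ ∈ S ∧ y₂ ∈ S := by
    rcases hs₁ with ⟨e₁, f₁⟩ | ⟨e₁, f₁⟩ <;> rcases hs₂ with ⟨e₂, f₂⟩ | ⟨e₂, f₂⟩
    · -- two dihedral pairs
      exfalso
      have n := hns (a₁ * a₂) b₁ (by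
        calc b₁ * (a₁ * a₂) = -(a₁ * (b₁ * a₂)) := by rw [← mul_assoc, hab₁, neg_mul, mul_assoc]
          _ = _ := by rw [q₂.1.eq, mul_assoc]) (mul_mem ha₁ ha₂) hb₁
      exact hminus a₁ ha₁ a₂ ha₂ e₁ e₂ q₁.1.eq.symm (hns a₁ b₁ hab₁ ha₁ hb₁).1 (hns a₁ b₁ hab₁ ha₁ hb₁).2
        (hns a₂ b₂ hab₂ ha₂ hb₂).1 (hns a₂ b₂ hab₂ ha₂ hb₂).2 n.1 n.2
    · exact ⟨a₁, b₁, a₂, b₂, ⟨e₁, f₁, e₂, f₂, hab₁, hab₂, q₁.1.eq.symm, q₂.1.eq.symm, q₁.2.eq.symm, q₂.2.eq.symm⟩,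
        ha₁, hb₁, ha₂, hb₂⟩
    · exact ⟨a₂, b₂, a₁, b₁, ⟨e₂, f₂, e₁, f₁, hab₂, hab₁, q₁.1.eq, q₁.2.eq, q₂.1.eq, q₂.2.eq⟩,
        ha₂, hb₂, ha₁, hb₁⟩
    · -- two quaternion pairs
      exfalso
      have h1 : a₁ * a₂ * (a₁ * a₂) = 1 := by
        rw [q₁.1.symm.mul_mul_mul_comm, e₁, e₂, neg_mul_neg, one_mul]
      have h2' : b₁ * b₂ * (b₁ * b₂) = 1 := by
        rw [q₂.2.symm.mul_mul_mul_comm, f₁, f₂, neg_mul_neg, one_mul]
      have h3 : b₁ * b₂ * (a₁ * a₂) = a₁ * a₂ * (b₁ * b₂) := by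
        rw [q₁.2.symm.mul_mul_mul_comm, hab₁, hab₂, neg_mul_neg, q₂.1.symm.mul_mul_mul_comm]
      have n₁ := hns (a₁ * a₂) b₁ (by
        calc b₁ * (a₁ * a₂) = -(a₁ * (b₁ * a₂)) := by rw [← mul_assoc, hab₁, neg_mul, mul_assoc]
          _ = _ := by rw [q₂.1.eq, mul_assoc]) (mul_mem ha₁ ha₂) hb₁
      have n₂ := hns (b₁ * b₂) a₁ (by
        calc a₁ * (b₁ * b₂) = -(b₁ * (a₁ * b₂)) := by rw [← mul_assoc, ← mul_assoc, hab₁, neg_mul, neg_neg]
          _ = _ := by rw [q₁.2.eq, mul_assoc]) (mul_mem hb₁ hb₂) ha₁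
      have n₃ := hns (a₁ * a₂ * (b₁ * b₂)) a₁ (by
        have r1 : b₂ * a₁ = a₁ * b₂ := q₁.2.eq.symm
        have r2 : ∀ w, b₁ * (a₁ * w) = -(a₁ * (b₁ * w)) := fun w => by rw [← mul_assoc, hab₁, neg_mul, mul_assoc]
        have r3 : ∀ w, a₂ * (a₁ * w) = a₁ * (a₂ * w) := fun w => by rw [← mul_assoc, ← q₁.1.eq, mul_assoc]
        simp [mul_assoc, r1, r2, r3]) (mul_mem (mul_mem ha₁ ha₂) (mul_mem hb₁ hb₂)) ha₁
      exact hminus _ (mul_mem ha₁ ha₂) _ (mul_mem hb₁ hb₂) h1 h2' h3 n₁.1 n₁.2 n₂.1 n₂.2 n₃.1 n₃.2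
  obtain ⟨x₁, y₁, x₂, y₂, hP, m₁, m₂, m₃, m₄⟩ := hpick
  refine ⟨x₁, y₁, x₂, y₂, hP, m₁, m₃, fun M => ⟨fun hM => ?_, ?_⟩⟩
  swap
  · rintro ⟨k, rfl | rfl⟩
    · exact mul_mem (mul_mem (pow_mem m₁ _) (pow_mem m₂ _)) (mul_mem (pow_mem m₃ _) (pow_mem m₄ _))
    · rw [← neg_one_mul]
      exact mul_mem hneg (mul_mem (mul_mem (pow_mem m₁ _) (pow_mem m₂ _)) (mul_mem (pow_mem m₃ _) (pow_mem m₄ _)))
  let f : Bool × L → S := fun z => ⟨if z.1 then mon x₁ y₁ x₂ y₂ z.2 else -mon x₁ y₁ x₂ y₂ z.2, by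
    have := mul_mem (mul_mem (pow_mem m₁ (z.2.1.1 : ℕ)) (pow_mem m₂ (z.2.1.2 : ℕ)))
      (mul_mem (pow_mem m₃ (z.2.2.1 : ℕ)) (pow_mem m₄ (z.2.2.2 : ℕ)))
    split_ifs
    · exact this
    · rw [← neg_one_mul]; exact mul_mem hneg this⟩
  have hf : Function.Injective f := by
    rintro ⟨s, k⟩ ⟨t, l⟩ h
    have h' : (if s then mon x₁ y₁ x₂ y₂ k else -mon x₁ y₁ x₂ y₂ k) =
        (if t then mon x₁ y₁ x₂ y₂ l else -mon x₁ y₁ x₂ y₂ l) := congrArg Subtype.val h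
    have hkl : k = l := by
      cases s <;> cases t <;> simp at h'
      · exact hP.mon_unique h2 (c := 1) (by rw [h', one_smul])
      · exact hP.mon_unique h2 (c := -1) (by rw [neg_one_smul, ← h', neg_neg])
      · exact hP.mon_unique h2 (c := -1) (by rw [h', neg_one_smul])
      · exact hP.mon_unique h2 (c := 1) (by rw [h', one_smul])
    subst hkl
    have hne0 : mon x₁ y₁ x₂ y₂ k ≠ -mon x₁ y₁ x₂ y₂ k := fun e => hP.mon_ne k
      ((smul_eq_zero.1 (show (2 : F) • mon x₁ y₁ x₂ y₂ k = 0 by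
        rw [two_smul]; nth_rewrite 1 [e]; rw [neg_add_cancel])).resolve_left h2)
    cases s <;> cases t <;> simp [hne0, Ne.symm hne0] at h' ⊢
  have hbij : Function.Surjective f := (Nat.bijective_iff_injective_and_card _).2
    ⟨hf, by rw [hcard, Nat.card_eq_fintype_card]; rfl⟩ |>.2
  obtain ⟨⟨s, k⟩, hk⟩ := hbij ⟨M, hM⟩
  have := congrArg Subtype.val hk
  refine ⟨k, ?_⟩
  cases s <;> simp [f] at this <;> simp [← this]

end CfsgLib.ThreeTransp.PauliFourMinus
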