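import Cfsg.Agent.Lib.ThreeTransp.PauliFour

/-!
A transvection of order three does not normalise the Pauli group.
-/

set_option autoImplicit false

namespace CfsgLib.ThreeTransp.PauliFour

open Matrix
open CfsgLib.AschbacherForm.Cases (pairBit bitSign)

variable {F : Type*} [Field F]

theorem pairBit_label : ∀ k l : K, (pairBit l.1 k.2 = pairBit k.1 l.2) →
    ∀ m : K, pairBit m.1 k.2 = pairBit k.1 m.2 → pairBit m.1 l.2 = pairBit l.1 m.2 →
    pairBit m.1 (k + l).2 = pairBit (k + l).1 m.2 := by decide +kernel

theorem exists_anti_pair : ∀ k l : K, pairBit l.1 k.2 ≠ pairBit k.1 l.2 →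
    ∃ m n : K, pairBit n.1 m.2 ≠ pairBit m.1 n.2 ∧ pairBit m.1 k.2 = pairBit k.1 m.2 ∧
      pairBit m.1 l.2 = pairBit l.1 m.2 ∧ pairBit n.1 k.2 = pairBit k.1 n.2 ∧
      pairBit n.1 l.2 = pairBit l.1 n.2 := by decide +kernel

theorem exists_anti : ∀ k : K, k ≠ 0 → ∃ n : K, pairBit n.1 k.2 ≠ pairBit k.1 n.2 := by decide +kernel

theorem sym_eq_one_iff (h2 : (2 : F) ≠ 0) (k l : K) :
    sgn F k l * sgn F l k = 1 ↔ pairBit l.1 k.2 = pairBit k.1 l.2 := by
  have h : (-1 : F) ≠ 1 := fun h => h2 (by linear_combination -h)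
  rw [sgn, sgn, bitSign, bitSign]
  constructor
  · intro h1
    generalize pairBit l.1 k.2 = a at *
    generalize pairBit k.1 l.2 = b at *
    fin_cases a <;> fin_cases b <;> simp at h1 ⊢ <;> exact h h1
  · intro h1
    rw [h1]
    split_ifs <;> ring

theorem P_comm (k l : K) : P F k * P F l = (sgn F k l * sgn F l k) • (P F l * P F k) := by
  rw [P_mul, P_mul, smul_smul, add_comm l k, mul_assoc, sgn_sq, mul_one]

theorem sym_cases (k l : K) : sgn F k l * sgn F l k = 1 ∨ sgn F k l * sgn F l k = -1 := by
  rw [← mul_self_eq_one_iff, mul_mul_mul_comm, sgn_sq, sgn_sq, one_mul]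

/-- A transvection of order three does not normalise the Pauli group. -/
theorem not_normal_transvection (h2 : (2 : F) ≠ 0) {y : GL (Fin 4) F} {a b : Fin 4 → F}
    (hy : (y : Matrix (Fin 4) (Fin 4) F) = 1 + vecMulVec a b) (hab : b ⬝ᵥ a = 0) (hne : vecMulVec a b ≠ 0)
    (hy3 : (y : Matrix (Fin 4) (Fin 4) F) ^ 3 = 1) : ¬ Normal (y : Matrix (Fin 4) (Fin 4) F) := by
  intro hN
  haveI : Fact (Nat.Prime 3) := ⟨Nat.prime_three⟩
  obtain ⟨c, π, hcπ, hc0, hπr, hadd, hfix, hsym⟩ := exists_perm h2 Nat.prime_three (by norm_num) hy3 hN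
  set e := vecMulVec a b with he'
  set Y := (y : Matrix (Fin 4) (Fin 4) F) with hY
  have hR1 : ∀ M : Matrix (Fin 4) (Fin 4) F, e * M * e = (M * e).trace • e := fun M => by
    rw [he', vecMulVec_mul, vecMulVec_mul_vecMulVec, mul_vecMulVec, trace_vecMulVec, ← dotProduct_mulVec,
      dotProduct_comm (M *ᵥ a), vecMulVec_smul]
  have htr0 : e.trace = 0 := by rw [he', trace_vecMulVec, dotProduct_comm, hab]
  have he2 : e * e = 0 := by
    have := hR1 1
    rwa [mul_one, one_mul, htr0, zero_smul] at this
  have hYY : Y * (1 - e) = 1 := by rw [hy, add_mul, one_mul, mul_sub, mul_one, he2]; abel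
  have hstep : ∀ l, Y * P F l * (1 - e) = c l • P F (π l) := fun l => by rw [hcπ, mul_assoc, hYY, mul_one]
  -- matrices commuting with `e` commute with each other
  have hcommon : ∀ m n : K, P F m * e = e * P F m → P F n * e = e * P F n → sgn F m n * sgn F n m = 1 := by
    intro m n hm hn
    refine (sym_cases m n).resolve_right fun hanti => ?_
    obtain ⟨X, hX⟩ : ∃ X, e * X * e = e := by
      obtain ⟨i, j, hij⟩ : ∃ i j, e i j ≠ 0 := by
        by_contra h
        push Not at h
        exact hne (Matrix.ext h)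
      refine ⟨Matrix.single j i (e i j)⁻¹, ?_⟩
      rw [hR1, show (Matrix.single j i (e i j)⁻¹ * e).trace = 1 by
        rw [Matrix.trace, Finset.sum_eq_single j (fun l _ hl => by simp [Matrix.diag, Matrix.single_mul_apply_of_ne, hl])
          (by simp)]
        simp [Matrix.diag, hij], one_smul]
    have hscal : ∀ N : Matrix (Fin 4) (Fin 4) F, N * e = e * N → ∃ g : F, N * e = g • e := fun N hN =>
      ⟨(N * X * e).trace, by
        rw [← hR1]
        calc N * e = N * (e * X * e) := by rw [hX]
          _ = e * (N * X) * e := by rw [← mul_assoc, ← mul_assoc, hN]; simp only [mul_assoc]⟩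
    obtain ⟨g, hg⟩ := hscal _ hm
    obtain ⟨g', hg'⟩ := hscal _ hn
    have h0 : (P F m * P F n) * e = -((P F n * P F m) * e) := by
      rw [P_comm m n, hanti, neg_one_smul, neg_mul]
    rw [mul_assoc, hg', mul_smul_comm, hg, mul_assoc, hg, mul_smul_comm, hg', smul_smul, smul_smul] at h0
    have h1 : ((2 : F) * (g * g')) • e = 0 := by
      rw [two_mul, add_smul]; nth_rewrite 1 [mul_comm g g']; rw [h0, neg_add_cancel]
    have hz : ∀ (l : K) (g : F), P F l * e = g • e → g ≠ 0 := fun l g hl h => by
      rw [h, zero_smul] at hl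
      apply hne
      calc e = (sgn F l l • P F l) * P F l * e := by
            rw [smul_mul_assoc, P_sq, smul_smul, sgn_sq, one_smul, one_mul]
        _ = 0 := by rw [mul_assoc, hl, mul_zero]
    exact hne ((smul_eq_zero.1 h1).resolve_left (mul_ne_zero h2 (mul_ne_zero (hz m g hg) (hz n g' hg'))))
  have hfixcomm : ∀ l, π l = l → P F l * e = e * P F l := fun l hl => by
    have h := hcπ l
    rw [hl, hfix l hl, one_smul, hy, add_mul, one_mul, mul_add, mul_one, add_right_inj] at h
    exact h.symm
  have h3 : ∀ l, π (π (π l)) = l := fun l => hπr l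
  have hπ0 : π 0 = 0 := by
    have := hadd 0 0
    rw [add_zero, label_add_self] at this
    exact this
  -- no label other than `0` is fixed
  have hnofix : ∀ m, π m = m → m = 0 := fun m hm => by
    by_contra hm0
    obtain ⟨n, hn⟩ := exists_anti m hm0
    have hn' : sgn F m n * sgn F n m = -1 :=
      (sym_cases m n).resolve_left fun h => hn ((sym_eq_one_iff h2 m n).1 h)
    set n' := n + π n + π (π n) with hn'def
    have hfn : π n' = n' := by rw [hn'def, hadd, hadd, h3]; abel
    have hval : ∀ l, sgn F m (π l) * sgn F (π l) m = sgn F m l * sgn F l m := fun l => by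
      rw [hsym m l, hm]
    have hlin : ∀ u v, sgn F m (u + v) * sgn F (u + v) m = (sgn F m u * sgn F u m) * (sgn F m v * sgn F v m) := by
      intro u v
      have h1 := P_comm (F := F) m (u + v)
      have h2' : P F m * P F (u + v) =
          ((sgn F m u * sgn F u m) * (sgn F m v * sgn F v m)) • (P F (u + v) * P F m) := by
        rw [show P F (u + v) = sgn F u v • (P F u * P F v) by rw [P_mul, smul_smul, sgn_sq, one_smul],
          mul_smul_comm, smul_mul_assoc, ← mul_assoc, P_comm m u, smul_mul_assoc, mul_assoc (P F u),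
          P_comm m v, mul_smul_comm, ← mul_assoc, smul_smul, smul_smul, smul_smul]
        congr 1
        ring
      rw [h2', P_mul, smul_smul, smul_smul] at h1
      exact (mul_right_cancel₀ (sgn_ne _ _) (label_unique h2
        (mul_ne_zero (mul_ne_zero (mul_ne_zero (sgn_ne _ _) (sgn_ne _ _)) (mul_ne_zero (sgn_ne _ _) (sgn_ne _ _)))
          (sgn_ne _ _)) h1).2).symm
    have : sgn F m n' * sgn F n' m = -1 := by
      rw [hn'def, hlin, hlin, hval, hval, hval, hn']; ring
    rw [hcommon m n' (hfixcomm m hm) (hfixcomm n' hfn)] at this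
    exact h2 (by linear_combination this)
  -- a moved label
  have hk0 : gA ≠ 0 := by decide
  set k : K := gA
  have hk : π k ≠ k := fun h => hk0 (hnofix k h)
  have hsum : π (π k) = k + π k := by
    have h := hnofix (k + π k + π (π k)) (by rw [hadd, hadd, h3]; abel)
    calc π (π k) = (k + π k + π (π k)) + (k + π k) := by
          rw [show k + π k + π (π k) + (k + π k) = (k + π k) + (k + π k) + π (π k) by abel, label_add_self, zero_add]
      _ = _ := by rw [h, zero_add]
  set β := (P F k * e).trace with hβdef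
  have hePe : e * P F k * e = β • e := hR1 _
  -- the product of the transvection and its conjugate
  have hβ : β ≠ 0 := by
    intro hβ0
    have h := congrArg (fun A => (A * P F k).trace) (hstep k)
    simp only [smul_mul_assoc, P_mul, smul_smul] at h
    rw [trace_smul, trace_P _ (fun h0 => hk (by
      rw [← add_zero (π k), ← label_add_self k, ← add_assoc, h0, zero_add])), smul_zero, hy] at h
    have e1 : (1 + e) * P F k * (1 - e) * P F k =
        P F k * P F k - P F k * (e * P F k) + e * (P F k * P F k) - e * P F k * e * P F k := by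
      noncomm_ring
    rw [e1, hePe, hβ0, zero_smul, zero_mul, sub_zero, trace_add, trace_sub, trace_mul_comm (P F k) (e * P F k),
      mul_assoc, P_sq, mul_smul_comm, mul_one, sub_add_cancel, trace_smul, trace_one, Fintype.card_fin,
      smul_eq_mul] at h
    exact mul_ne_zero (sgn_ne k k) (by simpa using two_ne h2) h
  have g1 := hstep k
  have g2 := hstep (π k)
  have t2 : Y * (Y * P F k * (1 - e)) * (1 - e) = (c k * c (π k)) • P F (π (π k)) := by
    rw [g1, mul_smul_comm, smul_mul_assoc, g2, smul_smul]
  have hcomb : ((-2 : F) * β) • e = (c k * c (π k)) • P F (π (π k)) - (2 : F) • (c k • P F (π k)) + P F k := by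
    rw [← t2, ← g1, hy]
    simp only [add_mul, mul_add, sub_mul, mul_sub, one_mul, mul_one, mul_assoc, he2, mul_zero, ← mul_assoc e e, zero_mul,
      smul_add, smul_sub, smul_zero, add_zero, sub_zero, zero_sub, zero_add]
    rw [show e * (P F k * e) = β • e by rw [← mul_assoc, hePe]]
    module
  have hcomm : ∀ m, sgn F m k * sgn F k m = 1 → sgn F m (π k) * sgn F (π k) m = 1 → P F m * e = e * P F m := by
    intro m h1 h2'
    have h3' : sgn F m (π (π k)) * sgn F (π (π k)) m = 1 := by
      rw [hsum, sym_eq_one_iff h2]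
      by_cases hc : pairBit (π k).1 k.2 = pairBit k.1 (π k).2
      · exact (pairBit_label k (π k) hc m ((sym_eq_one_iff h2 m k).1 h1).symm
          ((sym_eq_one_iff h2 m (π k)).1 h2').symm).symm
      · rw [← sym_eq_one_iff h2]
        have := P_comm (F := F) m (k + π k)
        have hh : P F m * P F (k + π k) = (1 : F) • (P F (k + π k) * P F m) := by
          rw [one_smul, show P F (k + π k) = sgn F k (π k) • (P F k * P F (π k)) by
            rw [P_mul, smul_smul, sgn_sq, one_smul], mul_smul_comm, smul_mul_assoc, ← mul_assoc, P_comm m k, h1,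
            one_smul, mul_assoc, P_comm m (π k), h2', one_smul, mul_assoc]
        rw [hh, P_mul, smul_smul, smul_smul] at this
        exact (mul_right_cancel₀ (sgn_ne _ _) (label_unique h2
          (mul_ne_zero one_ne_zero (sgn_ne _ _)) this).2).symm
    have := congrArg (fun A => P F m * A - A * P F m) hcomb
    simp only [mul_smul_comm, smul_mul_assoc, mul_sub, sub_mul, mul_add, add_mul] at this
    rw [P_comm m k, P_comm m (π k), P_comm m (π (π k)), h1, h2', h3', one_smul, one_smul, one_smul, sub_self,
      ← smul_sub, smul_eq_zero, sub_eq_zero] at this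
    exact this.resolve_left (mul_ne_zero (neg_ne_zero.2 h2) hβ)
  by_cases hc : sgn F k (π k) * sgn F (π k) k = 1
  · have h := hcomm k (sgn_sq k k) hc
    have h2' : e * P F k * e = 0 := by rw [mul_assoc, h, ← mul_assoc, he2, zero_mul]
    rw [hePe] at h2'
    exact hne ((smul_eq_zero.1 h2').resolve_left hβ)
  · obtain ⟨m, n, hmn, hmk, hml, hnk, hnl⟩ := exists_anti_pair k (π k) (fun h => hc ((sym_eq_one_iff h2 _ _).2 h))
    have hm' := hcomm m ((sym_eq_one_iff h2 _ _).2 hmk.symm) ((sym_eq_one_iff h2 _ _).2 hml.symm)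
    have hn' := hcomm n ((sym_eq_one_iff h2 _ _).2 hnk.symm) ((sym_eq_one_iff h2 _ _).2 hnl.symm)
    exact hmn ((sym_eq_one_iff h2 m n).1 (hcommon m n hm' hn'))

end CfsgLib.ThreeTransp.PauliFour
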