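import Cfsg.Agent.Lib.ThreeTransp.PlaneFour

/-!
Permutations of a hyperoval extend uniquely to automorphisms of the plane of order four.
-/

set_option autoImplicit false

namespace CfsgLib.ThreeTransp.PlaneFour

open Cfsg
open scoped Pointwise

variable {α : Type*} [Fintype α] [DecidableEq α] {B : Set (Finset α)} {H : Finset α}

theorem IsPlane.hyper_pair (P : IsPlane B) (hH : H.card = 6) (hA : IsArc B H) {x p : α} (hp : p ∈ H) (hxp : x ≠ p) :
    ∃ q ∈ H, q ≠ p ∧ q ∈ line B x p := by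
  classical
  obtain ⟨h1, h2, h3⟩ := P.line_spec hxp
  have hinj : Set.InjOn (line B p) (H.erase p : Set α) := by
    intro b hb c hc he
    simp only [Finset.coe_erase, Set.mem_diff, Finset.mem_coe, Set.mem_singleton_iff] at hb hc
    by_contra hbc
    exact P.not_mem_line hA hp hb.1 hc.1 (Ne.symm hb.2) hc.2 (Ne.symm hbc) (he ▸ (P.line_spec (Ne.symm hc.2)).2.2)
  have hsub : (H.erase p).image (line B p) = pencil B p := by
    refine Finset.eq_of_subset_of_card_le (fun l hl => ?_) ?_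
    · obtain ⟨b, hb, rfl⟩ := Finset.mem_image.1 hl
      have := P.line_spec (Finset.ne_of_mem_erase hb).symm
      exact mem_pencil.2 ⟨this.1, this.2.1⟩
    · rw [Finset.card_image_of_injOn hinj, Finset.card_erase_of_mem hp, hH, P.card_pencil]
  have : line B x p ∈ (H.erase p).image (line B p) := hsub ▸ mem_pencil.2 ⟨h1, h3⟩
  obtain ⟨q, hq, hql⟩ := Finset.mem_image.1 this
  exact ⟨q, Finset.mem_of_mem_erase hq, Finset.ne_of_mem_erase hq,
    hql ▸ (P.line_spec (Finset.ne_of_mem_erase hq).symm).2.2⟩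

theorem IsPlane.hyper_unique (P : IsPlane B) (hA : IsArc B H) {l : Finset α} (hl : l ∈ B) {p q r : α} (hp : p ∈ H)
    (hq : q ∈ H) (hr : r ∈ H) (hqp : q ≠ p) (hrp : r ≠ p) (hpl : p ∈ l) (hql : q ∈ l) (hrl : r ∈ l) : q = r := by
  by_contra hqr
  exact P.not_mem_line hA hp hq hr hqp.symm hrp (Ne.symm hqr) (by rw [P.line_eq hl hqp.symm hpl hql]; exact hrl)

theorem IsPlane.meet_unique (P : IsPlane B) {l m : Finset α} (hl : l ∈ B) (hm : m ∈ B) (hne : l ≠ m) {x y : α}
    (hxl : x ∈ l) (hxm : x ∈ m) (hyl : y ∈ l) (hym : y ∈ m) : x = y := by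
  by_contra h
  exact hne (P.eq_of_two hl hm h hxl hyl hxm hym)

/-- `y` corresponds to `x` under the map `s` of the hyperoval. -/
def Match (B : Set (Finset α)) (H : Finset α) (s : α → α) (x y : α) : Prop :=
  y ∉ H ∧ ∀ p ∈ H, ∀ q ∈ H, p ≠ q → x ∈ line B p q → y ∈ line B (s p) (s q)

variable {s : α → α}

theorem IsPlane.exists_match (P : IsPlane B) (hH : H.card = 6) (hA : IsArc B H) (hs : ∀ p ∈ H, s p ∈ H)
    (hsi : ∀ p ∈ H, ∀ q ∈ H, s p = s q → p = q) {x : α} (hx : x ∉ H) : ∃! y, Match B H s x y := by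
  classical
  have hne : ∀ p ∈ H, x ≠ p := fun p hp e => hx (e ▸ hp)
  have sec : ∀ p ∈ H, ∀ q ∈ H, p ≠ q → q ∈ line B x p → x ∈ line B p q := fun p hp q hq hpq hql => by
    obtain ⟨h1, h2, h3⟩ := P.line_spec (hne p hp)
    rw [P.line_eq h1 hpq h3 hql]; exact h2
  have sec' : ∀ p ∈ H, ∀ q ∈ H, p ≠ q → x ∈ line B p q → line B x p = line B p q := fun p hp q _ hpq hxl => by
    obtain ⟨h1, h2, h3⟩ := P.line_spec hpq
    exact P.line_eq h1 (hne p hp) hxl h2
  obtain ⟨a, ha⟩ : H.Nonempty := Finset.card_pos.1 (by omega)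
  obtain ⟨b, hb, hba, hbl⟩ := P.hyper_pair hH hA ha (hne a ha)
  obtain ⟨c, hc⟩ : ((H.erase a).erase b).Nonempty := Finset.card_pos.1 (by
    rw [Finset.card_erase_of_mem (Finset.mem_erase.2 ⟨hba, hb⟩), Finset.card_erase_of_mem ha, hH]; norm_num)
  obtain ⟨hcb, hca, hcH⟩ : c ≠ b ∧ c ≠ a ∧ c ∈ H := by simpa [Finset.mem_erase] using hc
  obtain ⟨d, hd, hdc, hdl⟩ := P.hyper_pair hH hA hcH (hne c hcH)
  have hab : line B x a = line B a b := sec' a ha b hb hba.symm (sec a ha b hb hba.symm hbl)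
  have hcd : line B x c = line B c d := sec' c hcH d hd hdc.symm (sec c hcH d hd hdc.symm hdl)
  have hda : d ≠ a := fun e => by
    subst e
    obtain ⟨h1, h2, h3⟩ := P.line_spec (hne c hcH)
    have h4 := P.line_eq h1 (hne d hd) h2 hdl
    exact hcb (P.hyper_unique hA (P.line_spec (hne d hd)).1 hd hb hcH hba hca (P.line_spec (hne d hd)).2.2 hbl
      (h4 ▸ h3)).symm
  have hdb : d ≠ b := fun e => by
    subst e
    obtain ⟨h1, h2, h3⟩ := P.line_spec (hne c hcH)
    obtain ⟨g1, g2, g3⟩ := P.line_spec (hne a ha)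
    have h4 := P.eq_of_two h1 g1 (hne d hd) h2 hdl g2 hbl
    exact hca (P.hyper_unique hA g1 hd ha hcH hba.symm hdc.symm hbl g3 (h4 ▸ h3)).symm
  obtain ⟨e, he⟩ : ((((H.erase a).erase b).erase c).erase d).Nonempty := Finset.card_pos.1 (by
    rw [Finset.card_erase_of_mem, Finset.card_erase_of_mem, Finset.card_erase_of_mem, Finset.card_erase_of_mem ha, hH]
    · norm_num
    · exact Finset.mem_erase.2 ⟨hba, hb⟩
    · exact Finset.mem_erase.2 ⟨hcb, Finset.mem_erase.2 ⟨hca, hcH⟩⟩
    · exact Finset.mem_erase.2 ⟨hdc, Finset.mem_erase.2 ⟨hdb, Finset.mem_erase.2 ⟨hda, hd⟩⟩⟩)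
  obtain ⟨hed, hec, heb, hea, heH⟩ : e ≠ d ∧ e ≠ c ∧ e ≠ b ∧ e ≠ a ∧ e ∈ H := by
    simpa [Finset.mem_erase] using he
  obtain ⟨f, hf, hfe, hfl⟩ := P.hyper_pair hH hA heH (hne e heH)
  have other : ∀ p ∈ H, ∀ q ∈ H, ∀ r ∈ H, q ≠ p → r ≠ p → x ∈ line B p q → x ∈ line B p r → q = r := by
    intro p hp q hq r hr hqp hrp h1 h2
    obtain ⟨g1, g2, g3⟩ := P.line_spec hqp.symm
    refine P.hyper_unique hA g1 hp hq hr hqp hrp g2 g3 ?_
    rw [← sec' p hp q hq hqp.symm h1, sec' p hp r hr hrp.symm h2]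
    exact (P.line_spec hrp.symm).2.2
  have xab : x ∈ line B a b := sec a ha b hb hba.symm hbl
  have xcd : x ∈ line B c d := sec c hcH d hd hdc.symm hdl
  have xef : x ∈ line B e f := sec e heH f hf hfe.symm hfl
  have hfa : f ≠ a := fun h => by
    subst h; rw [line_comm] at xef
    exact heb (other f hf e heH b hb hea hba xef xab)
  have hfb : f ≠ b := fun h => by
    subst h; rw [line_comm] at xef xab
    exact hea (other f hf e heH a ha heb hba.symm xef xab)
  have hfc : f ≠ c := fun h => by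
    subst h; rw [line_comm] at xef
    exact hed (other f hf e heH d hd hec hdc xef xcd)
  have hfd : f ≠ d := fun h => by
    subst h; rw [line_comm] at xef xcd
    exact hec (other f hf e heH c hcH hed hdc.symm xef xcd)
  have hall : H = {a, b, c, d, e, f} := by
    refine (Finset.eq_of_subset_of_card_le ?_ ?_).symm
    · simp [Finset.insert_subset_iff, ha, hb, hcH, hd, heH, hf]
    · rw [hH, Finset.card_insert_of_notMem, Finset.card_insert_of_notMem, Finset.card_insert_of_notMem,
        Finset.card_insert_of_notMem, Finset.card_insert_of_notMem, Finset.card_singleton]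
      all_goals simp [hba.symm, hca.symm, hcb.symm, hda.symm, hdb.symm, hdc.symm, hea.symm, heb.symm, hec.symm,
        hed.symm, hfa.symm, hfb.symm, hfc.symm, hfd.symm, hfe.symm]
  have sne : ∀ p ∈ H, ∀ q ∈ H, p ≠ q → s p ≠ s q := fun p hp q hq h e => h (hsi p hp q hq e)
  obtain ⟨l1, a1, b1⟩ := P.line_spec (sne a ha b hb hba.symm)
  obtain ⟨l2, c2, d2⟩ := P.line_spec (sne c hcH d hd hdc.symm)
  have hl12 : line B (s a) (s b) ≠ line B (s c) (s d) := fun h =>
    P.not_mem_line hA (hs a ha) (hs b hb) (hs c hcH) (sne a ha b hb hba.symm) (sne c hcH a ha hca)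
      (sne c hcH b hb hcb) (h ▸ c2)
  obtain ⟨y, hy1, hy2⟩ := P.meet l1 l2
  have hyH : y ∉ H := by
    intro hyH
    have k1 : y = s a ∨ y = s b := by
      by_contra h; push Not at h
      exact P.not_mem_line hA (hs a ha) (hs b hb) hyH (sne a ha b hb hba.symm) h.1 h.2 hy1
    have k2 : y = s c ∨ y = s d := by
      by_contra h; push Not at h
      exact P.not_mem_line hA (hs c hcH) (hs d hd) hyH (sne c hcH d hd hdc.symm) h.1 h.2 hy2
    rcases k1 with rfl | rfl <;> rcases k2 with h | h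
    · exact sne a ha c hcH hca.symm h
    · exact sne a ha d hd hda.symm h
    · exact sne b hb c hcH hcb.symm h
    · exact sne b hb d hd hdb.symm h
  have hy3 : y ∈ line B (s e) (s f) := by
    have hye : y ≠ s e := fun h => hyH (h ▸ hs e heH)
    obtain ⟨q, hq, hqe, hql⟩ := P.hyper_pair hH hA (hs e heH) hye
    obtain ⟨h1, h2, h3⟩ := P.line_spec hye
    have hsimg : H.image s = H := Finset.eq_of_subset_of_card_le (fun q hq => by
      obtain ⟨p, hp, rfl⟩ := Finset.mem_image.1 hq; exact hs p hp)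
      (by rw [Finset.card_image_of_injOn fun p hp q hq h => hsi p hp q hq h])
    obtain ⟨p, hp, rfl⟩ := Finset.mem_image.1 (hsimg.symm ▸ hq)
    have hno : ∀ {u v : α}, u ∈ H → v ∈ H → u ≠ v → e ≠ u → e ≠ v → y ∈ line B (s u) (s v) → p ≠ u := by
      intro u v hu hv huv heu hev hyl hpu
      subst hpu
      obtain ⟨g1, g2, g3⟩ := P.line_spec (sne p hu v hv huv)
      have h4 := P.eq_of_two h1 g1 (fun e' : y = s p => hyH (e' ▸ hs p hu)) h2 hql hyl g2
      exact P.not_mem_line hA (hs p hu) (hs v hv) (hs e heH) (sne p hu v hv huv) (sne e heH p hu heu)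
        (sne e heH v hv hev) (h4 ▸ h3)
    have hpf : p = f := by
      have hp' := hp
      rw [hall] at hp'
      simp only [Finset.mem_insert, Finset.mem_singleton] at hp'
      rcases hp' with h | h | h | h | h | h
      · exact absurd h (hno ha hb hba.symm hea heb hy1)
      · exact absurd h (hno hb ha hba heb hea (by rwa [line_comm]))
      · exact absurd h (hno hcH hd hdc.symm hec hed hy2)
      · exact absurd h (hno hd hcH hdc hed hec (by rwa [line_comm]))
      · exact absurd (congrArg s h) hqe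
      · exact h
    subst hpf
    rw [P.line_eq h1 (sne e heH p hp hfe.symm) h3 hql]; exact h2
  refine ⟨y, ⟨hyH, fun p hp q hq hpq hxl => ?_⟩, fun y' hy' => ?_⟩
  · have hq' : ∀ r ∈ H, r ≠ p → x ∈ line B p r → q = r := fun r hr hrp h => other p hp q hq r hr hpq.symm hrp hxl h
    have hp' := hp
    rw [hall] at hp'
    simp only [Finset.mem_insert, Finset.mem_singleton] at hp'
    rcases hp' with rfl | rfl | rfl | rfl | rfl | rfl
    · rw [hq' b hb hba xab]; exact hy1
    · rw [hq' a ha hba.symm (by rwa [line_comm]), line_comm]; exact hy1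
    · rw [hq' d hd hdc xcd]; exact hy2
    · rw [hq' c hcH hdc.symm (by rwa [line_comm]), line_comm]; exact hy2
    · rw [hq' f hf hfe xef]; exact hy3
    · rw [hq' e heH hfe.symm (by rwa [line_comm]), line_comm]; exact hy3
  · exact P.meet_unique l1 l2 hl12 (hy'.2 a ha b hb hba.symm xab) (hy'.2 c hcH d hd hdc.symm xcd) hy1 hy2

theorem IsPlane.exterior_count (P : IsPlane B) (hH : H.card = 6) (hA : IsArc B H) {y : α} (hy : y ∉ H) :
    ((pencil B y).filter fun l => Disjoint l H).card = 2 := by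
  classical
  have hmaps : Set.MapsTo (line B y) (H : Set α) ((pencil B y).filter fun l => ¬ Disjoint l H : Finset (Finset α)) := by
    intro p hp
    have := P.line_spec (a := y) (b := p) (fun e => hy (e ▸ hp))
    exact Finset.mem_filter.2 ⟨mem_pencil.2 ⟨this.1, this.2.1⟩, fun h => Finset.disjoint_left.1 h this.2.2 hp⟩
  have h1 := Finset.card_eq_sum_card_fiberwise hmaps
  rw [Finset.sum_congr rfl (g := fun _ => 2) fun l hl => ?_, Finset.sum_const, smul_eq_mul, hH] at h1
  · have h2 := Finset.card_filter_add_card_filter_not (s := pencil B y) (fun l => Disjoint l H)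
    rw [P.card_pencil] at h2
    omega
  · obtain ⟨hlp, hl'⟩ := Finset.mem_filter.1 hl
    obtain ⟨hl1, hyl⟩ := mem_pencil.1 hlp
    obtain ⟨p, hpl, hp⟩ := Finset.not_disjoint_iff.1 hl'
    have hne : ∀ p ∈ H, y ≠ p := fun p hp e => hy (e ▸ hp)
    obtain ⟨q, hq, hqp, hql⟩ := P.hyper_pair hH hA hp (hne p hp)
    rw [P.line_eq hl1 (hne p hp) hyl hpl] at hql
    rw [show H.filter (fun a => line B y a = l) = {p, q} from ?_, Finset.card_pair hqp.symm]
    ext r
    simp only [Finset.mem_filter, Finset.mem_insert, Finset.mem_singleton]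
    constructor
    · rintro ⟨hr, hrl⟩
      by_contra h; push Not at h
      have hrl' : r ∈ l := hrl ▸ (P.line_spec (hne r hr)).2.2
      exact h.2 (P.hyper_unique hA hl1 hp hq hr hqp h.1 hpl hql hrl').symm
    · rintro (rfl | rfl)
      · exact ⟨hp, P.line_eq hl1 (hne r hp) hyl hpl⟩
      · exact ⟨hq, P.line_eq hl1 (hne r hq) hyl hql⟩

theorem IsPlane.extend_unique (P : IsPlane B) (hH : H.card = 6) (hA : IsArc B H) (σ : Equiv.Perm ↥H) :
    ∃! g : Equiv.Perm α, g ∈ Cfsg.setSystemAut B ∧ ∀ p : ↥H, g p = σ p := by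
  classical
  obtain ⟨p0, hp0⟩ : H.Nonempty := Finset.card_pos.1 (by omega)
  let s : α → α := fun p => if h : p ∈ H then σ ⟨p, h⟩ else p
  have sdef : ∀ p (h : p ∈ H), s p = σ ⟨p, h⟩ := fun p h => dif_pos h
  have hs : ∀ p ∈ H, s p ∈ H := fun p hp => by rw [sdef p hp]; exact (σ ⟨p, hp⟩).2
  have hsi : ∀ p ∈ H, ∀ q ∈ H, s p = s q → p = q := fun p hp q hq h => by
    rw [sdef p hp, sdef q hq] at h
    exact congrArg Subtype.val (σ.injective (Subtype.ext h))
  have sne : ∀ p ∈ H, ∀ q ∈ H, p ≠ q → s p ≠ s q := fun p hp q hq h e => h (hsi p hp q hq e)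
  choose m hm hmu using fun x (hx : x ∉ H) => P.exists_match hH hA hs hsi hx
  let g : α → α := fun x => if h : x ∈ H then s x else m x h
  have gH : ∀ x ∈ H, g x = s x := fun x h => dif_pos h
  have gO : ∀ x (h : x ∉ H), g x = m x h := fun x h => dif_neg h
  -- a common secant of two images comes from a common secant
  have back : ∀ x ∉ H, ∀ p ∈ H, ∀ q ∈ H, p ≠ q → g x ∈ line B (s p) (s q) → x ∈ line B p q := by
    intro x hx p hp q hq hpq hy
    have hxp : x ≠ p := fun e => hx (e ▸ hp)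
    obtain ⟨r, hr, hrp, hrl⟩ := P.hyper_pair hH hA hp hxp
    obtain ⟨l1, x1, p1⟩ := P.line_spec hxp
    have hxl : x ∈ line B p r := by rw [P.line_eq l1 hrp.symm p1 hrl]; exact x1
    have h2 := (hm x hx).2 p hp r hr hrp.symm hxl
    rw [← gO x hx] at h2
    by_cases hrq : r = q
    · exact hrq ▸ hxl
    exfalso
    obtain ⟨g1, g2, g3⟩ := P.line_spec (sne p hp q hq hpq)
    obtain ⟨k1, k2, k3⟩ := P.line_spec (sne p hp r hr hrp.symm)
    have hgp : g x ≠ s p := fun e => (hm x hx).1 (by rw [← gO x hx, e]; exact hs p hp)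
    have h5 := P.eq_of_two k1 g1 hgp h2 k2 hy g2
    exact P.not_mem_line hA (hs p hp) (hs q hq) (hs r hr) (sne p hp q hq hpq) (sne r hr p hp hrp)
      (sne r hr q hq hrq) (h5 ▸ k3)
  have ginj : Function.Injective g := by
    intro x x' hxx
    by_cases hx : x ∈ H <;> by_cases hx' : x' ∈ H
    · rw [gH x hx, gH x' hx'] at hxx; exact hsi x hx x' hx' hxx
    · rw [gH x hx, gO x' hx'] at hxx; exact absurd (hxx ▸ hs x hx) (hm x' hx').1
    · rw [gH x' hx', gO x hx] at hxx; exact absurd (hxx.symm ▸ hs x' hx') (hm x hx).1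
    · have hne : ∀ p ∈ H, x ≠ p := fun p hp e => hx (e ▸ hp)
      obtain ⟨q, hq, hqp, hql⟩ := P.hyper_pair hH hA hp0 (hne p0 hp0)
      have x1 : x ∈ line B p0 q := by
        obtain ⟨l1, x1, p1⟩ := P.line_spec (hne p0 hp0)
        rw [P.line_eq l1 hqp.symm p1 hql]; exact x1
      obtain ⟨c, hc⟩ : ((H.erase p0).erase q).Nonempty := Finset.card_pos.1 (by
        rw [Finset.card_erase_of_mem (Finset.mem_erase.2 ⟨hqp, hq⟩), Finset.card_erase_of_mem hp0, hH]; norm_num)
      obtain ⟨hcq, hcp, hcH⟩ : c ≠ q ∧ c ≠ p0 ∧ c ∈ H := by simpa [Finset.mem_erase] using hc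
      obtain ⟨d, hd, hdc, hdl⟩ := P.hyper_pair hH hA hcH (hne c hcH)
      have x2 : x ∈ line B c d := by
        obtain ⟨l1, x1, p1⟩ := P.line_spec (hne c hcH)
        rw [P.line_eq l1 hdc.symm p1 hdl]; exact x1
      have y1 := back x' hx' p0 hp0 q hq hqp.symm (by rw [← hxx, gO x hx]; exact (hm x hx).2 p0 hp0 q hq hqp.symm x1)
      have y2 := back x' hx' c hcH d hd hdc.symm (by rw [← hxx, gO x hx]; exact (hm x hx).2 c hcH d hd hdc.symm x2)
      obtain ⟨l1, a1, b1⟩ := P.line_spec hqp.symm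
      obtain ⟨l2, a2, b2⟩ := P.line_spec hdc.symm
      exact P.meet_unique l1 l2 (fun h => P.not_mem_line hA hp0 hq hcH hqp.symm hcp hcq (h ▸ a2)) x1 x2 y1 y2
  let G : Equiv.Perm α := Equiv.ofBijective g ⟨ginj, Finite.injective_iff_surjective.1 ginj⟩
  have hG : ∀ x, G x = g x := fun x => rfl
  have haut : ∀ l ∈ B, l.image g ∈ B := by
    intro l hl
    have hcard : (l.image g).card = 5 := by rw [Finset.card_image_of_injective _ ginj, P.steiner.1 l hl]
    have fin : ∀ L ∈ B, (∀ x ∈ l, g x ∈ L) → l.image g ∈ B := fun L hL h => by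
      rwa [Finset.eq_of_subset_of_card_le (s := l.image g) (t := L) (fun y hy => by
        obtain ⟨x, hx, rfl⟩ := Finset.mem_image.1 hy; exact h x hx) (by rw [hcard, P.steiner.1 L hL])]
    by_cases hd : Disjoint l H
    · have hout : ∀ x ∈ l, x ∉ H := fun x hx => Finset.disjoint_left.1 hd hx
      have ext : ∀ x ∈ l, ∀ x' ∈ l, x ≠ x' →
          line B (g x) (g x') ∈ (pencil B (g x)).filter fun m => Disjoint m H := by
        intro x hx x' hx' hne
        have hgne : g x ≠ g x' := fun e => hne (ginj e)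
        obtain ⟨l1, a1, b1⟩ := P.line_spec hgne
        refine Finset.mem_filter.2 ⟨mem_pencil.2 ⟨l1, a1⟩, Finset.disjoint_left.2 fun r hrl hr => ?_⟩
        have hyH : g x ∉ H := by rw [gO x (hout x hx)]; exact (hm x (hout x hx)).1
        have hyr : g x ≠ r := fun e => hyH (e ▸ hr)
        obtain ⟨q, hq, hqr, hql⟩ := P.hyper_pair hH hA hr hyr
        rw [P.line_eq l1 hyr a1 hrl] at hql
        have hsimg : H.image s = H := Finset.eq_of_subset_of_card_le (fun q hq => by
          obtain ⟨p, hp, rfl⟩ := Finset.mem_image.1 hq; exact hs p hp)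
          (by rw [Finset.card_image_of_injOn fun p hp q hq h => hsi p hp q hq h])
        obtain ⟨u, hu, rfl⟩ := Finset.mem_image.1 (hsimg.symm ▸ hr)
        obtain ⟨v, hv, rfl⟩ := Finset.mem_image.1 (hsimg.symm ▸ hq)
        have huv : u ≠ v := fun e => hqr (by rw [e])
        have hl' := P.line_eq l1 hqr.symm hrl hql
        have z1 := back x (hout x hx) u hu v hv huv (by rw [hl']; exact a1)
        have z2 := back x' (hout x' hx') u hu v hv huv (by rw [hl']; exact b1)
        obtain ⟨l2, a2, b2⟩ := P.line_spec huv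
        exact hout u (P.eq_of_two l2 hl hne z1 z2 hx hx' ▸ a2) hu
      obtain ⟨x0, hx0⟩ : l.Nonempty := Finset.card_pos.1 (by rw [P.steiner.1 l hl]; norm_num)
      set E := (pencil B (g x0)).filter (fun m => Disjoint m H) with hE
      have hy0 : g x0 ∉ H := by rw [gO x0 (hout x0 hx0)]; exact (hm x0 (hout x0 hx0)).1
      have hEc : E.card = 2 := P.exterior_count hH hA hy0
      obtain ⟨L, hLE, hL⟩ := Finset.exists_lt_card_fiber_of_mul_lt_card_of_maps_to (s := l.erase x0) (t := E)
        (f := fun x => line B (g x0) (g x)) (n := 1)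
        (fun x hx => ext x0 hx0 x (Finset.mem_of_mem_erase hx) (Finset.ne_of_mem_erase hx).symm)
        (by rw [hEc, Finset.card_erase_of_mem hx0, P.steiner.1 l hl]; norm_num)
      obtain ⟨u, hu, v, hv, huv⟩ := Finset.one_lt_card.1 hL
      simp only [Finset.mem_filter, Finset.mem_erase] at hu hv
      obtain ⟨hLp, hLd⟩ := Finset.mem_filter.1 hLE
      obtain ⟨hLB, hL0⟩ := mem_pencil.1 hLp
      have huL : g u ∈ L := hu.2 ▸ (P.line_spec (fun e => hu.1.1 (ginj e).symm)).2.2
      have hvL : g v ∈ L := hv.2 ▸ (P.line_spec (fun e => hv.1.1 (ginj e).symm)).2.2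
      refine fin L hLB fun w hw => ?_
      by_contra hwL
      have hw0 : w ≠ x0 := fun e => hwL (e ▸ hL0)
      have hwu : w ≠ u := fun e => hwL (e ▸ huL)
      have hwv : w ≠ v := fun e => hwL (e ▸ hvL)
      have hEw : ((pencil B (g w)).filter fun m => Disjoint m H).card = 2 :=
        P.exterior_count hH hA (by rw [gO w (hout w hw)]; exact (hm w (hout w hw)).1)
      have three : ({line B (g w) (g x0), line B (g w) (g u), line B (g w) (g v)} : Finset (Finset α)).card = 3 := by
        have d : ∀ a b : α, g a ∈ L → g b ∈ L → g a ≠ g b → w ≠ a → w ≠ b →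
            line B (g w) (g a) ≠ line B (g w) (g b) := by
          intro a b ha hb hab hwa hwb he
          obtain ⟨n1, n2, n3⟩ := P.line_spec (fun e => hwa (ginj e) : g w ≠ g a)
          obtain ⟨k1, k2, k3⟩ := P.line_spec (fun e => hwb (ginj e) : g w ≠ g b)
          exact hwL (P.eq_of_two n1 hLB hab n3 (he ▸ k3) ha hb ▸ n2)
        refine Finset.card_eq_three.2 ⟨_, _, _, d x0 u hL0 huL (fun e => hu.1.1 (ginj e).symm) hw0 hwu,
          d x0 v hL0 hvL (fun e => hv.1.1 (ginj e).symm) hw0 hwv,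
          d u v huL hvL (fun e => huv (ginj e)) hwu hwv, rfl⟩
      have : ({line B (g w) (g x0), line B (g w) (g u), line B (g w) (g v)} : Finset (Finset α)) ⊆
          (pencil B (g w)).filter fun m => Disjoint m H := by
        simp only [Finset.insert_subset_iff, Finset.singleton_subset_iff]
        exact ⟨ext w hw x0 hx0 hw0, ext w hw u hu.1.2 hwu, ext w hw v hv.1.2 hwv⟩
      have := Finset.card_le_card this
      omega
    · obtain ⟨a, hal, ha⟩ := Finset.not_disjoint_iff.1 hd
      obtain ⟨z, hz, hza⟩ := Finset.exists_mem_ne (show 1 < l.card by rw [P.steiner.1 l hl]; norm_num) a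
      obtain ⟨b, hb, hba, hbl⟩ := P.hyper_pair hH hA ha hza
      rw [P.line_eq hl hza hz hal] at hbl
      obtain ⟨l1, a1, b1⟩ := P.line_spec (sne a ha b hb hba.symm)
      refine fin _ l1 fun x hx => ?_
      by_cases hxH : x ∈ H
      · have : x = a ∨ x = b := by
          by_contra h; push Not at h
          exact h.2 (P.hyper_unique hA hl ha hb hxH hba h.1 hal hbl hx).symm
        rcases this with rfl | rfl
        · rw [gH x hxH]; exact a1
        · rw [gH x hxH]; exact b1
      · rw [gO x hxH]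
        exact (hm x hxH).2 a ha b hb hba.symm (by rw [P.line_eq hl hba.symm hal hbl]; exact hx)
  have hmem : ∀ τ : Equiv.Perm α, τ ∈ Cfsg.setSystemAut B ↔ ∀ l ∈ B, l.image τ ∈ B := fun τ => by
    rw [MulAction.mem_stabilizer_set_iff_smul_set_subset B.toFinite]
    exact ⟨fun h l hl => h (Set.smul_mem_smul_set hl), fun h => by rintro _ ⟨l, hl, rfl⟩; exact h l hl⟩
  refine ⟨G, ⟨(hmem G).2 haut, fun p => by rw [hG, gH _ p.2, sdef _ p.2]⟩, ?_⟩
  rintro τ ⟨hτ, hτσ⟩
  have hτs : ∀ p ∈ H, τ p = s p := fun p hp => by rw [sdef p hp]; exact hτσ ⟨p, hp⟩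
  refine Equiv.ext fun x => ?_
  rw [hG]
  by_cases hx : x ∈ H
  · rw [gH x hx, hτs x hx]
  · rw [gO x hx]
    refine hmu x hx _ ⟨fun h => ?_, fun p hp q hq hpq hxl => ?_⟩
    · have hsimg : H.image s = H := Finset.eq_of_subset_of_card_le (fun q hq => by
        obtain ⟨p, hp, rfl⟩ := Finset.mem_image.1 hq; exact hs p hp)
        (by rw [Finset.card_image_of_injOn fun p hp q hq h => hsi p hp q hq h])
      obtain ⟨p, hp, hpe⟩ := Finset.mem_image.1 (hsimg.symm ▸ h)
      rw [← hτs p hp] at hpe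
      exact hx (τ.injective hpe ▸ hp)
    · obtain ⟨l1, a1, b1⟩ := P.line_spec hpq
      rw [P.line_eq ((hmem τ).1 hτ _ l1) (sne p hp q hq hpq) (hτs p hp ▸ Finset.mem_image_of_mem τ a1)
        (hτs q hq ▸ Finset.mem_image_of_mem τ b1)]
      exact Finset.mem_image_of_mem τ hxl

end CfsgLib.ThreeTransp.PlaneFour
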