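import Cfsg.Prelude.Def_GeometricClasses
import Cfsg.Agent.Lib.KnownB.PSLAut.Unitary
import Cfsg.Agent.Lib.InvolTwo.JordanTypes

/-!
Pairs of complementary totally singular subspaces of a hermitian space: adapted bases and stabilisers.
-/

set_option autoImplicit false

namespace CfsgLib.ThreeTransp.PolarPair

open Matrix Cfsg Cfsg.Geo

universe u

variable {F : Type u} [Field F] {n k q : ℕ}

/-- Complementary totally singular subspaces. -/
structure IsPolar (q : ℕ) (U W : Submodule F (Fin n → F)) : Prop where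
  compl : IsCompl U W
  left : IsTotallySingularFor (hermForm n F q) U
  right : IsTotallySingularFor (hermForm n F q) W

theorem IsPolar.symm {U W : Submodule F (Fin n → F)} (h : IsPolar q U W) : IsPolar q W U :=
  ⟨h.compl.symm, h.right, h.left⟩

variable {τ : F ≃+* F} (hτ : ∀ x, τ x = x ^ q) (hτ2 : ∀ x, τ (τ x) = x)

include hτ in
theorem herm_eq (u v : Fin n → F) : hermForm n F q u v = u ⬝ᵥ (τ ∘ v) := by
  simp [hermForm, dotProduct, hτ]

include hτ hτ2 in
/-- The map taking `w` to its products with the elements of a basis of the partner. -/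
theorem exists_duals {U W : Submodule F (Fin n → F)} (h : IsPolar q U W) {ι : Type*} [Fintype ι]
    (b : Module.Basis ι F U) :
    ∃ L : W →ₗ[F] (ι → F), Function.Injective L ∧ ∀ w i, L w i = hermForm n F q (w : Fin n → F) (b i : Fin n → F) := by
  classical
  have hadd : ∀ x y v : Fin n → F, hermForm n F q (x + y) v = hermForm n F q x v + hermForm n F q y v := fun x y v => by
    simp [hermForm, add_mul, Finset.sum_add_distrib]
  let L : W →ₗ[F] (ι → F) :=
    { toFun := fun w i => hermForm n F q (w : Fin n → F) (b i : Fin n → F)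
      map_add' := fun x y => funext fun i => hadd _ _ _
      map_smul' := fun c x => funext fun i => by simp [hermForm, Finset.mul_sum, mul_assoc] }
  refine ⟨L, ?_, fun w i => rfl⟩
  rw [injective_iff_map_eq_zero]
  intro w hw
  have hU : ∀ u : U, (w : Fin n → F) ⬝ᵥ (τ ∘ (u : Fin n → F)) = 0 := fun u => by
    have hmap : (τ ∘ (u : Fin n → F)) = ∑ i, τ (b.repr u i) • (τ ∘ (b i : Fin n → F)) := by
      have hs := congrArg Subtype.val (b.sum_repr u)
      rw [AddSubmonoidClass.coe_finsetSum] at hs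
      funext j
      rw [Function.comp_apply, ← hs]
      simp [Finset.sum_apply, map_sum, -Module.Basis.sum_repr]
    rw [hmap, dotProduct_sum]
    refine Finset.sum_eq_zero fun i _ => ?_
    rw [dotProduct_smul, ← herm_eq hτ, show hermForm n F q (w : Fin n → F) (b i : Fin n → F) = 0 from congrFun hw i,
      smul_zero]
  have hall : ∀ v : Fin n → F, (w : Fin n → F) ⬝ᵥ (τ ∘ v) = 0 := fun v => by
    obtain ⟨a, ha, c, hc, rfl⟩ := Submodule.mem_sup.1 (show v ∈ U ⊔ W by rw [h.compl.sup_eq_top]; trivial)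
    rw [show τ ∘ (a + c) = τ ∘ a + τ ∘ c from funext fun j => map_add τ _ _, dotProduct_add, hU ⟨a, ha⟩,
      ← herm_eq hτ, h.right _ w.2 _ hc, add_zero]
  refine Subtype.ext (funext fun j => ?_)
  have := hall (fun i => if i = j then 1 else 0)
  simpa [dotProduct, Function.comp_def, apply_ite τ] using this

include hτ hτ2 in
theorem IsPolar.finrank {U W : Submodule F (Fin n → F)} (h : IsPolar q U W) :
    2 * Module.finrank F U = n ∧ 2 * Module.finrank F W = n := by
  have key : ∀ {A B : Submodule F (Fin n → F)}, IsPolar q A B → Module.finrank F B ≤ Module.finrank F A := by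
    intro A B hAB
    obtain ⟨L, hL, -⟩ := exists_duals hτ hτ2 hAB (Module.finBasis F A)
    simpa using LinearMap.finrank_le_finrank_of_injective hL
  have h1 := key h
  have h2 := key h.symm
  have h3 := Submodule.finrank_add_eq_of_isCompl h.compl
  rw [Module.finrank_fin_fun] at h3
  omega

theorem rank_map_ringEquiv (σ : F ≃+* F) {a b : Type*} [Fintype a] [Fintype b] (M : Matrix a b F) :
    (M.map σ).rank = M.rank := by
  classical
  have hS : ∀ w : b → F, (fun x => σ ((M *ᵥ w) x)) = M.map σ *ᵥ (fun j => σ (w j)) := fun w => by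
    funext x; simp [Matrix.mulVec, dotProduct, map_sum]
  let S : LinearMap.range M.mulVecLin ≃+ LinearMap.range (M.map σ).mulVecLin :=
    { toFun := fun v => ⟨fun x => σ ((v : a → F) x), by
        obtain ⟨w, hw⟩ := v.2
        exact ⟨fun j => σ (w j), by rw [← hw, Matrix.mulVecLin_apply, Matrix.mulVecLin_apply, hS]⟩⟩
      invFun := fun v => ⟨fun x => σ.symm ((v : a → F) x), by
        obtain ⟨w, hw⟩ := v.2
        refine ⟨fun j => σ.symm (w j), ?_⟩
        rw [← hw, Matrix.mulVecLin_apply, Matrix.mulVecLin_apply]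
        funext x; simp [Matrix.mulVec, dotProduct, map_sum]⟩
      left_inv := fun v => Subtype.ext (funext fun x => σ.symm_apply_apply _)
      right_inv := fun v => Subtype.ext (funext fun x => σ.apply_symm_apply _)
      map_add' := fun v w => Subtype.ext (funext fun x => map_add σ _ _) }
  have h := rank_eq_of_equiv_equiv (σ : F → F) S σ.bijective (fun c v => Subtype.ext (funext fun x => map_mul σ _ _))
  exact (congrArg Cardinal.toNat h).symm

/-- The Gram matrix of an adapted basis. -/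
def gramJ (F : Type u) [Field F] (e : Fin k ⊕ Fin k ≃ Fin n) : Matrix (Fin n) (Fin n) F :=
  Matrix.reindexAlgEquiv F F e (Matrix.fromBlocks 0 1 1 0)

/-- The span of the first half of the standard basis. -/
def stdL (F : Type u) [Field F] (e : Fin k ⊕ Fin k ≃ Fin n) : Submodule F (Fin n → F) where
  carrier := {w | ∀ i, w (e (Sum.inr i)) = 0}
  add_mem' := fun ha hb i => by simp [ha i, hb i]
  zero_mem' := fun i => rfl
  smul_mem' := fun c a ha i => by simp [ha i]

/-- The span of the second half of the standard basis. -/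
def stdR (F : Type u) [Field F] (e : Fin k ⊕ Fin k ≃ Fin n) : Submodule F (Fin n → F) where
  carrier := {w | ∀ i, w (e (Sum.inl i)) = 0}
  add_mem' := fun ha hb i => by simp [ha i, hb i]
  zero_mem' := fun i => rfl
  smul_mem' := fun c a ha i => by simp [ha i]

include hτ hτ2 in
/-- Every polar pair has an adapted basis. -/
theorem IsPolar.exists_basis {U W : Submodule F (Fin n → F)} (h : IsPolar q U W) (e : Fin k ⊕ Fin k ≃ Fin n) :
    ∃ P : GL (Fin n) F, (P : Matrix (Fin n) (Fin n) F)ᵀ * (P : Matrix (Fin n) (Fin n) F).map τ = gramJ F e ∧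
      U = (stdL F e).map (Matrix.toLin' (P : Matrix (Fin n) (Fin n) F)) ∧
      W = (stdR F e).map (Matrix.toLin' (P : Matrix (Fin n) (Fin n) F)) := by
  classical
  have hk : 2 * k = n := by simpa [two_mul] using Fintype.card_congr e
  obtain ⟨hU, hW⟩ := h.finrank hτ hτ2
  let bU : Module.Basis (Fin k) F U := (Module.finBasis F U).reindex (finCongr (by omega))
  obtain ⟨L, hL, hLv⟩ := exists_duals hτ hτ2 h bU
  have hLs : Function.Surjective L := (LinearMap.injective_iff_surjective_of_finrank_eq_finrank (by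
    rw [Module.finrank_fin_fun]; omega)).1 hL
  let Le := LinearEquiv.ofBijective L ⟨hL, hLs⟩
  let c : Module.Basis (Fin k) F W := (Pi.basisFun F (Fin k)).map Le.symm
  have hcb : ∀ i j, hermForm n F q (c i : Fin n → F) (bU j : Fin n → F) = if i = j then 1 else 0 := fun i j => by
    rw [← hLv, show c i = Le.symm (Pi.basisFun F (Fin k) i) from Module.Basis.map_apply ..,
      show L (Le.symm (Pi.basisFun F (Fin k) i)) = Pi.basisFun F (Fin k) i from Le.apply_symm_apply _,
      Pi.basisFun_apply, Pi.single_apply]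
    simp [eq_comm]
  have hsymm : ∀ u v : Fin n → F, hermForm n F q u v = τ (hermForm n F q v u) := fun u v => by
    rw [herm_eq hτ, herm_eq hτ, dotProduct, dotProduct, map_sum]
    exact Finset.sum_congr rfl fun i _ => by simp [hτ2, mul_comm]
  let col : Fin k ⊕ Fin k → Fin n → F := Sum.elim (fun i => (bU i : Fin n → F)) (fun i => (c i : Fin n → F))
  let Pm : Matrix (Fin n) (Fin n) F := Matrix.of fun a b => col (e.symm b) a
  have hgram : Pmᵀ * Pm.map τ = gramJ F e := by
    ext a b
    obtain ⟨a, rfl⟩ := e.surjective a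
    obtain ⟨b, rfl⟩ := e.surjective b
    have he : (Pmᵀ * Pm.map τ) (e a) (e b) = hermForm n F q (col a) (col b) := by
      rw [herm_eq hτ]
      simp [Matrix.mul_apply, dotProduct, Pm]
    rw [he]
    rcases a with i | i <;> rcases b with j | j <;>
      simp only [gramJ, Matrix.reindexAlgEquiv_apply, Matrix.reindex_apply, Matrix.submatrix_apply, Equiv.symm_apply_apply,
        Matrix.fromBlocks_apply₁₁, Matrix.fromBlocks_apply₁₂, Matrix.fromBlocks_apply₂₁, Matrix.fromBlocks_apply₂₂,
        Matrix.zero_apply, Matrix.one_apply, col, Sum.elim_inl, Sum.elim_inr]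
    · exact h.left _ (bU i).2 _ (bU j).2
    · rw [hsymm, hcb]
      simp [apply_ite τ, eq_comm]
    · rw [hcb]
    · exact h.right _ (c i).2 _ (c j).2
  have hdet : Pm.det ≠ 0 := by
    intro h0
    have hJ : gramJ F e * gramJ F e = 1 := by
      rw [gramJ, ← map_mul, Matrix.fromBlocks_multiply]
      simp [Matrix.fromBlocks_one]
    have := congrArg Matrix.det hgram
    rw [Matrix.det_mul, Matrix.det_transpose, h0, zero_mul] at this
    have h1 := congrArg Matrix.det hJ
    rw [Matrix.det_mul, ← this, zero_mul, Matrix.det_one] at h1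
    exact zero_ne_one h1
  refine ⟨Matrix.GeneralLinearGroup.mkOfDetNeZero Pm hdet, hgram, ?_, ?_⟩
  · refine le_antisymm (fun u hu => ?_) ?_
    · refine ⟨fun a => Sum.elim (fun i => bU.repr ⟨u, hu⟩ i) (fun _ => 0) (e.symm a), fun i => by simp, ?_⟩
      have hsum := congrArg Subtype.val (bU.sum_repr ⟨u, hu⟩)
      rw [Matrix.toLin'_apply]
      funext a
      show (Pm *ᵥ _) a = u a
      refine Eq.trans ?_ (congrFun hsum a)
      rw [Matrix.mulVec, dotProduct, ← e.sum_comp, Fintype.sum_sum_type]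
      simp [Pm, col, Finset.sum_apply, mul_comm, -Module.Basis.sum_repr]
    · rintro _ ⟨w, hw, rfl⟩
      rw [Matrix.toLin'_apply]
      have hw' : Pm *ᵥ w = ∑ i, w (e (Sum.inl i)) • (bU i : Fin n → F) := by
        funext a
        rw [Matrix.mulVec, dotProduct, ← e.sum_comp, Fintype.sum_sum_type]
        simp [Pm, col, show ∀ i, w (e (Sum.inr i)) = 0 from hw, Finset.sum_apply, mul_comm]
      show Pm *ᵥ w ∈ U
      rw [hw']
      exact Submodule.sum_mem _ fun i _ => U.smul_mem _ (bU i).2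
  · refine le_antisymm (fun u hu => ?_) ?_
    · refine ⟨fun a => Sum.elim (fun _ => 0) (fun i => c.repr ⟨u, hu⟩ i) (e.symm a), fun i => by simp, ?_⟩
      have hsum := congrArg Subtype.val (c.sum_repr ⟨u, hu⟩)
      rw [Matrix.toLin'_apply]
      funext a
      show (Pm *ᵥ _) a = u a
      refine Eq.trans ?_ (congrFun hsum a)
      rw [Matrix.mulVec, dotProduct, ← e.sum_comp, Fintype.sum_sum_type]
      simp [Pm, col, Finset.sum_apply, mul_comm, -Module.Basis.sum_repr]
    · rintro _ ⟨w, hw, rfl⟩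
      rw [Matrix.toLin'_apply]
      have hw' : Pm *ᵥ w = ∑ i, w (e (Sum.inr i)) • (c i : Fin n → F) := by
        funext a
        rw [Matrix.mulVec, dotProduct, ← e.sum_comp, Fintype.sum_sum_type]
        simp [Pm, col, show ∀ i, w (e (Sum.inl i)) = 0 from hw, Finset.sum_apply, mul_comm]
      show Pm *ᵥ w ∈ W
      rw [hw']
      exact Submodule.sum_mem _ fun i _ => W.smul_mem _ (c i).2

/-- The unitary matrix attached to `A`. -/
def lift (τ : F ≃+* F) (e : Fin k ⊕ Fin k ≃ Fin n) (A : GL (Fin k) F) : Matrix (Fin n) (Fin n) F :=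
  Matrix.reindexAlgEquiv F F e (Matrix.fromBlocks (A : Matrix (Fin k) (Fin k) F) 0 0
    ((((A⁻¹ : GL (Fin k) F) : Matrix (Fin k) (Fin k) F)ᵀ).map τ))

theorem lift_mul (e : Fin k ⊕ Fin k ≃ Fin n) (A B : GL (Fin k) F) : lift τ e (A * B) = lift τ e A * lift τ e B := by
  simp only [lift, ← map_mul, Matrix.fromBlocks_multiply, Matrix.mul_zero, Matrix.zero_mul, add_zero, zero_add,
    _root_.mul_inv_rev, Units.val_mul, Matrix.transpose_mul, Matrix.map_mul]

theorem lift_one (e : Fin k ⊕ Fin k ≃ Fin n) : lift τ e (1 : GL (Fin k) F) = 1 := by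
  rw [lift, inv_one, Units.val_one, Matrix.transpose_one, Matrix.map_one τ (map_zero τ) (map_one τ),
    Matrix.fromBlocks_one, map_one]

theorem lift_gram (hτ2 : ∀ x, τ (τ x) = x) (e : Fin k ⊕ Fin k ≃ Fin n) (A : GL (Fin k) F) :
    (lift τ e A)ᵀ * gramJ F e * (lift τ e A).map τ = gramJ F e := by
  have h1 : ∀ M : Matrix (Fin k) (Fin k) F, (M.map τ).map τ = M := fun M => by ext i j; simp [hτ2]
  have h2 : (A : Matrix (Fin k) (Fin k) F)ᵀ * ((A⁻¹ : GL (Fin k) F) : Matrix (Fin k) (Fin k) F)ᵀ = 1 := by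
    rw [← Matrix.transpose_mul, Units.inv_mul, Matrix.transpose_one]
  have h3 : ((A⁻¹ : GL (Fin k) F) : Matrix (Fin k) (Fin k) F).map τ * (A : Matrix (Fin k) (Fin k) F).map τ = 1 := by
    rw [← Matrix.map_mul, Units.inv_mul, Matrix.map_one τ (map_zero τ) (map_one τ)]
  simp only [lift, gramJ, Matrix.reindexAlgEquiv_apply, Matrix.reindex_apply, Matrix.transpose_submatrix,
    ← Matrix.submatrix_map, Matrix.submatrix_mul_equiv, Matrix.fromBlocks_transpose, Matrix.fromBlocks_map]
  simp only [Matrix.transpose_zero, Matrix.map_zero _ (map_zero τ), Matrix.fromBlocks_multiply, Matrix.mul_zero,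
    Matrix.zero_mul, add_zero, zero_add, mul_one, Matrix.transpose_map, Matrix.transpose_transpose, h1, h2, h3]

theorem gram_inj {M : Matrix (Fin n) (Fin n) F} {P : GL (Fin n) F}
    {e : Fin k ⊕ Fin k ≃ Fin n}
    (hP : (P : Matrix (Fin n) (Fin n) F)ᵀ * (P : Matrix (Fin n) (Fin n) F).map τ = gramJ F e)
    (hM : Mᵀ * gramJ F e * M.map τ = gramJ F e) :
    ((P : Matrix (Fin n) (Fin n) F) * M * ((P⁻¹ : GL (Fin n) F) : Matrix (Fin n) (Fin n) F))ᵀ *
      ((P : Matrix (Fin n) (Fin n) F) * M * ((P⁻¹ : GL (Fin n) F) : Matrix (Fin n) (Fin n) F)).map τ = 1 := by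
  have e1 : ((P⁻¹ : GL (Fin n) F) : Matrix (Fin n) (Fin n) F)ᵀ * (P : Matrix (Fin n) (Fin n) F)ᵀ = 1 := by
    rw [← Matrix.transpose_mul, Units.mul_inv, Matrix.transpose_one]
  have e2 : (P : Matrix (Fin n) (Fin n) F).map τ * ((P⁻¹ : GL (Fin n) F) : Matrix (Fin n) (Fin n) F).map τ = 1 := by
    rw [← Matrix.map_mul, Units.mul_inv, Matrix.map_one τ (map_zero τ) (map_one τ)]
  rw [Matrix.transpose_mul, Matrix.transpose_mul, Matrix.map_mul, Matrix.map_mul]
  calc _ = ((P⁻¹ : GL (Fin n) F) : Matrix (Fin n) (Fin n) F)ᵀ * (Mᵀ * ((P : Matrix (Fin n) (Fin n) F)ᵀ *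
        (P : Matrix (Fin n) (Fin n) F).map τ) * M.map τ) * ((P⁻¹ : GL (Fin n) F) : Matrix (Fin n) (Fin n) F).map τ := by
        simp only [mul_assoc]
    _ = _ := by
      rw [hP, hM, ← hP]
      calc _ = (((P⁻¹ : GL (Fin n) F) : Matrix (Fin n) (Fin n) F)ᵀ * (P : Matrix (Fin n) (Fin n) F)ᵀ) *
            ((P : Matrix (Fin n) (Fin n) F).map τ * ((P⁻¹ : GL (Fin n) F) : Matrix (Fin n) (Fin n) F).map τ) := by
            simp only [mul_assoc]
        _ = 1 := by rw [e1, e2, mul_one]

theorem map_le_of_zero {B : Matrix (Fin n) (Fin n) F} {e : Fin k ⊕ Fin k ≃ Fin n} :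
    ((stdL F e).map (Matrix.toLin' B) ≤ stdL F e → ∀ i j, B (e (Sum.inr i)) (e (Sum.inl j)) = 0) ∧
    ((stdR F e).map (Matrix.toLin' B) ≤ stdR F e → ∀ i j, B (e (Sum.inl i)) (e (Sum.inr j)) = 0) := by
  refine ⟨fun h i j => ?_, fun h i j => ?_⟩
  · have := h ⟨Pi.single (e (Sum.inl j)) 1, fun l => by simp [Pi.single_apply], rfl⟩ i
    simpa [Matrix.toLin'_apply, Matrix.mulVec_single] using this
  · have := h ⟨Pi.single (e (Sum.inr j)) 1, fun l => by simp [Pi.single_apply], rfl⟩ i
    simpa [Matrix.toLin'_apply, Matrix.mulVec_single] using this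

include hτ2 in
/-- An element fixing both members of the pair has even rank at every scalar of norm one. -/
theorem even_rank {g P : GL (Fin n) F} {e : Fin k ⊕ Fin k ≃ Fin n}
    (hP : (P : Matrix (Fin n) (Fin n) F)ᵀ * (P : Matrix (Fin n) (Fin n) F).map τ = gramJ F e)
    (hg : (g : Matrix (Fin n) (Fin n) F)ᵀ * (g : Matrix (Fin n) (Fin n) F).map τ = 1)
    (hL : ((stdL F e).map (Matrix.toLin' (P : Matrix (Fin n) (Fin n) F))).map (Matrix.toLin' (g : Matrix (Fin n) (Fin n) F)) =
      (stdL F e).map (Matrix.toLin' (P : Matrix (Fin n) (Fin n) F)))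
    (hR : ((stdR F e).map (Matrix.toLin' (P : Matrix (Fin n) (Fin n) F))).map (Matrix.toLin' (g : Matrix (Fin n) (Fin n) F)) =
      (stdR F e).map (Matrix.toLin' (P : Matrix (Fin n) (Fin n) F)))
    {c : F} (hc : c * τ c = 1) :
    Even ((g : Matrix (Fin n) (Fin n) F) - c • 1).rank := by
  classical
  set Pm := (P : Matrix (Fin n) (Fin n) F) with hPm
  set Pi' := ((P⁻¹ : GL (Fin n) F) : Matrix (Fin n) (Fin n) F) with hPi
  obtain ⟨B, hB⟩ : ∃ B, B = Pi' * (g : Matrix (Fin n) (Fin n) F) * Pm := ⟨_, rfl⟩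
  have hPB : Pm * B = (g : Matrix (Fin n) (Fin n) F) * Pm := by
    rw [hB, ← mul_assoc, ← mul_assoc, hPm, hPi, Units.mul_inv, one_mul]
  have hst : ∀ S : Submodule F (Fin n → F), (S.map (Matrix.toLin' Pm)).map (Matrix.toLin' (g : Matrix (Fin n) (Fin n) F)) =
      S.map (Matrix.toLin' Pm) → S.map (Matrix.toLin' B) ≤ S := by
    intro S hS
    rintro _ ⟨w, hw, rfl⟩
    obtain ⟨w', hw', hww⟩ := (hS ▸ ⟨_, ⟨w, hw, rfl⟩, rfl⟩ :
      Matrix.toLin' (g : Matrix (Fin n) (Fin n) F) (Matrix.toLin' Pm w) ∈ S.map (Matrix.toLin' Pm))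
    have : Matrix.toLin' B w = w' := by
      have h := congrArg (fun v => Pi' *ᵥ v) hww
      simp only [Matrix.toLin'_apply, Matrix.mulVec_mulVec, ← mul_assoc] at h
      rw [show Pi' * Pm = 1 from by rw [hPm, hPi, Units.inv_mul], Matrix.one_mulVec] at h
      rw [Matrix.toLin'_apply, hB, h]
    rw [this]; exact hw'
  have h21 := map_le_of_zero.1 (hst _ hL)
  have h12 := map_le_of_zero.2 (hst _ hR)
  set A : Matrix (Fin k) (Fin k) F := Matrix.of fun i j => B (e (Sum.inl i)) (e (Sum.inl j)) with hA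
  set Dd : Matrix (Fin k) (Fin k) F := Matrix.of fun i j => B (e (Sum.inr i)) (e (Sum.inr j)) with hDd
  have hblock : B = Matrix.reindexAlgEquiv F F e (Matrix.fromBlocks A 0 0 Dd) := by
    ext a b
    obtain ⟨a, rfl⟩ := e.surjective a
    obtain ⟨b, rfl⟩ := e.surjective b
    rcases a with i | i <;> rcases b with j | j <;>
      simp [hA, hDd, h12, h21]
  have hgram : Bᵀ * gramJ F e * B.map τ = gramJ F e := by
    rw [← hP, show Bᵀ * (Pmᵀ * Pm.map τ) * B.map τ = (Pm * B)ᵀ * (Pm * B).map τ by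
      rw [Matrix.transpose_mul, Matrix.map_mul]; simp only [mul_assoc], hPB, Matrix.transpose_mul, Matrix.map_mul]
    calc _ = Pmᵀ * ((g : Matrix (Fin n) (Fin n) F)ᵀ * (g : Matrix (Fin n) (Fin n) F).map τ) * Pm.map τ := by
          simp only [mul_assoc]
      _ = _ := by rw [hg, mul_one]
  rw [hblock, gramJ] at hgram
  simp only [Matrix.reindexAlgEquiv_apply, Matrix.reindex_apply, Matrix.transpose_submatrix, ← Matrix.submatrix_map,
    Matrix.submatrix_mul_equiv, Matrix.fromBlocks_transpose, Matrix.fromBlocks_map, Matrix.transpose_zero,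
    Matrix.map_zero _ (map_zero τ), Matrix.fromBlocks_multiply, Matrix.mul_zero, Matrix.zero_mul, add_zero, zero_add,
    mul_one] at hgram
  have hsub := congrArg (fun M => M.submatrix e e) hgram
  simp only [Matrix.submatrix_submatrix, Equiv.symm_comp_self, Matrix.submatrix_id_id] at hsub
  obtain ⟨-, hAD, -, -⟩ := Matrix.fromBlocks_inj.1 hsub
  have hAu : IsUnit Aᵀ.det := by
    refine isUnit_iff_ne_zero.2 fun h0 => ?_
    have := congrArg Matrix.det hAD
    rw [Matrix.det_mul, h0, zero_mul, Matrix.det_one] at this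
    exact zero_ne_one this
  have hτr : ∀ M : Matrix (Fin k) (Fin k) F, (M.map τ).rank = M.rank := fun M => by
    exact rank_map_ringEquiv τ M
  have hDr : (Dd - c • 1).rank = (A - c • 1).rank := by
    have hτc : τ c ≠ 0 := fun h0 => by rw [h0, mul_zero] at hc; exact zero_ne_one hc
    have e1 : Aᵀ * (Dd - c • 1).map τ = (-τ c) • (A - c • 1)ᵀ := by
      rw [show (Dd - c • 1).map τ = Dd.map τ - τ c • (1 : Matrix (Fin k) (Fin k) F) by
        ext i j; simp [Matrix.one_apply, apply_ite τ], mul_sub, hAD, mul_smul_comm, mul_one, Matrix.transpose_sub,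
        Matrix.transpose_smul, Matrix.transpose_one, smul_sub, smul_smul, neg_smul]
      rw [show -τ c * c = -1 by linear_combination -hc]
      module
    rw [← hτr, ← Matrix.rank_mul_eq_right_of_isUnit_det Aᵀ ((Dd - c • 1).map τ) hAu, e1,
      show (-τ c) • (A - c • 1)ᵀ = ((-τ c) • (1 : Matrix (Fin k) (Fin k) F)) * (A - c • 1)ᵀ by
        rw [smul_mul_assoc, one_mul],
      Matrix.rank_mul_eq_right_of_isUnit_det _ _ (by
        rw [Matrix.det_smul, Matrix.det_one, mul_one]
        exact isUnit_iff_ne_zero.2 (pow_ne_zero _ (neg_ne_zero.2 hτc))),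
      Matrix.rank_transpose]
  have hconj : (g : Matrix (Fin n) (Fin n) F) - c • 1 = Pm * (B - c • 1) * Pi' := by
    rw [mul_sub, hPB, sub_mul, mul_smul_comm, mul_one, smul_mul_assoc, mul_assoc, hPm, hPi, Units.mul_inv, mul_one]
  rw [hconj, Matrix.rank_mul_eq_left_of_isUnit_det _ _ ((Matrix.isUnit_iff_isUnit_det _).1 (P⁻¹).isUnit),
    Matrix.rank_mul_eq_right_of_isUnit_det _ _ ((Matrix.isUnit_iff_isUnit_det _).1 P.isUnit)]
  have hBc : B - c • 1 = Matrix.reindexAlgEquiv F F e (Matrix.fromBlocks (A - c • 1) 0 0 (Dd - c • 1)) := by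
    rw [← map_one (Matrix.reindexAlgEquiv F F e), ← map_smul, hblock, ← map_sub]
    congr 1
    ext (i | i) (j | j) <;> simp [Matrix.one_apply]
  rw [hBc, Matrix.reindexAlgEquiv_apply, Matrix.rank_reindex,
    CfsgLib.InvolTwo.JordanTypes.rank_fromBlocks_diag, hDr]
  exact ⟨_, rfl⟩

/-- An element exchanging the members moves a half-dimensional space off each eigenspace. -/
theorem le_rank_of_swap {g : GL (Fin n) F} {U W : Submodule F (Fin n → F)} (hd : Disjoint U W)
    (h : U.map (Matrix.toLin' (g : Matrix (Fin n) (Fin n) F)) = W) (c : F) :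
    Module.finrank F U ≤ ((g : Matrix (Fin n) (Fin n) F) - c • 1).rank := by
  classical
  set T := ((g : Matrix (Fin n) (Fin n) F) - c • 1).mulVecLin with hT
  have hinj : Function.Injective (T ∘ₗ U.subtype) := by
    rw [injective_iff_map_eq_zero]
    intro u hu
    have hu' : (g : Matrix (Fin n) (Fin n) F) *ᵥ (u : Fin n → F) = c • (u : Fin n → F) := by
      simpa [hT, Matrix.sub_mulVec, Matrix.smul_mulVec, sub_eq_zero] using hu
    have hW : (g : Matrix (Fin n) (Fin n) F) *ᵥ (u : Fin n → F) ∈ W := h ▸ ⟨u, u.2, Matrix.toLin'_apply _ _⟩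
    have h0 : (g : Matrix (Fin n) (Fin n) F) *ᵥ (u : Fin n → F) = 0 :=
      Submodule.disjoint_def.1 hd _ (by rw [hu']; exact U.smul_mem c u.2) hW
    refine Subtype.ext ?_
    calc (u : Fin n → F) = ((g⁻¹ : GL (Fin n) F) : Matrix (Fin n) (Fin n) F) *ᵥ ((g : Matrix (Fin n) (Fin n) F) *ᵥ u) := by
          rw [Matrix.mulVec_mulVec, Units.inv_mul, Matrix.one_mulVec]
      _ = _ := by rw [h0, Matrix.mulVec_zero]; rfl
  calc Module.finrank F U = Module.finrank F (LinearMap.range (T ∘ₗ U.subtype)) :=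
        (LinearMap.finrank_range_of_inj hinj).symm
    _ ≤ _ := Submodule.finrank_mono (LinearMap.range_comp_le_range _ _)

end CfsgLib.ThreeTransp.PolarPair
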