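import Cfsg.Agent.Lib.ThreeTransp.SpecialSmall
import Cfsg.Agent.Lib.ThreeTransp.SpecialRankOne

/-!
Two elements `a`, `c` of order `p` with `a^t c^{1/t} a^t = c^{1/t} a^t c^{1/t}` for all `t` prime to `p`
generate a quotient of `SL₂(p)` by a central subgroup.
-/

set_option autoImplicit false

namespace CfsgLib.ThreeTransp

open Matrix
open scoped MatrixGroups

variable {p : ℕ} [hp : Fact p.Prime] {X : Type*} [Group X]

/-- Power with exponent in `ZMod p`. -/
def zpw (a : X) (t : ZMod p) : X := a ^ t.val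

theorem zpw_zero (a : X) : zpw a (0 : ZMod p) = 1 := by simp [zpw]

theorem zpw_one (a : X) : zpw a (1 : ZMod p) = a := by
  simp [zpw, ZMod.val_one]

theorem zpw_add {a : X} (ha : a ^ p = 1) (s t : ZMod p) : zpw a (s + t) = zpw a s * zpw a t := by
  rw [zpw, zpw, zpw, ← pow_add, ZMod.val_add]
  exact (pow_eq_pow_mod _ ha).symm

theorem zpw_neg {a : X} (ha : a ^ p = 1) (s : ZMod p) : zpw a (-s) = (zpw a s)⁻¹ :=
  eq_inv_of_mul_eq_one_left (by rw [← zpw_add ha, neg_add_cancel, zpw_zero])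

theorem zpw_mul {a : X} (ha : a ^ p = 1) (s t : ZMod p) : zpw a (s * t) = zpw a t ^ s.val := by
  rw [zpw, zpw, ← pow_mul, ZMod.val_mul, mul_comm t.val]
  exact (pow_eq_pow_mod _ ha).symm

/-- The relations of `SL₂(p)` on two elements. -/
structure BraidData (p : ℕ) [Fact p.Prime] (a c : X) : Prop where
  ha : a ^ p = 1
  hc : c ^ p = 1
  braid : ∀ t : ZMod p, t ≠ 0 →
    zpw a t * zpw c t⁻¹ * zpw a t = zpw c t⁻¹ * zpw a t * zpw c t⁻¹
  gen : Subgroup.closure ({a, c} : Set X) = ⊤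

namespace BraidData

variable {a c : X} (h : BraidData p a c)

/-- The braid element. -/
def w (_ : BraidData p a c) (t : ZMod p) : X := zpw a t * zpw c t⁻¹ * zpw a t

/-- The diagonal element. -/
def hd (t : ZMod p) : X := h.w t * h.w (-1)

theorem w_neg (t : ZMod p) : h.w (-t) * h.w t = 1 := by
  simp only [w, inv_neg, zpw_neg h.ha, zpw_neg h.hc]
  simp [mul_assoc]

theorem w_mul_neg (t : ZMod p) : h.w t * h.w (-t) = 1 := by
  simpa using h.w_neg (-t)

theorem w_u {t : ZMod p} (ht : t ≠ 0) (x : ZMod p) :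
    h.w t * zpw a x = zpw c (x / t ^ 2) * h.w t := by
  have h1 : SemiconjBy (h.w t) (zpw a t) (zpw c t⁻¹) := by
    show h.w t * zpw a t = zpw c t⁻¹ * h.w t
    conv_lhs => rw [w, h.braid t ht]
    simp [w, mul_assoc]
  have h2 := h1.pow_right (x / t).val
  rw [← zpw_mul h.ha, ← zpw_mul h.hc, div_mul_cancel₀ _ ht] at h2
  rw [show x / t ^ 2 = x / t * t⁻¹ by field_simp]
  exact h2

theorem w_l {t : ZMod p} (ht : t ≠ 0) (y : ZMod p) :
    h.w t * zpw c y = zpw a (y * t ^ 2) * h.w t := by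
  have h1 : SemiconjBy (h.w t) (zpw c t⁻¹) (zpw a t) := by
    show h.w t * zpw c t⁻¹ = zpw a t * h.w t
    conv_rhs => rw [w, h.braid t ht]
    simp [w, mul_assoc]
  have h2 := h1.pow_right (y * t).val
  rw [← zpw_mul h.ha, ← zpw_mul h.hc, mul_assoc, mul_inv_cancel₀ ht, mul_one] at h2
  rw [show y * t ^ 2 = y * t * t by ring]
  exact h2

theorem w_w {t s : ZMod p} (ht : t ≠ 0) (hs : s ≠ 0) :
    h.w t * h.w s = h.w (t ^ 2 / s) * h.w t := by
  have h0 : t ^ 2 / s ≠ 0 := div_ne_zero (pow_ne_zero 2 ht) hs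
  have e1 : h.w (t ^ 2 / s) = zpw c (s / t ^ 2) * zpw a (t ^ 2 / s) * zpw c (s / t ^ 2) := by
    rw [w, h.braid _ h0, inv_div]
  calc h.w t * h.w s = h.w t * zpw a s * zpw c s⁻¹ * zpw a s := by simp [w, mul_assoc]
    _ = zpw c (s / t ^ 2) * (h.w t * zpw c s⁻¹) * zpw a s := by rw [h.w_u ht]; simp [mul_assoc]
    _ = zpw c (s / t ^ 2) * zpw a (s⁻¹ * t ^ 2) * (h.w t * zpw a s) := by
        rw [h.w_l ht]; simp [mul_assoc]
    _ = h.w (t ^ 2 / s) * h.w t := by
        rw [h.w_u ht, e1, show s⁻¹ * t ^ 2 = t ^ 2 / s by ring]; simp [mul_assoc]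

theorem hd_one : h.hd 1 = 1 := h.w_mul_neg 1

theorem hd_w {t : ZMod p} : h.hd t * h.w 1 = h.w t := by
  rw [hd, mul_assoc, h.w_neg 1, mul_one]

theorem hd_u {t : ZMod p} (ht : t ≠ 0) (x : ZMod p) :
    h.hd t * zpw a x = zpw a (x * t ^ 2) * h.hd t := by
  rw [hd, mul_assoc, h.w_u (neg_ne_zero.2 one_ne_zero), ← mul_assoc, h.w_l ht]
  simp [mul_assoc]

theorem hd_l {t : ZMod p} (ht : t ≠ 0) (y : ZMod p) :
    h.hd t * zpw c y = zpw c (y / t ^ 2) * h.hd t := by
  rw [hd, mul_assoc, h.w_l (neg_ne_zero.2 one_ne_zero), ← mul_assoc, h.w_u ht]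
  simp [mul_assoc]

theorem hd_ac {s t : ZMod p} (hs : s ≠ 0) (ht : t ≠ 0) :
    (h.hd (s * t))⁻¹ * (h.hd s * h.hd t) ∈ Subgroup.center X := by
  have hst : s * t ≠ 0 := mul_ne_zero hs ht
  have key : ∀ g : X, (∀ x : ZMod p, g * zpw a x = zpw a x * g) →
      (∀ x : ZMod p, g * zpw c x = zpw c x * g) → g ∈ Subgroup.center X := by
    intro g h1 h2
    refine Subgroup.mem_center_iff.2 fun x => ?_
    have hle : Subgroup.closure ({a, c} : Set X) ≤ Subgroup.centralizer ({g} : Set X) := by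
      refine (Subgroup.closure_le _).2 fun y hy => Subgroup.mem_centralizer_singleton_iff.2 ?_
      rcases hy with rfl | rfl
      · have := h1 1; rw [zpw_one] at this; exact this.symm
      · have := h2 1; rw [zpw_one] at this; exact this.symm
    exact Subgroup.mem_centralizer_singleton_iff.1 (hle (h.gen ▸ Subgroup.mem_top x))
  refine key _ (fun x => ?_) (fun x => ?_)
  · rw [mul_assoc, mul_assoc, h.hd_u ht, ← mul_assoc (h.hd s), h.hd_u hs, inv_mul_eq_iff_eq_mul,
      ← mul_assoc (h.hd (s * t)) (zpw a x), h.hd_u hst, mul_assoc (zpw a (x * (s * t) ^ 2)),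
      mul_inv_cancel_left, show x * t ^ 2 * s ^ 2 = x * (s * t) ^ 2 by ring, mul_assoc]
  · rw [mul_assoc, mul_assoc, h.hd_l ht, ← mul_assoc (h.hd s), h.hd_l hs, inv_mul_eq_iff_eq_mul,
      ← mul_assoc (h.hd (s * t)) (zpw c x), h.hd_l hst, mul_assoc (zpw c (x / (s * t) ^ 2)),
      mul_inv_cancel_left, show x / t ^ 2 / s ^ 2 = x / (s * t) ^ 2 by rw [div_div]; ring_nf, mul_assoc]

theorem hd_comm {s t : ZMod p} (hs : s ≠ 0) (ht : t ≠ 0) :
    h.hd s * h.hd t = h.hd t * h.hd s := by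
  obtain ⟨g, hg⟩ := IsCyclic.exists_generator (α := (ZMod p)ˣ)
  let L : Subgroup X := Subgroup.closure ({h.hd (g : ZMod p)} ∪ (Subgroup.center X : Set X))
  have hL : IsMulCommutative L := Subgroup.isMulCommutative_closure (by
    rintro x (hx | hx) y (hy | hy)
    · rw [Set.mem_singleton_iff] at hx hy; rw [hx, hy]
    · exact Subgroup.mem_center_iff.1 hy x
    · exact (Subgroup.mem_center_iff.1 hx y).symm
    · exact Subgroup.mem_center_iff.1 hy x)
  have hg0 : (g : ZMod p) ≠ 0 := g.ne_zero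
  have hpow : ∀ n : ℕ, h.hd ((g : ZMod p) ^ n) ∈ L := by
    intro n
    induction n with
    | zero => rw [pow_zero, h.hd_one]; exact one_mem L
    | succ k ih =>
      rw [pow_succ]
      have h1 := h.hd_ac (pow_ne_zero k hg0) hg0
      have h2 : h.hd ((g : ZMod p) ^ k * g) = h.hd ((g : ZMod p) ^ k) * h.hd g *
          ((h.hd ((g : ZMod p) ^ k * g))⁻¹ * (h.hd ((g : ZMod p) ^ k) * h.hd g))⁻¹ := by
        simp [mul_assoc]
      rw [h2]
      exact mul_mem (mul_mem ih (Subgroup.subset_closure (Or.inl rfl)))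
        (inv_mem (Subgroup.subset_closure (Or.inr h1)))
  have hall : ∀ {x : ZMod p}, x ≠ 0 → h.hd x ∈ L := by
    intro x hx
    obtain ⟨n, hn⟩ := mem_powers_iff_mem_zpowers.2 (hg (Units.mk0 x hx))
    have hval := congrArg Units.val hn
    simp only [Units.val_pow_eq_pow_val, Units.val_mk0] at hval
    exact hval ▸ hpow n
  exact congrArg Subtype.val (hL.is_comm.comm (⟨_, hall hs⟩ : L) ⟨_, hall ht⟩)

theorem hd_sq {t u : ZMod p} (ht : t ≠ 0) (hu : u ≠ 0) :
    h.hd t * h.hd u = h.hd (t ^ 2 * u) * h.hd t⁻¹ := by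
  have hone : (1 : ZMod p) ≠ 0 := one_ne_zero
  have e1 : h.hd t * h.w u = h.w (t ^ 2 * u) * h.hd t := by
    rw [hd, mul_assoc, h.w_w (neg_ne_zero.2 hone) hu, ← mul_assoc,
      h.w_w ht (div_ne_zero (pow_ne_zero 2 (neg_ne_zero.2 hone)) hu)]
    rw [show t ^ 2 / ((-1) ^ 2 / u) = t ^ 2 * u by rw [neg_one_sq, one_div, div_inv_eq_mul], mul_assoc]
  have e2 : h.w 1 * h.hd t * h.w (-1) = h.hd t⁻¹ := by
    rw [hd, ← mul_assoc, h.w_w hone ht, mul_assoc (h.w (1 ^ 2 / t)), h.w_mul_neg 1, mul_one, one_pow,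
      one_div]
    rfl
  calc h.hd t * h.hd u = h.hd t * h.w u * h.w (-1) := (mul_assoc _ _ _).symm
    _ = h.hd (t ^ 2 * u) * h.w 1 * h.hd t * h.w (-1) := by rw [e1, h.hd_w]
    _ = h.hd (t ^ 2 * u) * h.hd t⁻¹ := by rw [← e2]; simp [mul_assoc]

theorem hd_square_mul {t u : ZMod p} (ht : t ≠ 0) (hu : u ≠ 0) :
    h.hd (t ^ 2 * u) = h.hd (t ^ 2) * h.hd u := by
  have e1 := h.hd_sq ht hu
  have e2 := h.hd_sq ht (one_ne_zero)
  rw [h.hd_one, mul_one, mul_one] at e2
  rw [e2, mul_assoc, h.hd_comm (inv_ne_zero ht) hu, ← mul_assoc] at e1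
  exact (mul_right_cancel e1).symm

theorem hd_split {x y : ZMod p} (hx : x ≠ 0) (hy : y ≠ 0) (hxy : x + y = 1) :
    h.hd x * h.hd y⁻¹ = h.hd (x / y) := by
  have hone : (1 : ZMod p) ≠ 0 := one_ne_zero
  have hs : y / x ≠ 0 := div_ne_zero hy hx
  have e1 : h.w x * h.w y = h.w (x / y) * h.w 1 := by
    have ha : a = zpw c (-1 : ZMod p) * h.w 1 * zpw c (-1 : ZMod p) := by
      rw [w, h.braid 1 hone, inv_one, zpw_neg h.hc]
      simp [mul_assoc, zpw_one]
    have hA : zpw a x * zpw a y = a := by rw [← zpw_add h.ha, hxy, zpw_one]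
    calc h.w x * h.w y = zpw a x * zpw c x⁻¹ * (zpw a x * zpw a y) * (zpw c y⁻¹ * zpw a y) := by
          simp [w, mul_assoc]
      _ = zpw a x * zpw c x⁻¹ * (zpw c (-1) * h.w 1 * zpw c (-1)) * (zpw c y⁻¹ * zpw a y) := by
          rw [hA, ← ha]
      _ = zpw a x * (zpw c x⁻¹ * zpw c (-1)) * h.w 1 * (zpw c (-1) * zpw c y⁻¹) * zpw a y := by
          simp only [mul_assoc]; try rfl
      _ = zpw a x * zpw c (y / x) * (h.w 1 * zpw c (x / y)) * zpw a y := by
          rw [← zpw_add h.hc, ← zpw_add h.hc,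
            show x⁻¹ + -1 = y / x by rw [eq_sub_of_add_eq' hxy]; field_simp; ring,
            show -1 + y⁻¹ = x / y by rw [eq_sub_of_add_eq hxy]; field_simp; ring]
          simp [mul_assoc]
      _ = zpw a (x - x / y) * h.w (x / y) * (zpw c (y / 1 ^ 2) * h.w 1) := by
          rw [h.w_l hone, mul_assoc (zpw a x * zpw c (y / x)), mul_assoc (zpw a (x / y * 1 ^ 2)),
            h.w_u hone, one_pow, mul_one, sub_eq_add_neg, zpw_add h.ha, zpw_neg h.ha,
            show h.w (x / y) = zpw a (x / y) * zpw c (y / x) * zpw a (x / y) by rw [w, inv_div]]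
          simp [mul_assoc]
      _ = zpw a (x - x / y) * zpw a (y * (x / y) ^ 2) * h.w (x / y) * h.w 1 := by
          rw [one_pow, div_one, mul_assoc (zpw a (x - x / y)), ← mul_assoc (h.w (x / y)),
            h.w_l (div_ne_zero hx hy)]
          simp [mul_assoc]
      _ = h.w (x / y) * h.w 1 := by
          rw [← zpw_add h.ha, show x - x / y + y * (x / y) ^ 2 = 0 by
            field_simp; rw [eq_sub_of_add_eq' hxy]; ring, zpw_zero, one_mul]
  have e2 : h.w 1 * h.hd y * h.w 1 = h.hd y⁻¹ * (h.w 1 * h.w 1) := by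
    rw [hd, ← mul_assoc, h.w_w hone hy, one_pow, one_div]
    simp only [hd, mul_assoc]
    rw [← mul_assoc (h.w (-1)) (h.w 1) (h.w 1), h.w_neg 1, one_mul, mul_one]
  rw [← h.hd_w (t := x), ← h.hd_w (t := y), ← h.hd_w (t := x / y), mul_assoc (h.hd x),
    ← mul_assoc (h.w 1), e2, ← mul_assoc, mul_assoc (h.hd (x / y))] at e1
  exact mul_right_cancel e1

theorem exists_nonsquares (hp2 : p ≠ 2) :
    ∃ x : ZMod p, ¬ IsSquare x ∧ ¬ IsSquare (1 - x) := by
  classical
  by_contra hno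
  push Not at hno
  have hchar : ringChar (ZMod p) ≠ 2 := by rw [ZMod.ringChar_zmod_n]; exact hp2
  obtain ⟨g, hg⟩ := FiniteField.exists_nonsquare hchar
  have hg0 : g ≠ 0 := fun e => hg (e ▸ IsSquare.zero)
  -- multiplication by `g` and `x ↦ 1 - x`
  have h1 : ((Finset.univ.filter fun x : ZMod p => x ≠ 0 ∧ IsSquare x).image (g * ·)) ⊆
      Finset.univ.filter fun x : ZMod p => ¬ IsSquare x := by
    intro x hx
    simp only [Finset.mem_image, Finset.mem_filter, Finset.mem_univ, true_and] at hx ⊢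
    obtain ⟨y, ⟨hy0, ⟨r, hr⟩⟩, rfl⟩ := hx
    rintro ⟨s, hs⟩
    refine hg ⟨s / r, ?_⟩
    have hr0 : r ≠ 0 := fun e => hy0 (by rw [hr, e, mul_zero])
    rw [hr] at hs
    field_simp
    linear_combination hs
  have h2 : ((Finset.univ.filter fun x : ZMod p => ¬ IsSquare x).image (1 - ·)) ⊆
      (Finset.univ.filter fun x : ZMod p => x ≠ 0 ∧ IsSquare x).erase 1 := by
    intro x hx
    simp only [Finset.mem_image, Finset.mem_filter, Finset.mem_univ, true_and, Finset.mem_erase] at hx ⊢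
    obtain ⟨y, hy, rfl⟩ := hx
    refine ⟨fun e => hy ?_, fun e => hy ?_, hno y hy⟩
    · rw [show y = 0 by linear_combination -e]; exact IsSquare.zero
    · rw [show y = 1 by linear_combination -e]; exact IsSquare.one
  have c1 := Finset.card_le_card h1
  have c2 := Finset.card_le_card h2
  rw [Finset.card_image_of_injective _ (mul_right_injective₀ hg0)] at c1
  rw [Finset.card_image_of_injective _ (sub_right_injective)] at c2
  have hmem : (1 : ZMod p) ∈ Finset.univ.filter fun x : ZMod p => x ≠ 0 ∧ IsSquare x := by simp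
  have := Finset.card_erase_lt_of_mem hmem
  omega

theorem hd_mul {s t : ZMod p} (hs : s ≠ 0) (ht : t ≠ 0) : h.hd (s * t) = h.hd s * h.hd t := by
  by_cases h1 : IsSquare s
  · obtain ⟨r, rfl⟩ := h1
    have hr : r ≠ 0 := left_ne_zero_of_mul hs
    rw [← pow_two]; exact h.hd_square_mul hr ht
  by_cases h2 : IsSquare t
  · obtain ⟨r, rfl⟩ := h2
    have hr : r ≠ 0 := left_ne_zero_of_mul ht
    rw [← pow_two, mul_comm, h.hd_square_mul hr hs, h.hd_comm (pow_ne_zero 2 hr) hs]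
  -- both are non-squares
  have hp2 : p ≠ 2 := by
    rintro rfl
    have h2' : ∀ u : ZMod 2, u = u * u := fun u => by fin_cases u <;> rfl
    exact h1 ⟨s, h2' s⟩
  obtain ⟨x, hx, hy⟩ := exists_nonsquares (p := p) hp2
  have hx0 : x ≠ 0 := fun e => hx (e ▸ IsSquare.zero)
  have hy0 : 1 - x ≠ 0 := fun e => hy (by rw [e]; exact IsSquare.zero)
  have hy' : ¬ IsSquare (1 - x)⁻¹ := by rwa [isSquare_inv]
  have hsq : ∀ {u v : ZMod p}, u ≠ 0 → ¬ IsSquare u → ¬ IsSquare v → IsSquare (u * v) := by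
    intro u v _ hu hv
    have hv0 : v ≠ 0 := fun e => hv (e ▸ IsSquare.zero)
    have := quadraticChar_neg_one_iff_not_isSquare.2 hu
    have h' := quadraticChar_neg_one_iff_not_isSquare.2 hv
    refine (quadraticChar_one_iff_isSquare (mul_ne_zero (fun e => hu (by rw [e]; exact IsSquare.zero)) hv0)).1 ?_
    rw [map_mul, this, h']; norm_num
  obtain ⟨q₁, hq₁⟩ := hsq hs h1 (show ¬ IsSquare x⁻¹ by rwa [isSquare_inv])
  obtain ⟨q₂, hq₂⟩ := hsq ht h2 hy
  obtain ⟨q₃, hq₃⟩ := hsq hx0 hx hy'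
  have n1 : q₁ ≠ 0 := fun e => by simp [e, hs, hx0] at hq₁
  have n2 : q₂ ≠ 0 := fun e => by simp [e, ht, hy0] at hq₂
  have n3 : q₃ ≠ 0 := fun e => by simp [e, hx0, hy0] at hq₃
  have es : s = q₁ ^ 2 * x := by rw [pow_two, ← hq₁, mul_assoc, inv_mul_cancel₀ hx0, mul_one]
  have et : t = q₂ ^ 2 * (1 - x)⁻¹ := by
    rw [pow_two, ← hq₂, mul_assoc, mul_inv_cancel₀ hy0, mul_one]
  have k1 : h.hd x * h.hd (1 - x)⁻¹ = h.hd (q₃ ^ 2) := by
    rw [h.hd_split hx0 hy0 (add_sub_cancel x 1), pow_two, ← hq₃, div_eq_mul_inv]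
  have e3 : s * t = (q₁ * q₂) ^ 2 * q₃ ^ 2 := by
    rw [es, et, mul_pow, show q₁ ^ 2 * x * (q₂ ^ 2 * (1 - x)⁻¹) = q₁ ^ 2 * q₂ ^ 2 * (x * (1 - x)⁻¹) by ring,
      hq₃, pow_two q₃]
  have n4 := pow_ne_zero 2 n2
  have n5 := inv_ne_zero hy0
  rw [e3, h.hd_square_mul (mul_ne_zero n1 n2) (pow_ne_zero 2 n3), mul_pow, h.hd_square_mul n1 n4, es, et,
    h.hd_square_mul n1 hx0, h.hd_square_mul n2 n5, ← k1]
  rw [mul_assoc (h.hd (q₁ ^ 2)), ← mul_assoc (h.hd (q₂ ^ 2)), h.hd_comm n4 hx0]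
  simp [mul_assoc]

theorem w_one_sq : h.w 1 * h.w 1 = h.hd (-1) := by
  have h1 : h.hd (-1) * h.hd (-1) = 1 := by
    rw [← h.hd_mul (neg_ne_zero.2 one_ne_zero) (neg_ne_zero.2 one_ne_zero), neg_mul_neg, one_mul, h.hd_one]
  have h2 : h.hd (-1) * (h.w 1 * h.w 1) = 1 := by
    rw [← mul_assoc, h.hd_w, h.w_neg 1]
  exact mul_left_cancel (h2.trans h1.symm)

end BraidData

theorem sl2_gen_mem (g : SL(2, ZMod p)) :
    g ∈ Submonoid.closure ({x : SL(2, ZMod p) | ∃ t : ZMod p, (x : Matrix (Fin 2) (Fin 2) (ZMod p)) = !![1, t; 0, 1]} ∪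
      {x : SL(2, ZMod p) | (x : Matrix (Fin 2) (Fin 2) (ZMod p)) = !![0, 1; -1, 0]}) := by
  set M := Submonoid.closure ({x : SL(2, ZMod p) | ∃ t : ZMod p, (x : Matrix (Fin 2) (Fin 2) (ZMod p)) = !![1, t; 0, 1]} ∪
      {x : SL(2, ZMod p) | (x : Matrix (Fin 2) (Fin 2) (ZMod p)) = !![0, 1; -1, 0]}) with hM
  let U : ZMod p → SL(2, ZMod p) := fun t => ⟨!![1, t; 0, 1], by simp [Matrix.det_fin_two]⟩
  let W : SL(2, ZMod p) := ⟨!![0, 1; -1, 0], by simp [Matrix.det_fin_two]⟩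
  have hU : ∀ t, U t ∈ M := fun t => Submonoid.subset_closure (Or.inl ⟨t, rfl⟩)
  have hW : W ∈ M := Submonoid.subset_closure (Or.inr rfl)
  have hUv : ∀ t, ((U t : SL(2, ZMod p)) : Matrix (Fin 2) (Fin 2) (ZMod p)) = !![1, t; 0, 1] :=
    fun _ => rfl
  have hWv : ((W : SL(2, ZMod p)) : Matrix (Fin 2) (Fin 2) (ZMod p)) = !![0, 1; -1, 0] := rfl
  let L : ZMod p → SL(2, ZMod p) := fun y => W * U y * (W * W * W)
  have hL : ∀ y, L y ∈ M := fun y => mul_mem (mul_mem hW (hU y)) (mul_mem (mul_mem hW hW) hW)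
  have hLv : ∀ y, ((L y : SL(2, ZMod p)) : Matrix (Fin 2) (Fin 2) (ZMod p)) = !![1, 0; -y, 1] := by
    intro y; ext i j
    show ((W * U y * (W * W * W) : SL(2, ZMod p)) : Matrix (Fin 2) (Fin 2) (ZMod p)) i j = _
    simp only [Matrix.SpecialLinearGroup.coe_mul, hUv, hWv]
    fin_cases i <;> fin_cases j <;> simp [Matrix.mul_apply, Fin.sum_univ_two]
  have hmain : ∀ g : SL(2, ZMod p), (g : Matrix (Fin 2) (Fin 2) (ZMod p)) 1 0 ≠ 0 → g ∈ M := by
    intro g hc
    have hdet : (g : Matrix (Fin 2) (Fin 2) (ZMod p)) 0 0 * (g : Matrix (Fin 2) (Fin 2) (ZMod p)) 1 1 -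
        (g : Matrix (Fin 2) (Fin 2) (ZMod p)) 0 1 * (g : Matrix (Fin 2) (Fin 2) (ZMod p)) 1 0 = 1 := by
      have h0 := g.2; rwa [Matrix.det_fin_two] at h0
    have he : g = U (((g : Matrix (Fin 2) (Fin 2) (ZMod p)) 0 0 - 1) / (g : Matrix (Fin 2) (Fin 2) (ZMod p)) 1 0) *
        L (-(g : Matrix (Fin 2) (Fin 2) (ZMod p)) 1 0) *
        U (((g : Matrix (Fin 2) (Fin 2) (ZMod p)) 1 1 - 1) / (g : Matrix (Fin 2) (Fin 2) (ZMod p)) 1 0) := by
      ext i j
      simp only [Matrix.SpecialLinearGroup.coe_mul, hLv, hUv]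
      fin_cases i <;> fin_cases j <;>
        simp [Matrix.mul_apply, Fin.sum_univ_two] <;> field_simp
      all_goals first | linear_combination hdet | linear_combination -hdet | ring
    rw [he]
    exact mul_mem (mul_mem (hU _) (hL _)) (hU _)
  by_cases hc : (g : Matrix (Fin 2) (Fin 2) (ZMod p)) 1 0 = 0
  · have hd : (g : Matrix (Fin 2) (Fin 2) (ZMod p)) 1 1 ≠ 0 := by
      intro hd
      have h0 := g.2
      rw [Matrix.det_fin_two, hc, hd] at h0
      simp at h0
    have h1 : g * W ∈ M := by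
      refine hmain _ ?_
      rw [Matrix.SpecialLinearGroup.coe_mul, hWv]
      simp [Matrix.mul_apply, Fin.sum_univ_two, hd]
    have h4 : W * (W * W * W) = 1 := by
      ext i j
      simp only [Matrix.SpecialLinearGroup.coe_mul, hWv, Matrix.SpecialLinearGroup.coe_one]
      fin_cases i <;> fin_cases j <;> simp [Matrix.mul_apply, Fin.sum_univ_two]
    have := mul_mem h1 (mul_mem (mul_mem hW hW) hW)
    rwa [mul_assoc, h4, mul_one] at this
  · exact hmain g hc

theorem sl2_central {k : Type*} [Field k] {g : SL(2, k)}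
    (hg : g ∈ Subgroup.center (SL(2, k))) :
    ∃ r : k, r * r = 1 ∧ (g : Matrix (Fin 2) (Fin 2) k) = !![r, 0; 0, r] := by
  let u : SL(2, k) := ⟨!![1, 1; 0, 1], by simp [Matrix.det_fin_two]⟩
  let l : SL(2, k) := ⟨!![1, 0; 1, 1], by simp [Matrix.det_fin_two]⟩
  have hu : ((u : SL(2, k)) : Matrix (Fin 2) (Fin 2) k) = !![1, 1; 0, 1] := rfl
  have hl : ((l : SL(2, k)) : Matrix (Fin 2) (Fin 2) k) = !![1, 0; 1, 1] := rfl
  have h1 := congrArg (fun x : SL(2, k) => (x : Matrix (Fin 2) (Fin 2) k)) (Subgroup.mem_center_iff.1 hg u)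
  have h2 := congrArg (fun x : SL(2, k) => (x : Matrix (Fin 2) (Fin 2) k)) (Subgroup.mem_center_iff.1 hg l)
  simp only [Matrix.SpecialLinearGroup.coe_mul, hu, hl, ← Matrix.ext_iff, Fin.forall_fin_two,
    Matrix.mul_apply, Fin.sum_univ_two] at h1 h2
  simp at h1 h2
  have hdet := g.2
  rw [Matrix.det_fin_two] at hdet
  refine ⟨(g : Matrix (Fin 2) (Fin 2) k) 0 0, ?_, ?_⟩
  · obtain ⟨h10, h01⟩ := h1
    obtain ⟨h20, h21⟩ := h2
    grind
  · ext i j
    fin_cases i <;> fin_cases j <;> simp <;> grind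

/-- The group generated by `a` and `c`. -/
theorem braid_prime {a c : X} (h : BraidData p a c) (hne : a * c ≠ c * a) :
    Nonempty (X ≃* SL(2, ZMod p)) ∨
      Nonempty (X ≃* Matrix.ProjectiveSpecialLinearGroup (Fin 2) (ZMod p)) := by
  classical
  let f : SL(2, ZMod p) → X := fun g =>
    if (g : Matrix (Fin 2) (Fin 2) (ZMod p)) 1 0 = 0 then
      h.hd ((g : Matrix (Fin 2) (Fin 2) (ZMod p)) 0 0) *
        zpw a ((g : Matrix (Fin 2) (Fin 2) (ZMod p)) 0 1 / (g : Matrix (Fin 2) (Fin 2) (ZMod p)) 0 0)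
    else
      zpw a ((g : Matrix (Fin 2) (Fin 2) (ZMod p)) 0 0 / (g : Matrix (Fin 2) (Fin 2) (ZMod p)) 1 0) *
        h.w (-1 / (g : Matrix (Fin 2) (Fin 2) (ZMod p)) 1 0) *
        zpw a ((g : Matrix (Fin 2) (Fin 2) (ZMod p)) 1 1 / (g : Matrix (Fin 2) (Fin 2) (ZMod p)) 1 0)
  obtain ⟨φ, hφ⟩ := hom_of_generators f _ sl2_gen_mem (by simp [f, zpw_zero, h.hd_one]) (by
    intro s hs g
    obtain ⟨⟨α, hα⟩, ⟨β, hβ⟩, ⟨γ, hγ⟩, δ, hδ⟩ :
      (∃ x, (g : Matrix (Fin 2) (Fin 2) (ZMod p)) 0 0 = x) ∧ (∃ x, (g : Matrix (Fin 2) (Fin 2) (ZMod p)) 0 1 = x) ∧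
      (∃ x, (g : Matrix (Fin 2) (Fin 2) (ZMod p)) 1 0 = x) ∧ ∃ x, (g : Matrix (Fin 2) (Fin 2) (ZMod p)) 1 1 = x :=
      ⟨⟨_, rfl⟩, ⟨_, rfl⟩, ⟨_, rfl⟩, _, rfl⟩
    have hdet : α * δ - β * γ = 1 := by
      have h0 := g.2; rwa [Matrix.det_fin_two, hα, hβ, hγ, hδ] at h0
    rcases hs with ⟨x, hx⟩ | hx
    · simp only [f, Matrix.SpecialLinearGroup.coe_mul, hx, Matrix.mul_apply, Fin.sum_univ_two]
      simp [hα, hβ, hγ, hδ, h.hd_one, zpw_zero]
      by_cases hc : γ = 0
      · have hα0 : α ≠ 0 := by rintro rfl; simp [hc] at hdet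
        simp only [hc, if_true, zero_mul, add_zero]
        rw [mul_assoc, ← zpw_add h.ha, show (α * x + β) / α = β / α + x by field_simp; ring]
      · simp only [hc, if_false]
        rw [mul_assoc _ _ (zpw a x), ← zpw_add h.ha,
          show (γ * x + δ) / γ = δ / γ + x by field_simp; ring]
    · have hx' : (s : Matrix (Fin 2) (Fin 2) (ZMod p)) = !![0, 1; -1, 0] := hx
      have hfs : f s = h.w 1 := by
        simp [f, hx', zpw_zero]
      rw [hfs]
      simp only [f, Matrix.SpecialLinearGroup.coe_mul, hx', Matrix.mul_apply, Fin.sum_univ_two]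
      simp [hα, hβ, hγ, hδ]
      by_cases hc : γ = 0
      · have hd0 : δ ≠ 0 := by rintro rfl; simp [hc] at hdet
        have hα0 : α ≠ 0 := by rintro rfl; simp [hc] at hdet
        have hαδ : α * δ = 1 := by rw [hc] at hdet; linear_combination hdet
        simp only [hc, hd0, if_true, if_false]
        rw [h.hd_u hα0, mul_assoc (zpw a (β / α * α ^ 2)), h.hd_w, show β / α * α ^ 2 = β / δ by
          field_simp; linear_combination β * hαδ]
        simp [zpw_zero, inv_eq_of_mul_eq_one_left hαδ]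
      · simp only [hc, if_false]
        have ht : -1 / γ ≠ 0 := div_ne_zero (neg_ne_zero.2 one_ne_zero) hc
        have hwt : h.w (-1 / γ) * h.w 1 = h.hd γ⁻¹ := by
          rw [← h.hd_w (t := -1 / γ), mul_assoc, h.w_one_sq, ← h.hd_mul ht (neg_ne_zero.2 one_ne_zero)]
          congr 1; field_simp
        have hγ' := inv_ne_zero hc
        by_cases hd : δ = 0
        · subst hd
          have hβ' : β = -γ⁻¹ := by field_simp; linear_combination -hdet
          simp [zpw_zero]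
          rw [mul_assoc, hwt, hβ', neg_neg, h.hd_u hγ',
            show α / γ⁻¹ * γ⁻¹ ^ 2 = α / γ by field_simp]
        · simp only [hd, if_false]
          have hq : δ / γ ≠ 0 := div_ne_zero hd hc
          have hq' : γ / δ ≠ 0 := div_ne_zero hc hd
          have e1 : zpw a (δ / γ) * h.w 1 = h.w 1 * zpw c (δ / γ) := by
            rw [h.w_l one_ne_zero]; simp
          have e2 : zpw c (δ / γ) = zpw a (-(γ / δ)) * h.w (γ / δ) * zpw a (-(γ / δ)) := by
            rw [BraidData.w, inv_div, zpw_neg h.ha]; simp [mul_assoc]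
          have e3 : h.hd γ⁻¹ * h.w (γ / δ) = h.w (1 / δ) := by
            rw [← h.hd_w (t := γ / δ), ← mul_assoc, ← h.hd_mul hγ' hq', h.hd_w]
            congr 1; field_simp
          calc _ = zpw a (β / δ) * h.w (1 / δ) * zpw a (-γ / δ) := by simp [div_neg, neg_div]
            _ = _ := by
              rw [mul_assoc _ (zpw a (δ / γ)), e1, e2]
              simp only [← mul_assoc]
              rw [mul_assoc _ (h.w (-1 / γ)) (h.w 1), hwt, mul_assoc _ (h.hd γ⁻¹) (zpw a _),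
                h.hd_u hγ', ← mul_assoc, ← zpw_add h.ha, mul_assoc _ (h.hd γ⁻¹) (h.w (γ / δ)), e3,
                neg_div, show α / γ + -(γ / δ) * γ⁻¹ ^ 2 = β / δ by field_simp; linear_combination hdet])
  have hsurj : Function.Surjective φ := by
    rw [← MonoidHom.range_eq_top, eq_top_iff, ← h.gen, Subgroup.closure_le]
    have ha : a ∈ φ.range := ⟨⟨!![1, 1; 0, 1], by simp [Matrix.det_fin_two]⟩, (hφ _).trans (by
      simp [f, h.hd_one, zpw_one])⟩
    have hw : h.w 1 ∈ φ.range := ⟨⟨!![0, 1; -1, 0], by simp [Matrix.det_fin_two]⟩, (hφ _).trans (by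
      simp [f, zpw_zero])⟩
    have hc : c ∈ φ.range := by
      have h1 := h.w_u one_ne_zero 1
      rw [one_pow, div_one, zpw_one, zpw_one] at h1
      have := mul_mem (mul_mem hw ha) (inv_mem hw)
      rwa [h1, mul_inv_cancel_right] at this
    rintro y (rfl | rfl)
    exacts [ha, hc]
  have hker : φ.ker ≤ Subgroup.center _ := by
    intro g hg
    rw [MonoidHom.mem_ker, hφ] at hg
    have hA : ∀ t : ZMod p, t ≠ 0 → ∀ y : X, Commute (zpw a t) y → Commute a y := by
      intro t ht y hy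
      have h1 := hy.pow_left t⁻¹.val
      rwa [← zpw_mul h.ha, inv_mul_cancel₀ ht, zpw_one] at h1
    have hC : ∀ t : ZMod p, t ≠ 0 → ∀ y : X, Commute (zpw c t) y → Commute c y := by
      intro t ht y hy
      have h1 := hy.pow_left t⁻¹.val
      rwa [← zpw_mul h.hc, inv_mul_cancel₀ ht, zpw_one] at h1
    simp only [f] at hg
    split_ifs at hg with hc
    · have hdet := g.2
      rw [Matrix.det_fin_two, hc, mul_zero, sub_zero] at hdet
      set α := (g : Matrix (Fin 2) (Fin 2) (ZMod p)) 0 0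
      have hα : α ≠ 0 := left_ne_zero_of_mul_eq_one hdet
      rw [mul_eq_one_iff_eq_inv, ← zpw_neg h.ha] at hg
      have h1 := h.hd_u hα 1
      rw [hg, ← zpw_add h.ha, add_comm, zpw_add h.ha, mul_left_inj, one_mul] at h1
      have h2 : α ^ 2 = 1 := by
        by_contra hne1
        refine hne (hA (α ^ 2 - 1) (sub_ne_zero.2 hne1) c ?_)
        rw [show α ^ 2 - 1 = α ^ 2 + -1 by ring, zpw_add h.ha, ← h1, zpw_neg h.ha, mul_inv_cancel]
        exact Commute.one_left c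
      by_cases hb : (g : Matrix (Fin 2) (Fin 2) (ZMod p)) 0 1 = 0
      · have hd : (g : Matrix (Fin 2) (Fin 2) (ZMod p)) 1 1 = α :=
          mul_left_cancel₀ hα (by rw [hdet, ← h2, pow_two])
        have he : (g : Matrix (Fin 2) (Fin 2) (ZMod p)) = !![α, 0; 0, α] := by
          ext i j; fin_cases i <;> fin_cases j <;> simp [hc, hb, hd, α]
        refine Subgroup.mem_center_iff.2 fun x => Subtype.ext ?_
        ext i j
        fin_cases i <;> fin_cases j <;>
          simp [Matrix.SpecialLinearGroup.coe_mul, he, Matrix.mul_apply, Fin.sum_univ_two, mul_comm]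
      · exfalso
        refine hne (hA _ (neg_ne_zero.2 (div_ne_zero hb hα)) c ?_)
        rw [← hg]
        have h3 := h.hd_l hα 1
        rw [h2, div_one, zpw_one] at h3
        exact h3
    · exfalso
      set t := -1 / (g : Matrix (Fin 2) (Fin 2) (ZMod p)) 1 0
      have ht : t ≠ 0 := div_ne_zero (neg_ne_zero.2 one_ne_zero) hc
      rw [mul_eq_one_iff_eq_inv, ← eq_inv_mul_iff_mul_eq, ← zpw_neg h.ha, ← zpw_neg h.ha,
        ← zpw_add h.ha] at hg
      have h1 := h.w_u ht 1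
      rw [hg, ← zpw_add h.ha, add_comm, zpw_add h.ha, mul_left_inj, zpw_one] at h1
      refine hne ?_
      have h2 : Commute (zpw c (1 / t ^ 2)) a := h1 ▸ Commute.refl a
      exact (hC _ (div_ne_zero one_ne_zero (pow_ne_zero 2 ht)) a h2).symm
  let e : SL(2, ZMod p) ⧸ φ.ker ≃* X := QuotientGroup.quotientKerEquivOfSurjective φ hsurj
  by_cases hbot : φ.ker = ⊥
  · exact Or.inl ⟨(MulEquiv.ofBijective φ ⟨(MonoidHom.ker_eq_bot_iff φ).1 hbot, hsurj⟩).symm⟩
  · refine Or.inr ⟨((QuotientGroup.quotientMulEquivOfEq ?_).trans e).symm⟩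
    refine le_antisymm (fun z hz => ?_) hker
    obtain ⟨k, hk, hk1⟩ := (Subgroup.bot_or_exists_ne_one φ.ker).resolve_left hbot
    obtain ⟨r, hr, hrv⟩ := sl2_central (hker hk)
    obtain ⟨s, hs, hsv⟩ := sl2_central hz
    rcases mul_self_eq_one_iff.1 hr with rfl | rfl
    · exact absurd (Subtype.ext (hrv.trans (by ext i j; fin_cases i <;> fin_cases j <;> simp))) hk1
    · rcases mul_self_eq_one_iff.1 hs with rfl | rfl
      · rw [show z = 1 from Subtype.ext (hsv.trans (by ext i j; fin_cases i <;> fin_cases j <;> simp))]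
        exact one_mem _
      · rw [show z = k from Subtype.ext (hsv.trans hrv.symm)]; exact hk

end CfsgLib.ThreeTransp

namespace CfsgLib.ThreeTransp

open Matrix
open scoped MatrixGroups

theorem special_prime_sl2 {p : ℕ} [Fact p.Prime] {X : Type*} [Group X] {A B : Subgroup X}
    (hs : Cfsg.IsSpecialRankOnePair A B) (hA : IsMulCommutative A) {a c : X} (h : Opp A B a c)
    (hap : ∀ x ∈ A, x ^ p = 1) :
    Nonempty (↥(Subgroup.closure ({a, c⁻¹} : Set X)) ≃* SL(2, ZMod p)) ∨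
      Nonempty (↥(Subgroup.closure ({a, c⁻¹} : Set X)) ≃*
        Matrix.ProjectiveSpecialLinearGroup (Fin 2) (ZMod p)) := by
  set H := Subgroup.closure ({a, c⁻¹} : Set X)
  have ha : a ∈ H := Subgroup.subset_closure (by simp)
  have hc : c ∈ H := by
    have := inv_mem (Subgroup.subset_closure (show c⁻¹ ∈ ({a, c⁻¹} : Set X) by simp) : c⁻¹ ∈ H)
    rwa [inv_inv] at this
  have hcp : c ^ p = 1 := by
    rw [← opp_conj_left hs h, conj_pow, hap a h.1, mul_one, mul_inv_cancel]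
  have hord : orderOf a = p := orderOf_eq_prime (hap a h.1) h.2.1
  have key : ∀ t : ZMod p, t ≠ 0 →
      zpw a t * zpw c t⁻¹ * zpw a t = zpw c t⁻¹ * zpw a t * zpw c t⁻¹ := by
    intro t ht
    have hk0 : 0 < (t⁻¹).val := ZMod.val_pos.2 (inv_ne_zero ht)
    have hkp : (t⁻¹).val < p := ZMod.val_lt _
    have hgood : GoodBelow (t⁻¹).val a := fun i hi hik m hm => by
      rw [← orderOf_dvd_iff_pow_eq_one, hord] at hm ⊢
      rcases (Nat.Prime.dvd_mul (Fact.out : p.Prime)).1 hm with h1 | h1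
      · exact absurd (Nat.le_of_dvd hi h1) (by omega)
      · exact h1
    obtain ⟨w, hw, hwk, -⟩ := opp_root hs hA _ hk0 a c h hgood
      (pow_ne_one_of_lt_orderOf hk0.ne' (by rw [hord]; exact hkp))
    have hwt : w = zpw a t := by
      have h1 := zpw_mul (hap w hw.1) t t⁻¹
      rw [mul_inv_cancel₀ ht, zpw_one] at h1
      rw [h1, show zpw w t⁻¹ = a from hwk]
      rfl
    subst hwt
    exact opp_braid hs hw
  refine braid_prime (X := H) (a := ⟨a, ha⟩) (c := ⟨c, hc⟩) ⟨Subtype.ext (hap a h.1), Subtype.ext hcp,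
    fun t ht => Subtype.ext (key t ht), ?_⟩ fun hcomm => ?_
  · refine Subgroup.map_injective H.subtype_injective ?_
    rw [MonoidHom.map_closure, ← MonoidHom.range_eq_map, Subgroup.range_subtype, Set.image_pair]
    refine le_antisymm ((Subgroup.closure_le _).2 ?_) ((Subgroup.closure_le _).2 ?_)
    · rintro y (rfl | rfl) <;> assumption
    · rintro y (rfl | rfl)
      · exact Subgroup.subset_closure (by simp)
      · exact inv_mem (Subgroup.subset_closure (by simp))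
  · have hcomm' : a * c = c * a := congrArg Subtype.val hcomm
    have h1 : a = c := by
      have h2 := opp_braid hs h
      rw [hcomm', mul_assoc c a a, mul_assoc c a c, hcomm'] at h2
      have := mul_left_cancel h2
      rw [← hcomm'] at this
      exact mul_left_cancel this
    exact h.2.1 (rop_eq_one_of_normalizes hs.1 h.1 (conjBy_of_mem (h1 ▸ h.2.2.1)))

end CfsgLib.ThreeTransp
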