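import Mathlib
import Cfsg.Agent.Lib.ThreeTransp.RootSet

/-!
Consequences for groups generated by a rank one pair, and members inside a rank one subgroup.
-/

set_option autoImplicit false

namespace CfsgLib.ThreeTransp

open Cfsg
open scoped commutatorElement

section
variable {X : Type*} [Group X] {A B : Subgroup X}

theorem rog_mem (h : IsRankOneGroup X A B) (x : X) : x ∈ A ⊔ B := by
  rw [h.1]; trivial

theorem rog_normal_dichotomy (h : IsRankOneGroup X A B) (N : Subgroup X) (hN : N.Normal) :
    N ⊔ A = ⊤ ∨ N ≤ Subgroup.center X := by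
  rcases rop_normal_dichotomy h.2 (N := N) (fun x _ => rog_mem h x)
    (fun x _ n hn => hN.conj_mem n hn x) with h1 | h1
  · exact Or.inl (h1.trans h.1)
  · exact Or.inr fun n hn => Subgroup.mem_center_iff.2 fun g => (h1 n hn g (rog_mem h g)).symm

theorem rog_center_ne_top (h : IsRankOneGroup X A B) : Subgroup.center X ≠ ⊤ := fun hc =>
  rop_not_commute_pair h.2 fun a _ b _ =>
    (Subgroup.mem_center_iff.1 (show a ∈ Subgroup.center X by rw [hc]; trivial) b).symm

theorem rog_second_center (h : IsRankOneGroup X A B) {x : X}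
    (hx : ∀ g : X, x * g * x⁻¹ * g⁻¹ ∈ Subgroup.center X) : x ∈ Subgroup.center X :=
  Subgroup.mem_center_iff.2 fun g => (rop_second_center h.2 (rog_mem h x)
    (fun y _ z _ => (Subgroup.mem_center_iff.1 (hx y) z).symm) g (rog_mem h g)).symm

theorem rog_upperCentralSeries (h : IsRankOneGroup X A B) :
    ∀ n : ℕ, Subgroup.upperCentralSeries X (n + 1) = Subgroup.center X
  | 0 => Subgroup.upperCentralSeries_one X
  | n + 1 => by
    refine le_antisymm (fun x hx => rog_second_center h fun g => ?_) ?_
    · rw [← rog_upperCentralSeries h n]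
      exact (Subgroup.mem_upperCentralSeries_succ_iff.1 hx g)
    · intro x hx
      refine Subgroup.mem_upperCentralSeries_succ_iff.2 fun g => ?_
      have : ⁅x, g⁆ = 1 := commutatorElement_eq_one_iff_mul_comm.2
        (Subgroup.mem_center_iff.1 hx g).symm
      rw [this]; exact one_mem _

theorem rog_not_nilpotent (h : IsRankOneGroup X A B) : ¬ Group.IsNilpotent X := by
  rintro ⟨n, hn⟩
  cases n with
  | zero =>
    refine rog_center_ne_top h (top_le_iff.1 ?_)
    rw [← hn, Subgroup.upperCentralSeries_zero]
    exact bot_le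
  | succ n => exact rog_center_ne_top h ((rog_upperCentralSeries h n).symm.trans hn)

theorem rog_quasisimple (h : IsRankOneGroup X A B) (hp : Group.IsPerfect X) :
    IsQuasisimple X := by
  refine ⟨hp, ?_⟩
  have : Nontrivial (X ⧸ Subgroup.center X) :=
    QuotientGroup.nontrivial_iff.2 (rog_center_ne_top h)
  refine ⟨fun M hM => ?_⟩
  have hN : (M.comap (QuotientGroup.mk' (Subgroup.center X))).Normal := hM.comap _
  have hMmap : (M.comap (QuotientGroup.mk' (Subgroup.center X))).map
      (QuotientGroup.mk' (Subgroup.center X)) = M :=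
    Subgroup.map_comap_eq_self_of_surjective (QuotientGroup.mk'_surjective _) M
  rcases rog_normal_dichotomy h _ hN with h1 | h1
  · right
    rw [← hMmap]
    suffices hN1 : M.comap (QuotientGroup.mk' (Subgroup.center X)) = ⊤ by
      rw [hN1, Subgroup.map_top_of_surjective _ (QuotientGroup.mk'_surjective _)]
    by_contra hne
    set N := M.comap (QuotientGroup.mk' (Subgroup.center X))
    have : Nontrivial (X ⧸ N) := QuotientGroup.nontrivial_iff.2 hne
    have : Group.IsPerfect (X ⧸ N) := inferInstance
    apply Group.IsPerfect.not_isNilpotent (X ⧸ N)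
    have hsurj : Function.Surjective ((QuotientGroup.mk' N).comp A.subtype) := by
      rw [← MonoidHom.range_eq_top, MonoidHom.range_comp, Subgroup.range_subtype]
      have h2 := congrArg (Subgroup.map (QuotientGroup.mk' N)) h1
      rwa [Subgroup.map_sup, Subgroup.map_top_of_surjective _ (QuotientGroup.mk'_surjective _),
        QuotientGroup.map_mk'_self, bot_sup_eq] at h2
    have := h.2.nilpotent_left
    exact Group.nilpotent_of_surjective _ hsurj
  · left
    rw [← hMmap, Subgroup.map_eq_bot_iff, QuotientGroup.ker_mk']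
    exact h1

end

variable {G : Type*} [Group G] {S : Set (Subgroup G)}

/-- A member inside the rank one group of a pair of members is unipotent or central in it. -/
theorem rs_mem_unipotent_of_le (hS : IsRootSubgroupSet S) {A B W : Subgroup G} (hA : A ∈ S)
    (hB : B ∈ S) (h : IsRankOnePair A B) (hW : W ∈ S) (hle : W ≤ A ⊔ B) :
    W ∈ unipotentSubgroups A B ∨ ∀ w ∈ W, ∀ x ∈ A ⊔ B, w * x = x * w := by
  have hpartner : ∀ {C : Subgroup G}, C ∈ unipotentSubgroups A B →
      ∃ D ∈ S, D ∈ unipotentSubgroups A B ∧ IsRankOnePair C D := by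
    intro C hC
    by_cases hCA : C = A
    · subst hCA; exact ⟨B, hB, rop_right_mem_unipotent h, h⟩
    · exact ⟨A, hA, left_mem_unipotent A B,
        (rop_of_mem_mem h hC (left_mem_unipotent A B) hCA).1⟩
  have hmem : ∀ {C : Subgroup G}, C ∈ unipotentSubgroups A B → C ∈ S :=
    fun hC => rs_unipotent_mem hS hA hC
  have step : (∃ C ∈ unipotentSubgroups A B, ∀ w ∈ W, ∀ c ∈ C, w * c = c * w) →
      W ∈ unipotentSubgroups A B ∨ ∀ w ∈ W, ∀ x ∈ A ⊔ B, w * x = x * w := by
    rintro ⟨C, hC, hWC⟩
    by_cases hWU : W ∈ unipotentSubgroups A B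
    · exact Or.inl hWU
    right
    have hall : ∀ D ∈ unipotentSubgroups A B, ∀ w ∈ W, ∀ d ∈ D, w * d = d * w := by
      intro D hD w hw d hd
      rcases hS.pair W hW D (hmem hD) with hc | hr | hcc
      · exact comm_of_bot hc hw hd
      · exact absurd (rop_mem_unipotent_of_pair hD hle (rop_symm hr)) hWU
      · exfalso
        have hfix : ∀ v ∈ W, conjBy D v = D := by
          intro v hv
          by_contra hne
          refine rop_not_commute_pair
            (rop_of_mem_mem h (conjBy_mem_unipotent hD (hle hv)) hD hne).1 ?_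
          exact fun x hx y hy => rcc_conj_commutes hS (hmem hD) hcc hv hx hy
        have hFD : ⁅W, D⁆ ≤ D :=
          Subgroup.le_normalizer_iff_commutator_le_right.1 fun v hv =>
            conjBy_eq_self_iff.1 (hfix v hv)
        obtain ⟨E, hE, -, hr⟩ := hpartner hD
        obtain ⟨f, hf, hf1⟩ := rs_exists_ne_one hS hcc.1
        have hFeq : ⁅W, D⁆ = D := rs_inter hS (hmem hD) hE hcc.1 hr (hFD hf) hf hf1
        exact rcc_not_commute_pair hS hcc fun x hx y hy =>
          (rcc_central hcc (hFeq.symm ▸ hy) ((le_sup_left : W ≤ W ⊔ D) hx)).symm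
    exact fun w hw => commute_sup (hall A (left_mem_unipotent A B) w hw)
      (hall B (rop_right_mem_unipotent h) w hw)
  rcases hS.pair W hW A hA with hc | hr | hcc
  · exact step ⟨A, left_mem_unipotent A B, fun w hw a ha => comm_of_bot hc hw ha⟩
  · exact Or.inl (rop_mem_unipotent_of_pair (left_mem_unipotent A B) hle (rop_symm hr))
  · have hFle : ⁅W, A⁆ ≤ A ⊔ B := Subgroup.commutator_le.2 fun x hx y hy =>
      mul_mem (mul_mem (mul_mem (hle hx) ((le_sup_left : A ≤ A ⊔ B) hy)) (inv_mem (hle hx)))
        (inv_mem ((le_sup_left : A ≤ A ⊔ B) hy))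
    -- the commutator subgroup commutes with `A`, so it is unipotent or central
    by_cases hFU : ⁅W, A⁆ ∈ unipotentSubgroups A B
    · exact step ⟨_, hFU, fun w hw c hc =>
        (rcc_central hcc hc ((le_sup_left : W ≤ W ⊔ A) hw)).symm⟩
    refine step ⟨A, left_mem_unipotent A B, fun w hw a ha => ?_⟩
    by_contra hwa
    have hFA : ∀ f ∈ ⁅W, A⁆, ∀ y ∈ A, f * y = y * f :=
      fun f hf y hy => rcc_central hcc hf ((le_sup_right : A ≤ W ⊔ A) hy)
    -- central: every unipotent subgroup commutes with it
    have hFcen : ∀ f ∈ ⁅W, A⁆, ∀ x ∈ A ⊔ B, f * x = x * f := by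
      intro f hf
      refine commute_sup (hFA f hf) fun b hb => ?_
      rcases hS.pair _ hcc.1 B hB with hc' | hr' | hcc'
      · exact comm_of_bot hc' hf hb
      · exact absurd (rop_mem_unipotent_of_pair (rop_right_mem_unipotent h) hFle (rop_symm hr')) hFU
      · exfalso
        have hfix : conjBy B f = B := by
          by_contra hne
          refine rop_not_commute_pair (rop_of_mem_mem h
            (conjBy_mem_unipotent (rop_right_mem_unipotent h) (hFle hf))
            (rop_right_mem_unipotent h) hne).1 ?_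
          exact fun x hx y hy => rcc_conj_commutes hS hB hcc' hf hx hy
        have hFB : ⁅⁅W, A⁆, B⁆ ≤ B := by
          refine Subgroup.le_normalizer_iff_commutator_le_right.1 fun v hv => ?_
          refine conjBy_eq_self_iff.1 ?_
          by_contra hne
          refine rop_not_commute_pair (rop_of_mem_mem h
            (conjBy_mem_unipotent (rop_right_mem_unipotent h) (hFle hv))
            (rop_right_mem_unipotent h) hne).1 ?_
          exact fun x hx y hy => rcc_conj_commutes hS hB hcc' hv hx hy
        obtain ⟨x, hx, hx1⟩ := rs_exists_ne_one hS hcc'.1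
        have hFeq := rs_inter hS hB hA hcc'.1 (rop_symm h) (hFB hx) hx hx1
        exact rcc_not_commute_pair hS hcc' fun u hu y hy =>
          (rcc_central hcc' (hFeq.symm ▸ hy) ((le_sup_left : ⁅W, A⁆ ≤ ⁅W, A⁆ ⊔ B) hu)).symm
    -- so `W` normalizes `A`, hence centralizes it
    have hmemF : w * a * w⁻¹ * a⁻¹ ∈ ⁅W, A⁆ := Subgroup.commutator_mem_commutator hw ha
    have hne1 : conjBy A w = A := by
      by_contra hne
      have h1 := rop_eq_one_of_mem_normalizes h
        (conjBy_mem_unipotent (left_mem_unipotent A B) (hle hw)) (left_mem_unipotent A B) hne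
        (conj_mem_conjBy ha w) (by
          rw [show w * a * w⁻¹ = (w * a * w⁻¹ * a⁻¹) * a by simp, conjBy_mul, conjBy_of_mem ha]
          exact conjBy_of_commute fun y hy => hFA _ hmemF y hy)
      have ha1 : a = 1 := by simpa using h1
      apply hwa; rw [ha1]; simp
    have hA' : w * a * w⁻¹ * a⁻¹ ∈ A := by
      have h0 := conj_mem_conjBy ha w
      rw [hne1] at h0
      exact mul_mem h0 (inv_mem ha)
    have h1 : w * a * w⁻¹ * a⁻¹ = 1 := rop_eq_one_of_normalizes h hA'
      (conjBy_of_commute fun b hb => hFcen _ hmemF b ((le_sup_right : B ≤ A ⊔ B) hb))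
    apply hwa
    rwa [mul_inv_eq_one, mul_inv_eq_iff_eq_mul] at h1

end CfsgLib.ThreeTransp
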