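import Mathlib
import Cfsg.Agent.Lib.ThreeTransp.RankOneGroup

/-!
Rank one groups acting quadratically on an abelian group.
-/

set_option autoImplicit false

namespace CfsgLib.ThreeTransp

open Cfsg

variable {X : Type*} [Group X] {V : Type*} [AddCommGroup V] [DistribMulAction X V]

/-- The fixed points of a subgroup, as an additive subgroup. -/
def qFix (V : Type*) [AddCommGroup V] [DistribMulAction X V] (H : Subgroup X) : AddSubgroup V where
  carrier := {v | ∀ a ∈ H, a • v = v}
  zero_mem' := fun a _ => smul_zero a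
  add_mem' := fun hx hy a ha => by rw [smul_add, hx a ha, hy a ha]
  neg_mem' := fun hx a ha => by rw [smul_neg, hx a ha]

/-- The commutator of an abelian group with a subgroup acting on it. -/
def qMove (V : Type*) [AddCommGroup V] [DistribMulAction X V] (H : Subgroup X) : AddSubgroup V :=
  AddSubgroup.closure {d | ∃ a ∈ H, ∃ v : V, d = a • v - v}

/-- A subgroup acts quadratically. -/
def QuadAct (V : Type*) [AddCommGroup V] [DistribMulAction X V] (H : Subgroup X) : Prop :=
  ∀ a ∈ H, ∀ a' ∈ H, ∀ v : V, a' • (a • v - v) = a • v - v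

theorem mem_qFix {H : Subgroup X} {v : V} : v ∈ qFix V H ↔ ∀ a ∈ H, a • v = v := Iff.rfl

theorem qMove_mem {H : Subgroup X} {a : X} (ha : a ∈ H) (v : V) : a • v - v ∈ qMove V H :=
  AddSubgroup.subset_closure ⟨a, ha, v, rfl⟩

theorem qMove_le_qFix {H : Subgroup X} (hq : QuadAct V H) : qMove V H ≤ qFix V H := by
  refine (AddSubgroup.closure_le _).2 ?_
  rintro d ⟨a, ha, v, rfl⟩ a' ha'
  exact hq a ha a' ha' v

theorem quadAct_conj {H : Subgroup X} (hq : QuadAct V H) (g : X) : QuadAct V (conjBy H g) := by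
  intro a ha a' ha' v
  rw [mem_conjBy] at ha ha'
  have h := congrArg (fun u => g • u) (hq _ ha _ ha' (g⁻¹ • v))
  simpa [smul_sub, smul_smul, mul_assoc] using h

theorem qMove_conj {H : Subgroup X} (g : X) {p : V} (hp : p ∈ qMove V H) :
    g • p ∈ qMove V (conjBy H g) := by
  have h : qMove V H ≤ (qMove V (conjBy H g)).comap (DistribSMul.toAddMonoidHom V g) := by
    refine (AddSubgroup.closure_le _).2 ?_
    rintro d ⟨a, ha, v, rfl⟩
    have h2 := qMove_mem (V := V) (conj_mem_conjBy ha g) (g • v)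
    simpa [smul_sub, smul_smul, mul_assoc] using h2
  exact h hp

theorem quad_pow_smul {H : Subgroup X} (hq : QuadAct V H) {a : X} (ha : a ∈ H) (v : V) :
    ∀ n : ℕ, a ^ n • v - v = n • (a • v - v)
  | 0 => by simp
  | n + 1 => by
    have ih := quad_pow_smul hq ha v n
    rw [sub_eq_iff_eq_add] at ih
    rw [pow_succ', mul_smul, ih, smul_add, smul_comm a n, hq a ha a ha v, succ_nsmul]
    abel

theorem quad_inv_smul {H : Subgroup X} (hq : QuadAct V H) {a : X} (ha : a ∈ H) (v : V) :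
    a⁻¹ • v = v - (a • v - v) := by
  have h := hq a ha a⁻¹ (inv_mem ha) v
  rw [smul_sub, inv_smul_smul] at h
  exact sub_eq_iff_eq_add'.1 h |> fun e => by rw [← h]; abel

theorem quad_commute {H : Subgroup X} (hq : QuadAct V H) {a a' : X} (ha : a ∈ H) (ha' : a' ∈ H)
    (v : V) : (a' * a) • v = (a * a') • v := by
  have h1 := hq a ha a' ha' v
  have h2 := hq a' ha' a ha v
  rw [smul_sub, sub_eq_iff_eq_add] at h1 h2
  rw [mul_smul, mul_smul, h1, h2]
  abel

section pair

variable {A B : Subgroup X}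

theorem qFix_top_of_sup (hAB : A ⊔ B = ⊤) {v : V} (h1 : v ∈ qFix V A) (h2 : v ∈ qFix V B) :
    v ∈ qFix V (⊤ : Subgroup X) := by
  have : A ⊔ B ≤ MulAction.stabilizer X v := sup_le h1 h2
  rw [hAB] at this
  exact fun x hx => this hx

theorem qMove_inter (hAB : A ⊔ B = ⊤) (hqA : QuadAct V A) (hqB : QuadAct V B) {v : V}
    (h1 : v ∈ qMove V A) (h2 : v ∈ qMove V B) : v ∈ qFix V (⊤ : Subgroup X) :=
  qFix_top_of_sup hAB (qMove_le_qFix hqA h1) (qMove_le_qFix hqB h2)

theorem qW_left {a : X} (ha : a ∈ A) {w : V}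
    (hw : w ∈ qMove V A ⊔ qMove V B) : a • w ∈ qMove V A ⊔ qMove V B := by
  have h : a • w = w + (a • w - w) := by abel
  rw [h]
  exact add_mem hw (AddSubgroup.mem_sup_left (qMove_mem ha w))

theorem qW_invariant (hAB : A ⊔ B = ⊤) (_hqA : QuadAct V A) (_hqB : QuadAct V B) (x : X) :
    ∀ w ∈ qMove V A ⊔ qMove V B, x • w ∈ qMove V A ⊔ qMove V B := by
  have hx : x ∈ A ⊔ B := by rw [hAB]; trivial
  rw [Subgroup.sup_eq_closure] at hx
  refine Subgroup.closure_induction'' ?_ ?_ ?_ ?_ hx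
  · rintro g (hg | hg) w hw
    · exact qW_left hg hw
    · rw [sup_comm] at hw ⊢; exact qW_left hg hw
  · rintro g (hg | hg) w hw
    · exact qW_left (inv_mem (show g ∈ A from hg)) hw
    · rw [sup_comm] at hw ⊢; exact qW_left (inv_mem (show g ∈ B from hg)) hw
  · intro w hw; rwa [one_smul]
  · intro u v _ _ hu hv w hw
    rw [mul_smul]; exact hu _ (hv _ hw)

theorem qMove_top_le (hAB : A ⊔ B = ⊤) (hqA : QuadAct V A) (hqB : QuadAct V B) (x : X) :
    ∀ v : V, x • v - v ∈ qMove V A ⊔ qMove V B := by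
  have hx : x ∈ A ⊔ B := by rw [hAB]; trivial
  rw [Subgroup.sup_eq_closure] at hx
  refine Subgroup.closure_induction'' ?_ ?_ ?_ ?_ hx
  · rintro g (hg | hg) v
    · exact AddSubgroup.mem_sup_left (qMove_mem hg v)
    · exact AddSubgroup.mem_sup_right (qMove_mem hg v)
  · rintro g (hg | hg) v
    · exact AddSubgroup.mem_sup_left (qMove_mem (inv_mem (show g ∈ A from hg)) v)
    · exact AddSubgroup.mem_sup_right (qMove_mem (inv_mem (show g ∈ B from hg)) v)
  · intro v; simp
  · intro u w _ _ hu hv v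
    have : (u * w) • v - v = u • (w • v - v) + (u • v - v) := by
      rw [mul_smul, smul_sub]; abel
    rw [this]
    exact add_mem (qW_invariant hAB hqA hqB u _ (hv v)) (hu v)

/-- The elements acting trivially on `([V,A] + [V,B])` modulo the fixed points of the group. -/
def qKerMod (hAB : A ⊔ B = ⊤) (hqA : QuadAct V A) (hqB : QuadAct V B) : Subgroup X where
  carrier := {x | ∀ w ∈ qMove V A ⊔ qMove V B, x • w - w ∈ qFix V (⊤ : Subgroup X)}
  one_mem' := by intro w _; simp
  mul_mem' := by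
    intro x y hx hy w hw
    have : (x * y) • w - w = (x • (y • w) - y • w) + (y • w - w) := by rw [mul_smul]; abel
    rw [this]
    exact add_mem (hx _ (qW_invariant hAB hqA hqB y w hw)) (hy w hw)
  inv_mem' := by
    intro x hx w hw
    have h := hx _ (qW_invariant hAB hqA hqB x⁻¹ w hw)
    rw [smul_inv_smul] at h
    simpa using neg_mem h

theorem qKerMod_normal (hAB : A ⊔ B = ⊤) (hqA : QuadAct V A) (hqB : QuadAct V B) :
    (qKerMod hAB hqA hqB).Normal := by
  refine ⟨fun x hx y w hw => ?_⟩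
  have h := hx _ (qW_invariant hAB hqA hqB y⁻¹ w hw)
  have h2 : (y * x * y⁻¹) • w - w = y • (x • (y⁻¹ • w) - y⁻¹ • w) := by
    simp [mul_smul, smul_sub]
  rw [h2, mem_qFix.1 h y trivial]
  exact h

/-- The kernel of the action. -/
def qKer (V : Type*) [AddCommGroup V] [DistribMulAction X V] : Subgroup X where
  carrier := {x | ∀ v : V, x • v = v}
  one_mem' := one_smul _
  mul_mem' := by intro x y hx hy v; rw [mul_smul, hy, hx]
  inv_mem' := by intro x hx v; exact inv_smul_eq_iff.2 (hx v).symm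

theorem qKer_normal : (qKer (X := X) V).Normal := by
  refine ⟨fun x hx y v => ?_⟩
  rw [mul_smul, mul_smul, hx, smul_inv_smul]

/-- If the group does not act quadratically, the kernel on `W` modulo fixed points is central. -/
theorem qKerMod_le_center (h : IsRankOneGroup X A B) (hqA : QuadAct V A) (hqB : QuadAct V B)
    (hX : ∃ x y : X, ∃ v : V, y • (x • v - v) ≠ x • v - v) :
    qKerMod h.1 hqA hqB ≤ Subgroup.center X := by
  have h' : IsRankOneGroup X B A := ⟨by rw [sup_comm]; exact h.1, rop_symm h.2⟩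
  rcases rog_normal_dichotomy h _ (qKerMod_normal h.1 hqA hqB) with hA | hc
  swap
  · exact hc
  rcases rog_normal_dichotomy h' _ (qKerMod_normal h.1 hqA hqB) with hB | hc
  swap
  · exact hc
  exfalso
  have := qKerMod_normal h.1 hqA hqB
  have key : ∀ {H : Subgroup X}, qKerMod h.1 hqA hqB ⊔ H = ⊤ → QuadAct V H →
      qMove V H ≤ qMove V A ⊔ qMove V B →
      ∀ (x : X), ∀ p ∈ qMove V H, x • p - p ∈ qFix V (⊤ : Subgroup X) := by
    intro H hH hq hle x p hp
    have hx : x ∈ qKerMod h.1 hqA hqB ⊔ H := by rw [hH]; trivial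
    obtain ⟨k, hk, a, ha, rfl⟩ := Subgroup.mem_sup_of_normal_left.1 hx
    rw [mul_smul, qMove_le_qFix hq hp a ha]
    exact hk p (hle hp)
  have hW : ∀ (x : X), ∀ w ∈ qMove V A ⊔ qMove V B, x • w - w ∈ qFix V (⊤ : Subgroup X) := by
    intro x w hw
    obtain ⟨p, hp, q, hq, rfl⟩ := AddSubgroup.mem_sup.1 hw
    have : x • (p + q) - (p + q) = (x • p - p) + (x • q - q) := by rw [smul_add]; abel
    rw [this]
    exact add_mem (key hA hqA le_sup_left x p hp) (key hB hqB le_sup_right x q hq)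
  -- the kernel of the action is central
  have hker : qKer (X := X) V ≤ Subgroup.center X := by
    rcases rog_normal_dichotomy h _ (qKer_normal (V := V)) with h1 | h1
    swap
    · exact h1
    exfalso
    have := qKer_normal (X := X) (V := V)
    obtain ⟨x, y, v, hne⟩ := hX
    have hsp : ∀ z : X, ∃ a ∈ A, ∀ u : V, z • u = a • u := by
      intro z
      have hz : z ∈ qKer (X := X) V ⊔ A := by rw [h1]; trivial
      obtain ⟨k, hk, a, ha, rfl⟩ := Subgroup.mem_sup_of_normal_left.1 hz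
      exact ⟨a, ha, fun u => by rw [mul_smul, hk]⟩
    obtain ⟨a, ha, he⟩ := hsp x
    obtain ⟨a', ha', he'⟩ := hsp y
    apply hne
    rw [he, he', hqA a ha a' ha' v]
  -- commutators are central
  have hcc : ∀ x y g : X, (x * y * x⁻¹ * y⁻¹) * g * (x * y * x⁻¹ * y⁻¹)⁻¹ * g⁻¹ ∈
      Subgroup.center X := by
    intro x y g
    set c := x * y * x⁻¹ * y⁻¹ with hcd
    have hfix : ∀ (z : X) (c : V), c ∈ qFix V (⊤ : Subgroup X) → z • c = c :=
      fun z c hc => hc z trivial
    have hT := qMove_top_le h.1 hqA hqB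
    have hc1 : ∀ v : V, c • v - v ∈ qFix V (⊤ : Subgroup X) := by
      intro v
      have e : c • v - v = (x • (y • ((x⁻¹ * y⁻¹) • v) - (x⁻¹ * y⁻¹) • v)
          - (y • ((x⁻¹ * y⁻¹) • v) - (x⁻¹ * y⁻¹) • v))
          - (y • (x • ((x⁻¹ * y⁻¹) • v) - (x⁻¹ * y⁻¹) • v)
          - (x • ((x⁻¹ * y⁻¹) • v) - (x⁻¹ * y⁻¹) • v)) := by
        simp only [hcd, smul_sub, mul_smul, smul_inv_smul]; abel
      rw [e]
      exact sub_mem (hW x _ (hT y _)) (hW y _ (hT x _))
    have hc2 : ∀ w ∈ qMove V A ⊔ qMove V B, c • w = w := by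
      intro w hw
      set u := (x⁻¹ * y⁻¹) • w with hu
      have huW : u ∈ qMove V A ⊔ qMove V B := qW_invariant h.1 hqA hqB _ w hw
      have e1 : w = y • (x • u) := by simp [hu, mul_smul]
      have e2 : c • w = x • (y • u) := by simp [hu, hcd, mul_smul]
      have d1 := hfix x _ (hW y u huW)
      have d2 := hfix y _ (hW x u huW)
      rw [smul_sub, sub_eq_iff_eq_add] at d1 d2
      rw [e2, e1, d1, d2]
      abel
    refine hker fun v => ?_
    set u := (c⁻¹ * g⁻¹) • v with hu
    have e1 : v = g • (c • u) := by simp [hu, mul_smul]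
    have e2 : (c * g * c⁻¹ * g⁻¹) • v = c • (g • u) := by simp [hu, mul_smul]
    have d1 := hfix g _ (hc1 u)
    have d2 := hc2 _ (hT g u)
    rw [smul_sub, sub_eq_iff_eq_add] at d1 d2
    rw [e2, e1, d1, d2]
    abel
  refine rog_center_ne_top h (top_le_iff.1 fun x _ => ?_)
  exact rog_second_center h fun y => rog_second_center h fun g => hcc x y g

/-- The two relations coming from `A^b = B^a`. -/
theorem qr_rel (hAB : A ⊔ B = ⊤) (hqA : QuadAct V A) (hqB : QuadAct V B) {a b : X}
    (ha : a ∈ A) (hb : b ∈ B) (he : conjBy A b⁻¹ = conjBy B a⁻¹) :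
    (∀ t ∈ qMove V A,
      t - (a • (b • t - t) - (b • t - t)) ∈ qFix V (⊤ : Subgroup X)) ∧
    (∀ q ∈ qMove V B,
      q - (b • (a • q - q) - (a • q - q)) ∈ qFix V (⊤ : Subgroup X)) := by
  constructor
  · intro t ht
    set s := b • t - t with hs
    have hsB : s ∈ qMove V B := qMove_mem hb t
    have h1 := qMove_conj a (qMove_conj b⁻¹ ht)
    rw [he, conjBy_conjBy_inv, quad_inv_smul hqB hb, smul_sub,
      qMove_le_qFix hqA ht a ha] at h1
    refine qMove_inter hAB hqA hqB (sub_mem ht (qMove_mem ha s)) ?_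
    have e : t - (a • s - s) = (t - a • s) + s := by abel
    rw [e]
    exact add_mem h1 hsB
  · intro q hq
    set t := a • q - q with ht
    have htA : t ∈ qMove V A := qMove_mem ha q
    have h1 := qMove_conj b (qMove_conj a⁻¹ hq)
    rw [← he, conjBy_conjBy_inv, quad_inv_smul hqA ha, smul_sub,
      qMove_le_qFix hqB hq b hb] at h1
    refine qMove_inter hAB hqA hqB ?_ (sub_mem hq (qMove_mem hb t))
    have e : q - (b • t - t) = (q - b • t) + t := by abel
    rw [e]
    exact add_mem h1 htA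

theorem qr_mem_kerMod (hAB : A ⊔ B = ⊤) (hqA : QuadAct V A) (hqB : QuadAct V B) {a b : X}
    (ha : a ∈ A) (hb : b ∈ B) (he : conjBy A b⁻¹ = conjBy B a⁻¹) :
    b⁻¹ * a * b * (a⁻¹ * b⁻¹ * a)⁻¹ ∈ qKerMod hAB hqA hqB := by
  obtain ⟨h1, h2⟩ := qr_rel hAB hqA hqB ha hb he
  have key : ∀ w ∈ qMove V A ⊔ qMove V B,
      (b⁻¹ * a * b) • w - (a⁻¹ * b⁻¹ * a) • w ∈ qFix V (⊤ : Subgroup X) := by
    intro w hw
    obtain ⟨p, hp, q, hq, rfl⟩ := AddSubgroup.mem_sup.1 hw
    have fP : ∀ {u : V}, u ∈ qMove V A → a • u = u := fun hu => qMove_le_qFix hqA hu a ha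
    have fP' : ∀ {u : V}, u ∈ qMove V A → a⁻¹ • u = u :=
      fun hu => qMove_le_qFix hqA hu a⁻¹ (inv_mem ha)
    have fQ : ∀ {u : V}, u ∈ qMove V B → b • u = u := fun hu => qMove_le_qFix hqB hu b hb
    have fQ' : ∀ {u : V}, u ∈ qMove V B → b⁻¹ • u = u :=
      fun hu => qMove_le_qFix hqB hu b⁻¹ (inv_mem hb)
    have hp' : (b⁻¹ * a * b) • p - (a⁻¹ * b⁻¹ * a) • p ∈ qFix V (⊤ : Subgroup X) := by
      set s := b • p - p with hs
      set t := a • s - s with ht
      have hsB : s ∈ qMove V B := qMove_mem hb p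
      have htA : t ∈ qMove V A := qMove_mem ha s
      have hc : p - t ∈ qFix V (⊤ : Subgroup X) := h1 p hp
      have e1 : b • p = p + s := by rw [hs]; abel
      have e2 : a • s = s + t := by rw [ht]; abel
      have eb : b⁻¹ • p = p - s := quad_inv_smul hqB hb p
      have ea : a⁻¹ • s = s - t := quad_inv_smul hqA ha s
      have hbc : b⁻¹ • (p - t) = p - t := hc b⁻¹ trivial
      rw [smul_sub, eb, sub_eq_iff_eq_add] at hbc
      have ebt : b⁻¹ • t = t - s := by
        calc b⁻¹ • t = (p - t + b⁻¹ • t) - (p - t) := by abel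
          _ = (p - s) - (p - t) := by rw [← hbc]
          _ = t - s := by abel
      have eL : (b⁻¹ * a * b) • p = p + t - s := by
        rw [mul_smul, mul_smul, e1, smul_add, fP hp, e2, smul_add, smul_add, eb, fQ' hsB, ebt]
        abel
      have eR : (a⁻¹ * b⁻¹ * a) • p = p + t - s := by
        rw [mul_smul, mul_smul, fP hp, eb, smul_sub, fP' hp, ea]
        abel
      rw [eL, eR, sub_self]
      exact zero_mem _
    have hq' : (b⁻¹ * a * b) • q - (a⁻¹ * b⁻¹ * a) • q ∈ qFix V (⊤ : Subgroup X) := by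
      set t := a • q - q with ht
      set s := b • t - t with hs
      have htA : t ∈ qMove V A := qMove_mem ha q
      have hc : q - s ∈ qFix V (⊤ : Subgroup X) := h2 q hq
      have e1 : a • q = q + t := by rw [ht]; abel
      have eb : b⁻¹ • t = t - s := quad_inv_smul hqB hb t
      have eL : (b⁻¹ * a * b) • q = q - s + t := by
        rw [mul_smul, mul_smul, fQ hq, e1, smul_add, fQ' hq, eb]; abel
      have eR : (a⁻¹ * b⁻¹ * a) • q = q - s + t := by
        rw [mul_smul, mul_smul, e1, smul_add, fQ' hq, eb,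
          show q + (t - s) = (q - s) + t by abel, smul_add, fP' htA,
          show a⁻¹ • (q - s) = q - s from hc a⁻¹ trivial]
      rw [eL, eR, sub_self]
      exact zero_mem _
    have e : (b⁻¹ * a * b) • (p + q) - (a⁻¹ * b⁻¹ * a) • (p + q) =
        ((b⁻¹ * a * b) • p - (a⁻¹ * b⁻¹ * a) • p) +
        ((b⁻¹ * a * b) • q - (a⁻¹ * b⁻¹ * a) • q) := by
      simp only [smul_add]; abel
    rw [e]
    exact add_mem hp' hq'
  intro w hw
  have h := key _ (qW_invariant hAB hqA hqB (a⁻¹ * b⁻¹ * a)⁻¹ w hw)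
  rwa [smul_inv_smul, smul_smul] at h

theorem qA_center_eq_one (h : IsRankOneGroup X A B) {a : X} (ha : a ∈ A)
    (hc : a ∈ Subgroup.center X) : a = 1 :=
  rop_eq_one_of_normalizes h.2 ha
    (conjBy_of_commute fun b _ => (Subgroup.mem_center_iff.1 hc b).symm)

theorem rog_quadratic_special (h : IsRankOneGroup X A B) (hqA : QuadAct V A)
    (hX : ∃ x y : X, ∃ v : V, y • (x • v - v) ≠ x • v - v) : IsSpecialRankOnePair A B := by
  have hqB : QuadAct V B := by
    obtain ⟨g, -, hg⟩ := rop_right_mem_unipotent h.2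
    rw [hg]; exact quadAct_conj hqA g
  refine ⟨h.2, fun a ha _ b hb _ he => ?_⟩
  have hz := qKerMod_le_center h hqA hqB hX (qr_mem_kerMod h.1 hqA hqB ha hb he)
  set z := b⁻¹ * a * b * (a⁻¹ * b⁻¹ * a)⁻¹ with hzd
  have hzm : z ∈ conjBy A b⁻¹ := by
    refine mul_mem ?_ (inv_mem ?_)
    · simpa using conj_mem_conjBy ha b⁻¹
    · rw [he]; simpa using conj_mem_conjBy (inv_mem hb) a⁻¹
  rw [mem_conjBy] at hzm
  have hcomm := Subgroup.mem_center_iff.1 hz b
  have hzA : z ∈ A := by
    have e : (b⁻¹)⁻¹ * z * b⁻¹ = z := by rw [inv_inv, hcomm, mul_inv_cancel_right]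
    rwa [e] at hzm
  have hz1 : z = 1 := qA_center_eq_one h hzA hz
  rw [hzd, mul_inv_eq_one] at hz1
  exact hz1

theorem quad_not_all (h : IsRankOneGroup X A B)
    (hf : ∀ x : X, (∀ v : V, x • v = v) → x = 1) :
    ∃ x y : X, ∃ v : V, y • (x • v - v) ≠ x • v - v := by
  by_contra hcon
  push Not at hcon
  have hq : QuadAct V (⊤ : Subgroup X) := fun a _ a' _ v => hcon a a' v
  refine rog_center_ne_top h (top_le_iff.1 fun x _ => Subgroup.mem_center_iff.2 fun y => ?_)
  have h2 : ∀ u : V, (y * x) • u = (x * y) • u :=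
    fun u => quad_commute hq (Subgroup.mem_top x) (Subgroup.mem_top y) u
  have h3 := hf ((x * y)⁻¹ * (y * x)) fun v => by rw [mul_smul, h2, inv_smul_smul]
  rw [inv_mul_eq_one] at h3
  exact h3.symm

theorem rog_quadratic_elementary (h : IsRankOneGroup X A B) (hqA : QuadAct V A)
    (hf : ∀ x : X, (∀ v : V, x • v = v) → x = 1) {p : ℕ} (hp : p.Prime) {a : X}
    (ha : a ∈ A) (hap : orderOf a = p) : ∀ a' ∈ A, a' ^ p = 1 := by
  have hqB : QuadAct V B := by
    obtain ⟨g, -, hg⟩ := rop_right_mem_unipotent h.2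
    rw [hg]; exact quadAct_conj hqA g
  have ha1 : a ≠ 1 := fun e => by rw [e, orderOf_one] at hap; exact hp.one_lt.ne hap
  obtain ⟨b, hb, -, he⟩ := h.2.cond_left a ha ha1
  obtain ⟨h1, -⟩ := qr_rel h.1 hqA hqB ha hb he
  have hpt : ∀ t ∈ qMove V A, p • t ∈ qFix V (⊤ : Subgroup X) := by
    intro t ht
    have h0 : p • (a • (b • t - t) - (b • t - t)) = 0 := by
      rw [← quad_pow_smul hqA ha, ← hap, pow_orderOf_eq_one, one_smul, sub_self]
    have := AddSubgroup.nsmul_mem _ (h1 t ht) p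
    rwa [nsmul_sub, h0, sub_zero] at this
  intro a' ha'
  refine qA_center_eq_one h (pow_mem ha' p)
    (qKerMod_le_center h hqA hqB (quad_not_all h hf) fun w _ => ?_)
  rw [quad_pow_smul hqA ha']
  exact hpt _ (qMove_mem ha' w)

end pair

end CfsgLib.ThreeTransp
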