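import Mathlib
import Cfsg.Prelude.Def_GeometricClasses

/-!
A quaternion group of order eight in two by two matrices over a field of odd order: its normaliser
meets the special linear group in elements of order dividing 48, containing the three kinds of torsion.
-/

set_option autoImplicit false

namespace CfsgLib.ThreeTransp.QuatTwo

open Matrix Polynomial

variable {F : Type*} [Field F]

local notation "M2" => Matrix (Fin 2) (Fin 2) F
local notation "G2" => GL (Fin 2) F

theorem cayley (M : M2) : M * M = M.trace • M - M.det • (1 : M2) := by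
  ext i j
  fin_cases i <;> fin_cases j <;>
    simp [Matrix.mul_apply, Fin.sum_univ_two, Matrix.det_fin_two, Matrix.trace_fin_two] <;> ring

theorem scalar_of_smul {M : M2} {a b : F} (hns : ∀ z : F, M ≠ z • (1 : M2))
    (h : a • M = b • (1 : M2)) : a = 0 := by
  by_contra ha
  refine hns (a⁻¹ * b) ?_
  rw [← smul_smul, ← h, smul_smul, inv_mul_cancel₀ ha, one_smul]

/-- The commutant of a matrix which is no scalar is commutative. -/
theorem commutant {M X Y : M2} (hns : ∀ z : F, M ≠ z • (1 : M2)) (hX : M * X = X * M)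
    (hY : M * Y = Y * M) : X * Y = Y * X := by
  have key : ∀ Z : M2, M * Z = Z * M → ∃ a b : F, Z = a • (1 : M2) + b • M := by
    intro Z hZ
    have e00 := congrFun (congrFun hZ 0) 0
    have e01 := congrFun (congrFun hZ 0) 1
    have e10 := congrFun (congrFun hZ 1) 0
    simp only [Matrix.mul_apply, Fin.sum_univ_two] at e00 e01 e10
    by_cases h01 : M 0 1 = 0
    · by_cases h10 : M 1 0 = 0
      · have hd : M 0 0 - M 1 1 ≠ 0 := by
          intro hd
          refine hns (M 0 0) ?_
          ext i j; fin_cases i <;> fin_cases j <;> simp [h01, h10]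
          linear_combination -hd
        have z01 : Z 0 1 = 0 := by
          rw [h01] at e01
          exact (mul_eq_zero.1 (show (M 0 0 - M 1 1) * Z 0 1 = 0 by linear_combination e01)).resolve_left hd
        have z10 : Z 1 0 = 0 := by
          rw [h10] at e10
          exact (mul_eq_zero.1 (show (M 0 0 - M 1 1) * Z 1 0 = 0 by linear_combination -e10)).resolve_left hd
        refine ⟨Z 0 0 - (Z 0 0 - Z 1 1) / (M 0 0 - M 1 1) * M 0 0, (Z 0 0 - Z 1 1) / (M 0 0 - M 1 1), ?_⟩
        ext i j; fin_cases i <;> fin_cases j <;> simp [h01, h10, z01, z10] <;> (field_simp; ring)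
      · refine ⟨Z 0 0 - Z 1 0 / M 1 0 * M 0 0, Z 1 0 / M 1 0, ?_⟩
        ext i j; fin_cases i <;> fin_cases j <;> simp <;> field_simp <;>
          (first | linear_combination (0 : F) | linear_combination e10 | linear_combination -e10 | linear_combination e00 | linear_combination -e00)
    · refine ⟨Z 0 0 - Z 0 1 / M 0 1 * M 0 0, Z 0 1 / M 0 1, ?_⟩
      ext i j; fin_cases i <;> fin_cases j <;> simp <;> field_simp <;>
        (first | linear_combination (0 : F) | linear_combination e01 | linear_combination -e01 | linear_combination e00 | linear_combination -e00)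
  obtain ⟨a, b, rfl⟩ := key X hX
  obtain ⟨c, d, rfl⟩ := key Y hY
  simp only [add_mul, mul_add, smul_mul_assoc, mul_smul_comm, one_mul, mul_one, smul_smul, smul_add]
  rw [mul_comm a c, mul_comm a d, mul_comm b c, mul_comm b d]
  abel

/-- Two matrices of determinant one with equal trace, not the trace of a scalar, are conjugate. -/
theorem conj_of_trace [Fintype F] (hodd : Fintype.card F % 2 = 1) (h2 : (2 : F) ≠ 0) {x y : G2}
    (dx : (x : M2).det = 1) (dy : (y : M2).det = 1) (nx : ∀ z : F, (x : M2) ≠ z • (1 : M2))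
    (ny : ∀ z : F, (y : M2) ≠ z • (1 : M2)) (ht : (x : M2).trace = (y : M2).trace)
    (ht4 : (x : M2).trace ^ 2 ≠ 4) :
    ∃ g : G2, g ∈ Cfsg.Geo.specialLinear (Fin 2) F ∧ g⁻¹ * x * g = y := by
  set t := (x : M2).trace with htdef
  have hP : ∀ M : M2, (∀ z : F, M ≠ z • (1 : M2)) → M.det = 1 →
      ∃ P : G2, M * (P : M2) = (P : M2) * !![0, -1; 1, M.trace] := by
    intro M hM hd
    obtain ⟨a, b, hab⟩ : ∃ a b : F, M 1 0 * a ^ 2 + (M 1 1 - M 0 0) * a * b - M 0 1 * b ^ 2 ≠ 0 := by
      by_contra h
      push Not at h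
      have e1 : M 1 0 = 0 := by simpa using h 1 0
      have e2 : M 0 1 = 0 := by simpa using h 0 1
      have e3 : M 1 1 - M 0 0 = 0 := by simpa [e1, e2] using h 1 1
      refine hM (M 0 0) ?_
      ext i j; fin_cases i <;> fin_cases j <;> simp [e1, e2]
      linear_combination e3
    let P : M2 := !![a, M 0 0 * a + M 0 1 * b; b, M 1 0 * a + M 1 1 * b]
    have hPd : P.det ≠ 0 := by
      rw [Matrix.det_fin_two_of]
      intro e; exact hab (by linear_combination e)
    refine ⟨Matrix.GeneralLinearGroup.mkOfDetNeZero P hPd, ?_⟩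
    show M * P = P * _
    rw [Matrix.det_fin_two] at hd
    ext i j
    fin_cases i <;> fin_cases j <;>
      simp [P, Matrix.mul_apply, Fin.sum_univ_two, Matrix.trace_fin_two] <;>
      (first | linear_combination a * hd | linear_combination -a * hd | linear_combination b * hd | linear_combination -b * hd | ring)
  obtain ⟨P, hPx⟩ := hP _ nx dx
  obtain ⟨Q, hQy⟩ := hP _ ny dy
  rw [← ht] at hQy
  have hg0 : x * (P * Q⁻¹) = P * Q⁻¹ * y := by
    refine Units.ext ?_
    simp only [Units.val_mul]
    have h1 : (Q⁻¹ : G2).val * (y : M2) = !![0, -1; 1, t] * (Q⁻¹ : G2).val := by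
      calc (Q⁻¹ : G2).val * (y : M2)
          = (Q⁻¹ : G2).val * ((y : M2) * Q.val) * (Q⁻¹ : G2).val := by
            rw [mul_assoc, mul_assoc, Units.mul_inv, mul_one]
        _ = (Q⁻¹ : G2).val * (Q.val * !![0, -1; 1, t]) * (Q⁻¹ : G2).val := by rw [hQy]
        _ = _ := by rw [← mul_assoc, Units.inv_mul, one_mul]
    rw [mul_assoc _ _ (y : M2), h1, ← mul_assoc, ← mul_assoc, hPx]
  set d := ((P * Q⁻¹ : G2) : M2).det with hd
  have hd0 : d ≠ 0 := ((Matrix.isUnit_iff_isUnit_det _).1 (P * Q⁻¹).isUnit).ne_zero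
  obtain ⟨a, b, hab⟩ : ∃ a b : F, a ^ 2 + t * a * b + b ^ 2 = d⁻¹ := by
    have hk : (1 : F) - t ^ 2 / 4 ≠ 0 := by
      intro e
      have h4 : (4 : F) ≠ 0 := by
        rw [show (4 : F) = 2 * 2 by norm_num]; exact mul_ne_zero h2 h2
      field_simp at e
      exact ht4 (by linear_combination -e)
    obtain ⟨u, w, huw⟩ := FiniteField.exists_root_sum_quadratic (R := F) (f := X ^ 2)
      (g := C (1 - t ^ 2 / 4) * X ^ 2 - C d⁻¹) (degree_X_pow 2) (by
        rw [degree_sub_eq_left_of_degree_lt] <;> rw [degree_C_mul_X_pow 2 hk]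
        · exact (Nat.cast_ofNat).symm
        · exact degree_C_le.trans_lt (by norm_num)) hodd
    simp only [eval_add, eval_sub, eval_mul, eval_pow, eval_X, eval_C] at huw
    rw [show (4 : F) = 2 * 2 by norm_num] at huw
    exact ⟨u - t * w / 2, w, by field_simp at huw ⊢; linear_combination huw⟩
  let c : M2 := a • (1 : M2) + b • (x : M2)
  have hcd : c.det = d⁻¹ := by
    rw [← hab, htdef]
    have := dx
    rw [Matrix.det_fin_two] at this
    simp [c, Matrix.det_fin_two, Matrix.trace_fin_two]
    linear_combination b ^ 2 * this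
  let cu : G2 := Matrix.GeneralLinearGroup.mkOfDetNeZero c (by rw [hcd]; exact inv_ne_zero hd0)
  refine ⟨cu * (P * Q⁻¹), ?_, ?_⟩
  · show Matrix.GeneralLinearGroup.det (cu * (P * Q⁻¹)) = 1
    refine Units.ext ?_
    show ((cu * (P * Q⁻¹) : G2) : M2).det = 1
    rw [Units.val_mul, Matrix.det_mul, ← hd]
    show c.det * d = 1
    rw [hcd, inv_mul_cancel₀ hd0]
  · have hc : x * cu = cu * x := by
      refine Units.ext ?_
      show (x : M2) * c = c * (x : M2)
      simp [c, mul_add, add_mul]
    rw [mul_assoc, inv_mul_eq_iff_eq_mul, ← mul_assoc x, hc, mul_assoc, hg0, ← mul_assoc]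

end CfsgLib.ThreeTransp.QuatTwo
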