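import Cfsg.Prelude.Def_GeometricClasses
import Cfsg.Agent.Lib.ThreeTransp.PrimeInv
import Cfsg.Agent.Lib.Classical.Order

/-!
Semisimple matrices with characteristic polynomial over a subfield, and the index of a subfield group.
-/

set_option autoImplicit false
set_option maxHeartbeats 800000

namespace CfsgLib.ThreeTransp.Rational

open Polynomial Matrix

universe u

/-- Rank is unchanged by extension of the field. -/
theorem rank_map' {F K m : Type*} [Field F] [Field K] [Fintype m] [DecidableEq m]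
    (f : F →+* K) (A : Matrix m m F) : (A.map f).rank = A.rank := by
  classical
  obtain ⟨V, U, e, hV, hU, h⟩ := A.exists_rank_normal_form
  have h' := congrArg f.mapMatrix h
  rw [map_mul, map_mul] at h'
  have hV' := (Matrix.isUnit_iff_isUnit_det _).mp (hV.map f.mapMatrix)
  have hU' := (Matrix.isUnit_iff_isUnit_det _).mp (hU.map f.mapMatrix)
  rw [← RingHom.mapMatrix_apply, ← rank_mul_eq_right_of_isUnit_det _ _ hV',
    ← rank_mul_eq_left_of_isUnit_det _ _ hU', h', RingHom.mapMatrix_apply,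
    ← Matrix.submatrix_map, Matrix.rank_submatrix, Matrix.fromBlocks_map]
  simp only [Matrix.map_one f (map_zero f) (map_one f), Matrix.map_zero f (map_zero f)]
  rw [← diagonal_one, ← diagonal_zero, fromBlocks_diagonal, rank_diagonal]
  refine (Fintype.card_congr (Equiv.ofBijective
    (fun k => (⟨Sum.inl k, one_ne_zero⟩ : {i // Sum.elim (fun _ : Fin A.rank => (1 : K))
      (fun _ : Fin (Fintype.card m - A.rank) => 0) i ≠ 0})) ⟨fun k l e => ?_, ?_⟩)).symm.trans
    (Fintype.card_fin _)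
  · exact Sum.inl_injective (congrArg Subtype.val e)
  · rintro ⟨k | k, hk⟩
    · exact ⟨k, rfl⟩
    · exact absurd rfl hk

variable {F : Type u} [Field F] [Fintype F] (F₀ : Subfield F)

theorem mem_of_pow_card {a : F} (ha : a ^ Nat.card F₀ = a) : a ∈ F₀ := by
  classical
  haveI := Fintype.ofFinite F₀
  rw [Nat.card_eq_fintype_card] at ha
  by_contra hno
  let P : F[X] := X ^ Fintype.card F₀ - X
  have hP0 : P ≠ 0 := FiniteField.X_pow_card_sub_X_ne_zero F Fintype.one_lt_card
  let S : Finset F := insert a (Finset.univ.image (F₀.subtype : F₀ → F))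
  have hScard : S.card = Fintype.card F₀ + 1 := by
    rw [Finset.card_insert_of_notMem (by simpa using hno), Finset.card_image_of_injective _ F₀.subtype.injective,
      Finset.card_univ]
  have hroot : S.val ⊆ P.roots := fun s hs => by
    rw [mem_roots hP0]
    rcases Finset.mem_insert.1 hs with rfl | hs
    · simp [P, ha]
    · obtain ⟨t, -, rfl⟩ := Finset.mem_image.1 hs
      simp [P, ← SubmonoidClass.coe_pow, FiniteField.pow_card]
  have := card_le_degree_of_subset_roots hroot
  rw [hScard, FiniteField.X_pow_card_sub_X_natDegree_eq F Fintype.one_lt_card] at this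
  omega

/-- A product of linear factors stable under the Frobenius of the subfield comes from the subfield. -/
theorem exists_lift_of_stable {p : ℕ} [Fact p.Prime] [CharP F p] {M : Multiset F}
    (hM : M.map (fun a => a ^ Nat.card F₀) = M) :
    (M.map fun a => (X - C a : F[X])).prod ∈ Polynomial.lifts (F₀.subtype : F₀ →+* F) := by
  classical
  haveI := Fintype.ofFinite F₀
  haveI : CharP F₀ p := RingHom.charP F₀.subtype F₀.subtype.injective p
  obtain ⟨e, -, he⟩ := FiniteField.card F₀ p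
  let φ : F →+* F := iterateFrobenius F p e
  have hφ : ∀ a, φ a = a ^ Nat.card F₀ := fun a => by
    rw [Nat.card_eq_fintype_card, he]; rfl
  rw [Polynomial.lifts_iff_coeff_lifts]
  intro j
  set g := (M.map fun a => (X - C a : F[X])).prod with hg
  have hfix : g.map φ = g := by
    rw [hg, Polynomial.map_multiset_prod, Multiset.map_map]
    conv_rhs => rw [← hM, Multiset.map_map]
    refine congrArg _ (Multiset.map_congr rfl fun a _ => ?_)
    simp [hφ]
  refine ⟨⟨g.coeff j, mem_of_pow_card F₀ ?_⟩, rfl⟩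
  conv_rhs => rw [← hfix, coeff_map, hφ]

/-- Conversely. -/
theorem stable_of_map {p : ℕ} [Fact p.Prime] [CharP F p] {M : Multiset F} {g₀ : F₀[X]}
    (h : g₀.map F₀.subtype = (M.map fun a => (X - C a : F[X])).prod) :
    M.map (fun a => a ^ Nat.card F₀) = M := by
  classical
  haveI := Fintype.ofFinite F₀
  haveI : CharP F₀ p := RingHom.charP F₀.subtype F₀.subtype.injective p
  obtain ⟨e, -, he⟩ := FiniteField.card F₀ p
  let φ : F →+* F := iterateFrobenius F p e
  have hφ : ∀ a, φ a = a ^ Nat.card F₀ := fun a => by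
    rw [Nat.card_eq_fintype_card, he]; rfl
  have hcomp : φ.comp F₀.subtype = F₀.subtype := RingHom.ext fun a => by
    rw [RingHom.comp_apply, hφ, ← map_pow, Nat.card_eq_fintype_card, FiniteField.pow_card]
  have h1 := congrArg (Polynomial.map φ) h
  rw [Polynomial.map_map, hcomp, h, Polynomial.map_multiset_prod, Multiset.map_map] at h1
  have h2 := congrArg Polynomial.roots h1
  rw [roots_multiset_prod_X_sub_C,
    show (M.map (Polynomial.map φ ∘ fun a => X - C a)) = (M.map fun a => a ^ Nat.card F₀).map (fun a => X - C a) by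
      rw [Multiset.map_map]
      exact Multiset.map_congr rfl fun a _ => by simp [hφ],
    roots_multiset_prod_X_sub_C] at h2
  exact h2.symm

/-- A semisimple matrix whose characteristic polynomial is over the subfield is similar, by a matrix of
determinant one, to a matrix over the subfield. -/
theorem exists_similar {p : ℕ} [Fact p.Prime] [CharP F p] {n : ℕ} [Nonempty (Fin n)] {x : GL (Fin n) F}
    (hx : Module.End.IsSemisimple (Matrix.toLin' (x : Matrix (Fin n) (Fin n) F)))
    (hl : (x : Matrix (Fin n) (Fin n) F).charpoly ∈ Polynomial.lifts (F₀.subtype : F₀ →+* F)) :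
    ∃ (A : GL (Fin n) F₀) (P : Matrix.SpecialLinearGroup (Fin n) F),
      (x : Matrix (Fin n) (Fin n) F) * (P : Matrix (Fin n) (Fin n) F) =
        (P : Matrix (Fin n) (Fin n) F) * (A : Matrix (Fin n) (Fin n) F₀).map F₀.subtype := by
  classical
  haveI := Fintype.ofFinite F₀
  haveI : CharP F₀ p := RingHom.charP F₀.subtype F₀.subtype.injective p
  obtain ⟨g₀, hg₀, hdeg, hmon⟩ := Polynomial.lifts_and_degree_eq_and_monic hl (Matrix.charpoly_monic _)
  have hnd : g₀.natDegree = n := by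
    rw [natDegree_eq_of_degree_eq hdeg, Matrix.charpoly_natDegree_eq_dim, Fintype.card_fin]
  obtain ⟨M, hM⟩ := CfsgLib.KnownB.Semisimple.exists_charpoly g₀ hmon hnd
  have hdet : (M.map F₀.subtype).det = (x : Matrix (Fin n) (Fin n) F).det := by
    rw [Matrix.det_eq_sign_charpoly_coeff, Matrix.det_eq_sign_charpoly_coeff, Matrix.charpoly_map, hM, hg₀]
  have hM0 : M.det ≠ 0 := fun h0 => by
    refine ((Matrix.isUnit_iff_isUnit_det _).1 x.isUnit).ne_zero ?_
    rw [← hdet, ← RingHom.mapMatrix_apply, ← RingHom.map_det, h0, map_zero]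
  obtain ⟨g', hg', hg'p⟩ := CfsgLib.KnownB.Semisimple.exists_coprime_part p (Matrix.GeneralLinearGroup.mkOfDetNeZero M hM0)
  let B : GL (Fin n) F := Units.map (F₀.subtype.mapMatrix : Matrix (Fin n) (Fin n) F₀ →+* Matrix (Fin n) (Fin n) F).toMonoidHom g'
  have hB : (B : Matrix (Fin n) (Fin n) F) = (g' : Matrix (Fin n) (Fin n) F₀).map F₀.subtype := rfl
  have hBss := CfsgLib.KnownB.Semisimple.isSemisimple_of_coprime p (g := B)
    (hg'.coprime_dvd_left (orderOf_map_dvd _ g'))
  have hcp : (x : Matrix (Fin n) (Fin n) F).charpoly = (B : Matrix (Fin n) (Fin n) F).charpoly := by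
    rw [hB, Matrix.charpoly_map, hg'p, show ((Matrix.GeneralLinearGroup.mkOfDetNeZero M hM0 : GL (Fin n) F₀) :
      Matrix (Fin n) (Fin n) F₀) = M from rfl, hM, hg₀]
  obtain ⟨c, hc⟩ := isConj_iff.1 (CfsgLib.KnownB.Semisimple.isConj_of_charpoly hx hBss hcp)
  obtain ⟨C, hCx, hCdet⟩ := CfsgLib.KnownB.Semisimple.exists_det_commute hx (Matrix.GeneralLinearGroup.det c⁻¹)⁻¹
  have hd : ((C * c⁻¹ : GL (Fin n) F) : Matrix (Fin n) (Fin n) F).det = 1 := by
    rw [Units.val_mul, Matrix.det_mul]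
    have h1 : (C : Matrix (Fin n) (Fin n) F).det = (((Matrix.GeneralLinearGroup.det c⁻¹)⁻¹ : Fˣ) : F) := congrArg Units.val hCdet
    rw [h1]
    exact Units.inv_mul _
  refine ⟨g', ⟨_, hd⟩, ?_⟩
  have h2 : x * (C * c⁻¹) = C * c⁻¹ * B := by
    rw [← hc, ← mul_assoc, ← hCx]
    group
  have h3 := congrArg Units.val h2
  rwa [Units.val_mul, Units.val_mul (C * c⁻¹) B, hB] at h3

/-- Membership in the subfield group. -/
theorem mem_iff {n : ℕ} (y : Matrix.SpecialLinearGroup (Fin n) F) :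
    y ∈ (Cfsg.Geo.subfieldSubgroup F₀ 1).comap
        (Matrix.SpecialLinearGroup.toGL : Matrix.SpecialLinearGroup (Fin n) F →* GL (Fin n) F) ↔
      ∃ (A : GL (Fin n) F₀) (c : Fˣ),
        (y : Matrix (Fin n) (Fin n) F) = (c : F) • (A : Matrix (Fin n) (Fin n) F₀).map F₀.subtype := by
  haveI hnor : (Cfsg.Geo.scalars (Fin n) F).Normal := ⟨fun a ha g => by
    obtain ⟨c, hc⟩ := (Cfsg.Geo.mem_scalars_iff a).1 ha
    refine (Cfsg.Geo.mem_scalars_iff _).2 ⟨c, ?_⟩
    rw [Units.val_mul, Units.val_mul, hc, mul_smul_comm, mul_one, smul_mul_assoc, Units.mul_inv]⟩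
  rw [Subgroup.mem_comap, Cfsg.Geo.subfieldSubgroup, Subgroup.mem_map]
  constructor
  · rintro ⟨g, hg, hgy⟩
    obtain ⟨a, ⟨A, rfl⟩, s, hs, rfl⟩ := Subgroup.mem_sup_of_normal_right.1 hg
    obtain ⟨c, hc⟩ := (Cfsg.Geo.mem_scalars_iff s).1 hs
    refine ⟨A, c, ?_⟩
    have h := congrArg (fun u : GL (Fin n) F => (u : Matrix (Fin n) (Fin n) F)) hgy
    simp only [map_one, MulEquiv.coe_toMonoidHom, MulAut.one_apply, Units.val_mul, hc, mul_smul_comm, mul_one] at h
    exact h.symm
  · rintro ⟨A, c, h⟩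
    let s : GL (Fin n) F := Units.map (Matrix.scalar (Fin n) : F →+* Matrix (Fin n) (Fin n) F).toMonoidHom c
    refine ⟨Matrix.GeneralLinearGroup.map (F₀.subtype : F₀ →+* F) A * s,
      Subgroup.mul_mem_sup ⟨A, rfl⟩ ⟨c, rfl⟩, Units.ext ?_⟩
    simp only [map_one, MulEquiv.coe_toMonoidHom, MulAut.one_apply, Units.val_mul]
    refine Eq.trans ?_ h.symm
    ext i j
    simp [s, mul_diagonal, mul_comm]

/-- A matrix with rational characteristic polynomial up to a scalar is conjugate into the subfield group. -/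
theorem exists_conj_mem {p : ℕ} [Fact p.Prime] [CharP F p] {n : ℕ} (hn : 0 < n)
    (x : Matrix.SpecialLinearGroup (Fin n) F) {r : ℕ} (hr : (r : F) ≠ 0) {z : F}
    (hz : (x : Matrix (Fin n) (Fin n) F) ^ r = z • 1) {μ : F} (hμ : μ ≠ 0)
    (hl : (μ • (x : Matrix (Fin n) (Fin n) F)).charpoly ∈ Polynomial.lifts (F₀.subtype : F₀ →+* F)) :
    ∃ P : Matrix.SpecialLinearGroup (Fin n) F, P⁻¹ * x * P ∈ (Cfsg.Geo.subfieldSubgroup F₀ 1).comap
        (Matrix.SpecialLinearGroup.toGL : Matrix.SpecialLinearGroup (Fin n) F →* GL (Fin n) F) := by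
  classical
  haveI : Nonempty (Fin n) := ⟨⟨0, hn⟩⟩
  have hz0 : z ≠ 0 := fun h => by
    have := congrArg Matrix.det hz
    rw [Matrix.det_pow, x.2, one_pow, h, zero_smul, Matrix.det_zero] at this
    exact one_ne_zero this
  have hdet : (μ • (x : Matrix (Fin n) (Fin n) F)).det ≠ 0 := by
    rw [Matrix.det_smul, x.2, mul_one]; exact pow_ne_zero _ hμ
  set X₁ : GL (Fin n) F := Matrix.GeneralLinearGroup.mkOfDetNeZero _ hdet
  have hss : Module.End.IsSemisimple (Matrix.toLin' (X₁ : Matrix (Fin n) (Fin n) F)) := by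
    refine Module.End.isSemisimple_of_squarefree_aeval_eq_zero (p := X ^ r - C (μ ^ r * z))
      (separable_X_pow_sub_C _ hr (mul_ne_zero (pow_ne_zero _ hμ) hz0)).squarefree ?_
    rw [show Matrix.toLin' (X₁ : Matrix (Fin n) (Fin n) F) = Matrix.toLinAlgEquiv' (μ • (x : Matrix (Fin n) (Fin n) F))
      from rfl, aeval_algHom_apply, map_sub, map_pow, aeval_X, aeval_C, _root_.smul_pow, hz, smul_smul,
      Algebra.algebraMap_eq_smul_one, sub_self, map_zero]
  obtain ⟨A, P, hP⟩ := exists_similar F₀ (p := p) hss hl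
  refine ⟨P, (mem_iff F₀ _).2 ⟨A, (Units.mk0 μ hμ)⁻¹, ?_⟩⟩
  rw [mul_assoc, Matrix.SpecialLinearGroup.coe_mul, Matrix.SpecialLinearGroup.coe_mul, Units.val_inv_eq_inv_val,
    Units.val_mk0]
  have hP' : μ • ((x : Matrix (Fin n) (Fin n) F) * (P : Matrix (Fin n) (Fin n) F)) =
      (P : Matrix (Fin n) (Fin n) F) * (A : Matrix (Fin n) (Fin n) F₀).map F₀.subtype := by
    rw [← smul_mul_assoc]; exact hP
  rw [(eq_inv_smul_iff₀ hμ).2 hP', mul_smul_comm, ← mul_assoc, ← Matrix.SpecialLinearGroup.coe_mul, inv_mul_cancel,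
    Matrix.SpecialLinearGroup.coe_one, one_mul]

variable {r : ℕ} [Fact r.Prime]

theorem card_pow_sub_one {q₀ k j : ℕ} (hk : k.Prime) (hrk : r ≠ k) (hq₀ : 0 < q₀)
    (hord : r ∣ (q₀ ^ k) ^ j - 1 → r ∣ q₀ ^ j - 1) (hj : 0 < j) :
    ∃ M, (q₀ ^ k) ^ j - 1 = (q₀ ^ j - 1) * M ∧ ¬ r ∣ M := by
  refine ⟨∑ l ∈ Finset.range k, (q₀ ^ j) ^ l, ?_, fun hd => ?_⟩
  · have h := geom_sum_mul_add (q₀ ^ j - 1) k
    rw [Nat.sub_add_cancel (Nat.one_le_pow _ _ hq₀)] at h
    rw [← pow_mul, mul_comm k j, pow_mul, ← h, Nat.add_sub_cancel, mul_comm]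
  · have h1 : r ∣ q₀ ^ j - 1 := hord (by
      have h := geom_sum_mul_add (q₀ ^ j - 1) k
      rw [Nat.sub_add_cancel (Nat.one_le_pow _ _ hq₀)] at h
      rw [← pow_mul, mul_comm k j, pow_mul, ← h, Nat.add_sub_cancel]
      exact hd.mul_right _)
    have h2 : ((q₀ ^ j : ℕ) : ZMod r) = 1 := by
      have := (ZMod.natCast_eq_zero_iff _ r).2 h1
      rw [Nat.cast_sub (Nat.one_le_pow _ _ hq₀), Nat.cast_one, sub_eq_zero] at this
      exact this
    have h3 := (ZMod.natCast_eq_zero_iff _ r).2 hd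
    rw [Nat.cast_sum] at h3
    simp only [Nat.cast_pow] at h2 h3
    simp only [h2, one_pow, Finset.sum_const, Finset.card_range, nsmul_one] at h3
    exact hrk ((Nat.prime_dvd_prime_iff_eq Fact.out hk).1 ((ZMod.natCast_eq_zero_iff _ r).1 h3))

omit [Fact r.Prime] in
theorem index_dvd {n : ℕ} (hΩ : r ∣ ((Cfsg.Geo.subfieldSubgroup F₀ 1).comap
      (Matrix.SpecialLinearGroup.toGL : Matrix.SpecialLinearGroup (Fin n) F →* GL (Fin n) F)).index) :
    r * Nat.card (Matrix.SpecialLinearGroup (Fin n) F₀) ∣ Nat.card (Matrix.SpecialLinearGroup (Fin n) F) := by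
  classical
  set H := (Cfsg.Geo.subfieldSubgroup F₀ 1).comap
    (Matrix.SpecialLinearGroup.toGL : Matrix.SpecialLinearGroup (Fin n) F →* GL (Fin n) F) with hH
  rw [← Subgroup.card_mul_index H, mul_comm r]
  refine Nat.mul_dvd_mul ?_ hΩ
  let ι : Matrix.SpecialLinearGroup (Fin n) F₀ →* H :=
    (Matrix.SpecialLinearGroup.map F₀.subtype).codRestrict H fun A => by
      rw [hH]
      exact (mem_iff F₀ _).2 ⟨Matrix.SpecialLinearGroup.toGL A, 1, by rw [Units.val_one, one_smul]; rfl⟩
  refine Subgroup.card_dvd_of_injective ι fun A B h => Subtype.ext (Matrix.ext fun i j => ?_)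
  have h' := congrArg (fun g : H => ((g : Matrix.SpecialLinearGroup (Fin n) F) : Matrix (Fin n) (Fin n) F) i j) h
  exact Subtype.ext h'

end CfsgLib.ThreeTransp.Rational
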