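import Mathlib
import Cfsg.Agent.Lib.ThreeTransp.RootGraph

/-!
Homomorphic images of sets of abstract root subgroups.
-/

set_option autoImplicit false
set_option linter.style.haveILetI false

namespace CfsgLib.ThreeTransp

open Cfsg

variable {G H : Type*} [Group G] [Group H]

theorem map_conjBy (f : G →* H) (A : Subgroup G) (g : G) :
    (conjBy A g).map f = conjBy (A.map f) (f g) := by
  simp only [Cfsg.conjBy, Subgroup.map_map]
  congr 1
  ext x
  simp

theorem map_isMulCommutative (f : G →* H) {A : Subgroup G} (hA : IsMulCommutative A) :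
    IsMulCommutative (A.map f) := by
  refine ⟨⟨?_⟩⟩
  rintro ⟨x, a, ha, rfl⟩ ⟨y, b, hb, rfl⟩
  refine Subtype.ext ?_
  show f a * f b = f b * f a
  rw [← map_mul, ← map_mul]
  exact congrArg f (congrArg Subtype.val (hA.is_comm.comm ⟨a, ha⟩ ⟨b, hb⟩))

/-- The image of a rank one pair is a rank one pair or the two images coincide. -/
theorem rop_image (f : G →* H) {A B : Subgroup G} (h : IsRankOnePair A B) :
    IsRankOnePair (A.map f) (B.map f) ∨ A.map f = B.map f := by
  have hnorm : ∀ x ∈ A ⊔ B, ∀ n ∈ (A ⊔ B) ⊓ f.ker, x * n * x⁻¹ ∈ (A ⊔ B) ⊓ f.ker :=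
    fun x hx n hn => ⟨show x * n * x⁻¹ ∈ A ⊔ B from mul_mem (mul_mem hx (show n ∈ A ⊔ B from hn.1)) (inv_mem hx), f.normal_ker.conj_mem n hn.2 x⟩
  rcases rop_normal_dichotomy h inf_le_left hnorm with h1 | hcen
  · rcases rop_normal_dichotomy (rop_symm h) (N := (A ⊔ B) ⊓ f.ker)
      (by rw [sup_comm B A]; exact inf_le_left) (by rw [sup_comm B A]; exact hnorm) with h2 | hcen'
    · right
      have hk : ((A ⊔ B) ⊓ f.ker).map f = ⊥ := by
        rw [Subgroup.map_eq_bot_iff]; exact inf_le_right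
      have e1 := congrArg (Subgroup.map f) h1
      have e2 := congrArg (Subgroup.map f) h2
      rw [Subgroup.map_sup, Subgroup.map_sup, hk, bot_sup_eq] at e1 e2
      exact e1.trans ((sup_comm _ _).trans e2.symm)
    · exfalso
      rw [sup_comm B A] at hcen'
      obtain ⟨b, hb, hb1⟩ := rop_exists_ne_one (rop_symm h)
      refine hb1 (rop_eq_one_of_normalizes (rop_symm h) hb (conjBy_eq_self_iff.2 ?_))
      have hle : A ⊔ B ≤ Subgroup.normalizer (A : Set G) := by
        rw [← h1]
        exact sup_le (fun n hn => conjBy_eq_self_iff.1 (conjBy_of_commute fun a ha =>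
          hcen' n hn a ((le_sup_left : A ≤ A ⊔ B) ha))) Subgroup.le_normalizer
      exact hle ((le_sup_right : B ≤ A ⊔ B) hb)
  · left
    refine ⟨?_, ?_, ?_, ?_, ?_⟩
    · intro he
      obtain ⟨b, hb, hb1⟩ := rop_exists_ne_one (rop_symm h)
      have hfb : f b ∈ A.map f := by rw [he]; exact Subgroup.mem_map_of_mem f hb
      obtain ⟨a, ha, hab⟩ := hfb
      refine hb1 (rop_eq_one_of_normalizes (rop_symm h) hb ?_)
      have hn : b * a⁻¹ ∈ (A ⊔ B) ⊓ f.ker :=
        Subgroup.mem_inf.2 ⟨mul_mem ((le_sup_right : B ≤ A ⊔ B) hb)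
          (inv_mem ((le_sup_left : A ≤ A ⊔ B) (show a ∈ A from ha))),
          by rw [MonoidHom.mem_ker, map_mul, map_inv, hab, mul_inv_cancel]⟩
      calc conjBy A b = conjBy A (b * a⁻¹ * a) := by rw [inv_mul_cancel_right]
        _ = A := by
          rw [conjBy_mul, conjBy_of_mem ha]
          exact conjBy_of_commute fun x hx => hcen _ hn x ((le_sup_left : A ≤ A ⊔ B) hx)
    · haveI := h.nilpotent_left
      exact Group.nilpotent_of_surjective _ (f.subgroupMap_surjective A)
    · haveI := h.nilpotent_right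
      exact Group.nilpotent_of_surjective _ (f.subgroupMap_surjective B)
    · intro x hx hx1
      obtain ⟨a, ha, rfl⟩ := hx
      obtain ⟨b, hb, hb1, he⟩ := h.cond_left a ha fun h0 => hx1 (by rw [h0, map_one])
      refine ⟨f b, Subgroup.mem_map_of_mem f hb, fun h0 => hb1 ?_, ?_⟩
      · exact rop_eq_one_of_normalizes (rop_symm h) hb (conjBy_of_commute fun y hy =>
          hcen b ⟨(le_sup_right : B ≤ A ⊔ B) hb, MonoidHom.mem_ker.2 h0⟩ y
            ((le_sup_left : A ≤ A ⊔ B) hy))
      · rw [← map_inv, ← map_inv, ← map_conjBy, ← map_conjBy, he]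
    · intro x hx hx1
      obtain ⟨b, hb, rfl⟩ := hx
      obtain ⟨a, ha, ha1, he⟩ := h.cond_right b hb fun h0 => hx1 (by rw [h0, map_one])
      refine ⟨f a, Subgroup.mem_map_of_mem f ha, fun h0 => ha1 ?_, ?_⟩
      · exact rop_eq_one_of_normalizes h ha (conjBy_of_commute fun y hy =>
          hcen a ⟨(le_sup_left : A ≤ A ⊔ B) ha, MonoidHom.mem_ker.2 h0⟩ y
            ((le_sup_right : B ≤ A ⊔ B) hy))
      · rw [← map_inv, ← map_inv, ← map_conjBy, ← map_conjBy, he]

theorem rs_image {S : Set (Subgroup G)} (hS : IsRootSubgroupSet S)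
    (hc : IsConnectedFamily (FAdj S) S) (f : G →* H) (hf : Function.Surjective f) :
    (IsRootSubgroupSet ((fun A : Subgroup G => A.map f) '' S) ∧
      IsConnectedFamily (FAdj ((fun A : Subgroup G => A.map f) '' S))
        ((fun A : Subgroup G => A.map f) '' S)) ∨
    ∃ A ∈ S, A.map f = ⊤ := by
  have hgen : (⨆ A ∈ S, A.map f) = ⊤ := by
    rw [← Subgroup.map_top_of_surjective f hf, ← hS.generates, Subgroup.map_iSup]
    simp_rw [Subgroup.map_iSup]
  by_cases hbot : ∃ A ∈ S, A.map f = ⊥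
  · right
    obtain ⟨A, hA, hA0⟩ := hbot
    refine ⟨A, hA, hA0.trans ?_⟩
    refine (top_le_iff.1 ?_)
    rw [← hgen]
    refine iSup₂_le fun B hB => ?_
    obtain ⟨g, rfl⟩ := freach_conjugate (hc A hA B hB)
    rw [map_conjBy, hA0, conjBy_bot]
  push Not at hbot
  left
  refine ⟨⟨?_, ?_, ?_, ?_, ?_⟩, ?_⟩
  · rintro _ ⟨A, hA, rfl⟩; exact map_isMulCommutative f (hS.commutative A hA)
  · rintro _ ⟨A, hA, rfl⟩; exact hbot A hA
  · rw [iSup_image]; exact hgen
  · rintro _ ⟨A, hA, rfl⟩ h
    obtain ⟨g, rfl⟩ := hf h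
    exact ⟨conjBy A g, hS.conj_mem A hA g, map_conjBy f A g⟩
  · rintro _ ⟨A, hA, rfl⟩ _ ⟨B, hB, rfl⟩
    rcases hS.pair A hA B hB with h | h | h
    · left; rw [← Subgroup.map_commutator, h, Subgroup.map_bot]
    · rcases rop_image f h with h' | h'
      · exact Or.inr (Or.inl h')
      · left
        show ⁅A.map f, B.map f⁆ = ⊥
        rw [← h']
        refine bot_of_comm ?_
        rintro _ ⟨x, hx, rfl⟩ _ ⟨y, hy, rfl⟩
        rw [← map_mul, ← map_mul, rs_comm hS hA hx hy]
    · obtain ⟨h1, h2, h3, h4⟩ := h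
      refine Or.inr (Or.inr ⟨⟨_, h1, Subgroup.map_commutator _ _ _⟩, ?_, ?_, ?_⟩)
      · intro c hc' x hx
        rw [← Subgroup.map_commutator] at hc'
        rw [← Subgroup.map_sup] at hx
        obtain ⟨c, hc', rfl⟩ := hc'
        obtain ⟨x, hx, rfl⟩ := hx
        rw [← map_mul, ← map_mul, h2 c hc' x hx]
      · rintro _ ⟨a, ha, rfl⟩ ha1
        rw [← Subgroup.map_commutator, ← h3 a ha fun h0 => ha1 (by rw [h0, map_one]),
          MonoidHom.map_closure, ← Set.image_comp, Subgroup.coe_map, ← Set.image_comp]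
        congr 1
        refine Set.image_congr fun x _ => ?_
        simp
      · rintro _ ⟨b, hb, rfl⟩ hb1
        rw [← Subgroup.map_commutator, ← h4 b hb fun h0 => hb1 (by rw [h0, map_one]),
          MonoidHom.map_closure, ← Set.image_comp, Subgroup.coe_map, ← Set.image_comp]
        congr 1
        refine Set.image_congr fun x _ => ?_
        simp
  · rintro _ ⟨A, hA, rfl⟩ _ ⟨B, hB, rfl⟩
    have h := hc A hA B hB
    clear hB
    induction h with
    | refl => exact .refl
    | tail _ hab ih =>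
      rcases rop_image f hab.2.2 with h' | h'
      · exact ih.tail ⟨⟨_, hab.1, rfl⟩, ⟨_, hab.2.1, rfl⟩, h'⟩
      · simpa only [h'] using ih

end CfsgLib.ThreeTransp
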