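import Cfsg.Agent.Lib.ThreeTransp.RootOpposite

/-!
Lines of a set of root subgroups: uniqueness of the commutator partner on a line, transitivity, generation
by the line partners of a member and one opposite member, weak TI-subsets.
-/

set_option autoImplicit false

namespace CfsgLib.ThreeTransp

open Cfsg
open scoped commutatorElement

variable {G : Type*} [Group G] {S : Set (Subgroup G)}

theorem membersIn_conj (hS : IsRootSubgroupSet S) {U : Subgroup G} {C : Subgroup G} (g : G)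
    (hC : C ∈ membersIn S U) : conjBy C g ∈ membersIn S (conjBy U g) :=
  ⟨hS.conj_mem C hC.1 g, conjBy_le_iff.2 hC.2⟩

theorem line_conj (hS : IsRootSubgroupSet S) {A C : Subgroup G} (g : G) (h : C ∈ linePartners S A) :
    conjBy C g ∈ linePartners S (conjBy A g) := by
  obtain ⟨⟨hC, hne, hc⟩, -, hcov, hdis⟩ := h
  refine ⟨⟨hS.conj_mem C hC g, fun e => hne (conjBy_inj e),
    by rw [← conjBy_commutator, hc, conjBy_bot]⟩, ?_⟩
  rw [← conjBy_sup]
  refine ⟨fun D hD => hD.2, fun x hx hx1 => ?_, fun D hD E hE hne' => ?_⟩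
  · rw [mem_conjBy] at hx
    obtain ⟨D, hD, hmem⟩ := hcov _ hx fun h1 => hx1 (by
      have := congrArg (fun t => g * t * g⁻¹) h1; simpa [mul_assoc] using this)
    exact ⟨_, membersIn_conj hS g hD, by rw [mem_conjBy]; exact hmem⟩
  · have hD' := membersIn_conj hS g⁻¹ hD
    have hE' := membersIn_conj hS g⁻¹ hE
    rw [conjBy_inv_conjBy] at hD' hE'
    have h0 := hdis _ hD' _ hE' (fun e => hne' (conjBy_inj e))
    rw [eq_bot_iff]
    rintro x ⟨h1, h2⟩
    have h3 : g⁻¹ * x * g ∈ conjBy D g⁻¹ ⊓ conjBy E g⁻¹ :=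
      ⟨by simpa using conj_mem_conjBy h1 g⁻¹, by simpa using conj_mem_conjBy h2 g⁻¹⟩
    rw [h0, Subgroup.mem_bot] at h3
    have := congrArg (fun t => g * t * g⁻¹) h3
    simpa [mul_assoc] using this

/-- A line member in the commutator case with a rank one partner `B` of `A` is `[A, [C, B]]`. -/
theorem line_rcc_eq (hS : IsRootSubgroupSet S) (hpart : ∀ X ∈ S, ∃ D ∈ S, IsRankOnePair X D)
    {A B C : Subgroup G} (hA : A ∈ S) (hB : B ∈ S) (hr : IsRankOnePair A B)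
    {P : Subgroup G} (hP : P ∈ linePartners S A) (hCS : C ∈ S) (hCle : C ≤ A ⊔ P)
    (hCB : RootCommutatorCase S C B) : ⁅A, ⁅C, B⁆⁆ = C := by
  have hAC : ⁅A, C⁆ = ⊥ := bot_of_comm fun x hx e he => by
    obtain ⟨a', ha', p, hp, rfl⟩ := mem_sup_of_comm (fun a' ha' p hp => comm_of_bot hP.1.2.2 ha' hp)
      (hCle he)
    rw [← mul_assoc, rs_comm hS hA hx ha', mul_assoc, comm_of_bot hP.1.2.2 hx hp, ← mul_assoc]
  obtain ⟨hFS, hFB⟩ := opposite_triangle' hS hpart hA hB hCS hr hAC hCB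
  set M := ⁅C, B⁆ with hM
  set F := ⁅A, M⁆ with hF
  have h2 : RootCommutatorCase S A M := rcc_of_mem hS hA hCB.1 hFS
  have h1 : RootCommutatorCase S F B := rcc_of_mem hS hFS hB (hFB.symm ▸ hCB.1)
  obtain ⟨c, hc, hc1⟩ := rs_exists_ne_one hS hCS
  obtain ⟨a, ha, ha1⟩ := rs_exists_ne_one hS hA
  obtain ⟨b₀, hb₀, hb₁, he⟩ := hr.cond_left a ha ha1
  have hopp : Opp A B a b₀⁻¹ := ⟨ha, ha1, inv_mem hb₀, inv_ne_one.2 hb₁, he⟩
  obtain ⟨β, hβ⟩ : ∃ β, β = b₀⁻¹ := ⟨_, rfl⟩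
  rw [← hβ] at hopp
  -- an element of `F` with the same commutator with `β`
  obtain ⟨f, hf, hfe⟩ : ∃ f ∈ F, f * β * f⁻¹ = c * β * c⁻¹ := by
    have hmem : c * β * c⁻¹ * β⁻¹ ∈ ⁅F, B⁆ := hFB ▸ rcc_mem_comm hc hopp.2.2.1
    obtain ⟨f, hf, hfe⟩ := rcc_surj (rcc_symm h1) hopp.2.2.1 hopp.2.2.2.1
      (c := (c * β * c⁻¹ * β⁻¹)⁻¹) (by rw [Subgroup.commutator_comm]; exact inv_mem hmem)
    refine ⟨f, hf, ?_⟩
    have h3 := congrArg (fun t => t⁻¹ * β) hfe
    simpa [mul_assoc] using h3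
  have hfA : ∀ x ∈ A, f * x = x * f := fun x hx =>
    rcc_central h2 hf ((le_sup_left : A ≤ A ⊔ M) hx)
  have hzA : ∀ x ∈ A, f⁻¹ * c * x = x * (f⁻¹ * c) := fun x hx =>
    (((show Commute f x from hfA x hx).inv_left).mul_left
      (show Commute c x from (comm_of_bot hAC hx hc).symm)).eq
  have hzβ : Commute (f⁻¹ * c) β := by
    show f⁻¹ * c * β = β * (f⁻¹ * c)
    calc f⁻¹ * c * β = f⁻¹ * (c * β * c⁻¹) * c := by simp [mul_assoc]
      _ = f⁻¹ * (f * β * f⁻¹) * c := by rw [hfe]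
      _ = β * (f⁻¹ * c) := by simp [mul_assoc]
  have hzB : ∀ y ∈ B, f⁻¹ * c * y = y * (f⁻¹ * c) := by
    intro y hy
    rw [← opp_swap_left (hS.commutative A hA) hopp, mem_conjBy] at hy
    have hn : Commute (f⁻¹ * c) (a * β * a) := ((show Commute _ a from hzA a ha).mul_right hzβ).mul_right
      (hzA a ha)
    have := (hn.mul_right (show Commute _ _ from hzA _ hy)).mul_right hn.inv_right
    simpa [mul_assoc] using this.eq
  obtain ⟨m, hm, hmem⟩ := rcc_mul_mem h2 ha ha1 (inv_mem hf)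
  have hline : conjBy P m ∈ linePartners S (conjBy A m) := line_conj hS m hP
  have hCm : C ≤ conjBy A m ⊔ conjBy P m := by
    rw [← conjBy_sup, ← conjBy_of_commute fun x hx =>
      rcc_central hCB hm ((le_sup_left : C ≤ C ⊔ B) hx)]
    exact conjBy_le_iff.2 hCle
  have hza : f⁻¹ * c * a = a * f⁻¹ * c := by
    rw [mul_assoc, ← comm_of_bot hAC ha hc, ← mul_assoc,
      ((show Commute f a from hfA a ha).inv_left).eq]
  have hne : f⁻¹ * c * a ≠ 1 := fun h => by
    apply ha1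
    refine rop_eq_one_of_normalizes hr ha (conjBy_of_commute fun y hy => ?_)
    rw [eq_inv_of_mul_eq_one_right h]
    exact ((show Commute (f⁻¹ * c) y from hzB y hy).inv_left).eq
  obtain ⟨E, hE, hzE⟩ := hline.2.2.1 _
    (show f⁻¹ * c * a ∈ conjBy A m ⊔ conjBy P m from hza ▸ mul_mem
      ((le_sup_left : conjBy A m ≤ conjBy A m ⊔ conjBy P m) hmem) (hCm hc)) hne
  have hz1 := (rs_mul_eq hS hA hB hE.1 hr (fun x hx => commute_sup hzA hzB x hx) ha ha1 hzE).1
  rw [inv_mul_eq_one] at hz1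
  obtain ⟨D, hD, hrD⟩ := hpart C hCS
  exact rs_inter hS hCS hD hFS hrD hc (hz1 ▸ hf) hc1


/-- Every line through a member carries a commutator case with each rank one partner. -/
theorem line_structure (hS : IsRootSubgroupSet S) (hpart : ∀ X ∈ S, ∃ D ∈ S, IsRankOnePair X D)
    {A B P : Subgroup G} (hA : A ∈ S) (hB : B ∈ S) (hr : IsRankOnePair A B)
    (hP : P ∈ linePartners S A) :
    ∃ C, C ∈ linePartners S A ∧ RootCommutatorCase S C B ∧ ⁅A, ⁅C, B⁆⁆ = C ∧ A ⊔ P = A ⊔ C ∧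
      membersIn S (A ⊔ P) = (fun m : G => conjBy A m) '' ((⁅C, B⁆ : Subgroup G) : Set G) ∪ {C} := by
  obtain ⟨C, hCS, hCle, hCB, p, hp, hp1, hpC⟩ : ∃ C ∈ S, C ≤ A ⊔ P ∧ RootCommutatorCase S C B ∧
      ∃ p ∈ P, p ≠ 1 ∧ p ∈ A ⊔ C := by
    rcases hS.pair P hP.1.1 B hB with hc | hrP | hcc
    · exact absurd hc (line_not_commute hS hA hB hr hP hP.1.1 le_sup_right hP.1.2.1)
    swap
    · obtain ⟨x, hx, hx1⟩ := rs_exists_ne_one hS hP.1.1
      exact ⟨P, hP.1.1, le_sup_right, hcc, x, hx, hx1, (le_sup_right : P ≤ A ⊔ P) hx⟩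
    obtain ⟨b, hb, hb1⟩ := rop_exists_ne_one (rop_symm hr)
    have hmodel : ∀ {E : Subgroup G}, IsRankOnePair E B → ∃ x ∈ E, conjBy E b = conjBy B x := by
      intro E hE
      have hmem : conjBy E b ∈ unipotentSubgroups E B :=
        conjBy_mem_unipotent (left_mem_unipotent E B) ((le_sup_right : B ≤ E ⊔ B) hb)
      rcases (rop_mem_unipotent_iff hE).1 hmem with h | h
      · exact absurd (rop_eq_one_of_normalizes (rop_symm hE) hb h) hb1
      · exact h
    obtain ⟨a, ha, hae⟩ := hmodel hr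
    obtain ⟨p, hp, hpe⟩ := hmodel hrP
    have hcomm : ⁅B, conjBy B (a⁻¹ * p)⁆ = ⊥ := by
      have h1 := congrArg (fun C => conjBy C b) hP.1.2.2
      simp only [conjBy_commutator, conjBy_bot] at h1
      rw [hae, hpe] at h1
      have h2 := congrArg (fun C => conjBy C a⁻¹) h1
      simp only [conjBy_commutator, conjBy_bot, conjBy_inv_conjBy, ← conjBy_mul] at h2
      simpa [conjBy_one] using h2
    have hp1 : p ≠ 1 := fun h => by
      rw [h, conjBy_one] at hpe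
      exact hrP.ne (conjBy_inj (g := b) (hpe.trans (conjBy_of_mem hb).symm))
    have hn1 : a⁻¹ * p ≠ 1 := fun h => by
      rw [inv_mul_eq_one] at h
      exact hP.1.2.1 (conjBy_inj ((hpe.trans (by rw [h])).trans hae.symm))
    obtain ⟨E, hE, hmem⟩ := hP.2.2.1 _
      (mul_mem (inv_mem ((le_sup_left : A ≤ A ⊔ P) ha)) ((le_sup_right : P ≤ A ⊔ P) hp)) hn1
    have hnr : ¬ IsRankOnePair E B := fun hEr => by
      have hne : B ≠ conjBy B (a⁻¹ * p) := fun h => hn1 (rop_eq_one_of_normalizes hEr hmem h.symm)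
      exact rop_commutator_ne_bot (rop_of_mem_mem hEr (rop_right_mem_unipotent hEr)
        (conjBy_mem_unipotent (rop_right_mem_unipotent hEr) ((le_sup_left : E ≤ E ⊔ B) hmem)) hne).1
        hcomm
    have hEA : E ≠ A := fun h => hnr (h ▸ hr)
    rcases hS.pair E hE.1 B hB with hc | h | hcc
    · exact absurd hc (line_not_commute hS hA hB hr hP hE.1 hE.2 hEA)
    · exact absurd h hnr
    · refine ⟨E, hE.1, hE.2, hcc, p, hp, hp1, ?_⟩
      rw [show p = a * (a⁻¹ * p) by simp]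
      exact mul_mem ((le_sup_left : A ≤ A ⊔ E) ha) ((le_sup_right : E ≤ A ⊔ E) hmem)
  have hF := line_rcc_eq hS hpart hA hB hr hP hCS hCle hCB
  have h2 : RootCommutatorCase S A ⁅C, B⁆ := rcc_of_mem hS hA hCB.1 (hF.symm ▸ hCS)
  have hmem := rcc_membersIn hS hA (hpart A hA) h2
  rw [hF] at hmem
  have hPle : P ≤ A ⊔ C := by
    obtain ⟨E, hE, hpE⟩ := (rcc_partition hS hA (hpart A hA) h2).2.1 p (hF.symm ▸ hpC) hp1
    obtain ⟨D, hD, hrD⟩ := hpart E hE.1
    rw [rs_inter hS hE.1 hD hP.1.1 hrD hpE hp hp1]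
    exact hE.2.trans (le_of_eq (by rw [hF]))
  have hsup : A ⊔ P = A ⊔ C := le_antisymm (sup_le le_sup_left hPle) (sup_le le_sup_left hCle)
  have hline := rcc_line hS hA (hpart A hA) h2
  rw [hF] at hline
  exact ⟨C, line_symm hCS hline, hCB, hF, hsup, by rw [hsup, hmem]⟩

end CfsgLib.ThreeTransp
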