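import Cfsg.Agent.Lib.ThreeTransp.RootQuasisimple
import Cfsg.Agent.Lib.ThreeTransp.Quadratic

/-!
A line through a member and its rank one partners: commutator partners on the line, specialness.
-/

set_option autoImplicit false

namespace CfsgLib.ThreeTransp

open Cfsg
open scoped commutatorElement

variable {G : Type*} [Group G] {S : Set (Subgroup G)}

theorem line_symm {A C : Subgroup G} (hA : A ∈ S) (h : C ∈ linePartners S A) :
    A ∈ linePartners S C := by
  obtain ⟨⟨-, hne, hc⟩, hpart⟩ := h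
  exact ⟨⟨hA, hne.symm, comm_bot_symm hc⟩, by rwa [sup_comm]⟩

/-- No member on a line through `A` commutes with a rank one partner of `A`. -/
theorem line_not_commute (hS : IsRootSubgroupSet S) {A B P E : Subgroup G} (hA : A ∈ S) (hB : B ∈ S)
    (hr : IsRankOnePair A B) (hP : P ∈ linePartners S A) (hE : E ∈ S) (hEle : E ≤ A ⊔ P)
    (hne : E ≠ A) : ⁅E, B⁆ ≠ ⊥ := by
  intro hc
  have hAP : ∀ p ∈ P, ∀ a ∈ A, p * a = a * p := fun p hp a ha => (comm_of_bot hP.1.2.2 ha hp).symm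
  obtain ⟨e, he, he1⟩ := rs_exists_ne_one hS hE
  obtain ⟨a, ha, ha1⟩ := rs_exists_ne_one hS hA
  have heA : ∀ x ∈ A, e * x = x * e := by
    intro x hx
    obtain ⟨a', ha', p, hp, rfl⟩ := mem_sup_of_comm
      (fun a' ha' p hp => (hAP p hp a' ha').symm) (hEle he)
    calc a' * p * x = a' * (x * p) := by rw [mul_assoc, hAP p hp x hx]
      _ = x * (a' * p) := by rw [← mul_assoc, rs_comm hS hA ha' hx, mul_assoc]
  have hne1 : e * a ≠ 1 := fun h => hne (rs_inter hS hA hB hE hr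
    (show e ∈ A by rw [eq_inv_of_mul_eq_one_left h]; exact inv_mem ha) he he1)
  obtain ⟨C, hC, hmem⟩ := hP.2.2.1 (e * a) (mul_mem (hEle he) ((le_sup_left : A ≤ A ⊔ P) ha)) hne1
  exact he1 (rs_mul_eq hS hA hB hC.1 hr
    (fun x hx => commute_sup heA (fun b hb => comm_of_bot hc he hb) x hx) ha ha1 hmem).1

/-- On every line through `A` some member is in the commutator case with a rank one partner of `A`. -/
theorem line_exists_rcc (hS : IsRootSubgroupSet S) {A B P : Subgroup G} (hA : A ∈ S) (hB : B ∈ S)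
    (hr : IsRankOnePair A B) (hP : P ∈ linePartners S A) :
    ∃ E ∈ membersIn S (A ⊔ P), E ≠ A ∧ RootCommutatorCase S E B := by
  by_contra hno
  push Not at hno
  have hall : ∀ E ∈ membersIn S (A ⊔ P), IsRankOnePair E B := by
    intro E hE
    by_cases hEA : E = A
    · rw [hEA]; exact hr
    · rcases hS.pair E hE.1 B hB with hc | hr' | hcc
      · exact absurd hc (line_not_commute hS hA hB hr hP hE.1 hE.2 hEA)
      · exact hr'
      · exact absurd hcc (hno E hE hEA)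
  have hrP : IsRankOnePair P B := hall P ⟨hP.1.1, le_sup_right⟩
  obtain ⟨b, hb, hb1⟩ := rop_exists_ne_one (rop_symm hr)
  have hmodel : ∀ {E : Subgroup G}, IsRankOnePair E B → ∃ x ∈ E, conjBy E b = conjBy B x := by
    intro E hE
    have hmem : conjBy E b ∈ unipotentSubgroups E B :=
      conjBy_mem_unipotent (left_mem_unipotent E B) ((le_sup_right : B ≤ E ⊔ B) hb)
    rcases (rop_mem_unipotent_iff hE).1 hmem with h | h
    · exact absurd (rop_eq_one_of_normalizes (rop_symm hE) hb h) hb1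
    · exact h
  obtain ⟨a, ha, hae⟩ := hmodel hr
  obtain ⟨p, hp, hpe⟩ := hmodel hrP
  have hcomm : ⁅B, conjBy B (a⁻¹ * p)⁆ = ⊥ := by
    have h1 := congrArg (fun C => conjBy C b) hP.1.2.2
    simp only [conjBy_commutator, conjBy_bot] at h1
    rw [hae, hpe] at h1
    have h2 := congrArg (fun C => conjBy C a⁻¹) h1
    simp only [conjBy_commutator, conjBy_bot, conjBy_inv_conjBy, ← conjBy_mul] at h2
    simpa [conjBy_one] using h2
  have hn1 : a⁻¹ * p ≠ 1 := fun h => by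
    rw [inv_mul_eq_one] at h
    exact hP.1.2.1 (conjBy_inj ((hpe.trans (by rw [h])).trans hae.symm))
  obtain ⟨E, hE, hmem⟩ := hP.2.2.1 _
    (mul_mem (inv_mem ((le_sup_left : A ≤ A ⊔ P) ha)) ((le_sup_right : P ≤ A ⊔ P) hp)) hn1
  have hne : B ≠ conjBy B (a⁻¹ * p) := fun h =>
    hn1 (rop_eq_one_of_normalizes (hall E hE) hmem h.symm)
  exact rop_commutator_ne_bot (rop_of_mem_mem (hall E hE) (rop_right_mem_unipotent (hall E hE))
    (conjBy_mem_unipotent (rop_right_mem_unipotent (hall E hE)) ((le_sup_left : E ≤ E ⊔ B) hmem)) hne).1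
    hcomm

/-- A commutator partner of `B` commuting with `A` gives an opposite pair of commutators. -/
theorem opposite_triangle' (hS : IsRootSubgroupSet S) (hpart : ∀ X ∈ S, ∃ D ∈ S, IsRankOnePair X D)
    {A B C : Subgroup G} (hA : A ∈ S) (hB : B ∈ S) (hC : C ∈ S) (hr : IsRankOnePair A B)
    (hAC : ⁅A, C⁆ = ⊥) (hCB : RootCommutatorCase S C B) :
    ⁅A, ⁅C, B⁆⁆ ∈ S ∧ ⁅⁅A, ⁅C, B⁆⁆, B⁆ = ⁅C, B⁆ := by
  set M := ⁅C, B⁆ with hM
  have hMS : M ∈ S := hCB.1
  have hBM : M ∈ linePartners S B := by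
    have h := rcc_line hS hB (hpart B hB) (rcc_symm hCB)
    rw [Subgroup.commutator_comm B C] at h
    exact line_symm hMS h
  have hCM : C ∈ linePartners S M := rcc_line hS hC (hpart C hC) hCB
  rcases hS.pair A hA M hMS with hc | hr' | hcc
  · exact absurd (comm_bot_symm hc)
      (line_not_commute hS hB hA (rop_symm hr) hBM hMS le_sup_right hBM.1.2.1)
  · exact absurd (comm_bot_symm hAC)
      (line_not_commute hS hMS hA (rop_symm hr') hCM hC le_sup_right hCM.1.2.1)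
  set F := ⁅A, M⁆ with hF
  have hFS : F ∈ S := hcc.1
  have hMA : RootCommutatorCase S M A := rcc_symm hcc
  have hFM : ⁅M, A⁆ = F := Subgroup.commutator_comm M A
  obtain ⟨a, ha, ha1⟩ := rs_exists_ne_one hS hA
  obtain ⟨b₀, hb₀, hb₁, he⟩ := hr.cond_left a ha ha1
  obtain ⟨β, hβ, hβe⟩ : ∃ β ∈ B, conjBy A β = conjBy B a⁻¹ := ⟨b₀⁻¹, inv_mem hb₀, he⟩
  -- the image of `M` under `a⁻¹`
  have hconj : conjBy M a⁻¹ = conjBy F β := by
    have hle : conjBy M a⁻¹ ≤ conjBy F β := by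
      rw [hM, conjBy_commutator, Subgroup.commutator_le]
      intro c₁ hc₁ v hv
      obtain ⟨c, hc, rfl⟩ : ∃ c ∈ C, c = c₁ := by
        refine ⟨c₁, ?_, rfl⟩
        rwa [conjBy_of_commute fun x hx => comm_of_bot hAC (inv_mem ha) hx] at hc₁
      rw [← hβe, mem_conjBy] at hv
      set a' := β⁻¹ * v * β with ha'
      have hm0 : c⁻¹ * (β⁻¹ * c * β) ∈ M := by
        have := rcc_mem_comm (inv_mem hc) (inv_mem hβ) (A := C) (B := B)
        simpa [hM, mul_assoc] using this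
      set m := c⁻¹ * (β⁻¹ * c * β) with hm
      have hca : c * a' = a' * c := (comm_of_bot hAC hv hc).symm
      rw [mem_conjBy]
      have hcF : ∀ f ∈ F, c * f = f * c := by
        intro f hf
        have hle : F ≤ Subgroup.centralizer ({c} : Set G) := by
          rw [hF, Subgroup.commutator_le]
          intro x hx y hy
          have h1 : x ∈ Subgroup.centralizer ({c} : Set G) :=
            Subgroup.mem_centralizer_singleton_iff.2 (comm_of_bot hAC hx hc)
          have h2 : y ∈ Subgroup.centralizer ({c} : Set G) := Subgroup.mem_centralizer_singleton_iff.2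
            (rcc_central hCB hy ((le_sup_left : C ≤ C ⊔ B) hc))
          rw [commutatorElement_def]
          exact mul_mem (mul_mem (mul_mem h1 h2) (inv_mem h1)) (inv_mem h2)
        exact (Subgroup.mem_centralizer_singleton_iff.1 (hle hf)).symm
      have hgoal : β⁻¹ * ⁅c, v⁆ * β = m * a' * m⁻¹ * a'⁻¹ := by
        have e1 : β⁻¹ * ⁅c, v⁆ * β = (c * m) * a' * (c * m)⁻¹ * a'⁻¹ := by
          simp [commutatorElement_def, m, a', mul_assoc]
        have hf : m * a' * m⁻¹ * a'⁻¹ ∈ F := hFM ▸ rcc_mem_comm hm0 hv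
        rw [e1]
        have e2 : c * m * a' * (c * m)⁻¹ * a'⁻¹ =
            c * (m * a' * m⁻¹ * a'⁻¹) * c⁻¹ * (c * a' * c⁻¹ * a'⁻¹) := by simp [mul_assoc]
        rw [e2, hca, mul_inv_cancel_right, mul_inv_cancel, mul_one, hcF _ hf, mul_inv_cancel_right]
      rw [hgoal]
      exact hFM ▸ rcc_mem_comm hm0 hv
    obtain ⟨x, hx, hx1⟩ := rs_exists_ne_one hS (hS.conj_mem M hMS a⁻¹)
    obtain ⟨D, hD, hrD⟩ := hpart _ (hS.conj_mem M hMS a⁻¹)
    exact (rs_inter hS (hS.conj_mem M hMS a⁻¹) hD (hS.conj_mem F hFS β) hrD hx (hle hx) hx1).symm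
  have hMneF : conjBy M a⁻¹ ≠ F := hFM ▸ rcc_conjBy_ne hS hMA (inv_mem ha)
  have hMF : M ∈ linePartners S F := hFM ▸ rcc_line hS hMS (hpart M hMS) hMA
  have hFBnc : ⁅F, B⁆ ≠ ⊥ := fun hc => hMneF
    (hconj.trans (conjBy_of_commute fun f hf => (comm_of_bot hc hf hβ).symm))
  rcases hS.pair F hFS B hB with hc | hr'' | hFB
  · exact absurd hc hFBnc
  · exact absurd (comm_bot_symm hBM.1.2.2)
      (line_not_commute hS hFS hB hr'' hMF hMS le_sup_right hMF.1.2.1)
  refine ⟨hFS, ?_⟩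
  obtain ⟨f, hf, hf1⟩ := rs_exists_ne_one hS hFS
  have hg : β * f * β⁻¹ * f⁻¹ ∈ ⁅F, B⁆ := by
    rw [Subgroup.commutator_comm]; exact rcc_mem_comm hβ hf
  have hg1 : β * f * β⁻¹ * f⁻¹ ≠ 1 := fun h => hMneF (by
    rw [mul_inv_eq_one] at h
    have h2 : f ∈ conjBy M a⁻¹ := hconj ▸ (h ▸ conj_mem_conjBy hf β)
    obtain ⟨D, hD, hrD⟩ := hpart F hFS
    exact rs_inter hS hFS hD (hS.conj_mem M hMS a⁻¹) hrD hf h2 hf1)
  have hgN : β * f * β⁻¹ * f⁻¹ ∈ M ⊔ ⁅M, A⁆ := by
    refine mul_mem ?_ (inv_mem ((le_sup_right : _ ≤ M ⊔ ⁅M, A⁆) (hFM.symm ▸ hf)))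
    exact rcc_conjBy_le (inv_mem ha) (hconj.symm ▸ conj_mem_conjBy hf β)
  obtain ⟨E, hE, hgE⟩ := (rcc_partition hS hMS (hpart M hMS) hMA).2.1 _ hgN hg1
  obtain ⟨D, hD, hrD⟩ := hpart E hE.1
  have hEq : ⁅F, B⁆ = E := rs_inter hS hE.1 hD hFB.1 hrD hgE hg hg1
  have hcenB : ∀ z ∈ ⁅F, B⁆, ∀ y ∈ B, z * y = y * z := fun z hz y hy =>
    rcc_central hFB hz ((le_sup_right : B ≤ F ⊔ B) hy)
  rw [rcc_membersIn hS hMS (hpart M hMS) hMA] at hE
  rcases hE with ⟨x, hx, hxE⟩ | hxE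
  · rw [hEq, ← hxE]
    by_cases hx1 : x = 1
    · subst hx1; exact conjBy_one M
    exfalso
    apply hFBnc
    refine bot_of_comm fun u hu y hy => ?_
    have hle : F ≤ Subgroup.centralizer ({y} : Set G) := by
      rw [← hFM, ← hMA.2.2.2 x hx hx1, Subgroup.closure_le]
      rintro _ ⟨m, hm, rfl⟩
      have h1 : m ∈ Subgroup.centralizer ({y} : Set G) := Subgroup.mem_centralizer_singleton_iff.2
        (comm_of_bot hBM.1.2.2 hy hm).symm
      have h2 : x * m⁻¹ * x⁻¹ ∈ Subgroup.centralizer ({y} : Set G) :=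
        Subgroup.mem_centralizer_singleton_iff.2 (hcenB _
          (by rw [hEq, ← hxE]; exact conj_mem_conjBy (inv_mem hm) x) y hy)
      show m * x * m⁻¹ * x⁻¹ ∈ Subgroup.centralizer ({y} : Set G)
      have := mul_mem h1 h2
      simpa [mul_assoc] using this
    exact Subgroup.mem_centralizer_singleton_iff.1 (hle hu)
  · exfalso
    rw [Set.mem_singleton_iff, hFM] at hxE
    exact hFBnc (bot_of_comm fun u hu y hy => hcenB u (by rw [hEq, hxE]; exact hu) y hy)

theorem opposite_triangle (hS : IsRootSubgroupSet S) (hpart : ∀ X ∈ S, ∃ D ∈ S, IsRankOnePair X D)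
    {A B C : Subgroup G} (hA : A ∈ S) (hB : B ∈ S) (hC : C ∈ S) (hr : IsRankOnePair A B)
    (hAC : ⁅A, C⁆ = ⊥) (hCB : RootCommutatorCase S C B) :
    ∃ F ∈ S, ⁅F, B⁆ ∈ S ∧ ⁅A, ⁅F, B⁆⁆ = F := by
  obtain ⟨h1, h2⟩ := opposite_triangle' hS hpart hA hB hC hr hAC hCB
  exact ⟨_, h1, h2.symm ▸ hCB.1, by rw [h2]⟩

/-- A rank one pair acting on a triangle is special. -/
theorem special_of_triangle (hS : IsRootSubgroupSet S) {A B F : Subgroup G} (hA : A ∈ S)
    (hB : B ∈ S) (hF : F ∈ S) (hr : IsRankOnePair A B) (hM : ⁅F, B⁆ ∈ S)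
    (hAM : ⁅A, ⁅F, B⁆⁆ = F) : IsSpecialRankOnePair A B := by
  have h1 := rcc_of_mem hS hF hB hM
  have h2 := rcc_of_mem hS hA hM (hAM.symm ▸ hF)
  set M := ⁅F, B⁆ with hMdef
  set N := F ⊔ M with hN
  have hFM : ∀ f ∈ F, ∀ m ∈ M, f * m = m * f := rcc_comm_left h1
  have hNcomm : ∀ u ∈ N, ∀ v ∈ N, u * v = v * u := by
    intro u hu v hv
    obtain ⟨f, hf, m, hm, rfl⟩ := mem_sup_of_comm hFM hu
    refine commute_sup (fun f' hf' => ?_) (fun m' hm' => ?_) v hv
    · rw [mul_assoc, ← hFM f' hf' m hm, ← mul_assoc, rs_comm hS hF hf hf', mul_assoc]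
    · rw [mul_assoc, rs_comm hS hM hm hm', ← mul_assoc, hFM f hf m' hm', mul_assoc]
  have hAF : ∀ a ∈ A, ∀ f ∈ F, a * f = f * a := fun a ha f hf =>
    (rcc_central h2 (hAM.symm ▸ hf) ((le_sup_left : A ≤ A ⊔ M) ha)).symm
  have hBM : ∀ b ∈ B, ∀ m ∈ M, b * m = m * b := fun b hb m hm =>
    (rcc_central h1 hm ((le_sup_right : B ≤ F ⊔ B) hb)).symm
  have hnorm : ∀ x ∈ A ⊔ B, ∀ n ∈ N, x * n * x⁻¹ ∈ N := by
    have key : ∀ x, (x ∈ A ∨ x ∈ B) → ∀ n ∈ N, x * n * x⁻¹ ∈ N := by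
      intro x hx n hn
      obtain ⟨f, hf, m, hm, rfl⟩ := mem_sup_of_comm hFM hn
      rw [show x * (f * m) * x⁻¹ = x * f * x⁻¹ * (x * m * x⁻¹) by simp [mul_assoc]]
      rcases hx with hx | hx
      · rw [hAF x hx f hf, mul_inv_cancel_right]
        refine mul_mem (Subgroup.mem_sup_left hf) ?_
        rw [show x * m * x⁻¹ = x * m * x⁻¹ * m⁻¹ * m by simp]
        exact mul_mem (Subgroup.mem_sup_left (hAM ▸ rcc_mem_comm hx hm)) (Subgroup.mem_sup_right hm)
      · rw [hBM x hx m hm, mul_inv_cancel_right]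
        refine mul_mem ?_ (Subgroup.mem_sup_right hm)
        rw [show x * f * x⁻¹ = x * f * x⁻¹ * f⁻¹ * f by simp]
        refine mul_mem (Subgroup.mem_sup_right ?_) (Subgroup.mem_sup_left hf)
        rw [hMdef, Subgroup.commutator_comm]; exact rcc_mem_comm hx hf
    intro x hx
    rw [Subgroup.sup_eq_closure] at hx
    refine Subgroup.closure_induction'' ?_ ?_ ?_ ?_ hx
    · exact fun g hg => key g hg
    · exact fun g hg => key g⁻¹ (hg.imp (fun h => inv_mem (show g ∈ A from h))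
        fun h => inv_mem (show g ∈ B from h))
    · intro n hn; simpa using hn
    · intro u v _ _ hu hv n hn
      rw [show u * v * n * (u * v)⁻¹ = u * (v * n * v⁻¹) * u⁻¹ by simp [mul_assoc]]
      exact hu _ (hv n hn)
  set H := A ⊔ B with hH
  letI : CommGroup N :=
    { (inferInstance : Group N) with mul_comm := fun u v => Subtype.ext (hNcomm u u.2 v v.2) }
  letI : DistribMulAction H (Additive N) :=
    { smul := fun x n => Additive.ofMul ⟨(x : G) * (n.toMul : G) * (x : G)⁻¹, hnorm x x.2 _ n.toMul.2⟩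
      one_smul := fun n => Additive.toMul.injective (Subtype.ext (by
        show ((1 : H) : G) * _ * ((1 : H) : G)⁻¹ = _
        simp))
      mul_smul := fun x y n => Additive.toMul.injective (Subtype.ext (by
        show ((x * y : H) : G) * _ * ((x * y : H) : G)⁻¹ = (x : G) * ((y : G) * _ * (y : G)⁻¹) * (x : G)⁻¹
        simp [mul_assoc]))
      smul_zero := fun x => Additive.toMul.injective (Subtype.ext (by
        show (x : G) * ((1 : N) : G) * (x : G)⁻¹ = ((1 : N) : G)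
        simp))
      smul_add := fun x u v => Additive.toMul.injective (Subtype.ext (by
        show (x : G) * ((u.toMul * v.toMul : N) : G) * (x : G)⁻¹ =
          (x : G) * (u.toMul : G) * (x : G)⁻¹ * ((x : G) * (v.toMul : G) * (x : G)⁻¹)
        simp [mul_assoc])) }
  have hle1 : A ≤ H := le_sup_left
  have hle2 : B ≤ H := le_sup_right
  have hpair : IsRankOneGroup H (A.subgroupOf H) (B.subgroupOf H) := by
    refine ⟨?_, rop_of_map H.subtype_injective ?_⟩
    · refine Subgroup.map_injective H.subtype_injective ?_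
      rw [Subgroup.map_sup, subgroupOf_map_subtype_eq hle1, subgroupOf_map_subtype_eq hle2,
        ← MonoidHom.range_eq_map, Subgroup.range_subtype]
    · rwa [subgroupOf_map_subtype_eq hle1, subgroupOf_map_subtype_eq hle2]
  have hsp := rog_quadratic_special (V := Additive N) hpair (?_ : QuadAct (Additive N) (A.subgroupOf H)) ?_
  · refine ⟨hr, fun a ha ha1 b hb hb1 he => ?_⟩
    have := hsp.2 ⟨a, hle1 ha⟩ ha (fun h => ha1 (congrArg Subtype.val h)) ⟨b, hle2 hb⟩ hb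
      (fun h => hb1 (congrArg Subtype.val h)) (by
        refine Subgroup.map_injective H.subtype_injective ?_
        rw [← conjBy_map, ← conjBy_map, subgroupOf_map_subtype_eq hle1, subgroupOf_map_subtype_eq hle2]
        exact he)
    exact congrArg Subtype.val this
  · intro a ha a' ha' n
    refine Additive.toMul.injective (Subtype.ext ?_)
    show (a' : G) * ((a : G) * (n.toMul : G) * (a : G)⁻¹ / (n.toMul : G)) * (a' : G)⁻¹ =
      (a : G) * (n.toMul : G) * (a : G)⁻¹ / (n.toMul : G)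
    rw [div_eq_mul_inv]
    obtain ⟨f, hf, m, hm, hfm⟩ := mem_sup_of_comm hFM n.toMul.2
    have e1 : (a : G) * (n.toMul : G) * (a : G)⁻¹ * (n.toMul : G)⁻¹ =
        f * ((a : G) * m * (a : G)⁻¹ * m⁻¹) * f⁻¹ := by
      rw [← hfm, ← mul_assoc (a : G) f m, hAF (a : G) ha f hf]
      simp [mul_assoc]
    have hmem : f * ((a : G) * m * (a : G)⁻¹ * m⁻¹) * f⁻¹ ∈ F :=
      mul_mem (mul_mem hf (hAM ▸ rcc_mem_comm ha hm)) (inv_mem hf)
    rw [e1, hAF (a' : G) ha' _ hmem, mul_inv_cancel_right]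
  · obtain ⟨a, ha, ha1⟩ := rs_exists_ne_one hS hA
    obtain ⟨m, hm, hne⟩ : ∃ m ∈ M, a * m * a⁻¹ * m⁻¹ ≠ 1 := by
      obtain ⟨z, hz, hz1⟩ := rs_exists_ne_one hS h2.1
      obtain ⟨m, hm, he⟩ := rcc_surj h2 ha ha1 hz
      exact ⟨m, hm, he ▸ hz1⟩
    have hfF : a * m * a⁻¹ * m⁻¹ ∈ F := hAM ▸ rcc_mem_comm ha hm
    obtain ⟨b, hb, hbf⟩ : ∃ b ∈ B, b * (a * m * a⁻¹ * m⁻¹) * b⁻¹ ≠ a * m * a⁻¹ * m⁻¹ := by
      by_contra hno
      push Not at hno
      obtain ⟨z, hz, hz1⟩ := rs_exists_ne_one hS h1.1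
      obtain ⟨b, hb, he⟩ := rcc_surj h1 hfF hne hz
      refine hz1 (he ▸ ?_)
      have := mul_inv_eq_iff_eq_mul.1 (hno b hb)
      rw [mul_inv_eq_one, mul_inv_eq_iff_eq_mul, this]
    refine ⟨⟨a, hle1 ha⟩, ⟨b, hle2 hb⟩, Additive.ofMul ⟨m, (le_sup_right : M ≤ N) hm⟩, fun h => hbf ?_⟩
    have h' := congrArg (fun t : Additive N => (t.toMul : G)) h
    change b * (a * m * a⁻¹ / m) * b⁻¹ = a * m * a⁻¹ / m at h'
    simpa [div_eq_mul_inv] using h'

theorem class_has_partners (hS : IsRootSubgroupSet S) (hcl : IsConjClassOfSubgroups S)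
    (hex : ∃ A ∈ S, ∃ B ∈ S, IsRankOnePair A B) : ∀ X ∈ S, ∃ D ∈ S, IsRankOnePair X D := by
  obtain ⟨A, hA, B, hB, hr⟩ := hex
  intro X hX
  obtain ⟨g, rfl⟩ := hcl.2 A hA X hX
  exact rs_partner_conj hS ⟨B, hB, hr⟩ g

/-- In a class containing a commutator case, every rank one partner of `A` has a commutator partner in `Λ_A`. -/
theorem class_line_rcc (hS : IsRootSubgroupSet S) (hcl : IsConjClassOfSubgroups S)
    (hcc : ∃ U ∈ S, ∃ V ∈ S, RootCommutatorCase S U V) {A B : Subgroup G} (hA : A ∈ S) (hB : B ∈ S)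
    (hr : IsRankOnePair A B) : ∃ C ∈ linePartners S A, RootCommutatorCase S C B := by
  have hpart := class_has_partners hS hcl ⟨A, hA, B, hB, hr⟩
  obtain ⟨U, hU, V, hV, hUV⟩ := hcc
  obtain ⟨g, hg⟩ := hcl.2 _ hUV.1 A hA
  have hUV' := rcc_conjBy hS hU hV hUV g
  have hbr : ⁅conjBy U g, conjBy V g⁆ = A := by rw [← conjBy_commutator, ← hg]
  have hP : conjBy U g ∈ linePartners S A := by
    have h := rcc_line hS (hS.conj_mem U hU g) (hpart _ (hS.conj_mem U hU g)) hUV'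
    rwa [hbr] at h
  obtain ⟨E, hE, hEA, hEB⟩ := line_exists_rcc hS hA hB hr hP
  refine ⟨E, ?_, hEB⟩
  have hE' := hE
  rw [← hbr, sup_comm, rcc_membersIn hS (hS.conj_mem U hU g) (hpart _ (hS.conj_mem U hU g)) hUV'] at hE'
  rcases hE' with ⟨q, hq, hqE⟩ | hqE
  · have hq' := rcc_line hS (hS.conj_mem _ (hS.conj_mem U hU g) q)
      (hpart _ (hS.conj_mem _ (hS.conj_mem U hU g) q)) (rcc_conjBy hS (hS.conj_mem U hU g) (hS.conj_mem V hV g) hUV' q)
    rw [← conjBy_commutator, hbr, conjBy_of_commute fun x hx =>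
      (rcc_central hUV' (hbr.symm ▸ hx) ((le_sup_right : _ ≤ conjBy U g ⊔ conjBy V g) hq)).symm] at hq'
    rw [← hqE]; exact hq'
  · rw [Set.mem_singleton_iff, hbr] at hqE
    exact absurd hqE hEA

theorem class_special (hS : IsRootSubgroupSet S) (hcl : IsConjClassOfSubgroups S)
    (hcc : ∃ U ∈ S, ∃ V ∈ S, RootCommutatorCase S U V) {A B : Subgroup G} (hA : A ∈ S) (hB : B ∈ S)
    (hr : IsRankOnePair A B) : IsSpecialRankOnePair A B := by
  obtain ⟨C, hC, hCB⟩ := class_line_rcc hS hcl hcc hA hB hr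
  obtain ⟨F, hF, h1, h2⟩ := opposite_triangle hS (class_has_partners hS hcl ⟨A, hA, B, hB, hr⟩) hA hB
    hC.1.1 hr hC.1.2.2 hCB
  exact special_of_triangle hS hA hB hF hr h1 h2

end CfsgLib.ThreeTransp
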