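import Cfsg.Agent.Lib.ThreeTransp.SpecialStructure
import Cfsg.Agent.Lib.ThreeTransp.RootGraph
import Cfsg.Agent.Lib.ThreeTransp.RootLine
import Cfsg.Agent.Lib.ThreeTransp.RootRestrict

/-!
The quasisimplicity criterion for groups generated by abstract root subgroups.
-/

set_option autoImplicit false

namespace CfsgLib.ThreeTransp

open Cfsg
open scoped commutatorElement

variable {G : Type*} [Group G] {S : Set (Subgroup G)}

theorem rcc_conjBy (hS : IsRootSubgroupSet S) {A B : Subgroup G} (hA : A ∈ S) (hB : B ∈ S)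
    (h : RootCommutatorCase S A B) (g : G) : RootCommutatorCase S (conjBy A g) (conjBy B g) := by
  refine rcc_of_mem hS (hS.conj_mem A hA g) (hS.conj_mem B hB g) ?_
  rw [← conjBy_commutator]
  exact hS.conj_mem _ h.1 g

theorem special_map_eq {A B : Subgroup G} (hs : IsSpecialRankOnePair A B) (hA : IsMulCommutative A)
    {H : Type*} [Group H] (f : G →* H) (hf : ∀ a ∈ A, ∀ b ∈ B, f a * f b = f b * f a) :
    A.map f = B.map f := by
  have key : ∀ a c, Opp A B a c → f a = f c := fun a c h => by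
    have h1 := congrArg f (opp_braid hs h)
    simp only [map_mul] at h1
    rw [hf a h.1 c h.2.2.1, mul_assoc, mul_assoc] at h1
    have h2 := mul_left_cancel h1
    exact mul_right_cancel (h2.trans (hf a h.1 c h.2.2.1))
  ext t
  constructor
  · rintro ⟨a, ha, rfl⟩
    by_cases ha1 : a = 1
    · rw [ha1, map_one]; exact one_mem _
    · obtain ⟨c, hc⟩ := opp_exists_left hs.1 ha ha1
      exact ⟨c, hc.2.2.1, (key a c hc).symm⟩
  · rintro ⟨b, hb, rfl⟩
    by_cases hb1 : b = 1
    · rw [hb1, map_one]; exact one_mem _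
    · obtain ⟨a, ha⟩ := opp_exists_right hs.1 hb hb1
      exact ⟨a, ha.1, key a b ha⟩

theorem perfect_pair {A B : Subgroup G} (h : IsRankOnePair A B) (hs : IsSpecialRankOnePair A B)
    (hA : IsMulCommutative A) (hB : IsMulCommutative B) (hcard : 3 < ENat.card A) :
    A ⊔ B ≤ ⁅A ⊔ B, A ⊔ B⁆ := by
  have hA' : IsMulCommutative A := hA
  have hle : ⁅A, rankOneDiagonal A B⁆ ≤ A := by
    rw [Subgroup.commutator_le]
    intro a ha t ht
    rw [commutatorElement_def, mul_assoc a t, mul_assoc a]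
    exact mul_mem ha ((Subgroup.mem_normalizer_iff.1 ht.1.2 a⁻¹).1 (inv_mem ha))
  have hM : ⁅A, rankOneDiagonal A B⁆ = A := by
    rcases sr_diag_dichotomy hs hA' _ hle (fun t ht y hy => by
      rw [← commutatorElement_def]; exact Subgroup.commutator_mem_commutator hy ht) with hM | ⟨y, hy, hall⟩
    · exact hM
    · exfalso
      refine hcard.not_ge ?_
      show Set.encard ((A : Set G)) ≤ 3
      refine (Set.encard_le_encard (t := ({1, y, y⁻¹} : Set G)) fun x hx => ?_).trans ?_
      · simpa using hall x hx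
      · refine (Set.encard_insert_le _ _).trans ?_
        refine (add_le_add (Set.encard_insert_le _ _) le_rfl).trans ?_
        rw [Set.encard_singleton]; rfl
  have hX : rankOneDiagonal A B ≤ A ⊔ B := fun t ht => ht.1.1
  have hAX : A ≤ ⁅A ⊔ B, A ⊔ B⁆ := hM.symm.le.trans (Subgroup.commutator_mono le_sup_left hX)
  obtain ⟨a, ha, ha1⟩ := rop_exists_ne_one h
  obtain ⟨c, hc⟩ := opp_exists_left h ha ha1
  have hn : a * c * a ∈ A ⊔ B := mul_mem (mul_mem (Subgroup.mem_sup_left ha)
    (Subgroup.mem_sup_right hc.2.2.1)) (Subgroup.mem_sup_left ha)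
  refine sup_le hAX ?_
  refine (opp_swap_left hA hc).symm.le.trans ((conjBy_le_iff.2 hAX).trans ?_)
  exact le_of_eq ((conjBy_commutator _ _ _).trans (by rw [conjBy_of_mem hn]))

theorem rs_quasisimple (hS : IsRootSubgroupSet S) (h2 : ∃ A ∈ S, ∃ B ∈ S, A ≠ B)
    (h1 : IsConnectedFamily (FAdj S) S)
    (h2' : ∀ A ∈ S, ∀ C ∈ S, A ≠ C → centralizingMembers S A ≠ centralizingMembers S C)
    (h3 : IsDegenerateRootSet S → ∀ A ∈ S, 3 < ENat.card A)
    (h4 : ∀ A ∈ S, ∀ B ∈ rankOnePartners S A, IsSpecialRankOnePair A B) :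
    commutator G = ⊤ ∧ IsSimpleGroup (G ⧸ Subgroup.center G) := by
  obtain ⟨⟨-, hcl⟩, A₀, hA₀, hni⟩ := rs_class_of_connected h2 h1
  have hpart : ∀ A ∈ S, ∃ D ∈ S, IsRankOnePair A D := by
    intro A hA
    obtain ⟨g, rfl⟩ := hcl A₀ hA₀ A hA
    exact rs_partner_conj hS ((rs_exists_partner_iff hA₀).1 hni) g
  have hall : ∀ N : Subgroup G, N.Normal → ∀ A ∈ S, A ≤ N → N = ⊤ := fun N hN A hA hAN => by
    refine top_le_iff.1 (hS.generates ▸ iSup₂_le fun B hB => ?_)
    obtain ⟨g, rfl⟩ := hcl A hA B hB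
    rintro _ ⟨x, hx, rfl⟩
    exact hN.conj_mem x (hAN hx) g
  have hperf : commutator G = ⊤ := by
    by_cases hdeg : IsDegenerateRootSet S
    · obtain ⟨B, hB, hr⟩ := hpart A₀ hA₀
      refine hall _ inferInstance A₀ hA₀ ?_
      exact le_sup_left.trans ((perfect_pair hr (h4 A₀ hA₀ B ⟨hB, hr⟩) (hS.commutative A₀ hA₀)
        (hS.commutative B hB) (h3 hdeg A₀ hA₀)).trans (Subgroup.commutator_mono le_top le_top))
    · simp only [IsDegenerateRootSet, not_forall, not_not] at hdeg
      obtain ⟨P, hP, Q, hQ, hc⟩ := hdeg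
      exact hall _ inferInstance _ hc.1 (Subgroup.commutator_mono le_top le_top)
  refine ⟨hperf, ?_⟩
  have hkey : ∀ N : Subgroup G, N.Normal → N = ⊤ ∨ N ≤ Subgroup.center G := by
    intro N hN
    by_contra hne
    push Not at hne
    obtain ⟨hNt, hNc⟩ := hne
    by_cases hfix : ∀ n ∈ N, ∀ A ∈ S, conjBy A n = A
    · refine hNc fun n hn => Subgroup.mem_center_iff.2 fun g => ?_
      have hle : (⨆ A ∈ S, A) ≤ Subgroup.centralizer ({n} : Set G) := iSup₂_le fun A hA a ha => by
        rw [Subgroup.mem_centralizer_singleton_iff]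
        obtain ⟨B, hB, hr⟩ := hpart A hA
        have h5 : n * a * n⁻¹ * a⁻¹ ∈ A := mul_mem
          (by have := conj_mem_conjBy ha n; rwa [hfix n hn A hA] at this) (inv_mem ha)
        have h6 : n * a * n⁻¹ * a⁻¹ ∈ N := by
          rw [mul_assoc n a, mul_assoc n]
          exact mul_mem hn (hN.conj_mem _ (inv_mem hn) a)
        have h7 := rop_eq_one_of_normalizes hr h5 (hfix _ h6 B hB)
        rw [mul_inv_eq_one, mul_inv_eq_iff_eq_mul] at h7
        exact h7.symm
      rw [hS.generates] at hle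
      exact Subgroup.mem_centralizer_singleton_iff.1 (hle (Subgroup.mem_top g))
    push Not at hfix
    obtain ⟨n₀, hn₀, P₀, hP₀, hne₀⟩ := hfix
    obtain ⟨n, hn, P, hP, E, hE, hEP, hEP'⟩ : ∃ n ∈ N, ∃ P ∈ S, ∃ E ∈ S,
        ⁅P, E⁆ = ⊥ ∧ ⁅conjBy P n, E⁆ ≠ ⊥ := by
      have hiff : ∀ P E : Subgroup G, E ≤ Subgroup.centralizer (P : Set G) ↔ ⁅P, E⁆ = ⊥ := fun P E =>
        ⟨fun h => bot_of_comm fun p hp e he => Subgroup.mem_centralizer_iff.1 (h he) p hp,
          fun h e he => Subgroup.mem_centralizer_iff.2 fun p hp => comm_of_bot h hp he⟩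
      have hne' := h2' _ (hS.conj_mem P₀ hP₀ n₀) P₀ hP₀ hne₀
      rw [Ne, Set.ext_iff, not_forall] at hne'
      obtain ⟨E, hE'⟩ := hne'
      by_cases hE : E ∈ S
      · simp only [centralizingMembers, Set.mem_setOf_eq, hE, true_and, hiff] at hE'
        by_cases hc : ⁅P₀, E⁆ = ⊥
        · exact ⟨n₀, hn₀, P₀, hP₀, E, hE, hc, fun h => hE' (iff_of_true h hc)⟩
        · refine ⟨n₀⁻¹, inv_mem hn₀, _, hS.conj_mem P₀ hP₀ n₀, E, hE, ?_, ?_⟩
          · by_contra h; exact hE' (iff_of_false h hc)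
          · rwa [conjBy_inv_conjBy]
      · exact absurd (iff_of_false (fun h => hE h.1) (fun h => hE h.1)) hE'
    set P' := conjBy P n with hP'
    have hP'S : P' ∈ S := hS.conj_mem P hP n
    have hPE : ⁅P', E⁆ ≤ N := by
      rw [Subgroup.commutator_le]
      intro p hp e he
      rw [mem_conjBy] at hp
      obtain ⟨a, ha⟩ : ∃ a, a = n⁻¹ * p * n := ⟨_, rfl⟩
      rw [← ha] at hp
      have hae := comm_of_bot hEP hp he
      have hm : p * a⁻¹ ∈ N := by
        rw [show p * a⁻¹ = n * (a * n⁻¹ * a⁻¹) by rw [ha]; simp [mul_assoc]]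
        exact mul_mem hn (hN.conj_mem _ (inv_mem hn) a)
      have h5 : ⁅p, e⁆ = (p * a⁻¹) * (e * (p * a⁻¹)⁻¹ * e⁻¹) := by
        rw [commutatorElement_def, mul_inv_rev, inv_inv, ← mul_assoc e a, ← hae]
        simp [mul_assoc]
      rw [h5]
      exact mul_mem hm (hN.conj_mem _ (inv_mem hm) e)
    rcases hS.pair P' hP'S E hE with hc | hr | hcc
    · exact hEP' hc
    swap
    · exact hNt (hall N hN _ hcc.1 hPE)
    have hs := h4 P' hP'S E ⟨hE, hr⟩
    let q := QuotientGroup.mk' N
    have hq : ∀ {U V : Subgroup G}, ⁅U, V⁆ ≤ N → ∀ u ∈ U, ∀ v ∈ V, q u * q v = q v * q u := by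
      intro U V h u hu v hv
      have : q ⁅u, v⁆ = 1 :=
        (QuotientGroup.eq_one_iff _).2 (h (Subgroup.commutator_mem_commutator hu hv))
      rwa [map_commutatorElement, commutatorElement_eq_one_iff_mul_comm] at this
    by_cases hdeg : IsDegenerateRootSet S
    · -- the pair generates a perfect group, hence lies in `N`
      refine hNt (hall N hN P' hP'S ?_)
      have hX := perfect_pair hr hs (hS.commutative P' hP'S) (hS.commutative E hE) (h3 hdeg P' hP'S)
      have hmap : ⁅(P' ⊔ E).map q, (P' ⊔ E).map q⁆ = ⊥ := by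
        rw [Subgroup.map_sup, special_map_eq hs (hS.commutative P' hP'S) q (hq hPE), sup_idem]
        refine bot_of_comm ?_
        rintro _ ⟨u, hu, rfl⟩ _ ⟨v, hv, rfl⟩
        rw [← map_mul, ← map_mul, rs_comm hS hE hu hv]
      refine le_sup_left.trans (hX.trans ?_)
      rwa [← Subgroup.map_commutator, Subgroup.map_eq_bot_iff, QuotientGroup.ker_mk'] at hmap
    · simp only [IsDegenerateRootSet, not_forall, not_not] at hdeg
      obtain ⟨U, hU, V, hV, hUV⟩ := hdeg
      obtain ⟨g, hg⟩ := hcl U hU P' hP'S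
      have hcc : RootCommutatorCase S P' (conjBy V g) := hg ▸ rcc_conjBy hS hU hV hUV g
      set C := conjBy V g with hC
      have hCS : C ∈ S := hS.conj_mem V hV g
      set D := ⁅P', C⁆ with hD
      have himg : P'.map q = E.map q := special_map_eq hs (hS.commutative P' hP'S) q (hq hPE)
      rcases hS.pair D hcc.1 E hE with hc | hr' | hcc'
      · -- a central translate of a root element
        obtain ⟨p, hp, hp1⟩ := rs_exists_ne_one hS hP'S
        obtain ⟨z, hz, hz1⟩ := rs_exists_ne_one hS hcc.1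
        obtain ⟨c, hc', hcz⟩ := rcc_surj hcc hp hp1 hz
        have hzc : ∀ x ∈ P' ⊔ E, z⁻¹ * x = x * z⁻¹ := fun x hx => by
          have h5 : z * x = x * z := commute_sup
            (fun a ha => rcc_central hcc hz ((le_sup_left : P' ≤ P' ⊔ C) ha))
            (fun e he => comm_of_bot hc hz he) x hx
          exact ((show Commute z x from h5).inv_left).eq
        have hmem : z⁻¹ * p ∈ conjBy P' c := by
          rw [show z⁻¹ * p = c * p * c⁻¹ by rw [← hcz]; simp [mul_assoc]]
          exact conj_mem_conjBy hp c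
        exact inv_ne_one.2 hz1 (rs_mul_eq hS hP'S hE (hS.conj_mem P' hP'S c) hr hzc hp hp1 hmem).1
      · -- both images agree
        have hDE : ⁅D, E⁆ ≤ N := by
          rw [Subgroup.commutator_le]
          intro u hu v hv
          obtain ⟨p, hp, hpv⟩ : q v ∈ P'.map q := himg ▸ Subgroup.mem_map_of_mem q hv
          refine (QuotientGroup.eq_one_iff _).1 ?_
          show q ⁅u, v⁆ = 1
          rw [map_commutatorElement, commutatorElement_eq_one_iff_mul_comm, ← hpv, ← map_mul,
            ← map_mul, rcc_central hcc hu ((le_sup_left : P' ≤ P' ⊔ C) hp)]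
        have himg' : D.map q = P'.map q :=
          (special_map_eq (h4 D hcc.1 E ⟨hE, hr'⟩) (hS.commutative D hcc.1) q (hq hDE)).trans himg.symm
        refine hNt (hall N hN D hcc.1 ?_)
        rw [hD, Subgroup.commutator_le]
        intro p hp c hc'
        obtain ⟨u, hu, hup⟩ : q p ∈ D.map q := himg'.symm ▸ Subgroup.mem_map_of_mem q hp
        refine (QuotientGroup.eq_one_iff _).1 ?_
        show q ⁅p, c⁆ = 1
        rw [map_commutatorElement, commutatorElement_eq_one_iff_mul_comm, ← hup, ← map_mul, ← map_mul,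
          rcc_central hcc hu ((le_sup_right : C ≤ P' ⊔ C) hc')]
      · refine hNt (hall N hN _ hcc'.1 ?_)
        rw [Subgroup.commutator_le]
        intro u hu v hv
        obtain ⟨p, hp, hpv⟩ : q v ∈ P'.map q := himg ▸ Subgroup.mem_map_of_mem q hv
        refine (QuotientGroup.eq_one_iff _).1 ?_
        show q ⁅u, v⁆ = 1
        rw [map_commutatorElement, commutatorElement_eq_one_iff_mul_comm, ← hpv, ← map_mul,
          ← map_mul, rcc_central hcc hu ((le_sup_left : P' ≤ P' ⊔ C) hp)]
  obtain ⟨B₀, -, hr₀⟩ := hpart A₀ hA₀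
  have hZ : Subgroup.center G ≠ ⊤ := fun hc => rop_not_commute_pair hr₀ fun a _ b _ =>
    (Subgroup.mem_center_iff.1 (show a ∈ Subgroup.center G by rw [hc]; trivial) b).symm
  have : Nontrivial (G ⧸ Subgroup.center G) := QuotientGroup.nontrivial_iff.2 hZ
  refine ⟨fun M hM => ?_⟩
  have hs := QuotientGroup.mk'_surjective (Subgroup.center G)
  rw [← Subgroup.map_comap_eq_self_of_surjective hs M]
  rcases hkey _ (hM.comap _) with h | h
  · right; rw [h, Subgroup.map_top_of_surjective _ hs]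
  · left; rw [Subgroup.map_eq_bot_iff, QuotientGroup.ker_mk']; exact h

end CfsgLib.ThreeTransp
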