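import Cfsg.Agent.Lib.ThreeTransp.RootInvolutions
import Cfsg.Prelude.Def_QuasithinSetup

/-!
Normal subgroups of a group generated by root involutions with connected odd product graph.
-/

set_option autoImplicit false

namespace CfsgLib.ThreeTransp

open Cfsg CfsgLib.Involutions

variable {G : Type*} [Group G] [Finite G] {D : Set G}

theorem rootClass_of_connected (hD : IsRootInvolutionSet D) (hc : IsConnectedSet (OddAdj D) D)
    {a b : G} (ha : a ∈ D) (hb : b ∈ D) : IsConj a b := by
  induction hc a ha b hb with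
  | refl => exact IsConj.refl a
  | tail _ h2 ih =>
    obtain ⟨hu, hv, -, ho⟩ := h2
    exact (ih hu).trans (isConj_of_odd_prod (hD.orderOf_eq _ hu) (hD.orderOf_eq _ hv) ho)

theorem productPartners_nonempty (hD : IsRootInvolutionSet D) (hc : IsConnectedSet (OddAdj D) D)
    (hDD : (D ∩ commutingProducts D).Nonempty) {a : G} (ha : a ∈ D) :
    ∃ b ∈ D, Commute a b ∧ a ≠ b ∧ a * b ∈ D := by
  obtain ⟨x, hx, u, hu, v, hv, huv, hne, rfl⟩ := hDD
  obtain ⟨g, rfl⟩ := isConj_iff.1 (rootClass_of_connected hD hc hu ha)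
  refine ⟨g * v * g⁻¹, hD.conj_mem v hv g, (commute_conj_iff g).2 huv, fun h => hne ?_, ?_⟩
  · have : u = v := by simpa using h
    rw [← this, invol_mul_self (hD.orderOf_eq u hu)]
  · have := hD.conj_mem _ hx g
    rwa [show g * u * g⁻¹ * (g * v * g⁻¹) = g * (u * v) * g⁻¹ by simp [mul_assoc]]

/-- A proper normal subgroup contains no non-trivial product of odd order `a (n a n⁻¹)`. -/
theorem not_odd_in_normal (hD : IsRootInvolutionSet D) (hc : IsConnectedSet (OddAdj D) D)
    (hDD : (D ∩ commutingProducts D).Nonempty) {N : Subgroup G} [hN : N.Normal]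
    (hND : ∀ d ∈ D, d ∉ N) {a n : G} (ha : a ∈ D) (hn : n ∈ N)
    (ho : Odd (orderOf (a * (n * a * n⁻¹)))) : a * (n * a * n⁻¹) = 1 := by
  by_contra hr1
  set e := n * a * n⁻¹ with he
  have heD : e ∈ D := hD.conj_mem a ha n
  let q := QuotientGroup.mk' N
  have hqe : q e = q a := by
    have : q n = 1 := (QuotientGroup.eq_one_iff n).2 hn
    simp [he, this]
  clear_value e
  have ia := hD.orderOf_eq a ha
  have ie := hD.orderOf_eq e heD
  obtain ⟨b, hb, cab, hab, habD⟩ := productPartners_nonempty hD hc hDD ha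
  have ib := hD.orderOf_eq b hb
  have hne4 : (a * e) ^ 4 ≠ 1 := fun h => hr1 (orderOf_eq_one_iff.1 (Nat.eq_one_of_dvd_coprimes
    (Nat.Coprime.pow_left 2 (Nat.coprime_two_left.2 ho)) (orderOf_dvd_of_pow_eq_one h) dvd_rfl))
  have hq2 : ∀ z, orderOf z = 2 → q z * q z = 1 := fun z hz => by
    rw [← map_mul, invol_mul_self hz, map_one]
  have hqb : q b ≠ 1 := fun h => hND b hb ((QuotientGroup.eq_one_iff b).1 h)
  have hqab : q (a * b) ≠ 1 := fun h => hND _ habD ((QuotientGroup.eq_one_iff _).1 h)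
  -- `e` does not commute with `b`
  have hneb : ¬ Commute e b := by
    intro ceb
    rcases hD.pair e heD (a * b) habD with h | h | ⟨h, -⟩
    · have h1 : Commute e a := by
        have h2 := (show Commute e (a * b) from h).mul_right ceb
        rwa [mul_assoc, invol_mul_self ib, mul_one] at h2
      exact hne4 (by
        rw [h1.symm.mul_pow, pow_mul a 2 2, pow_mul e 2 2, pow_two a, pow_two e, invol_mul_self ia,
          invol_mul_self ie, one_pow, one_mul])
    · have h3 : q (e * (a * b)) = q b := by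
        rw [map_mul, map_mul, hqe, ← mul_assoc, hq2 a ia, one_mul]
      have h4 : orderOf (q b) ∣ orderOf (e * (a * b)) := h3 ▸ orderOf_map_dvd q _
      rw [orderOf_eq_prime (pow_two (q b) ▸ hq2 b ib) hqb] at h4
      exact h.not_two_dvd_nat h4
    · apply hne4
      have h5 : Commute (e * a) b := ceb.mul_left cab
      have h6 : (e * (a * b)) ^ 4 = 1 := by rw [← h]; exact pow_orderOf_eq_one _
      rw [← mul_assoc, h5.mul_pow, pow_mul b 2 2, pow_two b, invol_mul_self ib, one_pow, mul_one] at h6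
      rw [show a * e = (e * a)⁻¹ by rw [mul_inv_rev, invol_inv ia, invol_inv ie], inv_pow, h6, inv_one]
  have h7 : q (e * b) = q (a * b) := by rw [map_mul, map_mul, hqe]
  rcases hD.pair e heD b hb with h | h | ⟨-, h⟩
  · exact hneb h
  · have h8 : orderOf (q (a * b)) ∣ orderOf (e * b) := h7 ▸ orderOf_map_dvd q _
    rw [orderOf_eq_prime (pow_two (q (a * b)) ▸ hq2 _ (hD.orderOf_eq _ habD)) hqab] at h8
    exact h.not_two_dvd_nat h8
  · refine hND _ h ((QuotientGroup.eq_one_iff _).1 ?_)
    show q ((e * b) ^ 2) = 1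
    rw [map_pow, h7, pow_two, hq2 _ (hD.orderOf_eq _ habD)]

theorem normal_le_twoZCore (hD : IsRootInvolutionSet D) (hc : IsConnectedSet (OddAdj D) D)
    (hDD : (D ∩ commutingProducts D).Nonempty) (N : Subgroup G) [hN : N.Normal]
    (hND : ∀ d ∈ D, d ∉ N) : N ≤ twoZCore G := by
  have hcm : ∀ a ∈ D, ∀ n ∈ N, a * n * a⁻¹ * n⁻¹ ∈ pCore 2 G := by
    intro a ha n hn
    set M := N ⊔ Subgroup.zpowers a with hM
    have ia := hD.orderOf_eq a ha
    have haM : a ∈ M := Subgroup.mem_sup_right (Subgroup.mem_zpowers a)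
    have hoa : orderOf (⟨a, haM⟩ : M) = 2 := by rw [Subgroup.orderOf_mk, ia]
    have ha2 : (⟨a, haM⟩ : M) ∈ pCore 2 M := mem_pCore_two hoa fun m => by
      obtain ⟨k, hk, z, hz, hm⟩ := Subgroup.mem_sup_of_normal_left.1 m.2
      obtain ⟨i, rfl⟩ := Subgroup.mem_zpowers_iff.1 hz
      refine ⟨2, Subtype.ext ?_⟩
      show _ = (1 : G)
      rw [show (2 : ℕ) ^ 2 = 4 from rfl]
      simp only [Subgroup.coe_pow, Subgroup.coe_mul, InvMemClass.coe_inv, OneMemClass.coe_one]
      rw [← hm, show k * a ^ i * a * (k * a ^ i)⁻¹ = k * a * k⁻¹ by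
        rw [mul_assoc k, ((Commute.refl a).zpow_left i).eq]; group]
      rcases hD.pair a ha _ (hD.conj_mem a ha k) with h | h | ⟨h, -⟩
      · rw [(show Commute a (k * a * k⁻¹) from h).mul_pow, pow_mul a 2 2, pow_mul _ 2 2, pow_two a,
          pow_two (k * a * k⁻¹), invol_mul_self ia, invol_mul_self (conj_invol k ia), one_pow, one_mul]
      · rw [not_odd_in_normal hD hc hDD hND ha hk h, one_pow]
      · rw [← h]; exact pow_orderOf_eq_one _
    set P := (pCore 2 M).map M.subtype with hP
    have hNM : N ≤ M := le_sup_left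
    have hmem : a * n * a⁻¹ * n⁻¹ ∈ P ⊓ N := by
      refine ⟨?_, N.mul_mem (hN.conj_mem n hn a) (N.inv_mem hn)⟩
      refine ⟨⟨a, haM⟩ * (⟨n, hNM hn⟩ * ⟨a, haM⟩⁻¹ * ⟨n, hNM hn⟩⁻¹), mul_mem ha2 ?_, ?_⟩
      · exact (pCore_normal 2 M).conj_mem _ (inv_mem ha2) _
      · simp [mul_assoc]
    have hle : P ⊓ N ≤ (pCore 2 N).map N.subtype := by
      refine CfsgLib.Base.le_map_pCore inf_le_right ?_
        ((CfsgLib.Base.isPGroup_map_pCore 2 M).to_le inf_le_left)
      intro g hg
      have hgP := CfsgLib.Base.le_normalizer_map_pCore (p := 2) M (hNM hg)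
      have hgN : g ∈ Subgroup.normalizer (N : Set G) := Subgroup.le_normalizer hg
      rw [Subgroup.mem_normalizer_iff] at hgP hgN ⊢
      exact fun h => and_congr (hgP h) (hgN h)
    exact CfsgLib.Base.map_pCore_le_of_isSubnormal hN.isSubnormal (hle hmem)
  intro n hn
  rw [twoZCore, Subgroup.mem_comap, Subgroup.mem_center_iff]
  intro g
  have hle : Subgroup.closure D ≤
      (Subgroup.centralizer ({QuotientGroup.mk' (pCore 2 G) n} : Set _)).comap
        (QuotientGroup.mk' (pCore 2 G)) := (Subgroup.closure_le _).2 fun a ha => by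
    rw [SetLike.mem_coe, Subgroup.mem_comap, Subgroup.mem_centralizer_singleton_iff]
    have h : QuotientGroup.mk' (pCore 2 G) (a * n * a⁻¹ * n⁻¹) = 1 :=
      (QuotientGroup.eq_one_iff _).2 (hcm a ha n hn)
    simp only [map_mul, map_inv] at h
    rwa [mul_inv_eq_one, mul_inv_eq_iff_eq_mul] at h
  obtain ⟨x, rfl⟩ := QuotientGroup.mk'_surjective (pCore 2 G) g
  have hx := hle (hD.generates ▸ Subgroup.mem_top x)
  exact Subgroup.mem_centralizer_singleton_iff.1 hx

theorem rootInvolutions_radical_simple (hD : IsRootInvolutionSet D)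
    (hc : IsConnectedSet (OddAdj D) D) (hDD : (D ∩ commutingProducts D).Nonempty) :
    solvableRadical G = twoZCore G ∧ IsSimpleGroup (G ⧸ twoZCore G) := by
  have hDD' := hDD
  obtain ⟨-, -, u, hu, v, hv, -, huv, -⟩ := hDD
  have hne : u ≠ v := fun h => huv (by rw [h, invol_mul_self (hD.orderOf_eq v hv)])
  have hall : ∀ N : Subgroup G, N.Normal → ∀ d ∈ D, d ∈ N → N = ⊤ := fun N hN d hd hdN => by
    refine top_le_iff.1 (hD.generates ▸ (Subgroup.closure_le _).2 fun e he => ?_)
    obtain ⟨g, rfl⟩ := isConj_iff.1 (rootClass_of_connected hD hc hd he)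
    exact hN.conj_mem d hdN g
  obtain ⟨e, -, he, hue, hoe⟩ : ∃ e, OddAdj D u e := by
    rcases (hc u hu v hv).cases_head with h | ⟨e, h, -⟩
    exacts [absurd h hne, ⟨e, h⟩]
  have iu := hD.orderOf_eq u hu
  have ie := hD.orderOf_eq e he
  -- the product of `u` and `e` is not in the core
  have hr : u * e ∉ twoZCore G := by
    intro h
    rw [twoZCore, Subgroup.mem_comap, Subgroup.mem_center_iff] at h
    have h1 := h (QuotientGroup.mk' _ u)
    rw [← map_mul, ← map_mul, ← mul_assoc, invol_mul_self iu, one_mul] at h1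
    have h2 : (u * e) * (u * e) ∈ pCore 2 G := by
      refine (QuotientGroup.eq_one_iff _).1 ?_
      show QuotientGroup.mk' (pCore 2 G) _ = 1
      rw [show u * e * (u * e) = u * e * u * e by group, map_mul _ (u * e * u) e, ← h1, ← map_mul,
        invol_mul_self ie, map_one]
    obtain ⟨k, hk⟩ := CfsgLib.Base.isPGroup_pCore 2 G ⟨_, h2⟩
    have h3 : ((u * e) * (u * e)) ^ 2 ^ k = 1 := congrArg Subtype.val hk
    rw [← pow_two, ← pow_mul] at h3
    have h4 : orderOf (u * e) ∣ 2 ^ (k + 1) := orderOf_dvd_of_pow_eq_one (by rw [pow_succ']; exact h3)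
    have h5 := Nat.eq_one_of_dvd_coprimes (Nat.Coprime.pow_left (k + 1) (Nat.coprime_two_left.2 hoe))
      h4 dvd_rfl
    rw [orderOf_eq_one_iff, mul_eq_one_iff_eq_inv, invol_inv ie] at h5
    exact hue h5
  have htop : twoZCore G ≠ ⊤ := fun h => hr (h ▸ Subgroup.mem_top _)
  have hDN : ∀ d ∈ D, d ∉ twoZCore G := fun d hd h => htop (hall _ inferInstance d hd h)
  haveI hsimp : IsSimpleGroup (G ⧸ twoZCore G) := by
    haveI : Nontrivial (G ⧸ twoZCore G) :=
      ⟨⟨QuotientGroup.mk' _ u, 1, fun h => hDN u hu ((QuotientGroup.eq_one_iff u).1 h)⟩⟩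
    refine ⟨fun M hM => ?_⟩
    have hs := QuotientGroup.mk'_surjective (twoZCore G)
    haveI := hM.comap (QuotientGroup.mk' (twoZCore G))
    by_cases hd : ∃ d ∈ D, d ∈ M.comap (QuotientGroup.mk' (twoZCore G))
    · obtain ⟨d, hd, hdM⟩ := hd
      refine Or.inr ?_
      rw [← Subgroup.map_comap_eq_self_of_surjective hs M, hall _ inferInstance d hd hdM,
        Subgroup.map_top_of_surjective _ hs]
    · push Not at hd
      refine Or.inl ?_
      rw [← Subgroup.map_comap_eq_self_of_surjective hs M, eq_bot_iff,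
        Subgroup.map_le_iff_le_comap, MonoidHom.comap_bot, QuotientGroup.ker_mk']
      exact normal_le_twoZCore hD hc hDD' _ hd
  refine ⟨le_antisymm (sSup_le fun N hN => ?_) (le_sSup ⟨inferInstance, ?_⟩), hsimp⟩
  · obtain ⟨hNn, hNs⟩ := hN
    haveI := hNn
    refine normal_le_twoZCore hD hc hDD' N fun d hd hdN => ?_
    have hNt := hall N hNn d hd hdN
    subst hNt
    haveI : Group.IsSolvable G := solvable_of_surjective (f := (Subgroup.topEquiv (G := G)).toMonoidHom)
      Subgroup.topEquiv.surjective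
    haveI : Group.IsSolvable (G ⧸ twoZCore G) :=
      solvable_of_surjective (QuotientGroup.mk'_surjective _)
    have hcm := (IsSimpleGroup.comm_iff_isSolvable (G := G ⧸ twoZCore G)).2 inferInstance
    obtain ⟨g, hg⟩ := isConj_iff.1 (rootClass_of_connected hD hc hu he)
    apply hr
    refine (QuotientGroup.eq_one_iff _).1 ?_
    show QuotientGroup.mk' _ (u * e) = 1
    rw [← hg, map_mul, map_mul, map_mul, map_inv, hcm (QuotientGroup.mk' _ g) _, mul_inv_cancel_right,
      ← map_mul, invol_mul_self iu, map_one]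
  · haveI h1 : Group.IsSolvable ↥(pCore 2 G) := by
      haveI := (CfsgLib.Base.isPGroup_pCore 2 G).isNilpotent
      infer_instance
    let f : ↥(twoZCore G) →* ↥(Subgroup.center (G ⧸ pCore 2 G)) :=
      ((QuotientGroup.mk' (pCore 2 G)).comp (twoZCore G).subtype).codRestrict _ fun x => x.2
    haveI : Group.IsSolvable ↥(Subgroup.center (G ⧸ pCore 2 G)) :=
      Group.isSolvable_of_comm fun a b => Subtype.ext (Subgroup.mem_center_iff.1 b.2 a)
    have hker : ∀ x ∈ f.ker, (x : G) ∈ pCore 2 G := fun x hx =>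
      (QuotientGroup.eq_one_iff _).1 (congrArg Subtype.val hx)
    haveI : Group.IsSolvable ↥f.ker := solvable_of_solvable_injective
      (f := ((twoZCore G).subtype.comp f.ker.subtype).codRestrict (pCore 2 G) fun x => hker x.1 x.2)
      fun a b h => Subtype.ext (Subtype.ext (show ((a : twoZCore G) : G) = b from congrArg (fun z : pCore 2 G => (z : G)) h))
    exact solvable_of_ker_le_range f.ker.subtype f (by rw [Subgroup.range_subtype])

end CfsgLib.ThreeTransp
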