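import Cfsg.Agent.Lib.ThreeTransp.RootRadical

/-!
Root involutions with connected odd product graph: members with the same odd partners commute and have
the same commuting members; on a line `{x, y, x y}` some member maps `y` to `x y` and fixes `x`.
-/

set_option autoImplicit false

namespace CfsgLib.ThreeTransp

open Cfsg CfsgLib.Involutions

variable {G : Type*} [Group G] {D : Set G}

/-- The same odd partners. -/
def SameOdd (D : Set G) (a b : G) : Prop := ∀ w, OddAdj D a w ↔ OddAdj D b w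

theorem sameOdd_symm {a b : G} (h : SameOdd D a b) : SameOdd D b a := fun w => (h w).symm

theorem sameOdd_trans {a b c : G} (h : SameOdd D a b) (h' : SameOdd D b c) : SameOdd D a c :=
  fun w => (h w).trans (h' w)

theorem four_facts {a b : G} (ha : orderOf a = 2) (hb : orderOf b = 2)
    (h : orderOf (a * b) = 4) :
    Commute ((a * b) ^ 2) a ∧ Commute ((a * b) ^ 2) b ∧ a * (a * b) ^ 2 = b * a * b ∧
      b * (a * b) ^ 2 = a * b * a ∧ a * b * a = b * (a * b) ^ 2 ∧ orderOf (b * a) = 4 ∧
      (b * a) ^ 2 = (a * b) ^ 2 := by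
  have hai := invol_inv ha
  have hbi := invol_inv hb
  have haa := invol_mul_self ha
  have hbb := invol_mul_self hb
  have h4 : (a * b) ^ 2 * (a * b) ^ 2 = 1 := by
    rw [← pow_add, show (2 + 2) = orderOf (a * b) by rw [h]]; exact pow_orderOf_eq_one _
  have hba : b * a = (a * b)⁻¹ := by rw [mul_inv_rev, hai, hbi]
  have hsq : (b * a) ^ 2 = (a * b) ^ 2 := by
    rw [hba, inv_pow]; exact inv_eq_of_mul_eq_one_right h4
  have e : b * a * b * a = a * b * a * b := by simpa [pow_two, mul_assoc] using hsq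
  have e1 : a * (a * b) ^ 2 = b * a * b := by
    rw [pow_two]; simp only [← mul_assoc]; rw [haa, one_mul]
  have e2 : b * (a * b) ^ 2 = a * b * a := by
    rw [← hsq, pow_two]; simp only [← mul_assoc]; rw [hbb, one_mul]
  refine ⟨?_, ?_, e1, e2, e2.symm, by rw [hba, orderOf_inv, h], hsq⟩
  · show (a * b) ^ 2 * a = a * (a * b) ^ 2
    rw [e1, ← hsq, pow_two]
    rw [mul_assoc (b * a), mul_assoc b a a, haa, mul_one]
  · show (a * b) ^ 2 * b = b * (a * b) ^ 2
    rw [e2, pow_two, mul_assoc (a * b), mul_assoc a b b, hbb, mul_one]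

theorem adj_not_commute (hD : IsRootInvolutionSet D) {a b : G} (h : OddAdj D a b) :
    ¬ Commute a b := by
  intro hc
  obtain ⟨ha, hb, hne, ho⟩ := h
  have h2 : (a * b) ^ 2 = 1 := by
    rw [hc.mul_pow, pow_two, pow_two, invol_mul_self (hD.orderOf_eq a ha),
      invol_mul_self (hD.orderOf_eq b hb), one_mul]
  have h1 : orderOf (a * b) = 1 := Nat.eq_one_of_dvd_coprimes
    (Nat.coprime_two_left.2 ho) (orderOf_dvd_of_pow_eq_one h2) dvd_rfl
  rw [orderOf_eq_one_iff, mul_eq_one_iff_eq_inv, invol_inv (hD.orderOf_eq b hb)] at h1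
  exact hne h1

theorem order_four_of (hD : IsRootInvolutionSet D) {a b : G} (ha : a ∈ D) (hb : b ∈ D)
    (hc : ¬ Commute a b) (hn : ¬ OddAdj D a b) : orderOf (a * b) = 4 ∧ (a * b) ^ 2 ∈ D := by
  rcases hD.pair a ha b hb with h | h | h
  · exact absurd h hc
  · exact absurd ⟨ha, hb, fun e => hc (e ▸ Commute.refl a), h⟩ hn
  · exact h

theorem four_mem (hD : IsRootInvolutionSet D) {a b : G} (ha : a ∈ D) (hb : b ∈ D)
    (h : orderOf (a * b) = 4) : (a * b) ^ 2 ∈ D := by
  rcases hD.pair a ha b hb with h' | h' | h'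
  · exfalso
    have h2 : (a * b) ^ 2 = 1 := by
      rw [(show Commute a b from h').mul_pow, pow_two, pow_two, invol_mul_self (hD.orderOf_eq a ha),
        invol_mul_self (hD.orderOf_eq b hb), one_mul]
    have := orderOf_dvd_of_pow_eq_one h2
    rw [h] at this; norm_num at this
  · rw [h] at h'; exact absurd h' (by decide)
  · exact h'.2

theorem conj_mem_inv (hD : IsRootInvolutionSet D) {a b : G} (ha : a ∈ D) (hb : b ∈ D) :
    b * a * b ∈ D := by
  have := hD.conj_mem a ha b
  rwa [invol_inv (hD.orderOf_eq b hb)] at this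

/-- On a line `{a, b, a b}` no odd partner of `a` commutes with `b`. -/
theorem line_no_commute (hD : IsRootInvolutionSet D) {a b w : G} (hb : b ∈ D) (hab : Commute a b)
    (habD : a * b ∈ D) (haw : OddAdj D a w) (hwb : Commute w b) : False := by
  have hne1 : orderOf (a * w) ≠ 1 := by
    intro h1
    rw [orderOf_eq_one_iff, mul_eq_one_iff_eq_inv, invol_inv (hD.orderOf_eq w haw.2.1)] at h1
    exact haw.2.2.1 h1
  have hc : Commute b (a * w) := hab.symm.mul_right hwb.symm
  have hord : orderOf (a * b * w) = 2 * orderOf (a * w) := by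
    have hib := hD.orderOf_eq b hb
    rw [show a * b * w = b * (a * w) by rw [hab.eq, mul_assoc],
      hc.orderOf_mul_eq_mul_orderOf_of_coprime (by rw [hib]; exact Nat.coprime_two_left.2 haw.2.2.2), hib]
  rcases hD.pair _ habD w haw.2.1 with h | h | h
  · have h2 : (a * b * w) ^ 2 = 1 := by
      rw [(show Commute (a * b) w from h).mul_pow, pow_two, pow_two,
        invol_mul_self (hD.orderOf_eq _ habD), invol_mul_self (hD.orderOf_eq w haw.2.1), one_mul]
    have h3 := orderOf_dvd_of_pow_eq_one h2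
    rw [hord] at h3
    exact hne1 (Nat.dvd_one.1 ((Nat.mul_dvd_mul_iff_left (by norm_num : 0 < 2)).1 (by simpa using h3)))
  · rw [hord] at h; exact Nat.not_odd_iff_even.2 (even_two_mul _) h
  · obtain ⟨k, hk⟩ := haw.2.2.2
    rw [hord] at h; omega

/-- If two members of a line have product of order 4 with `w`, the third is no odd partner of `w`. -/
theorem line_two_four (hD : IsRootInvolutionSet D) {a b w : G} (ha : a ∈ D) (hb : b ∈ D) (hw : w ∈ D)
    (hab : Commute a b) (h1 : orderOf (w * a) = 4) (h2 : orderOf (w * b) = 4) :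
    ¬ OddAdj D (a * b) w := by
  intro hadj
  have hwi := hD.orderOf_eq w hw
  obtain ⟨c1, -, e1, -⟩ := four_facts hwi (hD.orderOf_eq a ha) h1
  obtain ⟨c2, c3, -⟩ := four_facts hwi (hD.orderOf_eq b hb) h2
  have key : (a * b * w) ^ 2 = (w * b) * ((w * b) ^ 2 * (w * a) ^ 2) * (w * b)⁻¹ := by
    have hb3 : (w * b) * (w * b) ^ 2 = (w * b)⁻¹ := by
      refine eq_inv_of_mul_eq_one_left ?_
      rw [← pow_succ', ← pow_succ, show 2 + 1 + 1 = orderOf (w * b) by rw [h2]]
      exact pow_orderOf_eq_one _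
    rw [← mul_assoc (w * b), hb3, mul_inv_rev, invol_inv hwi, invol_inv (hD.orderOf_eq b hb),
      pow_two, pow_two]
    simp only [mul_assoc]
    rw [← mul_assoc w w, invol_mul_self hwi, one_mul, ← mul_assoc a b (w * (a * (b * w))), hab.eq,
      mul_assoc]
  have hord : orderOf ((w * b) ^ 2 * (w * a) ^ 2) = orderOf (a * b * w) := by
    rw [← orderOf_conj_eq (w * b) ((w * b) ^ 2 * (w * a) ^ 2), ← key]
    exact Nat.Coprime.orderOf_pow (Nat.coprime_two_right.2 hadj.2.2.2)
  have hv : OddAdj D ((w * a) ^ 2) ((w * b) ^ 2) := by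
    refine oddAdj_symm hD ⟨four_mem hD hw hb h2, four_mem hD hw ha h1, fun e => ?_, hord ▸ hadj.2.2.2⟩
    rw [e, invol_mul_self (hD.orderOf_eq _ (four_mem hD hw ha h1)), orderOf_one] at hord
    rw [eq_comm, orderOf_eq_one_iff, mul_eq_one_iff_eq_inv, invol_inv hwi] at hord
    exact hadj.2.2.1 hord
  refine line_no_commute hD hw c1 ?_ hv c2
  rw [c1.eq, e1]
  exact conj_mem_inv hD hw ha

theorem conj_adj_iff (hD : IsRootInvolutionSet D) {a w : G} (g : G) :
    OddAdj D (g * a * g⁻¹) w ↔ OddAdj D a (g⁻¹ * w * g) := by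
  constructor
  · intro h
    have := oddAdj_conj hD h g⁻¹
    simpa [mul_assoc] using this
  · intro h
    have := oddAdj_conj hD h g
    simpa [mul_assoc] using this

theorem sameOdd_conj (hD : IsRootInvolutionSet D) {a b : G} (h : SameOdd D a b) (g : G) :
    SameOdd D (g * a * g⁻¹) (g * b * g⁻¹) :=
  fun _ => (conj_adj_iff hD g).trans ((h _).trans (conj_adj_iff hD g).symm)

theorem sameOdd_of_subset [Finite G] (hD : IsRootInvolutionSet D) {a b : G} (h : IsConj a b)
    (hs : ∀ w, OddAdj D a w → OddAdj D b w) : SameOdd D a b := by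
  obtain ⟨g, rfl⟩ := isConj_iff.1 h
  have heq : {w | OddAdj D (g * a * g⁻¹) w} = MulAut.conj g '' {w | OddAdj D a w} := by
    ext w
    constructor
    · intro hw
      exact ⟨_, (conj_adj_iff hD g).1 hw, by simp [mul_assoc]⟩
    · rintro ⟨u, hu, rfl⟩
      exact oddAdj_conj hD hu g
  have := Set.eq_of_subset_of_ncard_le (s := {w | OddAdj D a w}) (t := {w | OddAdj D (g * a * g⁻¹) w}) hs
    (by rw [heq, Set.ncard_image_of_injective _ (MulAut.conj g).injective]) (Set.toFinite _)
  exact fun w => Set.ext_iff.1 this w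

/-- A line with two members having the same odd partners has all three. -/
theorem sameOdd_mul [Finite G] (hD : IsRootInvolutionSet D) (hc : IsConnectedSet (OddAdj D) D) {a b : G}
    (ha : a ∈ D) (hb : b ∈ D) (hab : Commute a b) (habD : a * b ∈ D) (h : SameOdd D a (a * b)) :
    SameOdd D a b := by
  refine sameOdd_symm (sameOdd_of_subset hD (rootClass_of_connected hD hc hb ha) fun w hw => ?_)
  by_contra hn
  have h3 : b * (a * b) = a := by
    rw [← mul_assoc, ← hab.eq, mul_assoc, invol_mul_self (hD.orderOf_eq b hb), mul_one]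
  have h1 : ¬ Commute w a := line_no_commute hD ha hab.symm (hab.eq ▸ habD) hw
  have h2 : ¬ Commute w (a * b) :=
    line_no_commute hD habD (hab.symm.mul_right (Commute.refl b)) (by rw [h3]; exact ha) hw
  have f1 := (order_four_of hD hw.2.1 ha h1 fun e => hn (oddAdj_symm hD e)).1
  have f2 := (order_four_of hD hw.2.1 habD h2 fun e => hn ((h w).2 (oddAdj_symm hD e))).1
  refine line_two_four hD ha habD hw.2.1 ((Commute.refl a).mul_right hab) f1 f2 ?_
  rwa [← mul_assoc, invol_mul_self (hD.orderOf_eq a ha), one_mul]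

/-- Members with the same odd partners commute. -/
theorem sameOdd_commute [Finite G] (hD : IsRootInvolutionSet D) (hc : IsConnectedSet (OddAdj D) D) {a₀ : G}
    (ha₀ : a₀ ∈ D) {b c : G} (hb : b ∈ D) (hcD : c ∈ D) (hb' : SameOdd D a₀ b) (hc' : SameOdd D a₀ c) :
    Commute b c := by
  let B : Set G := {u | u ∈ D ∧ SameOdd D a₀ u}
  have hnadj : ∀ u ∈ B, ∀ v ∈ B, ¬ OddAdj D u v := fun u hu v hv h =>
    ((hv.2 v).1 ((hu.2 v).2 h)).2.2.1 rfl
  have hclose : ∀ u ∈ B, ∀ v ∈ B, ¬ Commute u v → (u * v) ^ 2 ∈ B := by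
    intro u hu v hv huv
    obtain ⟨h4, hmem⟩ := order_four_of hD hu.1 hv.1 huv (hnadj u hu v hv)
    obtain ⟨c1, -, e1, -⟩ := four_facts (hD.orderOf_eq u hu.1) (hD.orderOf_eq v hv.1) h4
    have hs : SameOdd D u (v * u * v) := by
      have h := sameOdd_conj hD (sameOdd_trans (sameOdd_symm hu.2) hv.2) v
      rw [invol_inv (hD.orderOf_eq v hv.1), invol_mul_self (hD.orderOf_eq v hv.1), one_mul] at h
      exact sameOdd_trans (sameOdd_trans (sameOdd_symm hu.2) hv.2) (sameOdd_symm h)
    refine ⟨hmem, sameOdd_trans hu.2 (sameOdd_mul hD hc hu.1 hmem c1.symm ?_ (e1 ▸ hs))⟩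
    rw [e1]; exact conj_mem_inv hD hu.1 hv.1
  -- a member commuting with the whole class
  set K := Subgroup.closure B with hK
  have hBK : ∀ u ∈ B, u ∈ K := fun u hu => Subgroup.subset_closure hu
  have hpres : ∀ g ∈ K, ∀ u ∈ B, g * u * g⁻¹ ∈ B := by
    intro g hg
    refine Subgroup.closure_induction'' ?_ ?_ ?_ ?_ hg
    · intro v hv u hu
      have h1 := sameOdd_conj hD (sameOdd_trans (sameOdd_symm hv.2) hu.2) v
      rw [mul_inv_cancel_right] at h1
      exact ⟨hD.conj_mem u hu.1 v, sameOdd_trans hv.2 h1⟩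
    · intro v hv u hu
      rw [invol_inv (hD.orderOf_eq v hv.1)]
      have h1 := sameOdd_conj hD (sameOdd_trans (sameOdd_symm hv.2) hu.2) v
      rw [mul_inv_cancel_right] at h1
      exact ⟨hD.conj_mem u hu.1 v, sameOdd_trans hv.2 h1⟩
    · intro u hu; simpa using hu
    · intro x y _ _ hx hy u hu
      simpa [mul_assoc] using hx _ (hy u hu)
  have hP : IsPGroup 2 K := by
    have hgen : ∀ u, ∀ hu : u ∈ B, (⟨u, hBK u hu⟩ : K) ∈ pCore 2 K := by
      intro u hu
      refine mem_pCore_two (by rw [← Subgroup.orderOf_coe]; exact hD.orderOf_eq u hu.1) fun g => ⟨2, ?_⟩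
      exact Subtype.ext (pow_four_of_not_adj hD hu.1 (hpres g g.2 u hu).1
        (hnadj u hu _ (hpres g g.2 u hu)))
    have htop : pCore 2 K = ⊤ := by
      refine top_le_iff.1 fun g _ => ?_
      have hle : K ≤ (pCore 2 K).map K.subtype := by
        rw [hK, Subgroup.closure_le]
        exact fun u hu => ⟨_, hgen u hu, rfl⟩
      obtain ⟨g', hg', he⟩ := hle g.2
      exact (Subtype.ext he : g' = g) ▸ hg'
    exact (htop ▸ CfsgLib.Base.isPGroup_pCore 2 K).of_equiv Subgroup.topEquiv
  haveI : Group.IsNilpotent K := hP.isNilpotent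
  obtain ⟨n, hn⟩ := (Subgroup.isNilpotent_iff_lowerCentralSeries K).1 inferInstance
  obtain ⟨b₀, hb₀, hcent⟩ : ∃ b₀ ∈ B, ∀ v ∈ B, Commute b₀ v := by
    classical
    have hex : ∃ k, ∀ u ∈ B, u ∉ K.lowerCentralSeries k :=
      ⟨n, fun u hu h => invol_ne_one (hD.orderOf_eq u hu.1) (by rw [hn] at h; exact Subgroup.mem_bot.1 h)⟩
    have h0 : Nat.find hex ≠ 0 := fun e => by
      have := Nat.find_spec hex b ⟨hb, hb'⟩
      rw [e, Subgroup.lowerCentralSeries_zero] at this
      exact this (hBK b ⟨hb, hb'⟩)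
    obtain ⟨k, hk⟩ := Nat.exists_eq_succ_of_ne_zero h0
    have hlt : ¬ ∀ u ∈ B, u ∉ K.lowerCentralSeries k := Nat.find_min hex (by omega)
    push Not at hlt
    obtain ⟨b₀, hb₀, hmem⟩ := hlt
    refine ⟨b₀, hb₀, fun v hv => ?_⟩
    by_contra hne
    refine Nat.find_spec hex _ (hclose b₀ hb₀ v hv hne) ?_
    rw [hk, Subgroup.lowerCentralSeries_succ, pow_two, ← mul_assoc]
    have := Subgroup.commutator_mem_commutator hmem (hBK v hv)
    rwa [commutatorElement_def, invol_inv (hD.orderOf_eq b₀ hb₀.1), invol_inv (hD.orderOf_eq v hv.1)] at this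
  obtain ⟨g, hg⟩ := isConj_iff.1 (rootClass_of_connected hD hc hb₀.1 hb)
  have hcB : g⁻¹ * c * g ∈ B := by
    have h1 := sameOdd_conj hD (sameOdd_trans (sameOdd_symm hb') hc') g⁻¹
    rw [inv_inv, show g⁻¹ * b * g = b₀ by rw [← hg]; simp [mul_assoc]] at h1
    exact ⟨by simpa using hD.conj_mem c hcD g⁻¹, sameOdd_trans hb₀.2 h1⟩
  have h := (commute_conj_iff g).2 (hcent _ hcB)
  rwa [hg, show g * (g⁻¹ * c * g) * g⁻¹ = c by simp [mul_assoc]] at h

theorem invol_normalizer {K : Subgroup G} {S : Set G} (hK : K = Subgroup.closure S) {g : G} (hg : orderOf g = 2)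
    (h : ∀ s ∈ S, g * s * g⁻¹ ∈ K) : g ∈ Subgroup.normalizer (K : Set G) := by
  have h1 : ∀ u ∈ K, g * u * g⁻¹ ∈ K := by
    have hle : K ≤ K.comap (MulAut.conj g).toMonoidHom := by
      conv_lhs => rw [hK]
      exact (Subgroup.closure_le _).2 h
    exact fun u hu => hle hu
  rw [Subgroup.mem_normalizer_iff]
  refine fun u => ⟨h1 u, fun hu => ?_⟩
  have h2 := h1 _ hu
  rwa [show g * (g * u * g⁻¹) * g⁻¹ = g * g * u * (g * g)⁻¹ by simp [mul_assoc], invol_mul_self hg, inv_one,
    one_mul, mul_one] at h2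

/-- On a line `{x, y, x y}` whose members differ in their odd partners some member fixes `x` and moves `y`. -/
theorem line_back [Finite G] (hD : IsRootInvolutionSet D) (hc : IsConnectedSet (OddAdj D) D) {x y : G}
    (hx : x ∈ D) (hy : y ∈ D) (hxy : Commute x y) (hxyD : x * y ∈ D) (hne : ¬ SameOdd D x y) :
    ∃ v ∈ D, Commute x v ∧ orderOf (y * v) = 4 ∧ (y * v) ^ 2 = x := by
  classical
  have hio := hD.orderOf_eq
  obtain ⟨z, hyz, hxz⟩ : ∃ z, OddAdj D y z ∧ ¬ OddAdj D x z := by
    by_contra hcon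
    push Not at hcon
    exact hne (sameOdd_symm (sameOdd_of_subset hD (rootClass_of_connected hD hc hy hx) hcon))
  have hz := hyz.2.1
  have hzx := order_four_of hD hz hx (fun h => line_no_commute hD hx hxy.symm (hxy.eq ▸ hxyD) hyz h)
    fun h => hxz (oddAdj_symm hD h)
  have hyy : y * (x * y) = x := by
    rw [hxy.eq, ← mul_assoc, invol_mul_self (hio y hy), one_mul]
  have hxyz : OddAdj D z (x * y) := by
    by_contra hn
    have h4 := (order_four_of hD hz hxyD
      (fun h => line_no_commute hD hxyD (hxy.symm.mul_right (Commute.refl y)) (by rw [hyy]; exact hx) hyz h) hn).1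
    refine line_two_four hD hx hxyD hz ((Commute.refl x).mul_right hxy) hzx.1 h4 ?_
    rwa [← mul_assoc, invol_mul_self (hio x hx), one_mul]
  -- the chain
  let g : ℕ → G := fun n => if Even n then z else y
  let c : ℕ → G := fun n => n.rec x fun k ck => (g k * ck) ^ 2
  have hgD : ∀ n, g n ∈ D := fun n => by
    by_cases h : Even n <;> simp [g, h, hz, hy]
  have hgadj : ∀ n, OddAdj D (g n) (g (n + 1)) := fun n => by
    by_cases h : Even n
    · simpa [g, h, Nat.even_add_one] using oddAdj_symm hD hyz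
    · simpa [g, h, Nat.even_add_one] using hyz
  have hg2 : ∀ i l, g (i + 2 * l) = g i := fun i l => by simp [g, Nat.even_add]
  have hgsplit : ∀ n i, g n = g i ∨ g n = g (i + 1) := fun n i => by
    by_cases h : Even n <;> by_cases h' : Even i <;> simp [g, h, h', Nat.even_add_one]
  have hP : ∀ n, c n ∈ D ∧ orderOf (g n * c n) = 4 ∧ Commute (g (n + 1)) (c n) ∧ g (n + 1) * c n ∈ D := by
    intro n
    induction n with
    | zero =>
      have e0 : g 0 = z := by simp [g]
      have e1 : g 1 = y := by simp [g]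
      refine ⟨hx, by rw [e0]; exact hzx.1, ?_, ?_⟩
      · show Commute (g 1) x
        rw [e1]; exact hxy.symm
      · show g 1 * x ∈ D
        rw [e1, ← hxy.eq]; exact hxyD
    | succ n ih =>
      obtain ⟨hcn, h4, hcom, hprod⟩ := ih
      obtain ⟨f1, f2, f3, -⟩ := four_facts (hio _ (hgD n)) (hio _ hcn) h4
      have hc' : c (n + 1) ∈ D := four_mem hD (hgD n) hcn h4
      have hp' : g n * c (n + 1) ∈ D := by
        show g n * (g n * c n) ^ 2 ∈ D
        rw [f3]; exact conj_mem_inv hD (hgD n) hcn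
      have e2 : g (n + 1 + 1) = g n := hg2 n 1
      refine ⟨hc', (order_four_of hD (hgD _) hc' (fun h => ?_) fun h => ?_).1, ?_, ?_⟩
      · exact line_no_commute hD hc' f1.symm hp' (hgadj n) h
      · exact line_no_commute hD hcn hcom hprod h f2
      · rw [e2]; exact f1.symm
      · rw [e2]; exact hp'
  have hfac := fun i => four_facts (hio _ (hgD i)) (hio _ (hP i).1) (hP i).2.1
  have hf1 : ∀ i, Commute (g i) (c (i + 1)) := fun i => (hfac i).1.symm
  have hf2 : ∀ i, Commute (c i) (c (i + 1)) := fun i => (hfac i).2.1.symm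
  have hf3 : ∀ i, g i * c i * g i = c i * c (i + 1) := fun i => (hfac i).2.2.2.2.1
  have hcomm : ∀ n, ∀ i ≤ n, Commute (c i) (c n) := by
    intro n
    induction n with
    | zero => intro i hi; rw [Nat.le_zero.1 hi]
    | succ n ih =>
      intro i hi
      rcases Nat.lt_or_ge i n with hin | hin
      · have hii := hio _ (hgD n)
        have hkey : Commute (g n * c i * g n) (c n) := by
          rcases hgsplit n i with e | e
          · rw [e, hf3]; exact (ih i hin.le).mul_left (ih (i + 1) hin)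
          · have hcc : g n * c i * g n = c i := by
              rw [e, (hP i).2.2.1.eq, mul_assoc, invol_mul_self (hio _ (hgD _)), mul_one]
            rw [hcc]; exact ih i hin.le
        have h2 := (commute_conj_iff (g n)).2 hkey
        rw [invol_inv hii, show g n * (g n * c i * g n) * g n = g n * g n * c i * (g n * g n) by
          simp [mul_assoc], invol_mul_self hii, one_mul, mul_one, hf3] at h2
        have h3 := (ih i hin.le).mul_right h2
        rwa [← mul_assoc, invol_mul_self (hio _ (hP n).1), one_mul] at h3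
      · rcases (show i = n ∨ i = n + 1 by omega) with rfl | rfl
        · exact hf2 _
        · exact Commute.refl _
  have hcomm' : ∀ i j, Commute (c i) (c j) := fun i j =>
    (Nat.le_total i j).elim (hcomm j i) fun h => (hcomm i j h).symm
  -- periodicity
  obtain ⟨k, l, hkl, hrep⟩ : ∃ k l, k < l ∧ c (2 * k) = c (2 * l) := by
    obtain ⟨k, l, hne', he⟩ := Finite.exists_ne_map_eq_of_infinite fun k => c (2 * k)
    rcases lt_or_gt_of_ne hne' with h | h
    · exact ⟨k, l, h, he⟩
    · exact ⟨l, k, h, he.symm⟩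
  obtain ⟨p, hp, hp0⟩ : ∃ p, p = 2 * (l - k) ∧ 0 < p := ⟨_, rfl, by omega⟩
  have hgp : ∀ i, g (i + p) = g i := fun i => hp ▸ hg2 i (l - k)
  have hper : ∀ j, c (2 * k + j + p) = c (2 * k + j) := by
    intro j
    induction j with
    | zero => rw [add_zero, show 2 * k + p = 2 * l by omega, hrep]
    | succ j ih =>
      rw [show 2 * k + (j + 1) + p = (2 * k + j + p) + 1 by omega, show 2 * k + (j + 1) = (2 * k + j) + 1 by omega]
      show (g (2 * k + j + p) * c (2 * k + j + p)) ^ 2 = (g (2 * k + j) * c (2 * k + j)) ^ 2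
      rw [ih, hgp]
  let N : ℕ → G := fun i => c i * c (i + p)
  have hN2 : ∀ i, N i ^ 2 = 1 := fun i => by
    rw [(hcomm' i (i + p)).mul_pow, pow_two, pow_two, invol_mul_self (hio _ (hP i).1),
      invol_mul_self (hio _ (hP _).1), one_mul]
  have hNc1 : ∀ i, Commute (g (i + 1)) (N i) := fun i => by
    refine (hP i).2.2.1.mul_right ?_
    have h := (hP (i + p)).2.2.1
    rwa [show i + p + 1 = i + 1 + p by omega, hgp] at h
  have hNc2 : ∀ i, Commute (g i) (N (i + 1)) := fun i => by
    refine (hf1 i).mul_right ?_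
    have h := hf1 (i + p)
    rwa [hgp, show i + p + 1 = i + 1 + p by omega] at h
  have hNconj : ∀ i, g i * N i * g i = N i * N (i + 1) := fun i => by
    have h1 : g i * N i * g i = (g i * c i * g i) * (g (i + p) * c (i + p) * g (i + p)) := by
      rw [hgp]
      show g i * (c i * c (i + p)) * g i = _
      simp only [mul_assoc]
      rw [← mul_assoc (g i) (g i), invol_mul_self (hio _ (hgD i)), one_mul]
    rw [h1, hf3, hf3, show i + p + 1 = i + 1 + p by omega, mul_assoc, ← mul_assoc (c (i + 1)),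
      (hcomm' (i + 1) (i + p)).eq]
    simp [N, mul_assoc]
  have hdown : ∀ i, N (i + 2) = 1 → N (i + 1) = 1 := by
    intro i hi
    have hii := hio _ (hgD i)
    have hjj := hio _ (hgD (i + 1))
    have hh1 : (g i * g (i + 1)) * N i * (g i * g (i + 1))⁻¹ = N i * N (i + 1) := by
      rw [mul_inv_rev, invol_inv hii, invol_inv hjj, mul_assoc (g i), (hNc1 i).eq, ← hNconj i]
      simp only [mul_assoc]
      rw [← mul_assoc (g (i + 1)) (g (i + 1)), invol_mul_self hjj, one_mul]
    have hh2 : Commute (g i * g (i + 1)) (N (i + 1)) := by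
      refine (hNc2 i).mul_left ?_
      have h := hNconj (i + 1)
      rw [show i + 1 + 1 = i + 2 from rfl, hi, mul_one] at h
      show g (i + 1) * N (i + 1) = N (i + 1) * g (i + 1)
      nth_rw 2 [← h]
      rw [mul_assoc, invol_mul_self hjj, mul_one]
    have hpow : ∀ t : ℕ, (g i * g (i + 1)) ^ t * N i * ((g i * g (i + 1)) ^ t)⁻¹ = N i * N (i + 1) ^ t := by
      intro t
      induction t with
      | zero => simp
      | succ t ih =>
        rw [pow_succ', mul_inv_rev,
          show g i * g (i + 1) * (g i * g (i + 1)) ^ t * N i * (((g i * g (i + 1)) ^ t)⁻¹ * (g i * g (i + 1))⁻¹)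
            = MulAut.conj (g i * g (i + 1)) ((g i * g (i + 1)) ^ t * N i * ((g i * g (i + 1)) ^ t)⁻¹) by
              simp [mul_assoc], ih, map_mul, map_pow, MulAut.conj_apply, MulAut.conj_apply, hh1, hh2.eq,
          mul_inv_cancel_right, pow_succ', mul_assoc]
    have h := hpow (orderOf (g i * g (i + 1)))
    rw [pow_orderOf_eq_one, one_mul, inv_one, mul_one, left_eq_mul] at h
    obtain ⟨m', hm'⟩ := (hgadj i).2.2.2
    rw [hm', pow_succ, pow_mul] at h
    simpa [hN2 (i + 1)] using h
  have hN1 : N 1 = 1 := by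
    have hall : ∀ t i, 2 * k ≤ i + t → N (i + 1) = 1 := by
      intro t
      induction t with
      | zero =>
        intro i hi
        obtain ⟨j, hj⟩ := Nat.exists_eq_add_of_le (show 2 * k ≤ i + 1 by omega)
        show c (i + 1) * c (i + 1 + p) = 1
        rw [hj, hper, invol_mul_self (hio _ (hP _).1)]
      | succ t ih => exact fun i hi => hdown i (ih (i + 1) (by omega))
    exact hall (2 * k) 0 (by omega)
  have e0 : g 0 = z := by simp [g]
  have e1 : g 1 = y := by simp [g]
  have hNz : Commute z (N 0) := by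
    have h := hNconj 0
    rw [zero_add, hN1, mul_one, e0] at h
    show z * N 0 = N 0 * z
    nth_rw 2 [← h]
    rw [mul_assoc, invol_mul_self (hio z hz), mul_one]
  have hNy : Commute y (N 0) := e1 ▸ hNc1 0
  -- the member before the period
  obtain ⟨q', hq'⟩ : ∃ q', p = q' + 1 := ⟨p - 1, by omega⟩
  have eq0 : g (q' + 1) = z := by rw [← hq', ← zero_add p, hgp, e0]
  have eq1 : g q' = y := by
    rcases hgsplit q' 0 with h | h
    · exfalso
      have := (hgadj q').2.2.1
      rw [h, eq0, e0] at this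
      exact this rfl
    · rw [h, e1]
  obtain ⟨hqD, hq4, hqz, -⟩ := hP q'
  rw [eq0] at hqz
  rw [eq1] at hq4
  have hU : c p = (y * c q') ^ 2 := by rw [hq', ← eq1]
  obtain ⟨-, hUq, hyU, -⟩ := four_facts (hio y hy) (hio _ hqD) hq4
  rw [← hU] at hUq hyU
  have hU0 : c p = x := by
    obtain ⟨m', hm'⟩ := (oddAdj_symm hD hyz).2.2.2
    have hrU : z * y * c p = c q' * (z * y) * (c q')⁻¹ := by
      rw [invol_inv (hio _ hqD), mul_assoc z y, hyU, ← mul_assoc (c q') z y, ← hqz.eq]
      simp [mul_assoc]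
    have hN0 : N 0 = x * c p := by
      show c 0 * c (0 + p) = _
      rw [zero_add]
      rfl
    have hxN : z * y * x = z * y * c p * N 0 := by
      rw [hN0, (show Commute x (c p) from hcomm' 0 p).eq, ← mul_assoc _ (c p) x, mul_assoc (z * y) (c p) (c p),
        invol_mul_self (hio _ (hP p).1), mul_one]
    have hcom : Commute (z * y * c p) (N 0) :=
      (hNz.mul_left hNy).mul_left ((hcomm' p 0).mul_right (hcomm' p _))
    have hm : (z * y * x) ^ (2 * m' + 1) = N 0 := by
      rw [hxN, hcom.mul_pow, hrU, conj_pow, ← hm', pow_orderOf_eq_one, mul_one, mul_inv_cancel, one_mul, hm',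
        pow_succ, pow_mul, hN2, one_pow, one_mul]
    have hodd : Odd (orderOf (z * y * x)) := by
      rw [mul_assoc, ← hxy.eq]; exact hxyz.2.2.2
    have h2 : orderOf (z * y * x) ∣ (2 * m' + 1) * 2 := orderOf_dvd_of_pow_eq_one (by rw [pow_mul, hm, hN2])
    have h3 : N 0 = 1 := by
      rw [← hm]
      exact orderOf_dvd_iff_pow_eq_one.1 ((Nat.coprime_two_right.2 hodd).dvd_of_dvd_mul_right h2)
    rw [hN0, mul_eq_one_iff_eq_inv, invol_inv (hio _ (hP p).1)] at h3
    exact h3.symm
  exact ⟨c q', hqD, hU0 ▸ hUq, hq4, by rw [← hU, hU0]⟩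

theorem four_conj {y v x : G} (hy : orderOf y = 2) (hv : orderOf v = 2) (h : orderOf (y * v) = 4)
    (hx : (y * v) ^ 2 = x) : v * y * v = y * x := by
  rw [← hx]; exact (four_facts hy hv h).2.2.1.symm

theorem swap_odd (hD : IsRootInvolutionSet D) {e v x y : G} (he : e ∈ D) (hv : v ∈ D) (hy : y ∈ D)
    (hx : x ∈ D) (hxyD : x * y ∈ D) (hey : Commute e y) (hexe : e * x * e = x * y) (hvx : Commute v x)
    (hvy : v * y * v = x * y) : OddAdj D e v ∧ 3 ∣ orderOf (e * v) := by
  have hei := hD.orderOf_eq e he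
  have hvi := hD.orderOf_eq v hv
  have hyy := invol_mul_self (hD.orderOf_eq y hy)
  have f1 : MulAut.conj (e * v) y = x := by
    simp only [MulAut.conj_apply, mul_inv_rev, invol_inv hei, invol_inv hvi]
    rw [show e * v * y * (v * e) = e * (v * y * v) * e by simp [mul_assoc], hvy,
      show e * (x * y) * e = e * x * (y * e) by simp [mul_assoc], ← hey.eq,
      show e * x * (e * y) = e * x * e * y by simp [mul_assoc], hexe, mul_assoc, hyy, mul_one]
  have f2 : MulAut.conj (e * v) x = x * y := by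
    simp only [MulAut.conj_apply, mul_inv_rev, invol_inv hei, invol_inv hvi]
    rw [show e * v * x * (v * e) = e * (v * x) * (v * e) by simp [mul_assoc], hvx.eq,
      show e * (x * v) * (v * e) = e * x * (v * v) * e by simp [mul_assoc], invol_mul_self hvi, mul_one, hexe]
  have hxyc : x * y * x = y := by
    have h : (x * y) * (x * y) = 1 := invol_mul_self (hD.orderOf_eq _ hxyD)
    rw [← mul_assoc, mul_eq_one_iff_eq_inv, invol_inv (hD.orderOf_eq y hy)] at h
    exact h
  have f3 : MulAut.conj (e * v) (x * y) = y := by rw [map_mul, f2, f1, hxyc]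
  have h3 : Commute ((e * v) ^ 3) y := by
    have h : MulAut.conj ((e * v) ^ 3) y = y := by
      rw [pow_succ, pow_two, map_mul, map_mul, MulAut.mul_apply, MulAut.mul_apply, f1, f2, f3]
    rw [MulAut.conj_apply, mul_inv_eq_iff_eq_mul] at h
    exact h
  have hdvd : 3 ∣ orderOf (e * v) := by
    have hd : ((e * v) ^ 3) ^ (orderOf (e * v) / 3) * (e * v) ^ (orderOf (e * v) % 3) = 1 := by
      rw [← pow_mul, ← pow_add, Nat.div_add_mod, pow_orderOf_eq_one]
    have hr : Commute ((e * v) ^ (orderOf (e * v) % 3)) y := by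
      rw [eq_inv_of_mul_eq_one_right hd]; exact (h3.pow_left _).inv_left
    have hfix : MulAut.conj ((e * v) ^ (orderOf (e * v) % 3)) y = y := by
      rw [MulAut.conj_apply, hr.eq, mul_inv_cancel_right]
    rcases (show orderOf (e * v) % 3 = 0 ∨ orderOf (e * v) % 3 = 1 ∨ orderOf (e * v) % 3 = 2 by omega) with
      h | h | h
    · exact Nat.dvd_of_mod_eq_zero h
    · exfalso
      rw [h, pow_one, f1] at hfix
      rw [hfix, hyy] at hxyD
      exact invol_ne_one (hD.orderOf_eq _ hxyD) rfl
    · exfalso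
      rw [h, pow_two, map_mul, MulAut.mul_apply, f1, f2, mul_eq_right] at hfix
      exact invol_ne_one (hD.orderOf_eq x hx) hfix
  refine ⟨?_, hdvd⟩
  by_contra hn
  have h4 : 3 ∣ 4 := hdvd.trans (orderOf_dvd_of_pow_eq_one (pow_four_of_not_adj hD he hv hn))
  omega

theorem odd_conj_mem (hD : IsRootInvolutionSet D) {a b : G} (h : OddAdj D a b) {H : Subgroup G} (ha : a ∈ H)
    (hb : b ∈ H) : ∃ g ∈ H, b = g * a * g⁻¹ := by
  obtain ⟨j, hj⟩ := exists_zpow_conj_of_odd (hD.orderOf_eq a h.1) (hD.orderOf_eq b h.2.1) h.2.2.2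
  exact ⟨(a * b) ^ j, H.zpow_mem (H.mul_mem ha hb) j, hj.symm⟩

/-- Same odd partners implies same commuting members. -/
theorem sameOdd_commuting [Finite G] (hD : IsRootInvolutionSet D) (hc : IsConnectedSet (OddAdj D) D)
    {d e x : G} (hd : d ∈ D) (he : e ∈ D) (hx : x ∈ D) (h : SameOdd D d e) (hdx : Commute d x) :
    Commute e x := by
  by_contra hn
  obtain ⟨h4, hyD⟩ := order_four_of hD he hx hn fun h' => adj_not_commute hD ((h x).2 h') hdx
  obtain ⟨c1, c2, e1, e2, -⟩ := four_facts (hD.orderOf_eq e he) (hD.orderOf_eq x hx) h4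
  set y := (e * x) ^ 2 with hy
  clear_value y
  have hde : Commute d e := sameOdd_commute hD hc hd hd he (fun _ => Iff.rfl) h
  have hdy : Commute d y := hy ▸ (hde.mul_right hdx).pow_right 2
  have hcx : x * d * x⁻¹ = d := by rw [← hdx.eq, mul_inv_cancel_right]
  have hs : SameOdd D d (e * y) := by
    have h' := sameOdd_conj hD h x
    rwa [hcx, invol_inv (hD.orderOf_eq x hx), ← e1] at h'
  have hey : SameOdd D e y := sameOdd_mul hD hc he hyD c1.symm (e1 ▸ conj_mem_inv hD he hx)
    (sameOdd_trans (sameOdd_symm h) hs)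
  have hxy : ¬ SameOdd D x y := fun h' => hn (sameOdd_commute hD hc he he hx (fun _ => Iff.rfl)
    (sameOdd_trans hey (sameOdd_symm h')))
  have hxyD : x * y ∈ D := e2 ▸ conj_mem_inv hD hx he
  obtain ⟨v, hv, hxv, hyv4, hyv⟩ := line_back hD hc hx hyD c2.symm hxyD hxy
  have hvy : v * y * v = x * y := by
    rw [four_conj (hD.orderOf_eq y hyD) (hD.orderOf_eq v hv) hyv4 hyv, c2.eq]
  obtain ⟨hev, -⟩ := swap_odd hD he hv hyD hx hxyD c1.symm e2.symm hxv.symm hvy
  set K := Subgroup.closure ({x, y} : Set G) with hK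
  have hxK : x ∈ K := Subgroup.subset_closure (Set.mem_insert x _)
  have hyK : y ∈ K := Subgroup.subset_closure (Set.mem_insert_of_mem _ rfl)
  have hdc : d ∈ Subgroup.centralizer (K : Set G) := by
    rw [hK, Subgroup.centralizer_closure, Subgroup.mem_centralizer_iff]
    rintro s (rfl | rfl)
    · exact hdx.eq.symm
    · exact hdy.eq.symm
  have hvn : v ∈ Subgroup.normalizer (K : Set G) := by
    refine invol_normalizer hK (hD.orderOf_eq v hv) ?_
    rintro s (rfl | rfl)
    · rw [← hxv.eq, mul_inv_cancel_right]; exact hxK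
    · rw [invol_inv (hD.orderOf_eq v hv), hvy]; exact K.mul_mem hxK hyK
  obtain ⟨g, hg, hvg⟩ := odd_conj_mem hD ((h v).2 hev)
    (Subgroup.centralizer_le_normalizer (K : Set G) hdc) hvn
  have hyg : g⁻¹ * y * g ∈ K := (Subgroup.mem_normalizer_iff''.1 hg y).1 hyK
  have hco : Commute d (g⁻¹ * y * g) := (hdc _ hyg).symm
  have hfin := (commute_conj_iff g).2 hco
  rw [← hvg, show g * (g⁻¹ * y * g) * g⁻¹ = y by simp [mul_assoc]] at hfin
  have h1 : (y * v) ^ 2 = 1 := by
    rw [(show Commute y v from hfin.symm).mul_pow, pow_two, pow_two, invol_mul_self (hD.orderOf_eq y hyD),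
      invol_mul_self (hD.orderOf_eq v hv), one_mul]
  exact invol_ne_one (hD.orderOf_eq x hx) (hyv ▸ h1)

/-- Same commuting members implies same odd partners. -/
theorem commuting_sameOdd (hD : IsRootInvolutionSet D) {d e : G} (hd : d ∈ D) (he : e ∈ D)
    (h : commutingMembers D d = commutingMembers D e) : SameOdd D d e := by
  have hmem : ∀ {d e : G}, d ∈ D → e ∈ D → commutingMembers D d = commutingMembers D e →
      ∀ w, OddAdj D d w → OddAdj D e w := by
    intro d e hd he h w hw
    by_contra hn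
    have hcw : ¬ Commute e w := fun hc' => adj_not_commute hD hw
      (Commute.symm (show Commute w d from (h.symm.subset ⟨hw.2.1, hc'.eq.symm⟩).2))
    obtain ⟨h4, hyD⟩ := order_four_of hD he hw.2.1 hcw hn
    obtain ⟨c1, c2, -, e2, -⟩ := four_facts (hD.orderOf_eq e he) (hD.orderOf_eq w hw.2.1) h4
    have hdy : Commute ((e * w) ^ 2) d := (h.symm.subset ⟨hyD, c1.eq⟩).2
    exact line_no_commute hD hyD c2.symm (e2 ▸ conj_mem_inv hD hw.2.1 he) (oddAdj_symm hD hw) hdy.symm
  exact fun w => ⟨hmem hd he h w, hmem he hd h.symm w⟩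

theorem sameCommuting_iff [Finite G] (hD : IsRootInvolutionSet D) (hc : IsConnectedSet (OddAdj D) D)
    {d e : G} (hd : d ∈ D) (he : e ∈ D) :
    commutingMembers D d = commutingMembers D e ↔ SameOdd D d e := by
  refine ⟨commuting_sameOdd hD hd he, fun h => Set.ext fun x => ⟨fun hx => ⟨hx.1, ?_⟩, fun hx => ⟨hx.1, ?_⟩⟩⟩
  · exact (sameOdd_commuting hD hc hd he hx.1 h (show Commute x d from hx.2).symm).symm.eq
  · exact (sameOdd_commuting hD hc he hd hx.1 (sameOdd_symm h) (show Commute x e from hx.2).symm).symm.eq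

theorem commutingMembers_union_fourPartners (hD : IsRootInvolutionSet D) {d : G} (hd : d ∈ D) :
    commutingMembers D d ∪ fourPartners D d = D \ {w | OddAdj D d w} := by
  ext w
  constructor
  · rintro (⟨hw, hc⟩ | ⟨hw, h4⟩)
    · exact ⟨hw, fun ha => adj_not_commute hD ha (show Commute w d from hc).symm⟩
    · refine ⟨hw, fun ha => ?_⟩
      obtain ⟨k, hk⟩ := ha.2.2.2
      omega
  · rintro ⟨hw, hn⟩
    by_cases hc : Commute d w
    · exact Or.inl ⟨hw, hc.eq.symm⟩
    · exact Or.inr ⟨hw, (order_four_of hD hd hw hc hn).1⟩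

theorem sameCommutingClass_eq [Finite G] (hD : IsRootInvolutionSet D) (hc : IsConnectedSet (OddAdj D) D)
    {d : G} (hd : d ∈ D) : sameCommutingClass D d =
      {e | e ∈ D ∧ commutingMembers D d ∪ fourPartners D d = commutingMembers D e ∪ fourPartners D e} := by
  ext e
  refine and_congr_right fun he => ?_
  rw [sameCommuting_iff hD hc hd he, commutingMembers_union_fourPartners hD hd,
    commutingMembers_union_fourPartners hD he]
  refine ⟨fun h => by rw [show {w | OddAdj D d w} = {w | OddAdj D e w} from Set.ext h], fun h w => ?_⟩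
  by_cases hw : w ∈ D
  · exact not_iff_not.1 (by simpa [hw] using Set.ext_iff.1 h w)
  · exact ⟨fun h' => absurd h'.2.1 hw, fun h' => absurd h'.2.1 hw⟩

theorem productPartner_three [Finite G] (hD : IsRootInvolutionSet D) (hc : IsConnectedSet (OddAdj D) D)
    {a b : G} (ha : a ∈ D) (hb : b ∈ productPartners D a) (hbE : b ∉ sameCommutingClass D a) :
    ∃ x ∈ fourPartners D b, orderOf (a * x) = 3 := by
  obtain ⟨⟨hbD, hba, -⟩, hbaD⟩ := hb
  have hab : Commute a b := (show Commute b a from hba).symm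
  have habD : a * b ∈ D := hab.eq ▸ hbaD
  have hne : ¬ SameOdd D b a := fun h => hbE ⟨hbD, (sameCommuting_iff hD hc ha hbD).2 (sameOdd_symm h)⟩
  obtain ⟨y0, hy0, hby, h4, hsq⟩ := line_back hD hc hbD ha hab.symm hbaD hne
  obtain ⟨-, -, -, e2, -⟩ := four_facts (hD.orderOf_eq a ha) (hD.orderOf_eq y0 hy0) h4
  rw [hsq] at e2
  have hy0bD : y0 * b ∈ D := e2 ▸ conj_mem_inv hD hy0 ha
  have hne2 : ¬ SameOdd D y0 b := fun h => by
    have hay : Commute a y0 := (sameOdd_commuting hD hc hbD hy0 ha (sameOdd_symm h) hab.symm).symm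
    have h1 : (a * y0) ^ 2 = 1 := by
      rw [hay.mul_pow, pow_two, pow_two, invol_mul_self (hD.orderOf_eq a ha),
        invol_mul_self (hD.orderOf_eq y0 hy0), one_mul]
    exact invol_ne_one (hD.orderOf_eq b hbD) (hsq ▸ h1)
  obtain ⟨v, hv, hyv, hv4, hvsq⟩ := line_back hD hc hy0 hbD hby.symm hy0bD hne2
  have hvb : v * b * v = y0 * b := by
    rw [four_conj (hD.orderOf_eq b hbD) (hD.orderOf_eq v hv) hv4 hvsq, hby.eq]
  obtain ⟨hav, h3⟩ := swap_odd hD ha hv hbD hy0 hy0bD hab e2.symm hyv.symm hvb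
  obtain ⟨t, ht⟩ := h3
  set K := Subgroup.closure ({b, y0} : Set G) with hK
  have hbK : b ∈ K := Subgroup.subset_closure (Set.mem_insert b _)
  have hyK : y0 ∈ K := Subgroup.subset_closure (Set.mem_insert_of_mem _ rfl)
  have han : a ∈ Subgroup.normalizer (K : Set G) := by
    refine invol_normalizer hK (hD.orderOf_eq a ha) ?_
    rintro s (rfl | rfl)
    · rw [hab.eq, mul_inv_cancel_right]; exact hbK
    · rw [invol_inv (hD.orderOf_eq a ha), ← e2]; exact K.mul_mem hyK hbK
  have hvn : v ∈ Subgroup.normalizer (K : Set G) := by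
    refine invol_normalizer hK (hD.orderOf_eq v hv) ?_
    rintro s (rfl | rfl)
    · rw [invol_inv (hD.orderOf_eq v hv), hvb]; exact K.mul_mem hyK hbK
    · rw [← hyv.eq, mul_inv_cancel_right]; exact hyK
  set x0 := a * (a * v) ^ (t : ℤ) with hx0
  have hx0D : x0 ∈ D := refl_mem (fun g d hd => hD.conj_mem d hd g) ha hv (hD.orderOf_eq a ha) (hD.orderOf_eq v hv) t
  have hx0n : x0 ∈ Subgroup.normalizer (K : Set G) :=
    mul_mem han (Subgroup.zpow_mem _ (mul_mem han hvn) _)
  have hax : orderOf (a * x0) = 3 := by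
    rw [hx0, ← mul_assoc, invol_mul_self (hD.orderOf_eq a ha), one_mul, zpow_natCast]
    have ht0 : t ≠ 0 := by
      rintro rfl
      obtain ⟨k, hk⟩ := hav.2.2.2
      omega
    rw [orderOf_pow' _ ht0, ht, Nat.gcd_mul_left_left, Nat.mul_div_cancel _ (Nat.pos_of_ne_zero ht0)]
  clear_value x0
  have hadj : OddAdj D a x0 := ⟨ha, hx0D, fun e => by
    rw [← e, invol_mul_self (hD.orderOf_eq a ha), orderOf_one] at hax; omega, by rw [hax]; decide⟩
  have hnc : ¬ Commute x0 b := line_no_commute hD hbD hab habD hadj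
  refine ⟨x0, ⟨hx0D, (order_four_of hD hbD hx0D (fun h => hnc h.symm) fun hbx => ?_).1⟩, hax⟩
  have hmem : x0 * b * x0⁻¹ ∈ K := (Subgroup.mem_normalizer_iff.1 hx0n b).1 hbK
  have hKb : Commute b (x0 * b * x0⁻¹) := by
    have hle : K ≤ Subgroup.centralizer {b} := by
      rw [hK, Subgroup.closure_le]
      rintro s (rfl | rfl)
      · exact Subgroup.mem_centralizer_singleton_iff.2 rfl
      · exact Subgroup.mem_centralizer_singleton_iff.2 hby.eq.symm
    exact (show Commute (x0 * b * x0⁻¹) b from Subgroup.mem_centralizer_singleton_iff.1 (hle hmem)).symm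
  have h4' : (b * x0) ^ 4 = 1 := by
    rw [pow_mul (b * x0) 2 2, show (b * x0) ^ 2 = b * (x0 * b * x0⁻¹) by
      rw [pow_two, invol_inv (hD.orderOf_eq x0 hx0D)]; simp [mul_assoc], hKb.mul_pow, pow_two b,
      invol_mul_self (hD.orderOf_eq b hbD), one_mul, conj_pow, pow_two b, invol_mul_self (hD.orderOf_eq b hbD),
      mul_one, mul_inv_cancel]
  have h1 : orderOf (b * x0) = 1 := Nat.eq_one_of_dvd_coprimes
    (Nat.Coprime.pow_left 2 (Nat.coprime_two_left.2 hbx.2.2.2)) (orderOf_dvd_of_pow_eq_one h4') dvd_rfl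
  rw [orderOf_eq_one_iff, mul_eq_one_iff_eq_inv, invol_inv (hD.orderOf_eq x0 hx0D)] at h1
  exact hnc (h1 ▸ Commute.refl x0)

end CfsgLib.ThreeTransp
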