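import Cfsg.Agent.Lib.ThreeTransp.RootLine
import Cfsg.Agent.Lib.ThreeTransp.RootTriangle

/-!
`A`, `B`, `C` with `[A, B]`, `[B, C]` in the root set and `A`, `C` commuting: the subgroup they generate is nilpotent.
-/

set_option autoImplicit false

namespace CfsgLib.ThreeTransp

open Cfsg
open scoped commutatorElement

variable {G : Type*} [Group G] {S : Set (Subgroup G)}

/-- Commutators of generated subgroups lie in a subgroup normalized by both. -/
theorem commutator_closure_le {s t : Set G} {K : Subgroup G}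
    (hs : ∀ x ∈ s, x ∈ Subgroup.normalizer (K : Set G))
    (ht : ∀ y ∈ t, y ∈ Subgroup.normalizer (K : Set G))
    (h : ∀ x ∈ s, ∀ y ∈ t, ⁅x, y⁆ ∈ K) :
    ⁅Subgroup.closure s, Subgroup.closure t⁆ ≤ K := by
  have hsn : Subgroup.closure s ≤ Subgroup.normalizer (K : Set G) := (Subgroup.closure_le _).2 hs
  have htn : Subgroup.closure t ≤ Subgroup.normalizer (K : Set G) := (Subgroup.closure_le _).2 ht
  have hc : ∀ {g k : G}, g ∈ Subgroup.normalizer (K : Set G) → k ∈ K → g * k * g⁻¹ ∈ K :=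
    fun hg hk => (Subgroup.mem_normalizer_iff.1 hg _).1 hk
  have h1 : ∀ x ∈ s, ∀ y ∈ Subgroup.closure t, ⁅x, y⁆ ∈ K := by
    intro x hx y hy
    induction hy using Subgroup.closure_induction with
    | mem z hz => exact h x hx z hz
    | one => simp
    | mul u v hu _ iu iv =>
      rw [show ⁅x, u * v⁆ = ⁅x, u⁆ * (u * ⁅x, v⁆ * u⁻¹) by simp [commutatorElement_def, mul_assoc]]
      exact mul_mem iu (hc (htn hu) iv)
    | inv u hu iu =>
      rw [show ⁅x, u⁻¹⁆ = u⁻¹ * ⁅x, u⁆⁻¹ * u⁻¹⁻¹ by simp [commutatorElement_def, mul_assoc]]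
      exact hc (inv_mem (htn hu)) (inv_mem iu)
  refine Subgroup.commutator_le.2 fun x hx y hy => ?_
  revert y
  induction hx using Subgroup.closure_induction with
  | mem z hz => exact h1 z hz
  | one => intro y _; simp
  | mul u v hu _ iu iv =>
    intro y hy
    rw [show ⁅u * v, y⁆ = u * ⁅v, y⁆ * u⁻¹ * ⁅u, y⁆ by simp [commutatorElement_def, mul_assoc]]
    exact mul_mem (hc (hsn hu) (iv y hy)) (iu y hy)
  | inv u hu iu =>
    intro y hy
    rw [show ⁅u⁻¹, y⁆ = u⁻¹ * ⁅u, y⁆⁻¹ * u⁻¹⁻¹ by simp [commutatorElement_def, mul_assoc]]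
    exact hc (inv_mem (hsn hu)) (inv_mem (iu y hy))

theorem le_normalizer_of_conj {H K : Subgroup G} (h : ∀ g ∈ H, ∀ k ∈ K, g * k * g⁻¹ ∈ K) :
    H ≤ Subgroup.normalizer (K : Set G) := fun g hg => Subgroup.mem_normalizer_iff.2 fun k =>
  ⟨h g hg k, fun hk => by simpa [mul_assoc] using h g⁻¹ (inv_mem hg) _ hk⟩

theorem conj_mem_of_comm_le {H L K : Subgroup G} (hLK : L ≤ K) (hc : ⁅H, L⁆ ≤ K) {g k : G}
    (hg : g ∈ H) (hk : k ∈ L) : g * k * g⁻¹ ∈ K := by
  have h := mul_mem (hc (Subgroup.commutator_mem_commutator hg hk)) (hLK hk)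
  simpa [commutatorElement_def] using h

theorem le_centralizer_of_bot {H K : Subgroup G} (h : ⁅H, K⁆ = ⊥) :
    H ≤ Subgroup.centralizer (K : Set G) :=
  fun _ hx => Subgroup.mem_centralizer_iff.2 fun _ hy => (comm_of_bot h hx hy).symm

theorem bot_of_le_centralizer {H K : Subgroup G} (h : H ≤ Subgroup.centralizer (K : Set G)) :
    ⁅H, K⁆ = ⊥ :=
  bot_of_comm fun _ hx _ hy => (Subgroup.mem_centralizer_iff.1 (h hx) _ hy).symm

theorem comm_bot_sup {H K L : Subgroup G} (h1 : ⁅H, K⁆ = ⊥) (h2 : ⁅H, L⁆ = ⊥) : ⁅H, K ⊔ L⁆ = ⊥ :=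
  comm_bot_symm (bot_of_le_centralizer
    (sup_le (le_centralizer_of_bot (comm_bot_symm h1)) (le_centralizer_of_bot (comm_bot_symm h2))))

theorem comm_bot_mono {H K H' K' : Subgroup G} (hH : H' ≤ H) (hK : K' ≤ K) (h : ⁅H, K⁆ = ⊥) :
    ⁅H', K'⁆ = ⊥ :=
  le_bot_iff.1 (h ▸ Subgroup.commutator_mono hH hK)

variable {A B C : Subgroup G}

theorem triple_sandwich (h : RootCommutatorCase S A B) {b : G} (hb : b ∈ B) (hb1 : b ≠ 1) :
    A ⊔ conjBy A b = A ⊔ ⁅A, B⁆ := by
  refine le_antisymm (sup_le le_sup_left (rcc_conjBy_le hb)) (sup_le le_sup_left fun z hz => ?_)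
  obtain ⟨a, ha, rfl⟩ := tri_shear_surj h hb hb1 hz
  exact mul_mem (Subgroup.mem_sup_right (conj_mem_conjBy ha b)) (Subgroup.mem_sup_left (inv_mem ha))

/-- The pair `(A, b⁻¹ C b)`. -/
theorem triple_pair (hS : IsRootSubgroupSet S) (hA : A ∈ S) (hB : B ∈ S) (hC : C ∈ S)
    (hBC : ⁅B, C⁆ ∈ S) (hAC : ⁅A, C⁆ = ⊥) {b : G} (hb : b ∈ B) (hb1 : b ≠ 1) :
    ⁅A, conjBy C b⁆ = ⁅A, ⁅B, C⁆⁆ ∧
      (∀ x ∈ A ⊔ conjBy C b, ∀ w ∈ ⁅A, conjBy C b⁆, w * x = x * w) := by
  have hr : RootCommutatorCase S C B := rcc_symm (rcc_of_mem hS hB hC hBC)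
  have hQ : ⁅B, C⁆ = ⁅C, B⁆ := Subgroup.commutator_comm _ _
  set Q := ⁅C, B⁆ with hQd
  have hC' : conjBy C b ∈ S := hS.conj_mem C hC b
  have hCQ : ∀ c ∈ C, ∀ q ∈ Q, c * q = q * c := rcc_comm_left hr
  have hBQ : ∀ y ∈ B, ∀ q ∈ Q, y * q = q * y := fun y hy q hq =>
    (rcc_central hr hq ((le_sup_right : B ≤ C ⊔ B) hy)).symm
  have habel : ⁅C ⊔ Q, C ⊔ Q⁆ = ⊥ := by
    have h1 : ⁅C, C ⊔ Q⁆ = ⊥ :=
      comm_bot_sup (bot_of_comm fun x hx y hy => rs_comm hS hC hx hy) (bot_of_comm hCQ)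
    have h2 : ⁅Q, C ⊔ Q⁆ = ⊥ :=
      comm_bot_sup (comm_bot_symm (bot_of_comm hCQ)) (bot_of_comm fun x hx y hy => rs_comm hS hr.1 hx hy)
    exact comm_bot_symm (comm_bot_sup (comm_bot_symm h1) (comm_bot_symm h2))
  have hsand := triple_sandwich hr hb hb1
  have hcent : ∀ x ∈ A ⊔ conjBy C b, ∀ w ∈ ⁅A, conjBy C b⁆, w * x = x * w := by
    rcases hS.pair A hA _ hC' with h | h | h
    · intro x _ w hw
      rw [h, Subgroup.mem_bot] at hw
      rw [hw, one_mul, mul_one]
    · exfalso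
      have hAQ : IsRankOnePair A Q := by
        rcases hS.pair A hA Q hr.1 with h' | h' | h'
        · exact absurd (comm_bot_mono le_rfl (rcc_conjBy_le hb) (comm_bot_sup hAC h'))
            (rop_commutator_ne_bot h)
        · exact h'
        · exfalso
          -- a conjugate of `b⁻¹ C b` under `A` commutes with it
          obtain ⟨a, ha, ha1⟩ := rop_exists_ne_one h
          have hmem : conjBy (conjBy C b) a ≠ conjBy C b := fun e =>
            ha1 (rop_eq_one_of_normalizes h ha e)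
          refine rop_commutator_ne_bot (rop_of_mem_mem h
            (conjBy_mem_unipotent (rop_right_mem_unipotent h) (Subgroup.mem_sup_left ha))
            (rop_right_mem_unipotent h) hmem).1 ?_
          have hW : ⁅Q, A⁆ = ⁅A, Q⁆ := Subgroup.commutator_comm _ _
          have hWc : ⁅⁅A, Q⁆, C⁆ = ⊥ := by
            refine bot_of_le_centralizer (Subgroup.commutator_le.2 fun x hx y hy => ?_)
            have h1 := le_centralizer_of_bot hAC hx
            have h2 := le_centralizer_of_bot (comm_bot_symm (bot_of_comm hCQ)) hy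
            exact mul_mem (mul_mem (mul_mem h1 h2) (inv_mem h1)) (inv_mem h2)
          have hWQ : ⁅⁅A, Q⁆, Q⁆ = ⊥ := bot_of_comm fun w hw q hq =>
            rcc_central h' hw ((le_sup_right : Q ≤ A ⊔ Q) hq)
          have hle : conjBy (conjBy C b) a ≤ C ⊔ Q ⊔ ⁅A, Q⁆ := by
            refine (conjBy_le_iff.2 (rcc_conjBy_le hb)).trans ?_
            rw [conjBy_sup, conjBy_of_commute fun c hc => comm_of_bot hAC ha hc]
            refine sup_le (le_sup_left.trans le_sup_left) ((rcc_conjBy_le (A := Q) ha).trans ?_)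
            rw [hW]
            exact sup_le (le_sup_right.trans le_sup_left) le_sup_right
          refine comm_bot_mono hle (rcc_conjBy_le hb) ?_
          exact comm_bot_symm (comm_bot_sup habel (comm_bot_symm (comm_bot_sup hWc hWQ)))
      obtain ⟨y, hy, hy1⟩ := rop_exists_ne_one (rop_symm h)
      obtain ⟨a, ha, -, he⟩ := h.cond_right y hy hy1
      obtain ⟨c, hc, q, hq, hcq⟩ := mem_sup_of_comm hCQ (rcc_conjBy_le hb hy)
      have he' : conjBy A y⁻¹ = conjBy A q⁻¹ := by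
        rw [← hcq, _root_.mul_inv_rev, conjBy_mul,
          conjBy_of_commute fun x hx => (comm_of_bot hAC hx (inv_mem hc)).symm]
      have hmem : conjBy C b ∈ unipotentSubgroups A Q := by
        refine ⟨a * q⁻¹, mul_mem (Subgroup.mem_sup_left ha) (Subgroup.mem_sup_right (inv_mem hq)), ?_⟩
        rw [conjBy_mul, ← he', ← he, conjBy_conjBy_inv]
      have heq : conjBy C b = Q := by
        by_contra hne
        exact rop_commutator_ne_bot (rop_of_mem_mem hAQ hmem (rop_right_mem_unipotent hAQ) hne).1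
          (comm_bot_mono (rcc_conjBy_le hb) le_sup_right habel)
      have hfix : conjBy Q b = Q := conjBy_of_commute (hBQ b hb)
      have hCeq : C = Q := conjBy_inj (heq.trans hfix.symm)
      exact rcc_not_commute_pair hS hr fun x hx z hz => (hBQ z hz x (hCeq ▸ hx)).symm
    · exact fun x hx w hw => rcc_central h hw hx
  refine ⟨?_, hcent⟩
  rw [hQ]
  refine le_antisymm (Subgroup.commutator_le.2 fun x hx y hy => ?_) (Subgroup.commutator_le.2 fun x hx q hq => ?_)
  · obtain ⟨c, hc, q, hq, rfl⟩ := mem_sup_of_comm hCQ (rcc_conjBy_le hb hy)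
    rw [hCQ c hc q hq, show ⁅x, q * c⁆ = ⁅x, q⁆ by
      simp only [commutatorElement_def, _root_.mul_inv_rev]
      calc x * (q * c) * x⁻¹ * (c⁻¹ * q⁻¹) = x * q * (c * x⁻¹ * c⁻¹) * q⁻¹ := by simp [mul_assoc]
        _ = x * q * x⁻¹ * q⁻¹ := by
          rw [← comm_of_bot hAC (inv_mem hx) hc, mul_inv_cancel_right]]
    exact Subgroup.commutator_mem_commutator hx hq
  · have hq' : q ∈ C ⊔ conjBy C b := by rw [hsand]; exact Subgroup.mem_sup_right hq
    obtain ⟨c, hc, y, hy, rfl⟩ := mem_sup_of_comm (fun c hc y hy =>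
      comm_of_bot (comm_bot_mono le_sup_left (rcc_conjBy_le hb) habel) hc hy) hq'
    rw [show ⁅x, c * y⁆ = c * ⁅x, y⁆ * c⁻¹ by
      simp only [commutatorElement_def, _root_.mul_inv_rev]
      calc x * (c * y) * x⁻¹ * (y⁻¹ * c⁻¹) = (x * c) * y * x⁻¹ * y⁻¹ * c⁻¹ := by simp [mul_assoc]
        _ = c * (x * y * x⁻¹ * y⁻¹) * c⁻¹ := by rw [comm_of_bot hAC hx hc]; simp [mul_assoc]]
    have hcW : ⁅A, conjBy C b⁆ ≤ Subgroup.centralizer (C : Set G) :=
      Subgroup.commutator_le.2 fun x' hx' y' hy' => by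
        have h1 := le_centralizer_of_bot hAC hx'
        have h2 := le_centralizer_of_bot (comm_bot_mono (rcc_conjBy_le hb) le_sup_left habel) hy'
        exact mul_mem (mul_mem (mul_mem h1 h2) (inv_mem h1)) (inv_mem h2)
    have hw := Subgroup.commutator_mem_commutator hx hy
    rw [Subgroup.mem_centralizer_iff.1 (hcW hw) c hc, mul_inv_cancel_right]
    exact hw

theorem triple_class_two {U V : Subgroup G} (hUc : ⁅U, U⁆ = ⊥) (hVc : ⁅V, V⁆ = ⊥)
    (h : ∀ x ∈ U ⊔ V, ∀ w ∈ ⁅U, V⁆, w * x = x * w) :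
    ⁅U ⊔ V, U ⊔ V⁆ ≤ ⁅U, V⁆ ∧ ⁅⁅U ⊔ V, U ⊔ V⁆, U ⊔ V⁆ = ⊥ := by
  have hn : U ⊔ V ≤ Subgroup.normalizer ((⁅U, V⁆ : Subgroup G) : Set G) :=
    sup_le (Subgroup.normalizer_commutator_ge_left U V) (Subgroup.normalizer_commutator_ge_right U V)
  have hle : ⁅U ⊔ V, U ⊔ V⁆ ≤ ⁅U, V⁆ := by
    have hn' : ∀ x ∈ (U : Set G) ∪ V, x ∈ Subgroup.normalizer ((⁅U, V⁆ : Subgroup G) : Set G) :=
      fun x hx => hn (hx.elim (fun h => Subgroup.mem_sup_left h) fun h => Subgroup.mem_sup_right h)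
    have := commutator_closure_le hn' hn' (fun x hx y hy => by
      rcases hx with hx | hx <;> rcases hy with hy | hy
      · have := Subgroup.commutator_mem_commutator (H₁ := U) (H₂ := U) hx hy
        rw [hUc, Subgroup.mem_bot] at this
        rw [this]; exact one_mem _
      · exact Subgroup.commutator_mem_commutator hx hy
      · rw [← commutatorElement_inv]; exact inv_mem (Subgroup.commutator_mem_commutator hy hx)
      · have := Subgroup.commutator_mem_commutator (H₁ := V) (H₂ := V) hx hy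
        rw [hVc, Subgroup.mem_bot] at this
        rw [this]; exact one_mem _)
    rwa [← Subgroup.sup_eq_closure] at this
  exact ⟨hle, bot_of_comm fun w hw x hx => h x hx w (hle hw)⟩

end CfsgLib.ThreeTransp

namespace CfsgLib.ThreeTransp

open Cfsg
open scoped commutatorElement

variable {G : Type*} [Group G] {S : Set (Subgroup G)} {A B C : Subgroup G}

theorem comm_bot_of_comm {U V : Subgroup G} (hU : ∀ x ∈ U, ∀ y ∈ U, x * y = y * x)
    (hV : ∀ x ∈ V, ∀ y ∈ V, x * y = y * x) (hUV : ⁅U, V⁆ = ⊥) : IsMulCommutative ↥(U ⊔ V) := by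
  rw [Subgroup.sup_eq_closure]
  refine Subgroup.isMulCommutative_closure ?_
  rintro x (hx | hx) y (hy | hy)
  · exact hU x hx y hy
  · exact comm_of_bot hUV hx hy
  · exact (comm_of_bot hUV hy hx).symm
  · exact hV x hx y hy

theorem triple_main (hS : IsRootSubgroupSet S) (hA : A ∈ S) (hB : B ∈ S) (hC : C ∈ S)
    (hAB : ⁅A, B⁆ ∈ S) (hBC : ⁅B, C⁆ ∈ S) (hAC : ⁅A, C⁆ = ⊥) {b : G} (hb : b ∈ B) (hb1 : b ≠ 1) :
    ((IsMulCommutative ↥(A ⊔ conjBy C b⁻¹) ∧ IsMulCommutative ↥(conjBy A b⁻¹ ⊔ C)) ∨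
      ((¬ IsMulCommutative ↥(A ⊔ conjBy C b⁻¹) ∧
          ⁅⁅A ⊔ conjBy C b⁻¹, A ⊔ conjBy C b⁻¹⁆, A ⊔ conjBy C b⁻¹⁆ = ⊥) ∧
        (¬ IsMulCommutative ↥(conjBy A b⁻¹ ⊔ C) ∧
          ⁅⁅conjBy A b⁻¹ ⊔ C, conjBy A b⁻¹ ⊔ C⁆, conjBy A b⁻¹ ⊔ C⁆ = ⊥))) ∧
    ⁅A ⊔ conjBy C b⁻¹, conjBy A b⁻¹ ⊔ C⁆ = ⊥ ∧
    (∀ r ∈ A ⊔ B ⊔ C, conjBy ((A ⊔ conjBy C b⁻¹) ⊔ (conjBy A b⁻¹ ⊔ C)) r =
      (A ⊔ conjBy C b⁻¹) ⊔ (conjBy A b⁻¹ ⊔ C)) ∧
    ((A ⊔ conjBy C b⁻¹) ⊔ (conjBy A b⁻¹ ⊔ C)) ⊔ B = A ⊔ B ⊔ C ∧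
    Group.IsNilpotent ↥(A ⊔ B ⊔ C) := by
  have hP := rcc_of_mem hS hA hB hAB
  have hQ := rcc_of_mem hS hB hC hBC
  have hQ' : RootCommutatorCase S C B := rcc_symm hQ
  have eQ : ⁅C, B⁆ = ⁅B, C⁆ := Subgroup.commutator_comm _ _
  have hbi : b⁻¹ ∈ B := inv_mem hb
  have hbi1 : b⁻¹ ≠ 1 := inv_ne_one.2 hb1
  set A' := conjBy A b⁻¹ with hA'd
  set C' := conjBy C b⁻¹ with hC'd
  set P := ⁅A, B⁆ with hPd
  set Q := ⁅B, C⁆ with hQd
  have hA' : A' ∈ S := hS.conj_mem A hA _
  have hC' : C' ∈ S := hS.conj_mem C hC _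
  have self : ∀ {U : Subgroup G}, U ∈ S → ⁅U, U⁆ = ⊥ := fun hU =>
    bot_of_comm fun x hx y hy => rs_comm hS hU hx hy
  obtain ⟨eX, cX⟩ := triple_pair hS hA hB hC hBC hAC hbi hbi1
  obtain ⟨eX', cX'⟩ := triple_pair hS hA hB hC hBC hAC hb hb1
  -- `(A', C)` is the conjugate of `(A, b C b⁻¹)`
  have hCc : conjBy (conjBy C b) b⁻¹ = C := conjBy_inv_conjBy _ _
  have eY : ⁅A', C⁆ = conjBy ⁅A, Q⁆ b⁻¹ := by rw [← eX', conjBy_commutator, hCc]
  have cY : ∀ x ∈ A' ⊔ C, ∀ w ∈ ⁅A', C⁆, w * x = x * w := by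
    intro x hx w hw
    rw [eY, ← eX', mem_conjBy] at hw
    rw [hA'd, ← hCc, ← conjBy_sup, mem_conjBy] at hx
    have := congrArg (fun t => b⁻¹ * t * b) (cX' _ hx _ hw)
    simpa [mul_assoc] using this
  have hA'P : A' ≤ A ⊔ P := rcc_conjBy_le hbi
  have hC'Q : C' ≤ C ⊔ Q := by rw [← eQ]; exact rcc_conjBy_le hbi
  have hAA' : A ⊔ A' = A ⊔ P := triple_sandwich hP hbi hbi1
  have hCC' : C ⊔ C' = C ⊔ Q := by rw [← eQ]; exact triple_sandwich hQ' hbi hbi1
  have hAP : ⁅A, P⁆ = ⊥ := bot_of_comm (rcc_comm_left hP)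
  have hCQ : ⁅C, Q⁆ = ⊥ := by rw [← eQ]; exact bot_of_comm (rcc_comm_left hQ')
  have hBP : ⁅B, P⁆ = ⊥ := bot_of_comm fun y hy p hp =>
    (rcc_central hP hp ((le_sup_right : B ≤ A ⊔ B) hy)).symm
  have hBQ : ⁅B, Q⁆ = ⊥ := bot_of_comm (rcc_comm_left hQ)
  -- the two halves commute
  have hXY : ⁅A ⊔ C', A' ⊔ C⁆ = ⊥ := by
    have h1 : ⁅A, A' ⊔ C⁆ = ⊥ := comm_bot_sup (comm_bot_mono le_rfl hA'P (comm_bot_sup (self hA) hAP)) hAC
    have h2 : ⁅C', A' ⊔ C⁆ = ⊥ := by
      refine comm_bot_sup ?_ ?_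
      · have := congrArg (fun U => conjBy U b⁻¹) hAC
        simp only [conjBy_commutator, conjBy_bot] at this
        exact comm_bot_symm this
      · exact comm_bot_symm (comm_bot_mono le_rfl hC'Q (comm_bot_sup (self hC) hCQ))
    exact comm_bot_symm (comm_bot_sup (comm_bot_symm h1) (comm_bot_symm h2))
  obtain ⟨dX, cX2⟩ := triple_class_two (self hA) (self hC') cX
  obtain ⟨dY, cY2⟩ := triple_class_two (self hA') (self hC) cY
  set N := (A ⊔ C') ⊔ (A' ⊔ C) with hNd
  have hN : N = (A ⊔ P) ⊔ (C ⊔ Q) := by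
    rw [hNd, ← hAA', ← hCC']; simp [sup_assoc, sup_comm, sup_left_comm]
  have hAN : A ≤ N := le_sup_left.trans le_sup_left
  have hCN : C ≤ N := le_sup_right.trans le_sup_right
  have hPN : P ≤ N := hN ▸ le_sup_right.trans le_sup_left
  have hQN : Q ≤ N := hN ▸ le_sup_right.trans le_sup_right
  have hBN : B ≤ Subgroup.normalizer (N : Set G) := by
    refine le_normalizer_of_conj fun g hg k hk => ?_
    have hle : conjBy N g ≤ N := by
      rw [hN, conjBy_sup, conjBy_sup, conjBy_sup,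
        conjBy_of_commute (A := P) fun p hp => comm_of_bot hBP hg hp,
        conjBy_of_commute (A := Q) fun q hq => comm_of_bot hBQ hg hq]
      refine sup_le (sup_le ((rcc_conjBy_le hg).trans le_sup_left) (le_sup_right.trans le_sup_left))
        (sup_le ((rcc_conjBy_le hg).trans ?_) (le_sup_right.trans le_sup_right))
      rw [eQ]; exact le_sup_right
    exact hle (conj_mem_conjBy hk g)
  have hRN : A ⊔ B ⊔ C ≤ Subgroup.normalizer (N : Set G) :=
    sup_le (sup_le (hAN.trans Subgroup.le_normalizer) hBN) (hCN.trans Subgroup.le_normalizer)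
  have hPR : P ≤ A ⊔ B ⊔ C := ((Subgroup.commutator_le.2 fun x hx y hy =>
    mul_mem (mul_mem (mul_mem (Subgroup.mem_sup_left hx) (Subgroup.mem_sup_right hy))
      (inv_mem (Subgroup.mem_sup_left hx))) (inv_mem (Subgroup.mem_sup_right hy))) : P ≤ A ⊔ B).trans le_sup_left
  have hQR : Q ≤ A ⊔ B ⊔ C := ((Subgroup.commutator_le.2 fun x hx y hy =>
    mul_mem (mul_mem (mul_mem (Subgroup.mem_sup_left hx) (Subgroup.mem_sup_right hy))
      (inv_mem (Subgroup.mem_sup_left hx))) (inv_mem (Subgroup.mem_sup_right hy))) : Q ≤ B ⊔ C).trans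
      (sup_le (le_sup_right.trans le_sup_left) le_sup_right)
  refine ⟨?_, hXY, fun r hr => conjBy_eq_self_iff.2 (hRN hr), le_antisymm ?_ ?_, ?_⟩
  · by_cases hz : ⁅A, Q⁆ = ⊥
    · exact Or.inl ⟨comm_bot_of_comm (fun _ hx _ hy => rs_comm hS hA hx hy)
          (fun _ hx _ hy => rs_comm hS hC' hx hy) (eX.trans hz),
        comm_bot_of_comm (fun _ hx _ hy => rs_comm hS hA' hx hy)
          (fun _ hx _ hy => rs_comm hS hC hx hy) (by rw [eY, hz, conjBy_bot])⟩
    · refine Or.inr ⟨⟨fun hc => hz ?_, cX2⟩, fun hc => hz ?_, cY2⟩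
      · rw [← eX]
        exact bot_of_comm fun x hx y hy => congrArg Subtype.val (hc.is_comm.comm
          (⟨x, Subgroup.mem_sup_left hx⟩ : ↥(A ⊔ C')) ⟨y, Subgroup.mem_sup_right hy⟩)
      · have : ⁅A', C⁆ = ⊥ := bot_of_comm fun x hx y hy => congrArg Subtype.val (hc.is_comm.comm
          (⟨x, Subgroup.mem_sup_left hx⟩ : ↥(A' ⊔ C)) ⟨y, Subgroup.mem_sup_right hy⟩)
        rw [eY, ← conjBy_bot (G := G) b⁻¹] at this
        exact conjBy_inj this
  · rw [hN]
    exact sup_le (sup_le (sup_le (le_sup_left.trans le_sup_left) hPR) (sup_le le_sup_right hQR))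
      (le_sup_right.trans le_sup_left)
  · exact sup_le (sup_le (hAN.trans le_sup_left) le_sup_right) (hCN.trans le_sup_left)
  -- nilpotency
  set W := ⁅N, N⁆ with hWd
  have hW0 : W ≤ ⁅A, C'⁆ ⊔ ⁅A', C⁆ := by
    set V := ⁅A, C'⁆ ⊔ ⁅A', C⁆
    have hVX : ⁅A, C'⁆ ≤ A ⊔ C' := Subgroup.commutator_le.2 fun x hx y hy =>
      mul_mem (mul_mem (mul_mem (Subgroup.mem_sup_left hx) (Subgroup.mem_sup_right hy))
        (inv_mem (Subgroup.mem_sup_left hx))) (inv_mem (Subgroup.mem_sup_right hy))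
    have hVY : ⁅A', C⁆ ≤ A' ⊔ C := Subgroup.commutator_le.2 fun x hx y hy =>
      mul_mem (mul_mem (mul_mem (Subgroup.mem_sup_left hx) (Subgroup.mem_sup_right hy))
        (inv_mem (Subgroup.mem_sup_left hx))) (inv_mem (Subgroup.mem_sup_right hy))
    have hV : N ≤ Subgroup.centralizer (V : Set G) := by
      refine sup_le (le_centralizer_of_bot (comm_bot_sup ?_ ?_)) (le_centralizer_of_bot (comm_bot_sup ?_ ?_))
      · exact bot_of_comm fun x hx w hw => (cX x hx w hw).symm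
      · exact comm_bot_mono le_rfl hVY hXY
      · exact comm_bot_mono le_rfl hVX (comm_bot_symm hXY)
      · exact bot_of_comm fun x hx w hw => (cY x hx w hw).symm
    have hVn : N ≤ Subgroup.normalizer (V : Set G) := hV.trans
      fun x hx => conjBy_eq_self_iff.1 (conjBy_of_commute fun v hv =>
        (Subgroup.mem_centralizer_iff.1 hx v hv).symm)
    have hn : ∀ x ∈ ((A ⊔ C' : Subgroup G) : Set G) ∪ (A' ⊔ C : Subgroup G),
        x ∈ Subgroup.normalizer (V : Set G) := fun x hx => hVn (hx.elim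
      (fun h => Subgroup.mem_sup_left h) fun h => Subgroup.mem_sup_right h)
    have := commutator_closure_le hn hn (fun x hx y hy => by
      rcases hx with hx | hx <;> rcases hy with hy | hy
      · exact Subgroup.mem_sup_left (dX (Subgroup.commutator_mem_commutator hx hy))
      · rw [commutatorElement_eq_one_iff_mul_comm.2 (comm_of_bot hXY hx hy)]; exact one_mem _
      · rw [commutatorElement_eq_one_iff_mul_comm.2 (comm_of_bot hXY hy hx).symm]; exact one_mem _
      · exact Subgroup.mem_sup_right (dY (Subgroup.commutator_mem_commutator hx hy)))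
    rwa [← Subgroup.sup_eq_closure] at this
  have hNW : ⁅N, W⁆ = ⊥ := by
    refine comm_bot_mono le_rfl hW0 (comm_bot_sup ?_ ?_)
    · refine comm_bot_symm (comm_bot_sup ?_ ?_)
      · exact bot_of_comm fun w hw x hx => cX x hx w hw
      · refine comm_bot_mono ?_ le_rfl hXY
        exact Subgroup.commutator_le.2 fun x hx y hy =>
          mul_mem (mul_mem (mul_mem (Subgroup.mem_sup_left hx) (Subgroup.mem_sup_right hy))
            (inv_mem (Subgroup.mem_sup_left hx))) (inv_mem (Subgroup.mem_sup_right hy))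
    · refine comm_bot_symm (comm_bot_sup ?_ ?_)
      · refine comm_bot_symm (comm_bot_mono le_rfl ?_ hXY)
        exact Subgroup.commutator_le.2 fun x hx y hy =>
          mul_mem (mul_mem (mul_mem (Subgroup.mem_sup_left hx) (Subgroup.mem_sup_right hy))
            (inv_mem (Subgroup.mem_sup_left hx))) (inv_mem (Subgroup.mem_sup_right hy))
      · exact bot_of_comm fun w hw x hx => cY x hx w hw
  have hWN : W ≤ N := Subgroup.commutator_le.2 fun x hx y hy =>
    mul_mem (mul_mem (mul_mem hx hy) (inv_mem hx)) (inv_mem hy)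
  have hBW : B ≤ Subgroup.normalizer (W : Set G) := fun g hg => conjBy_eq_self_iff.1 (by
    rw [hWd, conjBy_commutator, conjBy_eq_self_iff.2 (hBN hg)])
  have hRW : A ⊔ B ⊔ C ≤ Subgroup.normalizer (W : Set G) :=
    sup_le (sup_le ((hAN.trans Subgroup.le_normalizer).trans (fun g hg => conjBy_eq_self_iff.1 (by
      rw [hWd, conjBy_commutator, conjBy_eq_self_iff.2 hg]))) hBW)
      ((hCN.trans Subgroup.le_normalizer).trans (fun g hg => conjBy_eq_self_iff.1 (by
        rw [hWd, conjBy_commutator, conjBy_eq_self_iff.2 hg])))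
  set K₁ := P ⊔ Q ⊔ W
  set K₃ := ⁅P, Q⁆
  have hK₃W : K₃ ≤ W := Subgroup.commutator_mono hPN hQN
  set V := ⁅A, Q⁆ ⊔ ⁅P, C⁆ ⊔ K₃ with hVd
  have hVW : V ≤ W := sup_le (sup_le (Subgroup.commutator_mono hAN hQN) (Subgroup.commutator_mono hPN hCN)) hK₃W
  have hWV : W ≤ V := by
    have hVn : N ≤ Subgroup.normalizer (V : Set G) := fun x hx => conjBy_eq_self_iff.1
      (conjBy_of_commute fun v hv => comm_of_bot hNW hx (hVW hv))
    have hn : ∀ x ∈ ((A : Set G) ∪ P) ∪ ((C : Set G) ∪ Q), x ∈ Subgroup.normalizer (V : Set G) := by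
      rintro x ((hx | hx) | (hx | hx))
      exacts [hVn (hAN hx), hVn (hPN hx), hVn (hCN hx), hVn (hQN hx)]
    have h0 : ∀ {U U' : Subgroup G}, ⁅U, U'⁆ ≤ V → ∀ {x y : G}, x ∈ U → y ∈ U' →
        ⁅x, y⁆ ∈ V ∧ ⁅y, x⁆ ∈ V := fun hU x y hx hy =>
      ⟨hU (Subgroup.commutator_mem_commutator hx hy), by
        rw [← commutatorElement_inv]; exact inv_mem (hU (Subgroup.commutator_mem_commutator hx hy))⟩
    have e1 : ⁅A, A⁆ ≤ V := by rw [self hA]; exact bot_le
    have e2 : ⁅A, P⁆ ≤ V := by rw [hAP]; exact bot_le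
    have e3 : ⁅A, C⁆ ≤ V := by rw [hAC]; exact bot_le
    have e4 : ⁅A, Q⁆ ≤ V := le_sup_left.trans le_sup_left
    have e5 : ⁅P, P⁆ ≤ V := by rw [self hP.1]; exact bot_le
    have e6 : ⁅P, C⁆ ≤ V := le_sup_right.trans le_sup_left
    have e7 : ⁅P, Q⁆ ≤ V := le_sup_right
    have e8 : ⁅C, C⁆ ≤ V := by rw [self hC]; exact bot_le
    have e9 : ⁅C, Q⁆ ≤ V := by rw [hCQ]; exact bot_le
    have e10 : ⁅Q, Q⁆ ≤ V := by rw [self hQ.1]; exact bot_le
    have := commutator_closure_le hn hn (fun x hx y hy => by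
      rcases hx with (hx | hx) | (hx | hx) <;> rcases hy with (hy | hy) | (hy | hy)
      exacts [(h0 e1 hx hy).1, (h0 e2 hx hy).1, (h0 e3 hx hy).1, (h0 e4 hx hy).1,
        (h0 e2 hy hx).2, (h0 e5 hx hy).1, (h0 e6 hx hy).1, (h0 e7 hx hy).1,
        (h0 e3 hy hx).2, (h0 e6 hy hx).2, (h0 e8 hx hy).1, (h0 e9 hx hy).1,
        (h0 e4 hy hx).2, (h0 e7 hy hx).2, (h0 e9 hy hx).2, (h0 e10 hx hy).1])
    rwa [Subgroup.closure_union, Subgroup.closure_union, Subgroup.closure_union, Subgroup.closure_eq,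
      Subgroup.closure_eq, Subgroup.closure_eq, Subgroup.closure_eq, ← hN] at this
  -- the series `K₁ ≥ W ≥ K₃ ≥ ⊥`
  have hR : A ⊔ B ⊔ C = Subgroup.closure (((A : Set G) ∪ B) ∪ C) := by
    simp [Subgroup.closure_union]
  have hset : ∀ x ∈ ((A : Set G) ∪ B) ∪ C, x ∈ A ⊔ B ⊔ C := by
    intro x hx; rw [hR]; exact Subgroup.subset_closure hx
  have hRK₃ : ⁅A ⊔ B ⊔ C, K₃⁆ = ⊥ := by
    have h1 : B ≤ Subgroup.centralizer (K₃ : Set G) := by
      refine le_centralizer_of_bot (comm_bot_symm (bot_of_le_centralizer (Subgroup.commutator_le.2 ?_)))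
      intro x hx y hy
      have h1 := le_centralizer_of_bot (comm_bot_symm hBP) hx
      have h2 := le_centralizer_of_bot (comm_bot_symm hBQ) hy
      exact mul_mem (mul_mem (mul_mem h1 h2) (inv_mem h1)) (inv_mem h2)
    exact bot_of_le_centralizer (sup_le (sup_le
      ((le_centralizer_of_bot (comm_bot_mono hAN hK₃W hNW))) h1)
      (le_centralizer_of_bot (comm_bot_mono hCN hK₃W hNW)))
  have hRWK : ⁅W, A ⊔ B ⊔ C⁆ ≤ K₃ := by
    have hn3 : ∀ x ∈ A ⊔ B ⊔ C, x ∈ Subgroup.normalizer (K₃ : Set G) := fun x hx =>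
      conjBy_eq_self_iff.1 (conjBy_of_commute fun v hv => comm_of_bot hRK₃ hx hv)
    have hWR : W ≤ A ⊔ B ⊔ C := hWN.trans (by
      rw [hN]; exact sup_le (sup_le (le_sup_left.trans le_sup_left) hPR) (sup_le le_sup_right hQR))
    have := commutator_closure_le (s := ((⁅A, Q⁆ : Subgroup G) : Set G) ∪ (⁅P, C⁆ : Subgroup G) ∪ (K₃ : Set G))
      (t := ((A : Set G) ∪ B) ∪ C) (K := K₃)
      (fun x hx => hn3 x (hWR (hVW (by
        rcases hx with (hx | hx) | hx
        exacts [Subgroup.mem_sup_left (Subgroup.mem_sup_left hx),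
          Subgroup.mem_sup_left (Subgroup.mem_sup_right hx), Subgroup.mem_sup_right hx]))))
      (fun y hy => hn3 y (hset y hy)) ?_
    · rw [← hR, Subgroup.closure_union, Subgroup.closure_union, Subgroup.closure_eq,
        Subgroup.closure_eq, Subgroup.closure_eq, ← hVd] at this
      exact (Subgroup.commutator_mono hWV le_rfl).trans this
    intro x hx y hy
    rcases hy with (hy | hy) | hy
    · rw [commutatorElement_eq_one_iff_mul_comm.2 (comm_of_bot hNW (hAN hy) (hVW (by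
        rcases hx with (hx | hx) | hx
        exacts [Subgroup.mem_sup_left (Subgroup.mem_sup_left hx),
          Subgroup.mem_sup_left (Subgroup.mem_sup_right hx), Subgroup.mem_sup_right hx]))).symm]
      exact one_mem _
    swap
    · rw [commutatorElement_eq_one_iff_mul_comm.2 (comm_of_bot hNW (hCN hy) (hVW (by
        rcases hx with (hx | hx) | hx
        exacts [Subgroup.mem_sup_left (Subgroup.mem_sup_left hx),
          Subgroup.mem_sup_left (Subgroup.mem_sup_right hx), Subgroup.mem_sup_right hx]))).symm]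
      exact one_mem _
    -- the action of `B`
    have key : ∀ w ∈ V, y * w * y⁻¹ * w⁻¹ ∈ K₃ := by
      intro w hw
      have hc3 : ∀ k ∈ K₃, ∀ g ∈ N, g * k = k * g := fun k hk g hg => comm_of_bot hNW hg (hK₃W hk)
      have hA2 : ⁅A, Q⁆ ≤ (Subgroup.comap (MulAut.conj y).toMonoidHom ⊤) := le_top
      let T : Subgroup G :=
        { carrier := {u | u ∈ W ∧ y * u * y⁻¹ * u⁻¹ ∈ K₃}
          one_mem' := ⟨one_mem _, by simp⟩
          mul_mem' := fun {u v} hu hv => ⟨mul_mem hu.1 hv.1, by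
            rw [show y * (u * v) * y⁻¹ * (u * v)⁻¹ =
              y * u * y⁻¹ * (y * v * y⁻¹ * v⁻¹) * u⁻¹ by simp [mul_assoc],
              mul_assoc (y * u * y⁻¹), ← hc3 _ hv.2 u⁻¹ (inv_mem (hWN hu.1)), ← mul_assoc]
            exact mul_mem hu.2 hv.2⟩
          inv_mem' := fun {u} hu => ⟨inv_mem hu.1, by
            have h1 := hc3 _ (inv_mem hu.2) u⁻¹ (inv_mem (hWN hu.1))
            have h2 : y * u⁻¹ * y⁻¹ * u⁻¹⁻¹ = u⁻¹ * (y * u * y⁻¹ * u⁻¹)⁻¹ * u := by simp [mul_assoc]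
            rw [h2, h1, mul_assoc, inv_mul_cancel, mul_one]
            exact inv_mem hu.2⟩ }
      suffices hT : V ≤ T from (hT hw).2
      refine sup_le (sup_le (Subgroup.commutator_le.2 fun a ha q hq => ?_)
        (Subgroup.commutator_le.2 fun p hp c hc => ?_)) fun k hk => ⟨hK₃W hk, ?_⟩
      · refine ⟨hVW (Subgroup.mem_sup_left (Subgroup.mem_sup_left
          (Subgroup.commutator_mem_commutator ha hq))), ?_⟩
        obtain ⟨e1, e2⟩ := tri_shear hP hy ha
        have e3 : y * q * y⁻¹ = q := by rw [comm_of_bot hBQ hy hq, mul_inv_cancel_right]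
        have hk := Subgroup.commutator_mem_commutator (H₁ := P) (H₂ := Q) e2 hq
        have e4 : y * ⁅a, q⁆ * y⁻¹ = ⁅y * a * y⁻¹, q⁆ := by
          conv_rhs => rw [← e3]
          simp [commutatorElement_def, mul_assoc]
        rw [e4, e1, show ∀ p : G, ⁅a * p, q⁆ = a * ⁅p, q⁆ * a⁻¹ * ⁅a, q⁆ from fun p => by
          simp [commutatorElement_def, mul_assoc], mul_inv_cancel_right, hc3 _ hk a (hAN ha),
          mul_inv_cancel_right]
        exact hk
      · refine ⟨hVW (Subgroup.mem_sup_left (Subgroup.mem_sup_right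
          (Subgroup.commutator_mem_commutator hp hc))), ?_⟩
        obtain ⟨e1, e2⟩ := tri_shear hQ' hy hc
        rw [eQ] at e2
        have e3 : y * p * y⁻¹ = p := by rw [comm_of_bot hBP hy hp, mul_inv_cancel_right]
        have hk := Subgroup.commutator_mem_commutator (H₁ := P) (H₂ := Q) hp e2
        have e4 : y * ⁅p, c⁆ * y⁻¹ = ⁅p, y * c * y⁻¹⁆ := by
          conv_rhs => rw [← e3]
          simp [commutatorElement_def, mul_assoc]
        have hcW : ⁅p, c⁆ ∈ W := Subgroup.commutator_mem_commutator (hPN hp) (hCN hc)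
        rw [e4, e1, show ∀ u : G, ⁅p, c * u⁆ = ⁅p, c⁆ * (c * ⁅p, u⁆ * c⁻¹) from fun u => by
          simp [commutatorElement_def, mul_assoc], hc3 _ hk c (hCN hc), mul_inv_cancel_right,
          hc3 _ hk _ (hWN hcW), mul_inv_cancel_right]
        exact hk
      · rw [comm_of_bot hRK₃ (Subgroup.mem_sup_left (Subgroup.mem_sup_right hy)) hk,
          mul_inv_cancel_right, mul_inv_cancel]
        exact one_mem _
    have hxV : x ∈ V := by
      rcases hx with (hx | hx) | hx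
      exacts [Subgroup.mem_sup_left (Subgroup.mem_sup_left hx),
        Subgroup.mem_sup_left (Subgroup.mem_sup_right hx), Subgroup.mem_sup_right hx]
    rw [← commutatorElement_inv, commutatorElement_def]
    exact inv_mem (key x hxV)
  have hK₁n : A ⊔ B ⊔ C ≤ Subgroup.normalizer (K₁ : Set G) := by
    have hWK : W ≤ K₁ := le_sup_right
    have hstep : ∀ {H : Subgroup G}, ⁅H, P⁆ ≤ K₁ → ⁅H, Q⁆ ≤ K₁ → H ≤ Subgroup.normalizer (W : Set G) →
        H ≤ Subgroup.normalizer (K₁ : Set G) := by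
      intro H h1 h2 h3
      refine le_normalizer_of_conj fun g hg k hk => ?_
      have hle : conjBy K₁ g ≤ K₁ := by
        rw [conjBy_sup, conjBy_sup, conjBy_eq_self_iff.2 (h3 hg)]
        refine sup_le (sup_le ?_ ?_) hWK
        · rintro _ ⟨p, hp, rfl⟩
          exact conj_mem_of_comm_le (le_sup_left.trans le_sup_left) h1 hg hp
        · rintro _ ⟨q, hq, rfl⟩
          exact conj_mem_of_comm_le (le_sup_right.trans le_sup_left) h2 hg hq
      exact hle (conj_mem_conjBy hk g)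
    refine sup_le (sup_le ?_ ?_) ?_
    · exact hstep (by rw [hAP]; exact bot_le) ((Subgroup.commutator_mono hAN hQN).trans hWK)
        ((le_sup_left.trans le_sup_left).trans hRW)
    · exact hstep (by rw [hBP]; exact bot_le) (by rw [hBQ]; exact bot_le) hBW
    · exact hstep ((Subgroup.commutator_mono hCN hPN).trans hWK) (by rw [hCQ]; exact bot_le)
        (le_sup_right.trans hRW)
  have hK₁W : ⁅K₁, A ⊔ B ⊔ C⁆ ≤ W := by
    have hK₁R : K₁ ≤ A ⊔ B ⊔ C := sup_le (sup_le hPR hQR) (hWN.trans (by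
      rw [hN]; exact sup_le (sup_le (le_sup_left.trans le_sup_left) hPR) (sup_le le_sup_right hQR)))
    have := commutator_closure_le (s := ((P : Set G) ∪ Q) ∪ W) (t := ((A : Set G) ∪ B) ∪ C) (K := W)
      (fun x hx => hRW (hK₁R (by
        rcases hx with (hx | hx) | hx
        exacts [Subgroup.mem_sup_left (Subgroup.mem_sup_left hx),
          Subgroup.mem_sup_left (Subgroup.mem_sup_right hx), Subgroup.mem_sup_right hx])))
      (fun y hy => hRW (hset y hy)) (fun x hx y hy => ?_)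
    · rwa [← hR, Subgroup.closure_union, Subgroup.closure_union, Subgroup.closure_eq,
        Subgroup.closure_eq, Subgroup.closure_eq] at this
    have hbot : ∀ {U U' : Subgroup G}, ⁅U, U'⁆ = ⊥ → x ∈ U' → y ∈ U → ⁅x, y⁆ ∈ W := fun h hx hy => by
      rw [commutatorElement_eq_one_iff_mul_comm.2 (comm_of_bot h hy hx).symm]; exact one_mem _
    rcases hx with (hx | hx) | hx
    · rcases hy with (hy | hy) | hy
      · exact hbot hAP hx hy
      · exact hbot hBP hx hy
      · exact Subgroup.commutator_mem_commutator (hPN hx) (hCN hy)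
    · rcases hy with (hy | hy) | hy
      · exact Subgroup.commutator_mem_commutator (hQN hx) (hAN hy)
      · exact hbot hBQ hx hy
      · exact hbot hCQ hx hy
    · exact hK₃W (hRWK (Subgroup.commutator_mem_commutator hx (hset y hy)))
  have hRR : ⁅A ⊔ B ⊔ C, A ⊔ B ⊔ C⁆ ≤ K₁ := by
    have hWK : W ≤ K₁ := le_sup_right
    have hP1 : P ≤ K₁ := le_sup_left.trans le_sup_left
    have hQ1 : Q ≤ K₁ := le_sup_right.trans le_sup_left
    have := commutator_closure_le (fun x hx => hK₁n (hset x hx)) (fun x hx => hK₁n (hset x hx))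
      (s := ((A : Set G) ∪ B) ∪ C) (t := ((A : Set G) ∪ B) ∪ C) (fun x hx y hy => by
      rcases hx with (hx | hx) | hx <;> rcases hy with (hy | hy) | hy
      · rw [commutatorElement_eq_one_iff_mul_comm.2 (rs_comm hS hA hx hy)]; exact one_mem _
      · exact hP1 (Subgroup.commutator_mem_commutator hx hy)
      · rw [commutatorElement_eq_one_iff_mul_comm.2 (comm_of_bot hAC hx hy)]; exact one_mem _
      · rw [← commutatorElement_inv]; exact inv_mem (hP1 (Subgroup.commutator_mem_commutator hy hx))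
      · rw [commutatorElement_eq_one_iff_mul_comm.2 (rs_comm hS hB hx hy)]; exact one_mem _
      · exact hQ1 (Subgroup.commutator_mem_commutator hx hy)
      · rw [commutatorElement_eq_one_iff_mul_comm.2 (comm_of_bot hAC hy hx).symm]; exact one_mem _
      · rw [← commutatorElement_inv]; exact inv_mem (hQ1 (Subgroup.commutator_mem_commutator hy hx))
      · rw [commutatorElement_eq_one_iff_mul_comm.2 (rs_comm hS hC hx hy)]; exact one_mem _)
    rwa [← hR] at this
  refine (Subgroup.isNilpotent_iff_lowerCentralSeries _).2 ⟨4, ?_⟩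
  simp only [Subgroup.lowerCentralSeries_succ, Subgroup.lowerCentralSeries_zero]
  refine le_bot_iff.1 ?_
  rw [← hRK₃, Subgroup.commutator_comm (A ⊔ B ⊔ C) K₃]
  exact Subgroup.commutator_mono ((Subgroup.commutator_mono ((Subgroup.commutator_mono hRR le_rfl).trans
    hK₁W) le_rfl).trans hRWK) le_rfl

end CfsgLib.ThreeTransp
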