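import Mathlib
import Cfsg.Prelude.Def_Sporadic_a

/-!
Self-dual binary codes of length 24 and minimum weight 8.
-/

set_option autoImplicit false

namespace CfsgLib.ThreeTransp

open Cfsg
open scoped symmDiff

variable {C : Submodule (ZMod 2) (Fin 24 → ZMod 2)}

theorem sd_norm (w : Fin 24 → ZMod 2) : hammingNorm w = (support₂ w).card := rfl

theorem sd_support_add (v w : Fin 24 → ZMod 2) :
    support₂ (v + w) = support₂ v ∆ support₂ w := by
  ext a
  simp only [support₂, Finset.mem_filter, Finset.mem_univ, true_and, Pi.add_apply,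
    Finset.mem_symmDiff]
  generalize v a = x
  generalize w a = y
  revert x y
  decide

theorem sd_card_symmDiff (s t : Finset (Fin 24)) :
    (s ∆ t).card + 2 * (s ∩ t).card = s.card + t.card := by
  have hd : s ∆ t = (s \ t) ∪ (t \ s) := rfl
  rw [hd, Finset.card_union_of_disjoint disjoint_sdiff_sdiff]
  have h1 := Finset.card_sdiff_add_card_inter s t
  have h2 := Finset.card_sdiff_add_card_inter t s
  rw [Finset.inter_comm t s] at h2
  omega

theorem sd_inter_even (horth : ∀ v ∈ C, ∀ w ∈ C, ∑ i, v i * w i = 0) {v w : Fin 24 → ZMod 2}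
    (hv : v ∈ C) (hw : w ∈ C) : Even (support₂ v ∩ support₂ w).card := by
  have h := horth v hv w hw
  have h2 : ∑ i, v i * w i = ((support₂ v ∩ support₂ w).card : ZMod 2) := by
    rw [Finset.card_eq_sum_ones, Nat.cast_sum, Nat.cast_one, ← Finset.sum_subset
      (Finset.subset_univ (support₂ v ∩ support₂ w))]
    · refine Finset.sum_congr rfl fun i hi => ?_
      simp only [support₂, Finset.mem_inter, Finset.mem_filter, Finset.mem_univ, true_and] at hi
      revert hi
      generalize v i = x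
      generalize w i = y
      revert x y
      decide
    · intro i _ hi
      simp only [support₂, Finset.mem_inter, Finset.mem_filter, Finset.mem_univ, true_and] at hi
      revert hi
      generalize v i = x
      generalize w i = y
      revert x y
      decide
  rw [h2] at h
  exact ZMod.natCast_eq_zero_iff_even.1 h

theorem sd_weight_even (horth : ∀ v ∈ C, ∀ w ∈ C, ∑ i, v i * w i = 0) {v : Fin 24 → ZMod 2}
    (hv : v ∈ C) : Even (support₂ v).card := by
  simpa using sd_inter_even horth hv hv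

theorem sd_eq_zero (hmin : ∀ w ∈ C, w ≠ 0 → 8 ≤ hammingNorm w) {v : Fin 24 → ZMod 2} (hv : v ∈ C)
    (h : (support₂ v).card < 8) : v = 0 := by
  by_contra hne
  have := hmin v hv hne
  rw [sd_norm] at this
  omega

theorem sd_add_self (v : Fin 24 → ZMod 2) : v + v = 0 :=
  funext fun i => (by decide : ∀ a : ZMod 2, a + a = 0) (v i)

theorem sd_add_eq_zero {v w : Fin 24 → ZMod 2} (h : v + w = 0) : v = w := by
  calc v = v + (w + w) := by rw [sd_add_self, add_zero]
    _ = w := by rw [← add_assoc, h, zero_add]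

theorem sd_octad_exists (hdim : Module.finrank (ZMod 2) C = 12)
    (horth : ∀ v ∈ C, ∀ w ∈ C, ∑ i, v i * w i = 0)
    (hmin : ∀ w ∈ C, w ≠ 0 → 8 ≤ hammingNorm w) {F : Finset (Fin 24)} (hF : F.card = 5) :
    ∃ c ∈ C, (support₂ c).card = 8 ∧ F ⊆ support₂ c := by
  classical
  obtain ⟨p, hp⟩ := Finset.card_pos.1 (by omega : 0 < F.card)
  set Ball := (Finset.range 4).biUnion fun k => ((Finset.univ : Finset (Fin 24)).erase p).powersetCard k
    with hBall
  have hcardBall : Ball.card = 2048 := by
    rw [hBall, Finset.card_biUnion]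
    · simp only [Finset.card_powersetCard, Finset.card_erase_of_mem (Finset.mem_univ p),
        Finset.card_univ, Fintype.card_fin]
      decide
    · intro i _ j _ hij
      rw [Function.onFun, Finset.disjoint_left]
      intro s hs hs'
      rw [Finset.mem_powersetCard] at hs hs'
      exact hij (hs.2.symm.trans hs'.2)
  have hmemBall : ∀ E, E ∈ Ball ↔ p ∉ E ∧ E.card ≤ 3 := by
    intro E
    simp only [hBall, Finset.mem_biUnion, Finset.mem_range, Finset.mem_powersetCard]
    constructor
    · rintro ⟨k, hk, hsub, rfl⟩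
      exact ⟨fun hpE => (Finset.mem_erase.1 (hsub hpE)).1 rfl, by omega⟩
    · rintro ⟨hpE, hE⟩
      exact ⟨E.card, by omega, fun x hx => Finset.mem_erase.2
        ⟨fun e => hpE (e ▸ hx), Finset.mem_univ x⟩, rfl⟩
  let T : Bool → Finset (Fin 24) := fun t => if t then {p} else ∅
  have hT : ∀ t, T t ⊆ {p} := fun t => by cases t <;> simp [T]
  let ψ : C × Ball × Bool → Finset (Fin 24) := fun x =>
    support₂ (x.1 : Fin 24 → ZMod 2) ∆ ((x.2.1 : Finset (Fin 24)) ∆ T x.2.2)
  have hinj : Function.Injective ψ := by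
    rintro ⟨⟨c, hc⟩, ⟨E, hE⟩, t⟩ ⟨⟨c', hc'⟩, ⟨E', hE'⟩, t'⟩ h
    simp only [ψ] at h
    obtain ⟨hpE, hEc⟩ := (hmemBall E).1 hE
    obtain ⟨hpE', hEc'⟩ := (hmemBall E').1 hE'
    have h1 : support₂ c ∆ support₂ c' = (E ∆ T t) ∆ (E' ∆ T t') := by
      have h2 := congrArg (fun s => support₂ c ∆ s ∆ (E' ∆ T t')) h
      simp only [← symmDiff_assoc, symmDiff_self, bot_symmDiff] at h2
      rw [← symmDiff_assoc (E ∆ T t) E' (T t'), h2]
      simp [symmDiff_assoc]
    have hsub : (E ∆ T t) ∆ (E' ∆ T t') ⊆ E ∪ E' ∪ {p} := by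
      intro x hx
      have h0 : x ∈ E ∪ T t ∨ x ∈ E' ∪ T t' := by
        simp only [Finset.mem_symmDiff, Finset.mem_union] at hx ⊢
        tauto
      simp only [Finset.mem_union] at h0 ⊢
      rcases h0 with (h0 | h0) | (h0 | h0)
      · exact Or.inl (Or.inl h0)
      · exact Or.inr (hT _ h0)
      · exact Or.inl (Or.inr h0)
      · exact Or.inr (hT _ h0)
    have hlt : (support₂ (c + c')).card < 8 := by
      rw [sd_support_add, h1]
      have := (Finset.card_le_card hsub).trans (Finset.card_union_le _ _)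
      have := Finset.card_union_le E E'
      simp only [Finset.card_singleton] at *
      omega
    have hcc : c = c' := sd_add_eq_zero (sd_eq_zero hmin (add_mem hc hc') hlt)
    subst hcc
    have h2 : E ∆ T t = E' ∆ T t' := symmDiff_right_injective _ h
    have ht : t = t' := by
      have h3 := Finset.ext_iff.1 h2 p
      cases t <;> cases t' <;> simp [T, Finset.mem_symmDiff, hpE, hpE'] at h3 ⊢
    subst ht
    have h3 : E = E' := symmDiff_left_injective _ h2
    subst h3
    rfl
  have hcard : Nat.card (C × Ball × Bool) = Nat.card (Finset (Fin 24)) := by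
    have hC : Nat.card C = 2 ^ 12 := by
      rw [Module.natCard_eq_pow_finrank (K := ZMod 2), hdim, Nat.card_zmod]
    rw [Nat.card_prod, Nat.card_prod, hC, Nat.card_eq_finsetCard, hcardBall]
    simp
  obtain ⟨⟨⟨c, hc⟩, ⟨E, hE⟩, t⟩, hψ⟩ := ((Nat.bijective_iff_injective_and_card ψ).2 ⟨hinj, hcard⟩).2 F
  simp only [ψ] at hψ
  obtain ⟨hpE, hEc⟩ := (hmemBall E).1 hE
  have hcs : support₂ c = F ∆ (E ∆ T t) := by rw [← hψ, symmDiff_symmDiff_cancel_right]
  have hle : (support₂ c).card ≤ 9 := by
    rw [hcs]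
    have h1 := sd_card_symmDiff F (E ∆ T t)
    have h2 := sd_card_symmDiff E (T t)
    have h3 : (T t).card ≤ 1 := (Finset.card_le_card (hT t)).trans (by simp)
    omega
  have hne : c ≠ 0 := by
    rintro rfl
    have h0 : support₂ (0 : Fin 24 → ZMod 2) = ∅ := by simp [support₂]
    rw [h0] at hcs
    have h1 : F = E ∆ T t := symmDiff_eq_bot.1 hcs.symm
    have h2 := sd_card_symmDiff E (T t)
    have h3 : (T t).card ≤ 1 := (Finset.card_le_card (hT t)).trans (by simp)
    rw [← h1] at h2
    omega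
  have hge := hmin c hc hne
  rw [sd_norm] at hge
  obtain ⟨k, hk⟩ := sd_weight_even horth hc
  have h8 : (support₂ c).card = 8 := by omega
  refine ⟨c, hc, h8, ?_⟩
  -- the set `E` is disjoint from `F` and `t` is false
  cases t
  · have h4 : support₂ c = F ∆ E := by
      rw [hcs, show T false = ⊥ from rfl, symmDiff_bot]
    have h1 := sd_card_symmDiff F E
    rw [← h4, h8] at h1
    have h5 : (F ∩ E).card = 0 := by omega
    rw [Finset.card_eq_zero] at h5
    intro x hx
    rw [h4, Finset.mem_symmDiff]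
    exact Or.inl ⟨hx, fun hxE => by simpa [h5] using Finset.mem_inter.2 ⟨hx, hxE⟩⟩
  · exfalso
    have hsub : support₂ c ⊆ F.erase p ∪ E := by
      intro x hx
      rw [hcs] at hx
      simp only [T, if_true, Finset.mem_symmDiff, Finset.mem_singleton, Finset.mem_union,
        Finset.mem_erase] at hx ⊢
      by_cases hxp : x = p
      · subst hxp; tauto
      · tauto
    have h1 := (Finset.card_le_card hsub).trans (Finset.card_union_le _ _)
    rw [Finset.card_erase_of_mem hp, hF] at h1
    omega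

theorem sd_doubly_even (hdim : Module.finrank (ZMod 2) C = 12)
    (horth : ∀ v ∈ C, ∀ w ∈ C, ∑ i, v i * w i = 0)
    (hmin : ∀ w ∈ C, w ≠ 0 → 8 ≤ hammingNorm w) :
    ∀ w ∈ C, 4 ∣ hammingNorm w := by
  suffices h : ∀ n, ∀ w ∈ C, (support₂ w).card = n → 4 ∣ n by
    intro w hw; exact h _ w hw rfl
  intro n
  induction n using Nat.strong_induction_on with
  | _ n ih =>
    intro w hw hn
    by_cases h5 : n < 8
    · have := sd_eq_zero hmin hw (by omega)
      subst this
      rw [← hn]; simp [support₂]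
    obtain ⟨F, hFw, hF⟩ := Finset.exists_subset_card_eq (s := support₂ w) (n := 5) (by omega)
    obtain ⟨c, hc, hc8, hFc⟩ := sd_octad_exists hdim horth hmin hF
    have h1 := sd_card_symmDiff (support₂ w) (support₂ c)
    rw [← sd_support_add, hc8, hn] at h1
    have h2 : 5 ≤ (support₂ w ∩ support₂ c).card :=
      hF ▸ Finset.card_le_card (Finset.subset_inter hFw hFc)
    obtain ⟨k, hk⟩ := sd_inter_even horth hw hc
    obtain ⟨m, hm⟩ := ih _ (by omega) (w + c) (add_mem hw hc) rfl
    omega

theorem sd_steiner (hdim : Module.finrank (ZMod 2) C = 12)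
    (horth : ∀ v ∈ C, ∀ w ∈ C, ∑ i, v i * w i = 0)
    (hmin : ∀ w ∈ C, w ≠ 0 → 8 ≤ hammingNorm w) :
    (∃ w ∈ C, hammingNorm w = 8) ∧
      IsSteinerSystem 5 8 (wordsOfWeight (C : Set (Fin 24 → ZMod 2)) 8) := by
  refine ⟨?_, fun b hb => hb.2, fun s hs => ?_⟩
  · obtain ⟨F, -, hF⟩ := Finset.exists_subset_card_eq (s := (Finset.univ : Finset (Fin 24)))
      (n := 5) (by simp)
    obtain ⟨c, hc, h8, -⟩ := sd_octad_exists hdim horth hmin hF
    exact ⟨c, hc, h8⟩
  · obtain ⟨c, hc, h8, hsc⟩ := sd_octad_exists hdim horth hmin hs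
    refine ⟨support₂ c, ⟨⟨⟨c, hc, rfl⟩, h8⟩, hsc⟩, ?_⟩
    rintro _ ⟨⟨⟨d, hd, rfl⟩, hd8⟩, hsd⟩
    have h1 := sd_card_symmDiff (support₂ d) (support₂ c)
    rw [← sd_support_add, hd8, h8] at h1
    have h2 : 5 ≤ (support₂ d ∩ support₂ c).card :=
      hs ▸ Finset.card_le_card (Finset.subset_inter hsd hsc)
    rw [sd_add_eq_zero (sd_eq_zero hmin (add_mem hd hc) (by omega))]

end CfsgLib.ThreeTransp
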