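import Mathlib
import Cfsg.Agent.Lib.ThreeTransp.SelfDual24

/-!
Cosets and octads of a self-dual [24, 12, 8] code.
-/

set_option autoImplicit false

namespace CfsgLib.ThreeTransp

open Cfsg
open scoped symmDiff

variable {C : Submodule (ZMod 2) (Fin 24 → ZMod 2)}

/-- Every vector is within distance four of the code, with a prescribed point in the difference or
within distance three. -/
theorem sd_cover (hdim : Module.finrank (ZMod 2) C = 12)
    (hmin : ∀ w ∈ C, w ≠ 0 → 8 ≤ hammingNorm w) (p : Fin 24) (F : Finset (Fin 24)) :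
    ∃ c ∈ C, (support₂ c ∆ F).card ≤ 3 ∨ ((support₂ c ∆ F).card ≤ 4 ∧ p ∈ support₂ c ∆ F) := by
  classical
  set Ball := (Finset.range 4).biUnion fun k => ((Finset.univ : Finset (Fin 24)).erase p).powersetCard k
    with hBall
  have hcardBall : Ball.card = 2048 := by
    rw [hBall, Finset.card_biUnion]
    · simp only [Finset.card_powersetCard, Finset.card_erase_of_mem (Finset.mem_univ p),
        Finset.card_univ, Fintype.card_fin]
      decide
    · intro i _ j _ hij
      rw [Function.onFun, Finset.disjoint_left]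
      intro s hs hs'
      rw [Finset.mem_powersetCard] at hs hs'
      exact hij (hs.2.symm.trans hs'.2)
  have hmemBall : ∀ E, E ∈ Ball → p ∉ E ∧ E.card ≤ 3 := by
    intro E
    simp only [hBall, Finset.mem_biUnion, Finset.mem_range, Finset.mem_powersetCard]
    rintro ⟨k, hk, hsub, rfl⟩
    exact ⟨fun hpE => (Finset.mem_erase.1 (hsub hpE)).1 rfl, by omega⟩
  let T : Bool → Finset (Fin 24) := fun t => if t then {p} else ∅
  have hT : ∀ t, T t ⊆ {p} := fun t => by cases t <;> simp [T]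
  let ψ : C × Ball × Bool → Finset (Fin 24) := fun x =>
    support₂ (x.1 : Fin 24 → ZMod 2) ∆ ((x.2.1 : Finset (Fin 24)) ∆ T x.2.2)
  have hinj : Function.Injective ψ := by
    rintro ⟨⟨c, hc⟩, ⟨E, hE⟩, t⟩ ⟨⟨c', hc'⟩, ⟨E', hE'⟩, t'⟩ h
    simp only [ψ] at h
    obtain ⟨hpE, hEc⟩ := hmemBall E hE
    obtain ⟨hpE', hEc'⟩ := hmemBall E' hE'
    have hsub : support₂ c ∆ support₂ c' ⊆ E ∪ E' ∪ {p} := by
      intro x hx
      have h1 := Finset.ext_iff.1 h x
      simp only [Finset.mem_symmDiff, Finset.mem_union] at hx h1 ⊢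
      by_contra hn
      push Not at hn
      have a1 : x ∉ T t := fun m => hn.2 (hT t m)
      have a2 : x ∉ T t' := fun m => hn.2 (hT t' m)
      tauto
    have hlt : (support₂ (c + c')).card < 8 := by
      rw [sd_support_add]
      have h1 := (Finset.card_le_card hsub).trans (Finset.card_union_le _ _)
      have h2 := Finset.card_union_le E E'
      rw [Finset.card_singleton] at h1
      omega
    have hcc : c = c' := sd_add_eq_zero (sd_eq_zero hmin (add_mem hc hc') hlt)
    subst hcc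
    have h2 : E ∆ T t = E' ∆ T t' := symmDiff_right_injective _ h
    have ht : t = t' := by
      have h3 := Finset.ext_iff.1 h2 p
      cases t <;> cases t' <;> simp [T, Finset.mem_symmDiff, hpE, hpE'] at h3 ⊢
    subst ht
    have h3 : E = E' := symmDiff_left_injective _ h2
    subst h3
    rfl
  have hcard : Nat.card (C × Ball × Bool) = Nat.card (Finset (Fin 24)) := by
    have hC : Nat.card C = 2 ^ 12 := by
      rw [Module.natCard_eq_pow_finrank (K := ZMod 2), hdim, Nat.card_zmod]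
    rw [Nat.card_prod, Nat.card_prod, hC, Nat.card_eq_finsetCard, hcardBall]
    simp
  obtain ⟨⟨⟨c, hc⟩, ⟨E, hE⟩, t⟩, hψ⟩ := ((Nat.bijective_iff_injective_and_card ψ).2 ⟨hinj, hcard⟩).2 F
  simp only [ψ] at hψ
  obtain ⟨hpE, hEc⟩ := hmemBall E hE
  refine ⟨c, hc, ?_⟩
  have hcs : support₂ c ∆ F = E ∆ T t := by rw [← hψ, symmDiff_symmDiff_cancel_left]
  rw [hcs]
  cases t
  · left; rw [show T false = ⊥ from rfl, symmDiff_bot]; exact hEc
  · right
    have h1 := sd_card_symmDiff E (T true)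
    have h2 : (T true).card = 1 := rfl
    refine ⟨by omega, ?_⟩
    simp [T, Finset.mem_symmDiff, hpE]

theorem sd_coset (hdim : Module.finrank (ZMod 2) C = 12)
    (hmin : ∀ w ∈ C, w ≠ 0 → 8 ≤ hammingNorm w) (w : Fin 24 → ZMod 2) :
    (∃ u : Fin 24 → ZMod 2, {u : Fin 24 → ZMod 2 | u - w ∈ C ∧ hammingNorm u ≤ 4} = {u} ∧
      hammingNorm u ≤ 3) ∨
    ({u : Fin 24 → ZMod 2 | u - w ∈ C ∧ hammingNorm u ≤ 4}.ncard = 6 ∧
      ∀ u ∈ {u : Fin 24 → ZMod 2 | u - w ∈ C ∧ hammingNorm u ≤ 4}, hammingNorm u = 4 ∧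
        ∀ u' ∈ {u : Fin 24 → ZMod 2 | u - w ∈ C ∧ hammingNorm u ≤ 4}, u ≠ u' →
          Disjoint (Finset.univ.filter fun i => u i ≠ 0) (Finset.univ.filter fun i => u' i ≠ 0)) := by
  set U := {u : Fin 24 → ZMod 2 | u - w ∈ C ∧ hammingNorm u ≤ 4} with hU
  have hpair : ∀ u ∈ U, ∀ u' ∈ U, u ≠ u' →
      8 + 2 * (support₂ u ∩ support₂ u').card ≤ (support₂ u).card + (support₂ u').card := by
    rintro u ⟨hu, -⟩ u' ⟨hu', -⟩ hne
    have hmem : u + u' ∈ C := by
      have e : u + u' = (u - w) - (u' - w) :=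
        funext fun i => (by decide : ∀ a b c : ZMod 2, a + b = (a - c) - (b - c)) (u i) (u' i) (w i)
      rw [e]; exact sub_mem hu hu'
    have h8 := hmin _ hmem fun h => hne (sd_add_eq_zero h)
    rw [sd_norm, sd_support_add] at h8
    have h1 := sd_card_symmDiff (support₂ u) (support₂ u')
    omega
  have hcov : ∀ p : Fin 24, ∃ u ∈ U, (support₂ u).card ≤ 3 ∨ p ∈ support₂ u := by
    intro p
    obtain ⟨c, hc, h⟩ := sd_cover hdim hmin p (support₂ w)
    rw [← sd_support_add] at h
    refine ⟨c + w, ⟨by rw [add_sub_cancel_right]; exact hc, ?_⟩, h.imp id (·.2)⟩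
    rw [sd_norm]
    rcases h with h | ⟨h, -⟩ <;> omega
  by_cases hex : ∃ u ∈ U, (support₂ u).card ≤ 3
  · obtain ⟨u, hu, h3⟩ := hex
    refine Or.inl ⟨u, Set.eq_singleton_iff_unique_mem.2 ⟨hu, fun u' hu' => ?_⟩, h3⟩
    by_contra hne
    have h1 := hpair u' hu' u hu hne
    have h2 := hu'.2
    rw [sd_norm] at h2
    omega
  · push Not at hex
    right
    have h4 : ∀ u ∈ U, (support₂ u).card = 4 := fun u hu => by
      have h1 := hex u hu
      have h2 := hu.2
      rw [sd_norm] at h2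
      omega
    have hdisj : ∀ u ∈ U, ∀ u' ∈ U, u ≠ u' → Disjoint (support₂ u) (support₂ u') := by
      intro u hu u' hu' hne
      have h := hpair u hu u' hu' hne
      rw [h4 u hu, h4 u' hu'] at h
      rw [Finset.disjoint_iff_inter_eq_empty, ← Finset.card_eq_zero]
      omega
    refine ⟨?_, fun u hu => ⟨h4 u hu, hdisj u hu⟩⟩
    classical
    have hfin : U.Finite := U.toFinite
    have hunion : hfin.toFinset.biUnion support₂ = (Finset.univ : Finset (Fin 24)) := by
      refine Finset.eq_univ_iff_forall.2 fun p => ?_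
      obtain ⟨u, hu, h | h⟩ := hcov p
      · exact absurd (h4 u hu) (by omega)
      · exact Finset.mem_biUnion.2 ⟨u, hfin.mem_toFinset.2 hu, h⟩
    have hc := congrArg Finset.card hunion
    rw [Finset.card_biUnion (fun u hu u' hu' hne =>
      hdisj u (hfin.mem_toFinset.1 hu) u' (hfin.mem_toFinset.1 hu') hne),
      Finset.sum_congr rfl (fun u hu => h4 u (hfin.mem_toFinset.1 hu)), Finset.sum_const,
      Finset.card_univ, Fintype.card_fin, smul_eq_mul] at hc
    rw [Set.ncard_eq_toFinset_card U hfin]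
    omega

theorem sd_span_octads (hdim : Module.finrank (ZMod 2) C = 12)
    (horth : ∀ v ∈ C, ∀ w ∈ C, ∑ i, v i * w i = 0)
    (hmin : ∀ w ∈ C, w ≠ 0 → 8 ≤ hammingNorm w) :
    Submodule.span (ZMod 2) {w : Fin 24 → ZMod 2 | w ∈ C ∧ hammingNorm w = 8} = C := by
  refine le_antisymm (Submodule.span_le.2 fun x hx => hx.1) ?_
  suffices h : ∀ n, ∀ w ∈ C, (support₂ w).card = n →
      w ∈ Submodule.span (ZMod 2) {w : Fin 24 → ZMod 2 | w ∈ C ∧ hammingNorm w = 8} by
    intro w hw; exact h _ w hw rfl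
  intro n
  induction n using Nat.strong_induction_on with
  | _ n ih =>
    intro w hw hn
    by_cases h5 : n < 8
    · rw [sd_eq_zero hmin hw (by omega)]; exact zero_mem _
    obtain ⟨F, hFw, hF⟩ := Finset.exists_subset_card_eq (s := support₂ w) (n := 5) (by omega)
    obtain ⟨c, hc, hc8, hFc⟩ := sd_octad_exists hdim horth hmin hF
    have h1 := sd_card_symmDiff (support₂ w) (support₂ c)
    rw [← sd_support_add, hc8, hn] at h1
    have h2 : 5 ≤ (support₂ w ∩ support₂ c).card :=
      hF ▸ Finset.card_le_card (Finset.subset_inter hFw hFc)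
    have h3 : w = (w + c) + c := by rw [add_assoc, sd_add_self, add_zero]
    rw [h3]
    exact add_mem (ih _ (by omega) (w + c) (add_mem hw hc) rfl) (Submodule.subset_span ⟨hc, hc8⟩)

end CfsgLib.ThreeTransp
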