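import Mathlib
import Cfsg.Agent.Lib.PGroups.Extraspecial
import Cfsg.Agent.Lib.Base.Cores
import Cfsg.Agent.Lib.PLocal.QdOverApps

/-!
Singular subgroups in the large extraspecial setting.
-/

set_option autoImplicit false

namespace CfsgLib.ThreeTransp

open Cfsg

open scoped commutatorElement

variable {G : Type*} [Group G] [Finite G]

/-- The largest normal 2-subgroup of a centraliser, in the ambient group. -/
abbrev centCore (x : G) : Subgroup G :=
  (pCore 2 ↥(Subgroup.centralizer ({x} : Set G))).map (Subgroup.centralizer ({x} : Set G)).subtype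

omit [Finite G] in
theorem centCore_conj_le (g x : G) :
    (centCore x).map (MulAut.conj g).toMonoidHom ≤ centCore (g * x * g⁻¹) := by
  refine Base.le_map_pCore ?_ ?_ ((Base.isPGroup_map_pCore 2 _).map _)
  · rintro _ ⟨y, hy, rfl⟩
    have hy' : y ∈ Subgroup.centralizer ({x} : Set G) := Subgroup.map_subtype_le _ hy
    rw [Subgroup.mem_centralizer_singleton_iff] at hy' ⊢
    show g * y * g⁻¹ * (g * x * g⁻¹) = g * x * g⁻¹ * (g * y * g⁻¹)
    calc g * y * g⁻¹ * (g * x * g⁻¹) = g * (y * x) * g⁻¹ := by group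
      _ = g * (x * y) * g⁻¹ := by rw [hy']
      _ = g * x * g⁻¹ * (g * y * g⁻¹) := by group
  · intro c hc
    have hc' : g⁻¹ * c * g ∈ Subgroup.centralizer ({x} : Set G) := by
      rw [Subgroup.mem_centralizer_singleton_iff] at hc ⊢
      calc g⁻¹ * c * g * x = g⁻¹ * (c * (g * x * g⁻¹)) * g := by group
        _ = g⁻¹ * (g * x * g⁻¹ * c) * g := by rw [hc]
        _ = x * (g⁻¹ * c * g) := by group
    have hn := Subgroup.mem_normalizer_iff.1 (Base.le_normalizer_map_pCore (p := 2) _ hc')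
    rw [Subgroup.mem_normalizer_iff]
    intro y
    rw [Subgroup.mem_map_equiv, Subgroup.mem_map_equiv, hn]
    simp [mul_assoc]

omit [Finite G] in
theorem centCore_conj (g x : G) :
    (centCore x).map (MulAut.conj g).toMonoidHom = centCore (g * x * g⁻¹) := by
  refine le_antisymm (centCore_conj_le g x) fun y hy => ?_
  have h := centCore_conj_le g⁻¹ (g * x * g⁻¹) ⟨y, hy, rfl⟩
  rw [show g⁻¹ * (g * x * g⁻¹) * g⁻¹⁻¹ = x by group] at h
  exact ⟨_, h, by simp [mul_assoc]⟩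

/-- The data attached to a member of a singular subgroup. -/
theorem singular_member {z u g : G} (hz : orderOf z = 2) (hE : IsExtraspecial 2 ↥(centCore z))
    (hu : g * z * g⁻¹ = u) :
    centCore u ≤ Subgroup.centralizer ({u} : Set G) ∧ u ∈ centCore u ∧
      IsExtraspecial 2 ↥(centCore u) ∧
      ∀ c : centCore u, c ∈ Subgroup.center ↥(centCore u) → (c : G) = 1 ∨ (c : G) = u := by
  haveI : Fact (Nat.Prime 2) := ⟨Nat.prime_two⟩
  have hle : centCore u ≤ Subgroup.centralizer ({u} : Set G) := Subgroup.map_subtype_le _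
  have ho : orderOf u = 2 := by
    rw [← hu, ← hz]
    exact orderOf_injective (MulAut.conj g).toMonoidHom (MulAut.conj g).injective z
  have hmem : u ∈ centCore u := by
    set C := Subgroup.centralizer ({u} : Set G) with hC
    have huC : u ∈ C := Subgroup.mem_centralizer_singleton_iff.2 rfl
    set u' : C := ⟨u, huC⟩
    haveI : (Subgroup.zpowers u').Normal := ⟨fun n hn c => by
      obtain ⟨i, rfl⟩ := Subgroup.mem_zpowers_iff.1 hn
      have hcu : Commute c u' := Subtype.ext (Subgroup.mem_centralizer_singleton_iff.1 c.2)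
      rw [(hcu.zpow_right i).eq, mul_inv_cancel_right]
      exact Subgroup.zpow_mem _ (Subgroup.mem_zpowers u') i⟩
    have hp : IsPGroup 2 (Subgroup.zpowers u') :=
      IsPGroup.of_card (n := 1) (by rw [Nat.card_zpowers, ← Subgroup.orderOf_coe, ho, pow_one])
    exact ⟨u', Base.le_pCore hp (Subgroup.mem_zpowers u'), rfl⟩
  have hE' : IsExtraspecial 2 ↥(centCore u) := by
    subst hu
    rw [← centCore_conj]
    exact PLocal.Affine.extraspecial_of_equiv
      ((centCore z).equivMapOfInjective _ (MulAut.conj g).injective) hE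
  refine ⟨hle, hmem, hE', fun c hc => ?_⟩
  have hu' : (⟨u, hmem⟩ : centCore u) ∈ Subgroup.center ↥(centCore u) :=
    Subgroup.mem_center_iff.2 fun q =>
      Subtype.ext (Subgroup.mem_centralizer_singleton_iff.1 (hle q.2))
  haveI : Fintype (Subgroup.center ↥(centCore u)) := Fintype.ofFinite _
  by_contra hcon
  push Not at hcon
  classical
  set e₀ : Subgroup.center ↥(centCore u) := ⟨1, one_mem _⟩
  set e₁ : Subgroup.center ↥(centCore u) := ⟨_, hu'⟩
  set e₂ : Subgroup.center ↥(centCore u) := ⟨c, hc⟩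
  have h3 : ({e₀, e₁, e₂} : Finset _).card = 3 := by
    rw [Finset.card_eq_three]
    refine ⟨_, _, _, ?_, ?_, ?_, rfl⟩ <;> intro e
    · have e2 : (1 : G) = u := congrArg (fun q => ((q.1 : centCore u) : G)) e
      rw [← e2, orderOf_one] at ho
      omega
    · exact hcon.1 (congrArg (fun q => ((q.1 : centCore u) : G)) e).symm
    · exact hcon.2 (congrArg (fun q => ((q.1 : centCore u) : G)) e).symm
  have h4 := Finset.card_le_univ ({e₀, e₁, e₂} : Finset _)
  rw [h3, ← Nat.card_eq_fintype_card, hE'.2] at h4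
  omega

/-- The singular hypotheses. -/
structure Singular (z : G) (U : Subgroup G) : Prop where
  inv : orderOf z = 2
  extra : IsExtraspecial 2 ↥(centCore z)
  conj : ∀ u ∈ U, u ≠ 1 → ∃ g : G, g * z * g⁻¹ = u
  orth : ∀ u ∈ U, ∀ v ∈ U, u ≠ 1 → v ≠ 1 → v ∈ centCore u

variable {z : G} {U : Subgroup G}

theorem Singular.le_centCore (hS : Singular z U) {u : G} (hu : u ∈ U) (hu1 : u ≠ 1) : U ≤ centCore u := by
  intro v hv
  rcases eq_or_ne v 1 with rfl | hv1
  · exact one_mem _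
  · exact hS.orth u hu v hv hu1 hv1

theorem Singular.comm_mem (hS : Singular z U) {u x y : G} (hu : u ∈ U) (hu1 : u ≠ 1)
    (hx : x ∈ centCore u) (hy : y ∈ centCore u) : x * y * x⁻¹ = y ∨ x * y * x⁻¹ = u * y := by
  haveI : Fact (Nat.Prime 2) := ⟨Nat.prime_two⟩
  obtain ⟨g, hg⟩ := hS.conj u hu hu1
  obtain ⟨-, -, hE, hc⟩ := singular_member hS.inv hS.extra hg
  rcases hc _ (PGroups.Extraspecial.commutator_mem_center hE ⟨x, hx⟩ ⟨y, hy⟩) with h | h <;>
    simp only [commutatorElement_def, Subgroup.coe_mul, Subgroup.coe_inv] at h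
  · exact Or.inl (mul_inv_eq_one.1 h)
  · exact Or.inr (mul_inv_eq_iff_eq_mul.1 h)

/-- Transvections induced by the cores. -/
theorem Singular.exists_transvection (hS : Singular z U) {u w : G} {H : Subgroup G} (hu : u ∈ U)
    (hu1 : u ≠ 1) (huH : u ∈ H) (hHQ : H ≤ centCore u) (hwQ : w ∈ centCore u) (hwH : w ∉ H) :
    ∃ x ∈ centCore u, (∀ h ∈ H, x * h * x⁻¹ = h) ∧ x * w * x⁻¹ = u * w := by
  haveI : Fact (Nat.Prime 2) := ⟨Nat.prime_two⟩
  obtain ⟨g, hg⟩ := hS.conj u hu hu1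
  obtain ⟨-, -, hE, hc⟩ := singular_member hS.inv hS.extra hg
  have hZ : Subgroup.center ↥(centCore u) ≤ H.subgroupOf (centCore u) := fun c hc' => by
    show (c : G) ∈ H
    rcases hc c hc' with h | h <;> rw [h]
    · exact one_mem _
    · exact huH
  have hcc := PGroups.Extraspecial.centralizer_centralizer hE hZ
  have hw' : (⟨w, hwQ⟩ : centCore u) ∉ H.subgroupOf (centCore u) := hwH
  rw [← hcc] at hw'
  rw [Subgroup.mem_centralizer_iff] at hw'
  push Not at hw'
  obtain ⟨x, hx, hxw⟩ := hw'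
  refine ⟨x, x.2, fun h hh => ?_, ?_⟩
  · have h5 : h * (x : G) = x * h :=
      congrArg Subtype.val (Subgroup.mem_centralizer_iff.1 hx ⟨h, hHQ hh⟩ hh)
    rw [← h5, mul_inv_cancel_right]
  · rcases hS.comm_mem hu hu1 x.2 hwQ with h | h
    · exact absurd (Subtype.ext (mul_inv_eq_iff_eq_mul.1 h) : x * (⟨w, hwQ⟩ : centCore u) = ⟨w, hwQ⟩ * x) hxw
    · exact h

theorem Singular.core_le_normalizer (hS : Singular z U) {u : G} (hu : u ∈ U) (hu1 : u ≠ 1) :
    centCore u ≤ Subgroup.normalizer (U : Set G) := by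
  have key : ∀ x ∈ centCore u, ∀ v ∈ U, x * v * x⁻¹ ∈ U := by
    intro x hx v hv
    rcases hS.comm_mem hu hu1 hx (hS.le_centCore hu hu1 hv) with h | h <;> rw [h]
    · exact hv
    · exact mul_mem hu hv
  intro x hx
  refine Subgroup.mem_normalizer_iff.2 fun v => ⟨key x hx v, fun hv => ?_⟩
  have := key x⁻¹ (inv_mem hx) _ hv
  simpa [mul_assoc] using this

/-- The join of the cores induces all automorphisms of a singular subgroup. -/
theorem Singular.induces (hS : Singular z U) (hU2 : ∀ u ∈ U, u * u = 1)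
    (φ : ↥U ≃* ↥U) :
    ∃ g ∈ ⨆ u ∈ ((U : Set G) \ {1}), centCore u, ∀ u : ↥U, g * (u : G) * g⁻¹ = ((φ u : ↥U) : G) := by
  set LU := ⨆ u ∈ ((U : Set G) \ {1}), centCore u with hLU
  have hN : LU ≤ Subgroup.normalizer (U : Set G) :=
    iSup₂_le fun u hu => hS.core_le_normalizer hu.1 hu.2
  set fam : Set (Subgroup ↥U) := {W | ∃ g ∈ LU, ∀ w ∈ W, g * (w : G) * g⁻¹ = ((φ w : ↥U) : G)} with hfam
  obtain ⟨W, ⟨g, hg, hgW⟩, hmax⟩ := (Set.toFinite fam).exists_maximal
    ⟨⊥, 1, one_mem _, fun w hw => by rw [Subgroup.mem_bot.1 hw]; simp⟩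
  refine ⟨g, hg, fun u => hgW u ?_⟩
  by_contra hu
  set W' : Subgroup G := (W.map φ.toMonoidHom).map U.subtype with hW'
  set w₀ : G := g * (u : G) * g⁻¹ with hw₀
  set t : G := ((φ u : ↥U) : G) with ht
  have hw₀U : w₀ ∈ U := (Subgroup.mem_normalizer_iff.1 (hN hg) _).1 u.2
  have hw₀W : w₀ ∉ W' := by
    rintro ⟨_, ⟨w, hw, rfl⟩, e⟩
    refine hu ?_
    have e' : g * (w : G) * g⁻¹ = w₀ := (hgW w hw).trans e
    rw [← (Subtype.ext (mul_left_cancel (mul_right_cancel e')) : w = u)]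
    exact hw
  have htW : t ∉ W' := by
    rintro ⟨_, ⟨w, hw, rfl⟩, e⟩
    exact hu ((φ.injective (Subtype.ext e) : w = u) ▸ hw)
  have hnew : ∀ x ∈ LU, (∀ h ∈ W', x * h * x⁻¹ = h) → x * w₀ * x⁻¹ = t → False := by
    intro x hx hfix hw
    refine hu (hmax (y := W ⊔ Subgroup.zpowers u) ⟨x * g, mul_mem hx hg, ?_⟩ le_sup_left
      (Subgroup.mem_sup_right (Subgroup.mem_zpowers u)))
    intro v hv
    have hle : W ⊔ Subgroup.zpowers u ≤
        (((MulAut.conj (x * g)).toMonoidHom.comp U.subtype)).eqLocus (U.subtype.comp φ.toMonoidHom) := by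
      refine sup_le (fun w hw' => ?_) (Subgroup.zpowers_le.2 ?_)
      · show x * g * (w : G) * (x * g)⁻¹ = ((φ w : ↥U) : G)
        calc x * g * (w : G) * (x * g)⁻¹ = x * (g * (w : G) * g⁻¹) * x⁻¹ := by group
          _ = x * ((φ w : ↥U) : G) * x⁻¹ := by rw [hgW w hw']
          _ = _ := hfix _ ⟨_, ⟨w, hw', rfl⟩, rfl⟩
      · show x * g * (u : G) * (x * g)⁻¹ = t
        rw [← hw, hw₀]; group
    exact hle hv
  rcases eq_or_ne w₀ t with he | he
  · exact hnew 1 (one_mem _) (fun h _ => by simp) (by simp [he])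
  set d : G := t * w₀ with hd
  have hdU : d ∈ U := mul_mem (φ u).2 hw₀U
  have hd1 : d ≠ 1 := by
    intro h
    refine he ?_
    calc w₀ = t * t * w₀ := by rw [hU2 t (φ u).2, one_mul]
      _ = t * (t * w₀) := mul_assoc _ _ _
      _ = t := by rw [← hd, h, mul_one]
  have hW'U : W' ≤ U := Subgroup.map_subtype_le _
  have hcommU : ∀ a ∈ U, ∀ b ∈ U, Commute a b := fun a ha b hb => by
    have h := hU2 _ (mul_mem ha hb)
    have ha' : a⁻¹ = a := inv_eq_of_mul_eq_one_right (hU2 a ha)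
    have hb' : b⁻¹ = b := inv_eq_of_mul_eq_one_right (hU2 b hb)
    have h' := inv_eq_of_mul_eq_one_right h
    rw [mul_inv_rev, ha', hb'] at h'
    exact h'.symm
  have hw₀H : w₀ ∉ W' ⊔ Subgroup.zpowers d := by
    intro h
    have hnorm : Subgroup.zpowers d ≤ Subgroup.normalizer (W' : Set G) := by
      rw [Subgroup.zpowers_le, Subgroup.mem_normalizer_iff]
      intro y
      have hdc : ∀ y ∈ U, d * y * d⁻¹ = y := fun y hy => by
        rw [(hcommU d hdU y hy).eq, mul_inv_cancel_right]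
      refine ⟨fun hy => ?_, fun hy => ?_⟩
      · rwa [hdc y (hW'U hy)]
      · have hyU : y ∈ U := by
          have := mul_mem (mul_mem (inv_mem hdU) (hW'U hy)) hdU
          simpa [mul_assoc] using this
        rwa [hdc y hyU] at hy
    rw [← SetLike.mem_coe, Subgroup.coe_mul_of_right_le_normalizer_left _ _ hnorm] at h
    obtain ⟨a, ha, b, hb, e⟩ := h
    obtain ⟨i, rfl⟩ := Subgroup.mem_zpowers_iff.1 hb
    have hd2 : d ^ (2 : ℤ) = 1 := by rw [zpow_two, hU2 d hdU]
    rcases Int.even_or_odd i with ⟨j, rfl⟩ | ⟨j, rfl⟩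
    · simp only [← two_mul, zpow_mul, hd2, one_zpow, mul_one] at e
      exact hw₀W (e ▸ ha)
    · simp only [zpow_add, zpow_mul, hd2, one_zpow, one_mul, zpow_one] at e
      refine htW ?_
      have e2 : a * t = 1 := by
        have : a * t * w₀ = 1 * w₀ := by rw [mul_assoc, ← hd, e, one_mul]
        exact mul_right_cancel this
      rw [show t = a⁻¹ from (inv_eq_of_mul_eq_one_right e2).symm]
      exact inv_mem ha
  obtain ⟨x, hx, hfix, hxw⟩ := hS.exists_transvection hdU hd1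
    (Subgroup.mem_sup_right (Subgroup.mem_zpowers d) : d ∈ W' ⊔ Subgroup.zpowers d)
    ((sup_le hW'U (Subgroup.zpowers_le.2 hdU)).trans (hS.le_centCore hdU hd1))
    (hS.le_centCore hdU hd1 hw₀U) hw₀H
  refine hnew x ((le_iSup₂_of_le (f := fun u _ => centCore u) d ⟨hdU, hd1⟩ le_rfl : centCore d ≤ LU) hx) (fun h hh => hfix h (Subgroup.mem_sup_left hh)) ?_
  rw [hxw, hd, mul_assoc, hU2 w₀ hw₀U, mul_one]

theorem Singular.trivial_quotient (hS : Singular z U) :
    ∀ g ∈ ⨆ u ∈ ((U : Set G) \ {1}), centCore u, ∀ x ∈ ⨅ u ∈ ((U : Set G) \ {1}), centCore u,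
      g * x * g⁻¹ * x⁻¹ ∈ U := by
  intro g hg x hx
  have hmem : ∀ u ∈ ((U : Set G) \ {1}), x ∈ centCore u := fun u hu => by
    have := Subgroup.mem_iInf.1 (Subgroup.mem_iInf.1 hx u) hu
    exact this
  let T : Subgroup G :=
    { carrier := {g | g ∈ Subgroup.normalizer (U : Set G) ∧ g * x * g⁻¹ * x⁻¹ ∈ U}
      one_mem' := ⟨one_mem _, by simp⟩
      mul_mem' := fun {a b} ha hb => ⟨mul_mem ha.1 hb.1, by
        have := mul_mem ((Subgroup.mem_normalizer_iff.1 ha.1 _).1 hb.2) ha.2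
        rwa [show a * (b * x * b⁻¹ * x⁻¹) * a⁻¹ * (a * x * a⁻¹ * x⁻¹) = a * b * x * (a * b)⁻¹ * x⁻¹ by
          group] at this⟩
      inv_mem' := fun {a} ha => ⟨inv_mem ha.1, by
        have := inv_mem ((Subgroup.mem_normalizer_iff.1 (inv_mem ha.1) _).1 ha.2)
        rwa [show (a⁻¹ * (a * x * a⁻¹ * x⁻¹) * a⁻¹⁻¹)⁻¹ = a⁻¹ * x * a⁻¹⁻¹ * x⁻¹ by group] at this⟩ }
  have hle : (⨆ u ∈ ((U : Set G) \ {1}), centCore u) ≤ T := by
    refine iSup₂_le fun u hu y hy => ⟨hS.core_le_normalizer hu.1 hu.2 hy, ?_⟩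
    rcases hS.comm_mem hu.1 hu.2 hy (hmem u hu) with h | h <;> rw [h]
    · rw [mul_inv_cancel]; exact one_mem _
    · rw [mul_inv_cancel_right]; exact hu.1
  exact (hle hg).2

theorem Singular.coset_transitive (hS : Singular z U) {x : G}
    (hx : x ∈ ⨅ u ∈ ((U : Set G) \ {1}), centCore u) (hxU : x ∉ U) {u : G} (hu : u ∈ U) :
    ∃ g ∈ (⨆ u ∈ ((U : Set G) \ {1}), centCore u) ⊓ Subgroup.centralizer (U : Set G),
      g * x * g⁻¹ = x * u := by
  rcases eq_or_ne u 1 with rfl | hu1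
  · exact ⟨1, one_mem _, by simp⟩
  have hxQ : x ∈ centCore u := Subgroup.mem_iInf.1 (Subgroup.mem_iInf.1 hx u) ⟨hu, hu1⟩
  obtain ⟨g, hg, hfix, hgx⟩ := hS.exists_transvection hu hu1 hu (hS.le_centCore hu hu1) hxQ hxU
  have hgC : g ∈ Subgroup.centralizer (U : Set G) := Subgroup.mem_centralizer_iff.2 fun h hh => by
    conv_lhs => rw [← hfix h hh]
    rw [inv_mul_cancel_right]
  have hgL : centCore u ≤ ⨆ u ∈ ((U : Set G) \ {1}), centCore u :=
    le_iSup₂_of_le (f := fun u _ => centCore u) u ⟨hu, hu1⟩ le_rfl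
  refine ⟨g, ⟨hgL hg, hgC⟩, ?_⟩
  rw [hgx]
  exact (Subgroup.mem_centralizer_singleton_iff.1 (Subgroup.map_subtype_le _ hxQ)).symm

end CfsgLib.ThreeTransp
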