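import Cfsg.Agent.Lib.ThreeTransp.UnitaryTransp

/-!
The lines of a set of 3-transpositions of PSU(6,2).
-/

set_option autoImplicit false

namespace CfsgLib.ThreeTransp

open Cfsg CfsgLib.Classical.Unitary CfsgLib.Involutions
open Matrix

/-- Two commuting members lie in exactly five commuting members with product one, and a further
member commuting with both outside these has pairwise commuting common partners with them. -/
def LineData {G : Type*} [Group G] (D : Set G) : Prop :=
  ∀ u ∈ D, ∀ v ∈ D, u ≠ 1 → v ≠ 1 → u ≠ v → Commute u v →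
    ∃ e f g : G, (∀ z ∈ [u, v, e, f, g], z ∈ D ∧ z ≠ 1) ∧ [u, v, e, f, g].Nodup ∧
      (∀ a ∈ [u, v, e, f, g], ∀ b ∈ [u, v, e, f, g], Commute a b) ∧ [u, v, e, f, g].prod = 1 ∧
      (∃ y ∈ D, ∃ z ∈ D, Commute y u ∧ Commute y v ∧ Commute z u ∧ Commute z v ∧ ¬ Commute y z) ∧
      ∀ w ∈ D, w ≠ 1 → w ≠ u → w ≠ v → Commute w u → Commute w v → w ∈ [e, f, g] ∨
        ∀ y ∈ D, ∀ z ∈ D, Commute y u → Commute y v → Commute y w →
          Commute z u → Commute z v → Commute z w → Commute y z

namespace USix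

variable {F : Type} [Field F] {σ : F →+* F} (hF : Nat.card F = 2 ^ 2) (h : UFrob σ 2)
variable {D : Set (PSU 6 F 2)} (hW : WeakTS D)

include hF h in
/-- Two commuting transvection pairs joined by an element of an exceptional shape. -/
theorem bad_shape {A A' S B T C : SU 6 F 2} (hS2 : S * S = 1) (hA2 : A * A = 1)
    (hA'2 : A' * A' = 1) (hB2 : B * B = 1) (hC2 : C * C = 1) (hT2 : T * T = 1)
    (cAA' : Commute A A') (cAB : Commute A B) (cA'B : Commute A' B) (cAT : Commute A T)
    (cA'T : Commute A' T) (cSB : Commute S B) (cSC : Commute S C) (cAC : Commute A C)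
    (cA'C : Commute A' C) (cBC : Commute B C) (cTC : Commute T C)
    (bSA : S * A * S = A * S * A) (bSA' : S * A' * S = A' * S * A') (bBT : B * T * B = T * B * T)
    (hne : (QuotientGroup.mk A : PSU 6 F 2) ≠ QuotientGroup.mk A')
    (hne' : (QuotientGroup.mk B : PSU 6 F 2) ≠ QuotientGroup.mk T)
    (hW : WeakTS D) :
    (QuotientGroup.mk (A * B * C) : PSU 6 F 2) ∉ D := by
  intro hm
  have iS := inv_eq_of_mul_eq_one_right hS2
  have iA := inv_eq_of_mul_eq_one_right hA2
  have iA' := inv_eq_of_mul_eq_one_right hA'2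
  have iT := inv_eq_of_mul_eq_one_right hT2
  set k := S * (A * A') * S with hk
  have iK : k⁻¹ = S * (A' * A) * S := by
    simp only [hk, _root_.mul_inv_rev, iS, iA, iA', mul_assoc]
  have hkA : k * A * k⁻¹ = A' := by
    rw [iK]
    calc k * A * (S * (A' * A) * S) = S * (A * A' * (S * A * S) * (A' * A)) * S := by
          simp only [hk, mul_assoc]
      _ = S * (A * A' * (A * S * A) * (A' * A)) * S := by rw [bSA]
      _ = S * (A' * (A * A) * S * (A * A) * A') * S := by
          conv_lhs => arg 1; arg 2; arg 1; arg 1; rw [cAA'.eq]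
          conv_lhs => arg 1; arg 2; arg 2; rw [cAA'.symm.eq]
          simp only [mul_assoc]
      _ = S * (A' * S * A') * S := by rw [hA2]; simp only [mul_one]
      _ = A' := by
          rw [← bSA']; simp only [mul_assoc]
          rw [hS2, mul_one, ← mul_assoc, hS2, one_mul]
  have hkB : Commute k B := (cSB.mul_left (cAB.mul_left cA'B)).mul_left cSB
  have hkC : Commute k C := (cSC.mul_left (cAC.mul_left cA'C)).mul_left cSC
  set B' := T * B * T with hB'
  have e1 : T * k * (A * B * C) * (T * k)⁻¹ = A' * B' * C := by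
    calc T * k * (A * B * C) * (T * k)⁻¹
        = T * ((k * A * k⁻¹) * (k * B * k⁻¹) * (k * C * k⁻¹)) * T⁻¹ := by group
      _ = T * (A' * B * C) * T⁻¹ := by
          rw [hkA, hkB.eq, mul_inv_cancel_right, hkC.eq, mul_inv_cancel_right]
      _ = (T * A' * T⁻¹) * (T * B * T⁻¹) * (T * C * T⁻¹) := by group
      _ = A' * B' * C := by
          rw [cA'T.symm.eq, mul_inv_cancel_right, cTC.eq, mul_inv_cancel_right, iT]
  have hm' : (QuotientGroup.mk (A' * B' * C) : PSU 6 F 2) ∈ D := by
    rw [← e1]; exact hW.conj (QuotientGroup.mk (T * k)) _ hm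
  have cAB' : Commute A B' := (cAT.mul_right cAB).mul_right cAT
  have cA'B' : Commute A' B' := (cA'T.mul_right cA'B).mul_right cA'T
  have cB'C : Commute B' C := (cTC.mul_left cBC).mul_left cTC
  have ep : A * B * C * (A' * B' * C) = (A * A') * (B * B') := by
    calc A * B * C * (A' * B' * C) = A * B * (C * (A' * B')) * C := by simp only [mul_assoc]
      _ = A * B * (A' * B') * (C * C) := by
          rw [(cA'C.symm.mul_right cB'C.symm).eq]; simp only [mul_assoc]
      _ = A * (B * A') * B' := by rw [hC2, mul_one]; simp only [mul_assoc]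
      _ = A * (A' * B) * B' := by rw [cA'B.symm.eq]
      _ = A * A' * (B * B') := by simp only [mul_assoc]
  have c3 : Commute (A * A') (B * B') :=
    (cAB.mul_right cAB').mul_left (cA'B.mul_right cA'B')
  have hBT3 : (B * T) ^ 3 = 1 := by
    calc (B * T) ^ 3 = (B * T * B) * (T * B * T) := by simp only [pow_succ, pow_zero, one_mul, mul_assoc]
      _ = T * B * T * (T * B * T) := by rw [bBT]
      _ = 1 := by
          simp only [mul_assoc]
          rw [← mul_assoc T T, hT2, one_mul, ← mul_assoc B B, hB2, one_mul, hT2]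
  have hBB : B * B' = (B * T) ^ 2 := by simp only [hB', pow_two, mul_assoc]
  have hAA : (A * A') ^ 2 = 1 := by rw [cAA'.mul_pow, pow_two, pow_two, hA2, hA'2, one_mul]
  rcases hW.prod _ hm _ hm' with h' | h'
  · refine hne' ?_
    rw [← QuotientGroup.mk_mul, ep, ← QuotientGroup.mk_pow, c3.mul_pow, hAA, one_mul, hBB,
      ← pow_mul, show 2 * 2 = 3 + 1 from rfl, pow_succ, hBT3, one_mul, QuotientGroup.mk_mul,
      mul_eq_one_iff_inv_eq] at h'
    rwa [← QuotientGroup.mk_inv, inv_eq_of_mul_eq_one_right hB2] at h'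
  · refine hne ?_
    rw [← QuotientGroup.mk_mul, ep, ← QuotientGroup.mk_pow, c3.mul_pow, pow_succ, hAA, one_mul, hBB,
      ← pow_mul, show 2 * 3 = 3 * 2 from rfl, pow_mul, hBT3, one_pow, mul_one, QuotientGroup.mk_mul,
      mul_eq_one_iff_inv_eq] at h'
    rwa [← QuotientGroup.mk_inv, iA] at h'

theorem tr_braid {u v : V F} (hu : uh σ u u = 0) (hv : uh σ v v = 0) (huv : uh σ u v ≠ 0) :
    tr hF h u hu * tr hF h v hv * tr hF h u hu =
      tr hF h v hv * tr hF h u hu * tr hF h v hv := by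
  have e := mul_inv_eq_iff_eq_mul.1 (tr_conj_nonorth hF h hu hv huv)
  rw [e, mul_assoc]

include hW in
/-- A member which is a product of two or three commuting transvections is impossible. -/
theorem not_mem_frame {a b c : V F} (ha : uh σ a a = 0) (hb : uh σ b b = 0) (hc : uh σ c c = 0)
    (hab : uh σ a b = 0) (hac : uh σ a c = 0) (hbc : uh σ b c = 0)
    (ha0 : ∀ p r : F, a ≠ p • b + r • c) (hb0 : ∀ p r : F, b ≠ p • a + r • c) (hc0 : c ≠ 0)
    {C : SU 6 F 2} (hC : C * C = 1)
    (hCc : ∀ (y : V F) (hy : uh σ y y = 0), uh σ y c = 0 → Commute (tr hF h y hy) C) :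
    (QuotientGroup.mk (tr hF h a ha * tr hF h b hb * C) : PSU 6 F 2) ∉ D := by
  obtain ⟨x₁, x1a, x1b, x1c⟩ := exists_dual_three h ha0
  obtain ⟨x₂, x2b, x2a, x2c⟩ := exists_dual_three h hb0
  obtain ⟨l, hl⟩ := iso_shift hF h ha x1a
  set S := x₁ + l • a with hS
  have hSa : uh σ S a = 1 := by rw [hS, uh_add_left, uh_smul_left, x1a, ha, mul_zero, add_zero]
  have hSb : uh σ S b = 0 := by rw [hS, uh_add_left, uh_smul_left, x1b, hab, mul_zero, add_zero]
  have hSc : uh σ S c = 0 := by rw [hS, uh_add_left, uh_smul_left, x1c, hac, mul_zero, add_zero]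
  have hba := h.swap_zero hab
  have hca := h.swap_zero hac
  have hcb := h.swap_zero hbc
  set T0 := x₂ + uh σ x₂ S • a with hT0
  have h0b : uh σ T0 b = 1 := by rw [hT0, uh_add_left, uh_smul_left, x2b, hab, mul_zero, add_zero]
  obtain ⟨m, hm⟩ := iso_shift hF h hb h0b
  set T := T0 + m • b with hT
  have hTa : uh σ T a = 0 := by
    rw [hT, hT0, uh_add_left, uh_add_left, uh_smul_left, uh_smul_left, x2a, ha, hba]; simp
  have hTb : uh σ T b = 1 := by rw [hT, uh_add_left, uh_smul_left, h0b, hb, mul_zero, add_zero]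
  have hTc : uh σ T c = 0 := by
    rw [hT, hT0, uh_add_left, uh_add_left, uh_smul_left, uh_smul_left, x2c, hac, hbc]; simp
  have hTS : uh σ T S = 0 := by
    rw [hT, hT0, uh_add_left, uh_add_left, uh_smul_left, uh_smul_left, ← h.symm S a, hSa,
      map_one, mul_one, h.swap_zero hSb, mul_zero, add_zero]
    exact add_self hF _
  set a' := a + c with ha'
  have ha'' : uh σ a' a' = 0 := by
    rw [ha', uh_add_left, uh_add_right, uh_add_right, ha, hac, hca, hc]; simp
  have hSa' : uh σ S a' = 1 := by rw [ha', uh_add_right, hSa, hSc, add_zero]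
  have haa' : uh σ a a' = 0 := by rw [ha', uh_add_right, ha, hac, add_zero]
  have ha'b : uh σ a' b = 0 := by rw [ha', uh_add_left, hab, hcb, add_zero]
  have ha'c : uh σ a' c = 0 := by rw [ha', uh_add_left, hac, hc, add_zero]
  have ha'T : uh σ a' T = 0 := by
    rw [ha', uh_add_left, h.swap_zero hTa, h.swap_zero hTc, add_zero]
  have hne : pt hF h a ha ≠ pt hF h a' ha'' := fun e => by
    obtain ⟨p, hp⟩ := pt_eq_iff hF h ha ha'' (fun e => ha0 0 0 (by simp [e])) e
    have h1 : uh σ S a = σ p * uh σ S a' := by conv_lhs => rw [hp, uh_smul_right]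
    rw [hSa, hSa', mul_one] at h1
    rw [show p = 1 from σ.injective (h1.symm.trans (map_one σ).symm), one_smul] at hp
    exact hc0 (left_eq_add.1 hp)
  have hne' : pt hF h b hb ≠ pt hF h T hm := fun e => by
    have hc' := (pt_commute_iff hF h hm hb).1 (by rw [e])
    rw [hTb] at hc'
    exact one_ne_zero hc'
  exact bad_shape hF h (S := tr hF h S hl) (A' := tr hF h a' ha'') (T := tr hF h T hm)
    (tr_sq hF h _ _) (tr_sq hF h _ _) (tr_sq hF h _ _) (tr_sq hF h _ _) hC (tr_sq hF h _ _)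
    (tr_comm hF h _ _ haa') (tr_comm hF h _ _ hab) (tr_comm hF h _ _ ha'b)
    (tr_comm hF h _ _ (h.swap_zero hTa)) (tr_comm hF h _ _ ha'T) (tr_comm hF h _ _ hSb)
    (hCc _ _ hSc) (hCc _ _ hac) (hCc _ _ ha'c) (hCc _ _ hbc) (hCc _ _ hTc)
    (tr_braid hF h _ _ (by rw [hSa]; exact one_ne_zero))
    (tr_braid hF h _ _ (by rw [hSa']; exact one_ne_zero))
    (tr_braid hF h _ _ (by rw [← h.symm, hTb, map_one]; exact one_ne_zero)) hne hne' hW

theorem solve_comb {x v w : V F} {p r : F} (e : x = p • v + r • w) (hr : r ≠ 0) :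
    w = r⁻¹ • x + (-(r⁻¹ * p)) • v := by
  rw [e, smul_add, smul_smul, smul_smul, inv_mul_cancel₀ hr, one_smul, neg_smul]
  abel

theorem solve_comb' {x v w : V F} {p r : F} (e : x = p • v + r • w) (hr : r ≠ 0) :
    w = (-(r⁻¹ * p)) • v + r⁻¹ • x := by
  rw [add_comm]; exact solve_comb e hr

include hF h in
/-- An involution of the projective group lifts to an involution. -/
theorem exists_lift {t : PSU 6 F 2} (ht : t * t = 1) :
    ∃ g : SU 6 F 2, g * g = 1 ∧ QuotientGroup.mk g = t := by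
  have : Finite F := Nat.finite_of_card_ne_zero (by rw [hF]; norm_num)
  obtain ⟨g, rfl⟩ := QuotientGroup.mk_surjective t
  have hz : g * g ∈ Subgroup.center (SU 6 F 2) := (QuotientGroup.eq_one_iff _).1 ht
  obtain ⟨c, hc3, -, hc⟩ := CfsgLib.Classical.SU_center_scalar hF (by norm_num) hz
  have hz3 : (g * g) ^ 3 = 1 := by
    refine su_ext fun x => ?_
    have hx : ∀ y, (g * g).1.1 *ᵥ y = c • y := fun y => by
      rw [hc]; ext i; simp [mulVec_diagonal]
    rw [pow_succ, pow_two, su_mul_mulVec, su_mul_mulVec, hx, hx, hx, su_one_mulVec, smul_smul,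
      smul_smul, show c * c * c = c ^ (2 + 1) by ring, hc3, one_smul]
  refine ⟨g * (g * g), ?_, ?_⟩
  · rw [← hz3]; simp only [pow_succ, pow_zero, one_mul, mul_assoc]
  · rw [QuotientGroup.mk_mul, (QuotientGroup.eq_one_iff _).2 hz, mul_one]

include hF h hW in
/-- Every member is the image of a transvection. -/
theorem mem_is_pt {t : PSU 6 F 2} (ht : t ∈ D) (ht1 : t ≠ 1) :
    ∃ (u : V F) (hu : uh σ u u = 0), u ≠ 0 ∧ t = pt hF h u hu := by
  obtain ⟨g, hg, rfl⟩ := exists_lift hF h (hW.sq t ht)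
  have hg1 : g ≠ 1 := fun e => ht1 (by rw [e, QuotientGroup.mk_one])
  rcases decompose hF h hg hg1 with ⟨u, hu, hu0, rfl⟩ | ⟨u, v, hu, hv, huv, hu0, hvu, rfl⟩ |
    ⟨u, v, w, hu, hv, hw, huv, huw, hvw, hu0, hvu, hwuv, rfl⟩
  · exact ⟨u, hu, hu0, rfl⟩
  · exfalso
    obtain ⟨x₁, x1u, x1v⟩ := exists_dual_two h (u := u) (v := v) fun p e => by
      rcases eq_or_ne p 0 with rfl | hp
      · exact hu0 (by rw [e, zero_smul])
      · exact hvu p⁻¹ (by rw [e, smul_smul, inv_mul_cancel₀ hp, one_smul])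
    obtain ⟨x₂, x2v, x2u⟩ := exists_dual_two h hvu
    obtain ⟨c, hc0, hc, hcu, hcv, hcx1, hcx2⟩ := exists_iso_in_kernel hF h u v x₁ x₂
    have hd : ∀ p r : F, c = p • u + r • v → False := fun p r e => by
      have h1 := hcx1
      have h2 := hcx2
      rw [e, uh_add_left, uh_smul_left, uh_smul_left, ← h.symm x₁ u, x1u, map_one,
        h.swap_zero x1v, mul_one, mul_zero, add_zero] at h1
      rw [e, uh_add_left, uh_smul_left, uh_smul_left, h.swap_zero x2u, ← h.symm x₂ v, x2v, map_one,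
        mul_one, mul_zero, zero_add] at h2
      exact hc0 (by rw [e, h1, h2, zero_smul, zero_smul, add_zero])
    refine not_mem_frame hF h hW hu hv hc huv (h.swap_zero hcu) (h.swap_zero hcv) (fun p r e => ?_)
      (fun p r e => ?_) hc0 (one_mul (1 : SU 6 F 2)) (fun _ _ _ => Commute.one_right _)
      (by rwa [mul_one])
    · rcases eq_or_ne r 0 with rfl | hr
      · rw [zero_smul, add_zero] at e
        rcases eq_or_ne p 0 with rfl | hp
        · exact hu0 (by rw [e, zero_smul])
        · exact hvu p⁻¹ (by rw [e, smul_smul, inv_mul_cancel₀ hp, one_smul])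
      · exact hd r⁻¹ (-(r⁻¹ * p)) (solve_comb e hr)
    · rcases eq_or_ne r 0 with rfl | hr
      · exact hvu p (by rw [e, zero_smul, add_zero])
      · exact hd (-(r⁻¹ * p)) r⁻¹ (solve_comb' e hr)
  · exfalso
    have hw0 : w ≠ 0 := fun e => hwuv 0 0 (by simp [e])
    refine not_mem_frame hF h hW hu hv hw huv huw hvw (fun p r e => ?_) (fun p r e => ?_) hw0
      (tr_sq hF h w hw) (fun y hy hyc => tr_comm hF h hy hw hyc) ht
    · rcases eq_or_ne r 0 with rfl | hr
      · rw [zero_smul, add_zero] at e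
        rcases eq_or_ne p 0 with rfl | hp
        · exact hu0 (by rw [e, zero_smul])
        · exact hvu p⁻¹ (by rw [e, smul_smul, inv_mul_cancel₀ hp, one_smul])
      · exact hwuv r⁻¹ (-(r⁻¹ * p)) (solve_comb e hr)
    · rcases eq_or_ne r 0 with rfl | hr
      · exact hvu p (by rw [e, zero_smul, add_zero])
      · exact hwuv (-(r⁻¹ * p)) r⁻¹ (solve_comb' e hr)

include hW in
/-- With one transvection image all are members. -/
theorem pt_mem {u z : V F} (hu : uh σ u u = 0) (hz : uh σ z z = 0) (hu0 : u ≠ 0) (hz0 : z ≠ 0)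
    (hm : pt hF h u hu ∈ D) : pt hF h z hz ∈ D := by
  have key : ∀ {p r : V F} (hp : uh σ p p = 0) (hr : uh σ r r = 0), uh σ p r ≠ 0 →
      pt hF h p hp ∈ D → pt hF h r hr ∈ D := by
    intro p r hp hr hpr hm
    have h1 := hW.conj (QuotientGroup.mk (tr hF h p hp * tr hF h r hr)) _ hm
    rwa [pt, ← QuotientGroup.mk_inv, ← QuotientGroup.mk_mul, ← QuotientGroup.mk_mul,
      tr_conj_nonorth hF h hp hr hpr] at h1
  obtain ⟨y, hy, hyu, hyz⟩ := exists_both_nonorth hF h hu hz hu0 hz0
  exact key hy hz hyz (key hu hy (fun e => hyu (h.swap_zero e)) hm)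

include hF h in
theorem mem_span_three {u v w x₁ x₂ x₃ : V F} (hu : uh σ u u = 0) (hv : uh σ v v = 0)
    (hw : uh σ w w = 0) (huv : uh σ u v = 0) (huw : uh σ u w = 0) (hvw : uh σ v w = 0)
    (d1 : uh σ x₁ u = 1 ∧ uh σ x₁ v = 0 ∧ uh σ x₁ w = 0)
    (d2 : uh σ x₂ v = 1 ∧ uh σ x₂ u = 0 ∧ uh σ x₂ w = 0)
    (d3 : uh σ x₃ w = 1 ∧ uh σ x₃ u = 0 ∧ uh σ x₃ v = 0) {y : V F}
    (hy : uh σ y u = 0 ∧ uh σ y v = 0 ∧ uh σ y w = 0) :
    ∃ p r s : F, y = p • u + r • v + s • w := by
  let Φ : V F →ₗ[F] Fin 3 → F := LinearMap.pi fun i => uhL σ (![u, v, w] i)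
  have hsurj : Function.Surjective Φ := fun t => ⟨t 0 • x₁ + t 1 • x₂ + t 2 • x₃, funext fun i => by
    simp only [Φ, LinearMap.pi_apply, uhL_apply, uh_add_left, uh_smul_left]
    fin_cases i <;> simp [d1.1, d1.2.1, d1.2.2, d2.1, d2.2.1, d2.2.2, d3.1, d3.2.1, d3.2.2]⟩
  have hker : Module.finrank F (LinearMap.ker Φ) = 3 := by
    have h1 := Φ.finrank_range_add_finrank_ker
    rw [LinearMap.range_eq_top.2 hsurj, finrank_top] at h1
    simp at h1
    omega
  have hmem : ∀ i, ![u, v, w] i ∈ LinearMap.ker Φ := by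
    intro i
    rw [LinearMap.mem_ker]
    funext k
    show uh σ (![u, v, w] i) (![u, v, w] k) = 0
    fin_cases i <;> fin_cases k <;>
      simp [hu, hv, hw, huv, huw, hvw, h.swap_zero huv, h.swap_zero huw, h.swap_zero hvw]
  have hli : LinearIndependent F ![u, v, w] := by
    rw [Fintype.linearIndependent_iff]
    intro c hc i
    simp [Fin.sum_univ_three] at hc
    have := fun x => congrArg (uh σ x) hc
    simp only [uh_add_right, uh_smul_right, uh_zero_right] at this
    have e1 := this x₁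
    have e2 := this x₂
    have e3 := this x₃
    rw [d1.1, d1.2.1, d1.2.2] at e1
    rw [d2.1, d2.2.1, d2.2.2] at e2
    rw [d3.1, d3.2.1, d3.2.2] at e3
    fin_cases i
    · simpa using e1
    · simpa using e2
    · simpa using e3
  have heq : Submodule.span F (Set.range ![u, v, w]) = LinearMap.ker Φ :=
    Submodule.eq_of_le_of_finrank_eq (Submodule.span_le.2 (Set.range_subset_iff.2 hmem))
      (by rw [hker, finrank_span_eq_card hli, Fintype.card_fin])
  have hyk : y ∈ Submodule.span F (Set.range ![u, v, w]) := by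
    rw [heq, LinearMap.mem_ker]
    funext k
    show uh σ y (![u, v, w] k) = 0
    fin_cases k <;> simp [hy.1, hy.2.1, hy.2.2]
  obtain ⟨c, hc⟩ := (Submodule.mem_span_range_iff_exists_fun F).1 hyk
  exact ⟨c 0, c 1, c 2, by rw [← hc, Fin.sum_univ_three]; rfl⟩

include hF h in
theorem line_prod {u v : V F} (hu : uh σ u u = 0) (hv : uh σ v v = 0) (huv : uh σ u v = 0)
    {ω : F} (hω : 1 + ω + ω ^ 2 = 0) (hω3 : ω ^ 3 = 1) (hσω : σ ω = ω ^ 2)
    (h1 : uh σ (u + (1 : F) • v) (u + (1 : F) • v) = 0) (h2 : uh σ (u + ω • v) (u + ω • v) = 0)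
    (h3 : uh σ (u + ω ^ 2 • v) (u + ω ^ 2 • v) = 0) :
    pt hF h u hu * (pt hF h v hv * (pt hF h (u + (1 : F) • v) h1 * (pt hF h (u + ω • v) h2 *
      pt hF h (u + ω ^ 2 • v) h3))) = 1 := by
  have hvu' := h.swap_zero huv
  have hT : tr hF h u hu * (tr hF h v hv * (tr hF h (u + (1 : F) • v) h1 *
      (tr hF h (u + ω • v) h2 * tr hF h (u + ω ^ 2 • v) h3))) = 1 := by
    refine su_ext fun x => ?_
    simp only [su_mul_mulVec, su_one_mulVec, tr_mulVec, uh_add_left, uh_smul_left, uh_add_right,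
      uh_smul_right, hu, hv, huv, hvu', hσω, map_one, map_pow, mul_zero, add_zero, zero_add, one_mul]
    have hfr : ω ^ 4 = ω := by linear_combination ω * hω3
    ext i
    simp only [Pi.add_apply, Pi.smul_apply, smul_eq_mul]
    linear_combination (uh σ x v * v i) * (2 * two_zero hF) + (uh σ x u * u i) * (2 * two_zero hF) +
      (uh σ x v * u i + uh σ x u * v i) * hω +
      (uh σ x v * v i) * (3 * hω3 + (ω ^ 3 - 1) * hω3) + (uh σ x v * u i) * hfr
  show (QuotientGroup.mk _ : PSU 6 F 2) * _ = _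
  exact (congrArg QuotientGroup.mk hT).trans (QuotientGroup.mk_one _)

include hF h hW in
theorem lineData : LineData D := by
  intro U hU Vv hV hU1 hV1 hUV hcomm
  have : Finite F := Nat.finite_of_card_ne_zero (by rw [hF]; norm_num)
  obtain ⟨u, hu, hu0, rfl⟩ := mem_is_pt hF h hW hU hU1
  obtain ⟨v, hv, hv0, rfl⟩ := mem_is_pt hF h hW hV hV1
  have huv := (pt_commute_iff hF h hu hv).1 hcomm
  have hvu' := h.swap_zero huv
  have huv0 : ∀ p : F, u ≠ p • v := fun p e => hUV <| by
    have hp : p ≠ 0 := fun hp => hu0 (by rw [e, hp, zero_smul])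
    subst e
    rw [pt, pt, tr_smul hF h hv hp hu]
  have hvu0 : ∀ p : F, v ≠ p • u := fun p e => by
    rcases eq_or_ne p 0 with rfl | hp
    · exact hv0 (by rw [e, zero_smul])
    · exact huv0 p⁻¹ (by rw [e, smul_smul, inv_mul_cancel₀ hp, one_smul])
  obtain ⟨x₁, x1u, x1v⟩ := exists_dual_two h huv0
  obtain ⟨x₂, x2v, x2u⟩ := exists_dual_two h hvu0
  obtain ⟨ω, hω, hω3, hσω⟩ := exists_omega hF h rfl
  have hω0 : ω ≠ 0 := fun e => by simp [e] at hω3
  have hω1 : ω ≠ 1 := fun e => by
    rw [e] at hω; exact one_ne_zero (by linear_combination hω - two_zero hF : (1 : F) = 0)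
  have hiso : ∀ a : F, uh σ (u + a • v) (u + a • v) = 0 := fun a => by
    rw [uh_add_left, uh_add_right, uh_smul_left, uh_add_right, uh_smul_right, uh_smul_right, hu, hv,
      huv, hvu']
    simp
  have hwu : ∀ a : F, uh σ (u + a • v) u = 0 := fun a => by
    rw [uh_add_left, uh_smul_left, hu, hvu']; simp
  have hwv : ∀ a : F, uh σ (u + a • v) v = 0 := fun a => by
    rw [uh_add_left, uh_smul_left, hv, huv]; simp
  have hw0 : ∀ a : F, u + a • v ≠ 0 := fun a e => huv0 (-a) (by
    rw [neg_smul]; exact eq_neg_of_add_eq_zero_left e)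
  have hcan : ∀ (p r : F), p ≠ 0 → r ≠ 0 → ∀ hh : uh σ (p • u + r • v) (p • u + r • v) = 0,
      pt hF h (p • u + r • v) hh = pt hF h (u + (p⁻¹ * r) • v) (hiso _) := by
    intro p r hp hr hh
    have e : p • u + r • v = p • (u + (p⁻¹ * r) • v) := by
      rw [smul_add, smul_smul, ← mul_assoc, mul_inv_cancel₀ hp, one_mul]
    rw [pt_congr hF h e hh (e ▸ hh), pt, pt, tr_smul hF h (hiso _) hp]
  let w : F → PSU 6 F 2 := fun a => pt hF h (u + a • v) (hiso a)
  have hwD : ∀ a, w a ∈ D ∧ w a ≠ 1 := fun a =>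
    ⟨pt_mem hF h hW hu (hiso a) hu0 (hw0 a) hU, pt_ne_one hF h (hiso a) (hw0 a)⟩
  have hcoef : ∀ a b p : F, u + a • v = p • (u + b • v) → p = 1 ∧ a = b := by
    intro a b p e
    have e1 := congrArg (uh σ x₁) e
    have e2 := congrArg (uh σ x₂) e
    simp only [uh_add_right, uh_smul_right, x1u, x1v, x2u, x2v, mul_zero, add_zero, mul_one,
      zero_add] at e1 e2
    have hp : p = 1 := σ.injective (by rw [map_one]; exact e1.symm)
    refine ⟨hp, σ.injective ?_⟩
    rw [hp, map_one, one_mul] at e2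
    exact e2
  have hwinj : ∀ a b, w a = w b → a = b := fun a b e => by
    obtain ⟨p, hp⟩ := pt_eq_iff hF h (hiso a) (hiso b) (hw0 a) e
    exact (hcoef a b p hp).2
  have hwU : ∀ a, a ≠ 0 → pt hF h u hu ≠ w a := fun a ha e => by
    rw [pt_congr hF h (show u = u + (0 : F) • v by simp) hu (hiso 0)] at e
    exact ha (hwinj 0 a e).symm
  have hwV : ∀ a, pt hF h v hv ≠ w a := fun a e => by
    obtain ⟨p, hp⟩ := pt_eq_iff hF h hv (hiso a) hv0 e
    have e1 := congrArg (uh σ x₁) hp
    simp only [uh_smul_right, uh_add_right, x1u, x1v, mul_zero, add_zero, mul_one] at e1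
    rw [(map_eq_zero σ).1 e1.symm, zero_smul] at hp
    exact hv0 hp
  have hwc : ∀ a b, Commute (w a) (w b) := fun a b => (pt_commute_iff hF h (hiso a) (hiso b)).2 (by
    rw [uh_add_right, uh_smul_right, hwu, hwv]; simp)
  have hwcu : ∀ a, Commute (pt hF h u hu) (w a) := fun a =>
    (pt_commute_iff hF h hu (hiso a)).2 (h.swap_zero (hwu a))
  have hwcv : ∀ a, Commute (pt hF h v hv) (w a) := fun a =>
    (pt_commute_iff hF h hv (hiso a)).2 (h.swap_zero (hwv a))
  refine ⟨w 1, w ω, w (ω ^ 2), ?_, ?_, ?_, ?_, ?_, ?_⟩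
  · intro z hz
    simp only [List.mem_cons, List.not_mem_nil, or_false] at hz
    rcases hz with rfl | rfl | rfl | rfl | rfl
    exacts [⟨hU, hU1⟩, ⟨hV, hV1⟩, hwD _, hwD _, hwD _]
  · have h2 : ω ^ 2 ≠ 1 := fun e => hω1 (by
      calc ω = ω * ω ^ 2 := by rw [e, mul_one]
        _ = 1 := by rw [← hω3]; ring)
    have h3 : ω ≠ ω ^ 2 := fun e => hω1 (mul_left_cancel₀ hω0 (by rw [mul_one, ← pow_two, ← e]))
    have n1 : w 1 ≠ w ω := fun e => hω1 (hwinj 1 ω e).symm
    have n2 : w 1 ≠ w (ω ^ 2) := fun e => h2 (hwinj 1 _ e).symm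
    have n3 : w ω ≠ w (ω ^ 2) := fun e => h3 (hwinj ω _ e)
    simp [hUV, hwU 1 one_ne_zero, hwU ω hω0, hwU (ω ^ 2) (pow_ne_zero 2 hω0), hwV, n1, n2, n3]
  · intro a ha b hb
    simp only [List.mem_cons, List.not_mem_nil, or_false] at ha hb
    rcases ha with rfl | rfl | rfl | rfl | rfl <;> rcases hb with rfl | rfl | rfl | rfl | rfl <;>
      first
      | with_reducible exact Commute.refl _
      | with_reducible exact hcomm
      | with_reducible exact hcomm.symm
      | with_reducible exact hwc _ _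
      | with_reducible exact hwcu _
      | with_reducible exact (hwcu _).symm
      | with_reducible exact hwcv _
      | with_reducible exact (hwcv _).symm
  · simp only [List.prod_cons, List.prod_nil, mul_one]
    exact line_prod hF h hu hv huv hω hω3 hσω (hiso _) (hiso _) (hiso _)
  · obtain ⟨c, hc0, hc, hcu, hcv, hcx1, hcx2⟩ := exists_iso_in_kernel hF h u v x₁ x₂
    obtain ⟨x₃, x3c, x3u, x3v⟩ := exists_dual_three h (u := c) (v := u) (w := v) fun p r e => by
      have h1 := hcx1
      have h2 := hcx2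
      rw [e, uh_add_left, uh_smul_left, uh_smul_left, ← h.symm x₁ u, x1u, map_one,
        h.swap_zero x1v, mul_one, mul_zero, add_zero] at h1
      rw [e, uh_add_left, uh_smul_left, uh_smul_left, h.swap_zero x2u, ← h.symm x₂ v, x2v, map_one,
        mul_one, mul_zero, zero_add] at h2
      exact hc0 (by rw [e, h1, h2, zero_smul, zero_smul, add_zero])
    obtain ⟨k, hk⟩ := iso_shift hF h hc x3c
    set z := x₃ + k • c with hz
    have hzu : uh σ z u = 0 := by rw [hz, uh_add_left, uh_smul_left, x3u, hcu]; simp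
    have hzv : uh σ z v = 0 := by rw [hz, uh_add_left, uh_smul_left, x3v, hcv]; simp
    have hzc : uh σ z c = 1 := by rw [hz, uh_add_left, uh_smul_left, x3c, hc]; simp
    have hz0 : z ≠ 0 := fun e => by rw [e, uh_zero_left] at hzc; exact zero_ne_one hzc
    exact ⟨_, pt_mem hF h hW hu hc hu0 hc0 hU, _, pt_mem hF h hW hu hk hu0 hz0 hU,
      (pt_commute_iff hF h hc hu).2 hcu, (pt_commute_iff hF h hc hv).2 hcv,
      (pt_commute_iff hF h hk hu).2 hzu, (pt_commute_iff hF h hk hv).2 hzv,
      fun e => by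
        have h1 := (pt_commute_iff hF h hc hk).1 e
        rw [← h.symm, hzc, map_one] at h1
        exact one_ne_zero h1⟩
  · intro W hW' hW1 hWu hWv hcu hcv
    obtain ⟨t, ht, ht0, rfl⟩ := mem_is_pt hF h hW hW' hW1
    have htu := (pt_commute_iff hF h ht hu).1 hcu
    have htv := (pt_commute_iff hF h ht hv).1 hcv
    by_cases hspan : ∃ p r : F, t = p • u + r • v
    · left
      obtain ⟨p, r, rfl⟩ := hspan
      have hp : p ≠ 0 := fun e => hWv (by
        subst e
        have e1 : (0 : F) • u + r • v = r • v := by simp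
        have hr : r ≠ 0 := fun hr => ht0 (by simp [hr])
        rw [pt_congr hF h e1 ht (e1 ▸ ht), pt, pt, tr_smul hF h hv hr])
      have hr : r ≠ 0 := fun e => hWu (by
        subst e
        have e1 : p • u + (0 : F) • v = p • u := by simp
        rw [pt_congr hF h e1 ht (e1 ▸ ht), pt, pt, tr_smul hF h hu hp])
      rw [hcan p r hp hr ht]
      have hb : p⁻¹ * r = 1 ∨ p⁻¹ * r = ω ∨ p⁻¹ * r = ω ^ 2 := by
        set b := p⁻¹ * r
        have hb0 : b ≠ 0 := mul_ne_zero (inv_ne_zero hp) hr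
        have hb3 : b ^ 3 = 1 := by
          have := norm_one hF h hb0
          rw [h.pow] at this
          linear_combination this
        have hprod : (b - 1) * ((b - ω) * (b - ω ^ 2)) = 0 := by
          linear_combination hb3 - hω3 + (b * ω - b ^ 2) * hω
        rcases mul_eq_zero.1 hprod with e | e
        · exact Or.inl (sub_eq_zero.1 e)
        · rcases mul_eq_zero.1 e with e | e
          · exact Or.inr (Or.inl (sub_eq_zero.1 e))
          · exact Or.inr (Or.inr (sub_eq_zero.1 e))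
      rcases hb with e | e | e <;>
        simp only [List.mem_cons, List.not_mem_nil, or_false]
      · exact Or.inl (congrArg w e)
      · exact Or.inr (Or.inl (congrArg w e))
      · exact Or.inr (Or.inr (congrArg w e))
    · right
      push Not at hspan
      intro Y hY Z hZ yu yv yw zu zv zw
      by_cases hY1 : Y = 1
      · rw [hY1]; exact Commute.one_left _
      by_cases hZ1 : Z = 1
      · rw [hZ1]; exact Commute.one_right _
      obtain ⟨y, hy, -, rfl⟩ := mem_is_pt hF h hW hY hY1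
      obtain ⟨z, hz, -, rfl⟩ := mem_is_pt hF h hW hZ hZ1
      refine (pt_commute_iff hF h hy hz).2 ?_
      obtain ⟨y₃, d3⟩ := exists_dual_three h (u := t) (v := u) (w := v) hspan
      obtain ⟨y₁, d1⟩ := exists_dual_three h (u := u) (v := v) (w := t) fun p r e => by
        rcases eq_or_ne r 0 with rfl | hr
        · exact huv0 p (by rw [e, zero_smul, add_zero])
        · exact hspan r⁻¹ (-(r⁻¹ * p)) (solve_comb e hr)
      obtain ⟨y₂, d2⟩ := exists_dual_three h (u := v) (v := u) (w := t) fun p r e => by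
        rcases eq_or_ne r 0 with rfl | hr
        · exact hvu0 p (by rw [e, zero_smul, add_zero])
        · exact hspan (-(r⁻¹ * p)) r⁻¹ (solve_comb' e hr)
      obtain ⟨p, r, s, rfl⟩ := mem_span_three hF h hu hv ht huv (h.swap_zero htu) (h.swap_zero htv)
        d1 d2 d3 ⟨(pt_commute_iff hF h hz hu).1 zu, (pt_commute_iff hF h hz hv).1 zv,
          (pt_commute_iff hF h hz ht).1 zw⟩
      rw [uh_add_right, uh_add_right, uh_smul_right, uh_smul_right, uh_smul_right,
        (pt_commute_iff hF h hy hu).1 yu, (pt_commute_iff hF h hy hv).1 yv,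
        (pt_commute_iff hF h hy ht).1 yw]
      simp

end USix

end CfsgLib.ThreeTransp
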