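import Cfsg.Agent.Lib.PrimeOrderSp.Config
import Cfsg.Agent.Lib.PrimeOrderSp.Blocks
import Cfsg.Agent.Lib.Classical.SympOrder

/-!
# Nondegenerate subspaces of a symplectic space: the number of them, and invariant ones for involutory maps
-/

set_option autoImplicit false
set_option linter.unusedSectionVars false

namespace CfsgLib.ThreeTransp.SpNondeg

open CfsgLib.PrimeOrderSp CfsgLib.Geometry Module

universe u

variable {F : Type u} [Field F]

section count

variable [Fintype F] {d : ℕ}

local notation "VS" => (Fin d ⊕ Fin d → F)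

theorem nondeg_iff {W : Submodule F VS} :
    (∀ u ∈ W, u ≠ 0 → ∃ v ∈ W, Cfsg.sympForm d F u v ≠ 0) ↔
      Nondeg (σ := RingHom.id F) (sympBilin d F) W := by
  constructor
  · intro h u hu hu'
    by_contra hu0
    obtain ⟨v, hv, hne⟩ := h u hu hu0
    exact hne (hu' v hv)
  · intro h u hu hu0
    by_contra hc
    push Not at hc
    exact hu0 (h u hu hc)

/-- A family running over the first `a` hyperbolic pairs. -/
noncomputable def stdFam {a : ℕ} (ha : a ≤ d) : Fin a ⊕ Fin a → VS := fun x =>
  Pi.single (Sum.map (Fin.castLE ha) (Fin.castLE ha) x.swap) (1 : F)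

/-- The Gram table of the standard family. -/
theorem gram_std {a : ℕ} (ha : a ≤ d) (x y : Fin a ⊕ Fin a) :
    Cfsg.sympForm d F (stdFam ha x) (stdFam ha y) =
      if y = x.swap then Sum.elim (fun _ => (1 : F)) (fun _ => -1) x else 0 := by
  rcases x with i | i <;> rcases y with j | j <;>
    simp [stdFam, sympForm_eq, Pi.single_apply, (Fin.castLE_injective ha).eq_iff, eq_comm]
  split_ifs <;> simp

theorem li_std {a : ℕ} (ha : a ≤ d) : LinearIndependent F (stdFam (F := F) ha) :=
  (Pi.linearIndependent_single_one (Fin d ⊕ Fin d) F).comp _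
    (((Fin.castLE_injective ha).sumMap (Fin.castLE_injective ha)).comp Sum.swap_leftInverse.injective)

/-- The span of the first `a` hyperbolic pairs. -/
noncomputable def stdSub {a : ℕ} (ha : a ≤ d) : Submodule F VS :=
  Submodule.span F (Set.range (stdFam (F := F) ha))

theorem exists_map_std {a : ℕ} (ha : a ≤ d) {W : Submodule F VS} (hW : finrank F W = 2 * a)
    (hn : Nondeg (σ := RingHom.id F) (sympBilin d F) W) :
    ∃ A : Matrix.symplecticGroup (Fin d) F, (stdSub ha).map (spEquiv d F A).toLinearMap = W := by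
  classical
  have hA := sympBilin_isAlt d F
  obtain ⟨k, b, h1, h2, h3⟩ := exists_sympBasis_of_nondeg hA W hn
  have hk : k = a := by
    have e := finrank_eq_card_basis b
    rw [hW, Fintype.card_sum, Fintype.card_fin] at e
    omega
  subst hk
  have hls := li_std (F := F) ha
  have hlb : LinearIndependent F (fun x => (b x : VS)) :=
    b.linearIndependent.map' W.subtype (Submodule.ker_subtype W)
  let τ := (Fintype.equivFin (Fin k ⊕ Fin k)).symm
  have hgram : ∀ x y, Cfsg.sympForm d F (stdFam ha x) (stdFam ha y) = Cfsg.sympForm d F (b x) (b y) := by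
    have h4 : ∀ i j, sympBilin d F (b (.inr i) : VS) (b (.inl j) : VS) = if i = j then -1 else 0 := fun i j => by
      rw [← LinearMap.IsAlt.neg hA (b (.inl j) : VS), h1]
      by_cases h : i = j
      · simp [h]
      · simp [h, Ne.symm h]
    intro x y
    rw [gram_std, ← sympBilin_apply]
    rcases x with i | i <;> rcases y with j | j <;> simp [h1, h2, h3, h4, eq_comm]
  obtain ⟨A, hA'⟩ := sp_extend d F (stdFam (F := F) ha ∘ τ) ((fun x => (b x : VS)) ∘ τ)
    (hls.comp _ τ.injective) (hlb.comp _ τ.injective) fun i j => hgram _ _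
  refine ⟨A, ?_⟩
  have hb : Submodule.span F (Set.range fun x => (b x : VS)) = W := by
    have e := congrArg (Submodule.map W.subtype) b.span_eq
    rw [Submodule.map_span, Submodule.map_top, Submodule.range_subtype, ← Set.range_comp] at e
    exact e
  rw [stdSub, Submodule.map_span, ← Set.range_comp]
  refine (congrArg (fun f => Submodule.span F (Set.range f)) (funext fun x => ?_)).trans hb
  have e := hA' (τ.symm x)
  simp only [Function.comp_apply, Equiv.apply_symm_apply] at e
  simpa using e

/-- The number of nondegenerate subspaces, times the order of the smaller group, divides the order. -/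
theorem card_nondeg_mul_dvd {a : ℕ} (ha : a ≤ d) :
    Nat.card {W : Submodule F VS // finrank F ↥W = 2 * a ∧
        (∀ u ∈ W, u ≠ 0 → ∃ v ∈ W, Cfsg.sympForm d F u v ≠ 0)} *
      (Fintype.card F ^ ((d - a) ^ 2) * ∏ i ∈ Finset.range (d - a), (Fintype.card F ^ (2 * (i + 1)) - 1)) ∣
    Fintype.card F ^ (d ^ 2) * ∏ i ∈ Finset.range d, (Fintype.card F ^ (2 * (i + 1)) - 1) := by
  classical
  letI : MulAction (Matrix.symplecticGroup (Fin d) F) (Submodule F VS) :=
    { smul := fun A W => W.map (spEquiv d F A).toLinearMap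
      one_smul := fun W => by
        show W.map (spEquiv d F 1).toLinearMap = W
        rw [map_one]; exact Submodule.map_id _
      mul_smul := fun A B W => by
        show W.map (spEquiv d F (A * B)).toLinearMap = (W.map _).map _
        rw [map_mul, ← Submodule.map_comp]; rfl }
  have hsub : ∀ W : Submodule F VS, (finrank F ↥W = 2 * a ∧
      (∀ u ∈ W, u ≠ 0 → ∃ v ∈ W, Cfsg.sympForm d F u v ≠ 0)) ↔
      W ∈ MulAction.orbit (Matrix.symplecticGroup (Fin d) F) (stdSub (F := F) ha) := by
    have hstd : finrank F (stdSub (F := F) ha) = 2 * a := by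
      have e := finrank_span_eq_card (R := F) (b := stdFam (F := F) ha) (li_std ha)
      rw [stdSub, e, Fintype.card_sum, Fintype.card_fin, two_mul]
    have hstdn : ∀ u ∈ stdSub (F := F) ha, u ≠ 0 → ∃ v ∈ stdSub (F := F) ha, Cfsg.sympForm d F u v ≠ 0 := by
      intro u hu hu0
      obtain ⟨c, rfl⟩ := (Submodule.mem_span_range_iff_exists_fun F).1 hu
      by_contra hcon
      push Not at hcon
      refine hu0 (Finset.sum_eq_zero fun x _ => ?_)
      have e := hcon (stdFam ha x.swap) (Submodule.subset_span ⟨_, rfl⟩)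
      rw [← sympBilin_apply, map_sum, LinearMap.sum_apply, Finset.sum_eq_single x] at e
      · rw [map_smul, LinearMap.smul_apply, sympBilin_apply, gram_std, if_pos rfl, smul_eq_mul] at e
        have hcx : c x = 0 := by rcases x with i | i <;> simpa using e
        rw [hcx, zero_smul]
      · intro y _ hyx
        rw [map_smul, LinearMap.smul_apply, sympBilin_apply, gram_std,
          if_neg fun h => hyx (Sum.swap_leftInverse.injective h.symm), smul_zero]
      · simp
    intro W
    constructor
    · rintro ⟨hW, hn⟩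
      obtain ⟨A, hA⟩ := exists_map_std ha hW (nondeg_iff.1 hn)
      exact ⟨A, hA⟩
    · rintro ⟨A, rfl⟩
      refine ⟨((spEquiv d F A).finrank_map_eq _).trans hstd, ?_⟩
      rintro _ ⟨u, hu, rfl⟩ hu0
      obtain ⟨v, hv, hne⟩ := hstdn u hu fun e => hu0 (by simp [e])
      exact ⟨_, ⟨v, hv, rfl⟩, fun e => hne ((spEquiv_preserves d F A u v).symm.trans e)⟩
  rw [Nat.card_congr (Equiv.subtypeEquivRight hsub),
    Nat.card_congr (MulAction.orbitEquivQuotientStabilizer (Matrix.symplecticGroup (Fin d) F) (stdSub (F := F) ha))]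
  let s : Finset (Fin d) := (Finset.univ : Finset (Fin a)).map (Fin.castLEEmb ha)
  have hs : Fintype.card (Fin d) - s.card = d - a := by simp [s]
  have h1 := CfsgLib.Classical.card_symplecticGroup (l := Fin d) (F := F)
  have h2 := CfsgLib.Classical.card_pairFix (F := F) (d - a) s hs
  rw [Fintype.card_fin, Nat.card_eq_fintype_card (α := F)] at h1
  rw [Nat.card_eq_fintype_card (α := F)] at h2
  rw [← h2, ← h1, ← Subgroup.index_mul_card (MulAction.stabilizer (Matrix.symplecticGroup (Fin d) F) (stdSub (F := F) ha))]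
  refine mul_dvd_mul (dvd_refl _) (Subgroup.card_dvd_of_le fun g hg => ?_)
  refine MulAction.mem_stabilizer_iff.2 ?_
  show (stdSub (F := F) ha).map (spEquiv d F g).toLinearMap = stdSub (F := F) ha
  rw [stdSub, Submodule.map_span, ← Set.range_comp]
  refine congrArg (fun f => Submodule.span F (Set.range f)) (funext fun x => ?_)
  rcases x with i | i <;>
    simp [stdFam, spEquiv_apply, (hg (Fin.castLE ha i) (Finset.mem_map.2 ⟨i, Finset.mem_univ _, rfl⟩))]

/-- A prime divisor of the number of nondegenerate subspaces. -/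
theorem exists_dvd_of_dvd_card_nd {p r a : ℕ} [Fact p.Prime] [CharP F p] [Fact r.Prime] (hrp : r ≠ p)
    (ha : a ≤ d) (h : r ∣ Nat.card {W : Submodule F VS // finrank F ↥W = 2 * a ∧
        (∀ u ∈ W, u ≠ 0 → ∃ v ∈ W, Cfsg.sympForm d F u v ≠ 0)}) :
    ∃ j, d - a < j ∧ j ≤ d ∧ orderOf ((Fintype.card F : ℕ) : ZMod r) ∣ 2 * j := by
  have hr := (Fact.out : r.Prime)
  have hq : ∀ k, ¬ r ∣ Fintype.card F ^ k := fun k hk => by
    obtain ⟨n, -, e⟩ := FiniteField.card F p
    exact hrp ((Nat.prime_dvd_prime_iff_eq hr Fact.out).1 (hr.dvd_of_dvd_pow (hr.dvd_of_dvd_pow hk |> fun h => e ▸ h)))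
  set P := fun n : ℕ => ∏ i ∈ Finset.range n, (Fintype.card F ^ (2 * (i + 1)) - 1)
  have hsplit : P d = P (d - a) * ∏ i ∈ Finset.Ico (d - a) d, (Fintype.card F ^ (2 * (i + 1)) - 1) :=
    (Finset.prod_range_mul_prod_Ico _ (Nat.sub_le d a)).symm
  have h1 : r * (Fintype.card F ^ ((d - a) ^ 2) * P (d - a)) ∣ Fintype.card F ^ (d ^ 2) * P d :=
    (mul_dvd_mul_right h _).trans (card_nondeg_mul_dvd (F := F) ha)
  have hP : 0 < P (d - a) := Finset.prod_pos fun i _ => Nat.sub_pos_of_lt
    (Nat.one_lt_pow (by omega) Fintype.one_lt_card)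
  rw [hsplit, mul_left_comm _ (P (d - a)), ← mul_assoc r, mul_comm _ (P (d - a))] at h1
  have h2 := Nat.dvd_of_mul_dvd_mul_left hP h1
  obtain ⟨i, hi, hd⟩ := (Nat.Prime.prime hr).exists_mem_finset_dvd
    ((hr.dvd_mul.1 ((dvd_mul_right r _).trans h2)).resolve_left (hq _))
  rw [Finset.mem_Ico] at hi
  exact ⟨i + 1, by omega, by omega, (dvd_pow_sub_one_iff Fintype.card_pos).1 hd⟩

end count

section atoms

variable {V : Type*} [AddCommGroup V] [Module F V] [FiniteDimensional F V] {B : LinearMap.BilinForm F V}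
  {f : Module.End F V}

/-- A pair spans a nondegenerate plane. -/
theorem plane_of_pair (hA : B.IsAlt) {D : Submodule F V} {v w : V} (hv : v ∈ D) (hw : w ∈ D) (hne : B v w ≠ 0)
    (h1 : f v ∈ Submodule.span F ({v, w} : Set V)) (h2 : f w ∈ Submodule.span F ({v, w} : Set V)) :
    ∃ U ≤ D, Inv f U ∧ Nondeg (σ := RingHom.id F) B U ∧ finrank F U = 2 := by
  have hwv : B w v ≠ 0 := fun e => hne (by rw [← (LinearMap.IsAlt.neg hA w v), e, neg_zero])
  refine ⟨Submodule.span F ({v, w} : Set V), Submodule.span_le.2 (by rintro _ (rfl | rfl) <;> assumption),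
    fun x hx => ?_, fun x hx hx' => ?_, ?_⟩
  · obtain ⟨s, t, rfl⟩ := Submodule.mem_span_pair.1 hx
    rw [map_add, map_smul, map_smul]
    exact add_mem (Submodule.smul_mem _ _ h1) (Submodule.smul_mem _ _ h2)
  · obtain ⟨s, t, rfl⟩ := Submodule.mem_span_pair.1 hx
    have e1 := hx' v (Submodule.subset_span (by simp))
    have e2 := hx' w (Submodule.subset_span (by simp))
    simp only [map_add, map_smul, LinearMap.add_apply, LinearMap.smul_apply, smul_eq_mul, hA v, hA w, mul_zero,
      zero_add, add_zero, mul_eq_zero, hne, hwv, or_false] at e1 e2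
    simp [e1, e2]
  · have hli : LinearIndependent F ![v, w] := LinearIndependent.pair_iff.2 fun s t hst => by
      have e1 := congrArg (fun a => B a v) hst
      have e2 := congrArg (fun a => B a w) hst
      simp only [map_add, map_smul, LinearMap.add_apply, LinearMap.smul_apply, smul_eq_mul, hA v, hA w, mul_zero,
        zero_add, add_zero, map_zero, LinearMap.zero_apply, mul_eq_zero, hne, hwv, or_false] at e1 e2
      exact ⟨e2, e1⟩
    have h := finrank_span_eq_card hli
    rwa [Matrix.range_cons_cons_empty, Fintype.card_fin] at h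

/-- Odd characteristic, square a scalar: invariant planes split off. -/
theorem atom_sq (hA : B.IsAlt) (h2 : (2 : F) ≠ 0) (hf : ∀ u v, B (f u) (f v) = B u v) {z : F}
    (hff : ∀ v, f (f v) = z • v) (hz : z = 1 ∨ z = -1) {D : Submodule F V} (hDi : Inv f D)
    (hD : Nondeg (σ := RingHom.id F) B D) (h0 : D ≠ ⊥) :
    ∃ U ≤ D, Inv f U ∧ Nondeg (σ := RingHom.id F) B U ∧ finrank F U = 2 := by
  obtain ⟨u, hu, hu0⟩ := Submodule.exists_mem_ne_zero_of_ne_bot h0
  rcases hz with rfl | rfl
  · obtain ⟨v, s, hv, hv0, hfv, hs⟩ : ∃ v, ∃ s : F, v ∈ D ∧ v ≠ 0 ∧ f v = s • v ∧ s * s = 1 := by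
      by_cases h : u + f u = 0
      · exact ⟨u, -1, hu, hu0, by rw [neg_one_smul]; exact eq_neg_of_add_eq_zero_right h, by ring⟩
      · exact ⟨u + f u, 1, add_mem hu (hDi u hu), h, by rw [map_add, hff, one_smul, one_smul, add_comm], one_mul 1⟩
    obtain ⟨w, hw, hvw⟩ : ∃ w ∈ D, B v w ≠ 0 := by
      by_contra hc
      push Not at hc
      exact hv0 (hD v hv hc)
    have e1 : B v (f w) = s * B v w := by
      have := hf v w
      rw [hfv, map_smul, LinearMap.smul_apply, smul_eq_mul] at this
      linear_combination s * this - B v (f w) * hs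
    refine plane_of_pair hA hv (add_mem hw (D.smul_mem s (hDi w hw))) ?_ ?_ ?_
    · rw [map_add, map_smul, e1, smul_eq_mul, ← mul_assoc, hs, one_mul, ← two_mul]
      exact mul_ne_zero h2 hvw
    · rw [hfv]; exact Submodule.smul_mem _ _ (Submodule.subset_span (by simp))
    · have e : f (w + s • f w) = s • (w + s • f w) := by
        rw [map_add, map_smul, hff, one_smul, smul_add, smul_smul, hs, one_smul, add_comm]
      rw [e]; exact Submodule.smul_mem _ _ (Submodule.subset_span (by simp))
  · obtain ⟨v, hv, hne⟩ : ∃ v ∈ D, B v (f v) ≠ 0 := by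
      by_contra hc
      push Not at hc
      refine hu0 (hD u hu fun w hw => ?_)
      have key : ∀ x ∈ D, ∀ y ∈ D, B x (f y) = 0 := fun x hx y hy => by
        have e := hc (x + y) (add_mem hx hy)
        simp only [map_add, LinearMap.add_apply, hc x hx, hc y hy, zero_add, add_zero] at e
        have e' : B y (f x) = B x (f y) := by
          rw [← hf y (f x), hff, map_smul, neg_one_smul, LinearMap.IsAlt.neg hA]
        exact (mul_eq_zero.1 (show (2 : F) * B x (f y) = 0 by linear_combination e - e')).resolve_left h2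
      have e := key u hu (f w) (hDi w hw)
      rwa [hff, map_smul, neg_one_smul, neg_eq_zero] at e
    exact plane_of_pair hA hv (hDi v hv) hne (Submodule.subset_span (by simp))
      (by rw [hff]; exact Submodule.smul_mem _ _ (Submodule.subset_span (by simp)))

/-- Characteristic two, involutions: a plane or a four-dimensional block splits off. -/
theorem atom_two [CharP F 2] (hA : B.IsAlt) (hf : ∀ u v, B (f u) (f v) = B u v) (hff : ∀ v, f (f v) = v)
    {D : Submodule F V} (hDi : Inv f D) (hD : Nondeg (σ := RingHom.id F) B D) (h0 : D ≠ ⊥) :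
    ∃ U ≤ D, Inv f U ∧ Nondeg (σ := RingHom.id F) B U ∧ (finrank F U = 2 ∨ finrank F U = 4) := by
  have hc2 : ∀ x : F, x + x = 0 := fun x => CharTwo.add_self_eq_zero x
  have hsym : ∀ a b, B b a = B a b := fun a b => by
    rw [← LinearMap.IsAlt.neg hA a b, CharTwo.neg_eq]
  have hadj : ∀ a b, B (f a) b = B a (f b) := fun a b => by
    have := hf (f a) b
    rw [hff] at this
    exact this.symm
  by_cases hfix : D ≤ fixSp f
  · obtain ⟨v, hv, hv0⟩ := Submodule.exists_mem_ne_zero_of_ne_bot h0
    obtain ⟨w, hw, hne⟩ : ∃ w ∈ D, B v w ≠ 0 := by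
      by_contra hc
      push Not at hc
      exact hv0 (hD v hv hc)
    obtain ⟨U, h1, h2, h3, h4⟩ := plane_of_pair (f := f) hA hv hw hne
      (by rw [mem_fixSp.1 (hfix hv)]; exact Submodule.subset_span (by simp))
      (by rw [mem_fixSp.1 (hfix hw)]; exact Submodule.subset_span (by simp))
    exact ⟨U, h1, h2, h3, Or.inl h4⟩
  by_cases hdiag : ∃ v ∈ D, B v (f v) ≠ 0
  · obtain ⟨v, hv, hne⟩ := hdiag
    obtain ⟨U, h1, h2, h3, h4⟩ := plane_of_pair (f := f) hA hv (hDi v hv) hne (Submodule.subset_span (by simp))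
      (by rw [hff]; exact Submodule.subset_span (by simp))
    exact ⟨U, h1, h2, h3, Or.inl h4⟩
  push Not at hdiag
  obtain ⟨v, hv, w, hw, hne⟩ : ∃ v ∈ D, ∃ w ∈ D, B v (f w) + B v w ≠ 0 := by
    by_contra hc
    push Not at hc
    refine hfix fun w hw => mem_fixSp.2 ?_
    have e : f w + w = 0 := hD _ (add_mem (hDi w hw) hw) fun v hv => by
      rw [← hsym, map_add]
      exact hc v hv w hw
    calc f w = f w + (w + w) := by
          rw [show w + w = (1 + 1 : F) • w by rw [add_smul, one_smul], hc2, zero_smul, add_zero]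
      _ = w := by rw [← add_assoc, e, zero_add]
  let g : Fin 4 → V := ![v, f v, w, f w]
  have hg : ∀ i, g i ∈ D := fun i => by
    fin_cases i <;> simp [g, hv, hw, hDi v hv, hDi w hw]
  have key : ∀ c : Fin 4 → F, (∀ j, B (∑ i, c i • g i) (g j) = 0) → c = 0 := by
    intro c hc
    have e := fun j => hc j
    simp only [Fin.sum_univ_four, map_add, map_smul, LinearMap.add_apply, LinearMap.smul_apply, smul_eq_mul] at e
    have t10 : B (f v) v = 0 := by rw [hsym]; exact hdiag v hv
    have t32 : B (f w) w = 0 := by rw [hsym]; exact hdiag w hw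
    have t20 : B w v = B v w := hsym v w
    have t30 : B (f w) v = B v (f w) := hsym v (f w)
    have t21 : B w (f v) = B v (f w) := by rw [← hadj, t30]
    have t31 : B (f w) (f v) = B v w := by rw [hf, t20]
    have t12 : B (f v) w = B v (f w) := hadj v w
    have e0 := e 0
    have e1 := e 1
    have e2 := e 2
    have e3 := e 3
    simp only [g, Matrix.cons_val, hA _, hdiag v hv, hdiag w hw, t10, t32, t20, t30, t21, t31, t12, hf v w, mul_zero,
      add_zero, zero_add] at e0 e1 e2 e3
    have d0 : (c 2 + c 3) * (B v w + B v (f w)) = 0 := by linear_combination e0 + e1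
    have d2 : (c 0 + c 1) * (B v w + B v (f w)) = 0 := by linear_combination e2 + e3
    have hne' : B v w + B v (f w) ≠ 0 := by rwa [add_comm]
    have s0 := (mul_eq_zero.1 d0).resolve_right hne'
    have s2 := (mul_eq_zero.1 d2).resolve_right hne'
    have t3 : c 3 = c 2 := by linear_combination s0 - hc2 (c 2)
    have t1 : c 1 = c 0 := by linear_combination s2 - hc2 (c 0)
    rw [t3] at e0
    rw [t1] at e2
    have u2 : c 2 * (B v w + B v (f w)) = 0 := by linear_combination e0
    have u0 : c 0 * (B v w + B v (f w)) = 0 := by linear_combination e2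
    have v2 := (mul_eq_zero.1 u2).resolve_right hne'
    have v0 := (mul_eq_zero.1 u0).resolve_right hne'
    funext i
    fin_cases i <;> simp [t1, t3, v0, v2]
  refine ⟨Submodule.span F (Set.range g), Submodule.span_le.2 (by rintro _ ⟨i, rfl⟩; exact hg i),
    fun x hx => ?_, fun x hx hx' => ?_, Or.inr ?_⟩
  · obtain ⟨c, rfl⟩ := (Submodule.mem_span_range_iff_exists_fun F).1 hx
    rw [map_sum]
    refine sum_mem fun i _ => ?_
    rw [map_smul]
    refine Submodule.smul_mem _ _ (Submodule.subset_span ?_)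
    fin_cases i
    · exact ⟨1, rfl⟩
    · exact ⟨0, by simp [g, hff]⟩
    · exact ⟨3, rfl⟩
    · exact ⟨2, by simp [g, hff]⟩
  · obtain ⟨c, rfl⟩ := (Submodule.mem_span_range_iff_exists_fun F).1 hx
    rw [key c fun j => hx' _ (Submodule.subset_span ⟨j, rfl⟩)]
    simp
  · have hli : LinearIndependent F g := Fintype.linearIndependent_iff.2 fun c hc i => by
      rw [key c fun j => by rw [hc, map_zero, LinearMap.zero_apply]]
      rfl
    rw [finrank_span_eq_card hli, Fintype.card_fin]

theorem exists_sub_two [Finite F] [CharP F 2] (hA : B.IsAlt) (hnd : ∀ u, (∀ v, B u v = 0) → u = 0)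
    (hf : ∀ u v, B (f u) (f v) = B u v) (hff : ∀ v, f (f v) = v) :
    ∀ (k : ℕ) (D : Submodule F V), finrank F D = k → Inv f D → Nondeg (σ := RingHom.id F) B D →
      ∀ n, n % 2 = 0 → n ≤ k → (k % 4 = 2 ∨ n % 4 = 0) →
        ∃ U ≤ D, Inv f U ∧ Nondeg (σ := RingHom.id F) B U ∧ finrank F U = n := by
  have h := isHerm_alt hA hnd
  intro k
  induction k using Nat.strong_induction_on with
  | _ k ih =>
  intro D hk hDi hD n hn hnk hcase
  rcases Nat.eq_zero_or_pos n with rfl | hn0
  · exact ⟨⊥, bot_le, fun v hv => by simp [(Submodule.mem_bot F).1 hv], fun u hu _ => (Submodule.mem_bot F).1 hu,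
      by simp⟩
  by_cases hnk' : n = k
  · exact ⟨D, le_rfl, hDi, hD, hk.trans hnk'.symm⟩
  have h0 : D ≠ ⊥ := fun e => by rw [e, finrank_bot] at hk; omega
  obtain ⟨U₀, hU₀, hU₀i, hU₀n, hU₀r⟩ := atom_two hA hf hff hDi hD h0
  have hsum := finrank_perp h hD hU₀
  have hev := even_finrank hA hD
  rw [hk, Nat.even_iff] at hev
  have hrec := ih _ (show finrank F (perp B U₀ ⊓ D : Submodule F V) < k by omega) _ rfl
    ((hU₀i.perp h hf).inf hDi) (nondeg_perp h hD hU₀ hU₀n)
  have extend : ∀ u, n = finrank F U₀ + u → u % 2 = 0 →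
      ((k - finrank F U₀) % 4 = 2 ∨ u % 4 = 0) → u ≤ k - finrank F U₀ →
      ∃ U ≤ D, Inv f U ∧ Nondeg (σ := RingHom.id F) B U ∧ finrank F U = n := by
    intro u hu hu2 hcase' hle
    obtain ⟨W, hW, hWi, hWn, hWr⟩ := hrec u hu2 (by omega) (by
      rwa [show finrank F (perp B U₀ ⊓ D : Submodule F V) = k - finrank F U₀ by omega])
    refine ⟨U₀ ⊔ W, sup_le hU₀ (hW.trans inf_le_right), hU₀i.sup hWi,
      nondeg_sup_orth h hU₀n hWn (hW.trans inf_le_left), ?_⟩
    have h3 := Submodule.finrank_sup_add_finrank_inf_eq U₀ W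
    rw [show U₀ ⊓ W = ⊥ from (Submodule.eq_bot_iff _).2 fun u hu => hU₀n u hu.1 (hW hu.2).1, finrank_bot] at h3
    omega
  have keep : n ≤ k - finrank F U₀ → ((k - finrank F U₀) % 4 = 2 ∨ n % 4 = 0) →
      ∃ U ≤ D, Inv f U ∧ Nondeg (σ := RingHom.id F) B U ∧ finrank F U = n := by
    intro hle hcase'
    obtain ⟨W, hW, hWi, hWn, hWr⟩ := hrec n hn (by omega) (by
      rwa [show finrank F (perp B U₀ ⊓ D : Submodule F V) = k - finrank F U₀ by omega])
    exact ⟨W, hW.trans inf_le_right, hWi, hWn, hWr⟩
  rcases hU₀r with h2 | h4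
  · by_cases hn4 : n % 4 = 0
    · exact keep (by omega) (Or.inr hn4)
    · exact extend (n - 2) (by omega) (by omega) (Or.inr (by omega)) (by omega)
  · by_cases hle : n ≤ k - 4
    · exact keep (by omega) (by omega)
    · exact extend (n - 4) (by omega) (by omega) (by omega) (by omega)

end atoms

end CfsgLib.ThreeTransp.SpNondeg
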