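import Cfsg.Agent.Lib.FgsC.SpUnip.Count

/-!
# Invariant nondegenerate subspaces of unipotent symplectic pairs
-/

set_option autoImplicit false
set_option linter.unusedSectionVars false

namespace CfsgLib.ThreeTransp.SpUnipSub

open Matrix CfsgLib.KnownB.JordanCent CfsgLib.Classical.Unitary CfsgLib.KnownB.UnitJordan CfsgLib.FgsC.FormClasses
  CfsgLib.FgsC.SpUnip

universe u

variable {F : Type u} [Field F]

local notation "idF" => RingHom.id F

theorem card_lt_fin {n b : ℕ} (h : b ≤ n) : ((Finset.univ : Finset (Fin n)).filter fun j : Fin n => (j : ℕ) < b).card = b := by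
  rw [show ((Finset.univ : Finset (Fin n)).filter fun j : Fin n => (j : ℕ) < b) =
    (Finset.univ : Finset (Fin b)).map (Fin.castLEEmb h) from ?_]
  · simp
  · ext j
    simp only [Finset.mem_filter, Finset.mem_univ, true_and, Finset.mem_map]
    exact ⟨fun hj => ⟨⟨j, hj⟩, rfl⟩, fun ⟨i, hi⟩ => hi ▸ i.isLt⟩

theorem card_lt_or_rev_fin {n a : ℕ} (h : a + a ≤ n) :
    ((Finset.univ : Finset (Fin n)).filter fun j : Fin n => (j : ℕ) < a ∨ (j.rev : ℕ) < a).card = a + a := by
  rw [Finset.filter_or, Finset.card_union_of_disjoint, card_lt_fin (by omega)]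
  · congr 1
    exact (Finset.card_equiv Fin.revPerm (fun j => by simp)).trans (card_lt_fin (by omega : a ≤ n))
  · rw [Finset.disjoint_filter]
    intro j _ h1 h2
    rw [Fin.val_rev] at h2
    omega

variable [Fintype F]

/-- A model in which a prescribed part of the type spans an orthogonal summand. -/
theorem exists_model_split (h2 : (2 : F) ≠ 0) {μ : Multiset ℕ} (hpos : ∀ a ∈ μ, 1 ≤ a)
    (hodd : ∀ i, Odd i → Even (μ.count i)) {S : Finset ℕ} (hS : S ⊆ evens μ) {ν : Multiset ℕ} (hνμ : ν ≤ μ)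
    (hνodd : ∀ i, Odd i → Even (ν.count i)) :
    ∃ (t : ℕ) (d : Fin t → ℕ) (H : Matrix (Idx d) (Idx d) F),
      SForm idF (-1) d H ∧ sizes d = μ ∧ slots d H = S ∧
        ∃ K : Finset (Idx d), K.card = ν.sum ∧ (∀ x y : Idx d, x.1 = y.1 → (x ∈ K ↔ y ∈ K)) ∧
          ∀ x ∈ K, ∀ y ∉ K, H x y = 0 := by
  classical
  obtain ⟨g, hg⟩ := exists_nonsquare' h2
  have hg0 : g ≠ 0 := fun h => hg (h ▸ ⟨0, (mul_zero 0).symm⟩)
  have hne : (-1 : F) ≠ 1 := fun h => h2 (by linear_combination -h)
  have h2' : (-2 : F) ≠ 0 := neg_ne_zero.2 h2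
  let e : Fin (Fintype.card μ.ToType) ≃ μ.ToType := (Fintype.equivFin μ.ToType).symm
  let d : Fin (Fintype.card μ.ToType) → ℕ := fun k => (e k).1
  let τ : ℕ → F := fun i => if i ∈ S then g else 1
  let ec : ℕ → F := fun i => τ i * ((((-2 : F) ^ (i - 1)) ^ (μ.count i))⁻¹)
  have hτ0 : ∀ i, τ i ≠ 0 := fun i => by simp only [τ]; split_ifs <;> simp [hg0]
  have hec0 : ∀ i, ec i ≠ 0 := fun i => mul_ne_zero (hτ0 i) (inv_ne_zero (pow_ne_zero _ (pow_ne_zero _ h2')))
  let π' : μ.ToType → μ.ToType := fun z => ⟨z.1, if Even z.1 then z.2 else z.2.rev⟩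
  let c' : μ.ToType → F := fun z =>
    if Even z.1 then (if (z.2 : ℕ) = 0 then ec z.1 else 1) else (if (z.2 : ℕ) < (z.2.rev : ℕ) then 1 else -1)
  have hd : ∀ k, 1 ≤ d k := fun k => hpos _ (Multiset.coe_mem (x := e k))
  have hπ : ∀ z, π' (π' z) = z := fun z => by
    obtain ⟨i, j⟩ := z
    by_cases h : Even i <;> simp only [π', h, if_true, if_false, Fin.rev_rev] <;> rfl
  have hc : ∀ z, c' z ≠ 0 := fun z => by
    simp only [c']
    split_ifs <;> simp [hec0]
  have hcs : ∀ z : μ.ToType, c' (π' z) = (-1 : F) * (-1) ^ (z.1 - 1) * c' z := by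
    rintro ⟨i, j⟩
    have hi : 1 ≤ i := hpos i (Multiset.count_pos.1 (j.pos))
    rcases Nat.even_or_odd i with he | ho
    · have : (-1 : F) * (-1) ^ (i - 1) = 1 := (slot_iff h2).2 ⟨he, hi⟩
      simp only [π', c', if_pos he, this, one_mul]
    · have hno := Nat.not_even_iff_odd.2 ho
      have hp : Even (i - 1) := by obtain ⟨m, rfl⟩ := ho; simp
      have hjr : (j.rev : ℕ) ≠ j := fun h => rev_ne (hodd i ho) j (Fin.ext h)
      simp only [π', c', if_neg hno, Fin.rev_rev, hp.neg_one_pow, mul_one]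
      split_ifs <;> first | (exfalso; omega) | ring
  let π : Fin (Fintype.card μ.ToType) → Fin (Fintype.card μ.ToType) := fun k => e.symm (π' (e k))
  have hπd : ∀ k, d (π k) = d k := fun k => by
    show (e (e.symm (π' (e k)))).1 = _
    rw [Equiv.apply_symm_apply]
  obtain ⟨H, hH⟩ : ∃ H, H = monoH d π (fun k => c' (e k)) := ⟨_, rfl⟩
  have hHf : SForm idF (-1) d H := hH ▸ sform_monoH h2 hd (fun k => by simp [π, hπ]) hπd (fun k => hc _)
    (fun k => by simp only [π, Equiv.apply_symm_apply, hcs]; rfl)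
  have hsz : sizes d = μ := by
    show Multiset.map ((fun z : μ.ToType => (z : ℕ)) ∘ e) _ = μ
    rw [← Multiset.map_map]
    rw [show Multiset.map e (Finset.univ : Finset (Fin (Fintype.card μ.ToType))).val = (Finset.univ : Finset μ.ToType).val
      from congrArg Finset.val (Finset.map_univ_equiv e), Multiset.map_univ_coe]
  refine ⟨_, d, H, hHf, hsz, ?_, ?_⟩
  swap
  · let P : μ.ToType → Prop := fun z =>
      if Even z.1 then (z.2 : ℕ) < ν.count z.1 else ((z.2 : ℕ) < ν.count z.1 / 2 ∨ (z.2.rev : ℕ) < ν.count z.1 / 2)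
    have hP : ∀ z, P (π' z) ↔ P z := fun ⟨i, j⟩ => by
      by_cases h : Even i
      · simp only [P, π', if_pos h]
      · simp only [P, π', if_neg h, Fin.rev_rev]; exact or_comm
    refine ⟨Finset.univ.filter fun x => P (e x.1), ?_, fun x y hxy => by simp [hxy], fun x hx y hy => ?_⟩
    · have h1 : (Finset.univ.filter fun x : Idx d => P (e x.1)).card =
          ((Finset.univ.filter fun k => P (e k)).sigma fun k => (Finset.univ : Finset (Fin (d k)))).card :=
        congrArg Finset.card (by ext; simp)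
      rw [h1, Finset.card_sigma]
      simp only [Finset.card_univ, Fintype.card_fin]
      have h2 : (Finset.univ.filter fun z : μ.ToType => P z).val.map (fun z => z.1) = ν := by
        ext i
        rw [Multiset.count_map, ← Finset.filter_val, Finset.card_val, Finset.filter_filter]
        have h3 : (Finset.univ.filter fun z : μ.ToType => P z ∧ i = z.1) =
            ((Finset.univ : Finset (Fin (μ.count i))).filter fun j => P ⟨i, j⟩).map
              ⟨fun j => ⟨i, j⟩, fun a b hab => by cases hab; rfl⟩ := by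
          ext ⟨i', j⟩
          constructor
          · intro h
            obtain ⟨hp, rfl⟩ := (Finset.mem_filter.1 h).2
            exact Finset.mem_map.2 ⟨j, Finset.mem_filter.2 ⟨Finset.mem_univ _, hp⟩, rfl⟩
          · intro h
            obtain ⟨j', hj', e'⟩ := Finset.mem_map.1 h
            rw [← e']
            exact Finset.mem_filter.2 ⟨Finset.mem_univ _, (Finset.mem_filter.1 hj').2, rfl⟩
        rw [h3, Finset.card_map]
        have hle : ν.count i ≤ μ.count i := Multiset.le_iff_count.1 hνμ i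
        by_cases hi : Even i
        · simp only [P, if_pos hi]
          exact card_lt_fin hle
        · simp only [P, if_neg hi]
          obtain ⟨a, ha⟩ := hνodd i (Nat.not_even_iff_odd.1 hi)
          rw [card_lt_or_rev_fin (by omega)]
          omega
      rw [← congrArg Multiset.sum h2]
      exact Finset.sum_equiv e (fun k => by simp) (fun k _ => rfl)
    · rw [hH]
      simp only [monoH, Matrix.of_apply]
      refine if_neg fun he => ?_
      simp only [Finset.mem_filter, Finset.mem_univ, true_and] at hx hy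
      refine hy ?_
      rw [he, show e (π x.1) = π' (e x.1) from e.apply_symm_apply _, hP]
      exact hx
  have hdet : ∀ i, Even i → i ∈ μ → (formG H i).det = τ i := by
    intro i he hmem
    have hfix : ∀ k, d k = i → π k = k := fun k hk => by
      refine e.symm_apply_eq.2 ?_
      have hz : Even (e k).1 := by rw [← hk] at he; exact he
      simp only [π', if_pos hz]
      rfl
    rw [hH, det_formG_monoH _ hπd (hpos i hmem) hfix, Finset.prod_mul_distrib, Finset.prod_const, Finset.card_univ,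
      ← count_sizes, hsz]
    obtain ⟨z0, hz0⟩ : ∃ z0 : μ.ToType, z0 = ⟨i, ⟨0, Multiset.count_pos.2 hmem⟩⟩ := ⟨_, rfl⟩
    rw [Finset.prod_eq_single (⟨e.symm z0, by show (e (e.symm z0)).1 = i; rw [e.apply_symm_apply, hz0]⟩ : Diag d i)]
    · show c' (e (e.symm z0)) * _ = _
      rw [e.apply_symm_apply, hz0]
      simp only [c', if_pos he, if_true, ec]
      rw [inv_mul_cancel_right₀ (pow_ne_zero _ (pow_ne_zero _ h2'))]
    · rintro ⟨k, hk⟩ _ hne'
      have hek : e k ≠ z0 := fun h => hne' (Subtype.ext (e.eq_symm_apply.2 h))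
      show c' (e k) = 1
      generalize hz : e k = z at hek
      obtain ⟨i', j⟩ := z
      obtain rfl : i' = i := by rw [← hk]; exact (congrArg Sigma.fst hz).symm
      simp only [c', if_pos he]
      rw [if_neg]
      exact fun h0 => hek (by rw [hz0]; exact congrArg (Sigma.mk i') (Fin.ext h0))
    · simp
  ext i
  simp only [slots, Finset.mem_filter, hsz, Multiset.mem_toFinset]
  constructor
  · rintro ⟨hmem, he, hn⟩
    by_contra hi
    rw [hdet i he hmem] at hn
    exact hn (by simp [τ, hi])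
  · intro hi
    obtain ⟨hm, he⟩ := Finset.mem_filter.1 (hS hi)
    rw [Multiset.mem_toFinset] at hm
    refine ⟨hm, he, ?_⟩
    rw [hdet i he hm]
    simpa [τ, hi] using hg

variable {κ : Type} [Fintype κ] [DecidableEq κ] {A J : Matrix κ κ F}

/-- A sub-multiset of the type gives an invariant nondegenerate subspace. -/
theorem exists_inv_nondeg (h2 : (2 : F) ≠ 0) {t : ℕ} {d : Fin t → ℕ} {H : Matrix (Idx d) (Idx d) F}
    (hH : SForm idF (-1) d H) (hI : Iso (1 + shift d F) H A J) {ν : Multiset ℕ} (hν : ν ≤ sizes d)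
    (hνodd : ∀ i, Odd i → Even (ν.count i)) :
    ∃ W : Submodule F (κ → F), Module.finrank F W = ν.sum ∧ (∀ v ∈ W, A *ᵥ v ∈ W) ∧
      ∀ u ∈ W, (∀ v ∈ W, u ⬝ᵥ (J *ᵥ v) = 0) → u = 0 := by
  classical
  have hpos : ∀ a ∈ sizes d, 1 ≤ a := fun a ha => by
    obtain ⟨k, rfl⟩ := mem_sizes_iff.1 ha; exact hH.pos k
  have hS : slots d H ⊆ evens (sizes d) := fun i hi => by
    simp only [slots, Finset.mem_filter] at hi
    exact Finset.mem_filter.2 ⟨hi.1, hi.2.1⟩
  obtain ⟨t', d', H', hH', hsz, hsl, K, hK, hKs, hKz⟩ := exists_model_split h2 hpos (fun i hi => odd_count h2 hH hi) hS hν hνodd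
  obtain ⟨Q, R, hQR, hRQ, hAQ, hQJ⟩ := (iso_of_type h2 hH' hH hsz hsl).trans hI
  have hinj : Function.Injective (Matrix.toLin' Q) := fun x y h => by
    simpa [← Matrix.toLin'_mul_apply, hRQ] using congrArg (Matrix.toLin' R) h
  let C : Submodule F (Idx d' → F) :=
    { carrier := {x | ∀ i ∉ K, x i = 0}
      add_mem' := fun {a b} ha hb i hi => by simp [ha i hi, hb i hi]
      zero_mem' := fun i _ => rfl
      smul_mem' := fun c a ha i hi => by simp [ha i hi] }
  refine ⟨C.map (Matrix.toLin' Q), ?_, ?_, ?_⟩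
  · rw [← (Submodule.equivMapOfInjective _ hinj C).finrank_eq, ← hK]
    have e : C ≃ₗ[F] (K → F) :=
      { toFun := fun x i => x.1 i.1
        map_add' := fun _ _ => rfl
        map_smul' := fun _ _ => rfl
        invFun := fun y => ⟨fun i => if h : i ∈ K then y ⟨i, h⟩ else 0, fun i hi => dif_neg hi⟩
        left_inv := fun x => Subtype.ext (funext fun i => by
          by_cases h : i ∈ K
          · simp [h]
          · simp [h, x.2 i h])
        right_inv := fun y => funext fun i => by simp }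
    rw [e.finrank_eq, Module.finrank_fintype_fun_eq_card, Fintype.card_coe]
  · rintro _ ⟨x, hx, rfl⟩
    refine ⟨(1 + shift d' F) *ᵥ x, fun i hi => ?_, ?_⟩
    · rw [Matrix.add_mulVec, Matrix.one_mulVec, Pi.add_apply, hx i hi, zero_add]
      refine Finset.sum_eq_zero fun y _ => ?_
      by_cases hy : y ∈ K
      · simp only [shift, Matrix.of_apply]
        rw [if_neg fun h => hi ((hKs i y h.1).2 hy), zero_mul]
      · rw [hx y hy, mul_zero]
    · simp [Matrix.mulVec_mulVec, hAQ]
  · rintro _ ⟨x, hx, rfl⟩ hall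
    have key : ∀ y, x ⬝ᵥ (H' *ᵥ y) = 0 := fun y => by
      have h := hall _ ⟨fun i => if i ∈ K then y i else 0, fun i hi => if_neg hi, rfl⟩
      have h' : x ⬝ᵥ (H' *ᵥ fun i => if i ∈ K then y i else 0) = 0 := by
        rw [← hQJ, ← Matrix.mulVec_mulVec, ← Matrix.mulVec_mulVec, dotProduct_mulVec x, Matrix.vecMul_transpose]
        simpa using h
      refine Eq.trans ?_ h'
      simp only [dotProduct, Matrix.mulVec]
      refine Finset.sum_congr rfl fun i _ => ?_
      by_cases hi : i ∈ K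
      · congr 1
        refine Finset.sum_congr rfl fun j _ => ?_
        by_cases hj : j ∈ K
        · rw [if_pos hj]
        · rw [hKz i hi j hj, zero_mul, zero_mul]
      · rw [hx i hi, zero_mul, zero_mul]
    have hx0 : x = 0 := by
      refine Matrix.eq_zero_of_vecMul_eq_zero hH'.det_ne (funext fun j => ?_)
      have := key (Pi.single j 1)
      rwa [dotProduct_mulVec, dotProduct_single, mul_one] at this
    rw [hx0, map_zero]

theorem rank_of_iso {t : ℕ} {d : Fin t → ℕ} {H : Matrix (Idx d) (Idx d) F} (hI : Iso (1 + shift d F) H A J) (j : ℕ) :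
    ((A - 1) ^ j).rank = ∑ k, (d k - j) := by
  obtain ⟨Q, R, hQR, hRQ, hAQ, -⟩ := hI
  have e : ∀ j, (A - 1) ^ j * Q = Q * shift d F ^ j := fun j => by
    induction j with
    | zero => rw [pow_zero, pow_zero, Matrix.one_mul, Matrix.mul_one]
    | succ j ih =>
      rw [pow_succ, Matrix.mul_assoc, Matrix.sub_mul, Matrix.one_mul, hAQ, Matrix.mul_add, Matrix.mul_one,
        add_sub_cancel_left, ← Matrix.mul_assoc, ih, Matrix.mul_assoc, ← pow_succ]
  have e1 : (A - 1) ^ j = Q * shift d F ^ j * R := by rw [← e, Matrix.mul_assoc, hQR, Matrix.mul_one]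
  have e2 : shift d F ^ j = R * (A - 1) ^ j * Q := by rw [Matrix.mul_assoc, e, ← Matrix.mul_assoc, hRQ, Matrix.one_mul]
  rw [← CfsgLib.KnownB.Jordan.rank_pow (F := F) d j, jordan_eq, add_sub_cancel_left]
  exact le_antisymm (e1 ▸ (Matrix.rank_mul_le_left _ _).trans (Matrix.rank_mul_le_right _ _))
    (e2 ▸ (Matrix.rank_mul_le_left _ _).trans (Matrix.rank_mul_le_right _ _))

/-- The restriction to an invariant nondegenerate subspace, as a pair. -/
theorem exists_restrict {p : ℕ} [Fact p.Prime] [CharP F p] (hJ : Jᵀ = (-1 : F) • J) (hA : Aᵀ * J * A = J)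
    (hp : A ^ p = 1) {W : Submodule F (κ → F)} (hWi : ∀ v ∈ W, A *ᵥ v ∈ W)
    (hWn : ∀ u ∈ W, (∀ v ∈ W, u ⬝ᵥ (J *ᵥ v) = 0) → u = 0) :
    ∃ (s : ℕ) (e : Fin s → ℕ) (H : Matrix (Idx e) (Idx e) F), SForm idF (-1) e H ∧
      (sizes e).sum = Module.finrank F W ∧
      ∀ j, Module.finrank F (W.map (Matrix.toLin' (A - 1) ^ j)) = ∑ k, (e k - j) := by
  classical
  let b := Module.finBasis F W
  let L : (Fin (Module.finrank F W) → F) →ₗ[F] (κ → F) := W.subtype.comp b.equivFun.symm.toLinearMap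
  have hL : Function.Injective L := W.injective_subtype.comp b.equivFun.symm.injective
  have hLr : LinearMap.range L = W := by
    rw [LinearMap.range_comp, LinearEquiv.range, Submodule.map_top, Submodule.range_subtype]
  let g : Module.End F W := (Matrix.toLin' A).restrict hWi
  let A₁ := LinearMap.toMatrix' (b.equivFun.toLinearMap.comp (g.comp b.equivFun.symm.toLinearMap))
  obtain ⟨P, hP⟩ : ∃ P, P = LinearMap.toMatrix' L := ⟨_, rfl⟩
  have hcan : ∀ {n : ℕ} (X Y : Matrix (Fin (Module.finrank F W)) (Fin n) F), P * X = P * Y → X = Y := by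
    intro n X Y h
    refine Matrix.toLin'.injective (LinearMap.ext fun v => hL ?_)
    have := congrArg (fun M => Matrix.toLin' M v) h
    simpa [hP, Matrix.toLin'_mul] using this
  have hPA : A * P = P * A₁ := by
    refine Matrix.toLin'.injective (LinearMap.ext fun v => ?_)
    rw [Matrix.toLin'_mul, Matrix.toLin'_mul, hP, Matrix.toLin'_toMatrix', LinearMap.comp_apply, LinearMap.comp_apply]
    simp only [A₁, L, Matrix.toLin'_toMatrix', LinearMap.comp_apply, LinearEquiv.coe_coe, LinearEquiv.symm_apply_apply]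
    rfl
  have hA₁ : A₁ᵀ * (Pᵀ * J * P) * A₁ = Pᵀ * J * P :=
    calc A₁ᵀ * (Pᵀ * J * P) * A₁ = (P * A₁)ᵀ * J * (P * A₁) := by
          rw [Matrix.transpose_mul]; simp only [Matrix.mul_assoc]
      _ = (A * P)ᵀ * J * (A * P) := by rw [hPA]
      _ = Pᵀ * (Aᵀ * J * A) * P := by rw [Matrix.transpose_mul]; simp only [Matrix.mul_assoc]
      _ = _ := by rw [hA]
  have hJ₁ : (Pᵀ * J * P)ᵀ = (-1 : F) • (Pᵀ * J * P) := by
    rw [Matrix.transpose_mul, Matrix.transpose_mul, Matrix.transpose_transpose, hJ, Matrix.smul_mul, Matrix.mul_smul,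
      Matrix.mul_assoc]
  have hPv : ∀ v, P *ᵥ v = L v := fun v => by rw [hP, ← Matrix.toLin'_apply, Matrix.toLin'_toMatrix']
  have hdet : (Pᵀ * J * P).det ≠ 0 := by
    intro h0
    obtain ⟨x, hx0, hx⟩ := Matrix.exists_vecMul_eq_zero_iff.2 h0
    refine hx0 (hL ?_)
    rw [map_zero]
    refine hWn _ (hLr.le (LinearMap.mem_range_self L x)) fun v hv => ?_
    rw [← hLr] at hv
    obtain ⟨y, rfl⟩ := hv
    rw [← hPv, ← hPv, ← Matrix.vecMul_transpose, Matrix.mulVec_mulVec, ← dotProduct_mulVec, Matrix.mulVec_mulVec,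
      dotProduct_mulVec, ← Matrix.mul_assoc, hx, zero_dotProduct]
  have hp₁ : A₁ ^ p = 1 := by
    refine hcan _ _ ?_
    have e : ∀ n, A ^ n * P = P * A₁ ^ n := fun n => by
      induction n with
      | zero => rw [pow_zero, pow_zero, Matrix.one_mul, Matrix.mul_one]
      | succ n ih => rw [pow_succ, Matrix.mul_assoc, hPA, ← Matrix.mul_assoc, ih, Matrix.mul_assoc, ← pow_succ]
    rw [← e, hp, Matrix.one_mul, Matrix.mul_one]
  obtain ⟨s, e, H, hH, -, hI⟩ := exists_unip hJ₁ hdet hA₁ hp₁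
  have hrk : ∀ j, Module.finrank F (W.map (Matrix.toLin' (A - 1) ^ j)) = ∑ k, (e k - j) := fun j => by
    have hW : W.map (Matrix.toLin' (A - 1) ^ j) = (LinearMap.range L).map (Matrix.toLin' (A - 1) ^ j) := by rw [hLr]
    rw [← rank_of_iso hI j, hW, ← LinearMap.range_comp]
    have e' : ∀ n, (A - 1) ^ n * P = P * (A₁ - 1) ^ n := fun n => by
      induction n with
      | zero => rw [pow_zero, pow_zero, Matrix.one_mul, Matrix.mul_one]
      | succ n ih =>
        rw [pow_succ, Matrix.mul_assoc, Matrix.sub_mul, Matrix.one_mul, hPA, ← Matrix.mul_one P, Matrix.mul_assoc,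
          Matrix.one_mul, ← Matrix.mul_sub, Matrix.mul_one, ← Matrix.mul_assoc, ih, Matrix.mul_assoc, ← pow_succ]
    have h : (Matrix.toLin' (A - 1) ^ j) ∘ₗ L = L ∘ₗ Matrix.toLin' ((A₁ - 1) ^ j) := by
      rw [← Matrix.toLin'_pow, ← Matrix.toLin'_toMatrix' L, ← hP, ← Matrix.toLin'_mul, ← Matrix.toLin'_mul, e']
    rw [h, LinearMap.range_comp, ← (Submodule.equivMapOfInjective _ hL _).finrank_eq]
    rfl
  refine ⟨s, e, H, hH, ?_, hrk⟩
  have := hrk 0
  rw [pow_zero, show (1 : Module.End F (κ → F)) = LinearMap.id from rfl, Submodule.map_id] at this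
  rw [this]
  simp [sizes, List.sum_ofFn]

/-- The type of an invariant nondegenerate subspace is an admissible part of the type. -/
theorem exists_sub_sizes {p : ℕ} [Fact p.Prime] [CharP F p] (h2 : (2 : F) ≠ 0) (hJ : Jᵀ = (-1 : F) • J)
    (hA : Aᵀ * J * A = J) (hp : A ^ p = 1) {t : ℕ} {d : Fin t → ℕ} {H : Matrix (Idx d) (Idx d) F}
    (hH : SForm idF (-1) d H) (hI : Iso (1 + shift d F) H A J) {U W : Submodule F (κ → F)}
    (hc : IsCompl U W) (hUi : ∀ v ∈ U, A *ᵥ v ∈ U) (hWi : ∀ v ∈ W, A *ᵥ v ∈ W)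
    (hUn : ∀ u ∈ U, (∀ v ∈ U, u ⬝ᵥ (J *ᵥ v) = 0) → u = 0)
    (hWn : ∀ u ∈ W, (∀ v ∈ W, u ⬝ᵥ (J *ᵥ v) = 0) → u = 0) :
    ∃ ν ≤ sizes d, ν.sum = Module.finrank F U ∧ ∀ i, Odd i → Even (ν.count i) := by
  classical
  obtain ⟨s, e, H₁, hH₁, hs, hre⟩ := exists_restrict (p := p) hJ hA hp hUi hUn
  obtain ⟨s', e', H₂, hH₂, hs', hre'⟩ := exists_restrict (p := p) hJ hA hp hWi hWn
  refine ⟨sizes e, ?_, hs, fun i hi => odd_count h2 hH₁ hi⟩
  have hinv : ∀ (j : ℕ) (W : Submodule F (κ → F)), (∀ v ∈ W, A *ᵥ v ∈ W) → W.map (Matrix.toLin' (A - 1) ^ j) ≤ W :=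
    fun j W hW => Submodule.map_le_iff_le_comap.2 fun v hv => Module.End.pow_apply_mem_of_forall_mem j
      (fun x hx => by simpa [Matrix.sub_mulVec] using W.sub_mem (hW x hx) hx) v hv
  have e1 : sizes (Fin.append e e') = sizes d := by
    refine CfsgLib.KnownB.Jordan.type_eq (fun k => Fin.addCases (motive := fun k => 1 ≤ Fin.append e e' k)
      (fun i => by simpa using hH₁.pos i) (fun i => by simpa using hH₂.pos i) k) hH.pos fun j => ?_
    rw [Fin.sum_univ_add, ← rank_of_iso hI j]
    simp only [Fin.append_left, Fin.append_right]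
    rw [← hre j, ← hre' j]
    have hd : ((A - 1) ^ j).rank = Module.finrank F (LinearMap.range (Matrix.toLin' (A - 1) ^ j)) := by
      rw [← Matrix.toLin'_pow]; rfl
    rw [hd, LinearMap.range_eq_map, ← hc.sup_eq_top, Submodule.map_sup,
      ← Submodule.finrank_sup_add_finrank_inf_eq (U.map (Matrix.toLin' (A - 1) ^ j)),
      (hc.disjoint.mono (hinv j U hUi) (hinv j W hWi)).eq_bot, finrank_bot, add_zero]
  rw [← e1, Multiset.le_iff_count]
  intro i
  have : sizes (Fin.append e e') = sizes e + sizes e' := by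
    simp only [sizes, Fin.univ_val_map, List.ofFn_fin_append, ← Multiset.coe_add]
  rw [this, Multiset.count_add]
  exact Nat.le_add_right _ _

end CfsgLib.ThreeTransp.SpUnipSub
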