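import Cfsg.Agent.Lib.ThreeTransp.SpecialRankOne

/-!
Groups generated by two braiding elements of order 2 or 3.
-/

set_option autoImplicit false

namespace CfsgLib.ThreeTransp

open Matrix
open scoped MatrixGroups

theorem hom_of_generators {H X : Type*} [Group H] [Group X] (f : H → X) (s : Set H)
    (hs : ∀ h : H, h ∈ Submonoid.closure s) (hf1 : f 1 = 1)
    (hgen : ∀ h ∈ s, ∀ g, f (g * h) = f g * f h) :
    ∃ φ : H →* X, ∀ h, φ h = f h := by
  refine ⟨{ toFun := f, map_one' := hf1, map_mul' := fun g h => ?_ }, fun h => rfl⟩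
  have : ∀ h ∈ Submonoid.closure s, ∀ g, f (g * h) = f g * f h := fun h hh => by
    induction hh using Submonoid.closure_induction with
    | mem x hx => exact hgen x hx
    | one => intro g; rw [mul_one, hf1, mul_one]
    | mul x y _ _ hx hy => intro g; rw [← mul_assoc, hy, hx, hy x, mul_assoc]
  exact this h (hs h) g

section Three

/-- Indices for the normal form `z^e i^f j^g a^h`. -/
abbrev Q24 := Fin 2 × Fin 2 × Fin 2 × Fin 3

/-- Right multiplication by `i` on normal forms. -/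
def q24MulI : Q24 → Q24
  | (e, f, g, 0) => (e + g + f, f + 1, g, 0)
  | (e, f, g, 1) => (e + g, f, g + 1, 1)
  | (e, f, g, 2) => (e + 1 + f, f + 1, g + 1, 2)

def sl3U : SL(2, ZMod 3) := ⟨!![1, 1; 0, 1], by decide⟩
def sl3I : SL(2, ZMod 3) := ⟨!![0, 1; 2, 0], by decide⟩
def sl3J : SL(2, ZMod 3) := ⟨!![2, 2; 2, 1], by decide⟩
def sl3Z : SL(2, ZMod 3) := ⟨!![2, 0; 0, 2], by decide⟩

def q24Mat (t : Q24) : Matrix (Fin 2) (Fin 2) (ZMod 3) :=
  (sl3Z : Matrix _ _ _) ^ (t.1 : ℕ) * (sl3I : Matrix _ _ _) ^ (t.2.1 : ℕ) *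
    (sl3J : Matrix _ _ _) ^ (t.2.2.1 : ℕ) * (sl3U : Matrix _ _ _) ^ (t.2.2.2 : ℕ)

def q24SL (t : Q24) : SL(2, ZMod 3) :=
  sl3Z ^ (t.1 : ℕ) * sl3I ^ (t.2.1 : ℕ) * sl3J ^ (t.2.2.1 : ℕ) * sl3U ^ (t.2.2.2 : ℕ)

theorem q24SL_val (t : Q24) : (q24SL t : Matrix (Fin 2) (Fin 2) (ZMod 3)) = q24Mat t := by
  simp [q24SL, q24Mat]

theorem q24_inj : ∀ s t : Q24, q24Mat s = q24Mat t → s = t := by decide +kernel

theorem q24_surj : ∀ a b c d : ZMod 3, a * d - b * c = 1 → ∃ t : Q24, q24Mat t = !![a, b; c, d] := by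
  decide +kernel

theorem q24_mulU : ∀ t : Q24, q24Mat t * !![1, 1; 0, 1] = q24Mat (t.1, t.2.1, t.2.2.1, t.2.2.2 + 1) := by
  decide +kernel

theorem q24_mulI : ∀ t : Q24, q24Mat t * !![0, 1; 2, 0] = q24Mat (q24MulI t) := by decide +kernel

theorem q24_bijective : Function.Bijective q24SL := by
  refine ⟨fun s t h => q24_inj s t ?_, fun g => ?_⟩
  · rw [← q24SL_val, h, q24SL_val]
  · obtain ⟨t, ht⟩ := q24_surj (g.1 0 0) (g.1 0 1) (g.1 1 0) (g.1 1 1)
      (by rw [← Matrix.det_fin_two]; exact g.2)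
    refine ⟨t, Subtype.ext ?_⟩
    show (q24SL t : Matrix (Fin 2) (Fin 2) (ZMod 3)) = g.1
    rw [q24SL_val, ht, ← Matrix.eta_fin_two]

theorem sl3_generated (g : SL(2, ZMod 3)) : g ∈ Submonoid.closure ({sl3U, sl3I} : Set _) := by
  obtain ⟨⟨e, f, gg, h⟩, rfl⟩ := q24_bijective.2 g
  have hU : sl3U ∈ Submonoid.closure ({sl3U, sl3I} : Set _) := Submonoid.subset_closure (by simp)
  have hI : sl3I ∈ Submonoid.closure ({sl3U, sl3I} : Set _) := Submonoid.subset_closure (by simp)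
  have hZ : sl3Z = sl3I * sl3I := Subtype.ext (show (_ : Matrix _ _ (ZMod 3)) = _ by decide)
  have hJ : sl3J = sl3U * sl3I * (sl3U * sl3U) := Subtype.ext (show (_ : Matrix _ _ (ZMod 3)) = _ by decide)
  refine mul_mem (mul_mem (mul_mem ?_ (pow_mem hI _)) ?_) (pow_mem hU _)
  · rw [hZ]; exact pow_mem (mul_mem hI hI) _
  · rw [hJ]; exact pow_mem (mul_mem (mul_mem hU hI) (mul_mem hU hU)) _

theorem q24_center : ∀ t : Q24, q24Mat t * !![1, 1; 0, 1] = !![1, 1; 0, 1] * q24Mat t →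
    q24Mat t * !![0, 1; 2, 0] = !![0, 1; 2, 0] * q24Mat t → t = (0, 0, 0, 0) ∨ t = (1, 0, 0, 0) := by
  decide +kernel

/-- Outside `⟨i, j⟩` a commutator with `i` is conjugate to `i` or lands there. -/
theorem q24_normal : ∀ t : Q24, t.2.2.2 ≠ 0 → ∃ u : Q24, ∃ v : Q24, u.2.2.2 = 0 ∧ (u.2.1 ≠ 0 ∨ u.2.2.1 ≠ 0) ∧
    q24Mat v * q24Mat t = !![0, 1; 2, 0] * q24Mat t * !![0, 2; 1, 0] ∧
    q24Mat t * q24Mat u = q24Mat v * q24Mat (0, 0, 0, 0) * q24Mat t := by
  decide +kernel

theorem q24_conj : ∀ u : Q24, u.2.2.2 = 0 → (u.2.1 ≠ 0 ∨ u.2.2.1 ≠ 0) →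
    ∃ v : Q24, q24Mat v * q24Mat u = !![0, 1; 2, 0] * q24Mat v := by
  decide +kernel

variable {X : Type*} [Group X]

theorem braid_three (a c : X) (ha : a ^ 3 = 1) (hbr : a * c * a = c * a * c)
    (hgen : Subgroup.closure ({a, c} : Set X) = ⊤) (hne : a * c * a ≠ 1) :
    Nonempty (X ≃* SL(2, ZMod 3)) ∨ Nonempty (X ≃* Matrix.ProjectiveSpecialLinearGroup (Fin 2) (ZMod 3)) := by
  obtain ⟨i, hi⟩ : ∃ i, i = a * c * a := ⟨_, rfl⟩
  obtain ⟨z, hz⟩ : ∃ z, z = i * i := ⟨_, rfl⟩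
  replace hne : i ≠ 1 := hi ▸ hne
  have hia : i * a = c * i := by
    calc i * a = c * a * c * a := by rw [hi, hbr]
      _ = c * (a * c * a) := by simp [mul_assoc]
      _ = c * i := by rw [hi]
  have hic : i * c = a * i := by
    calc i * c = a * c * a * c := by rw [hi]
      _ = a * (c * a * c) := by simp [mul_assoc]
      _ = a * i := by rw [← hbr, hi]
  have hc : c ^ 3 = 1 := by
    rw [show c = i * a * i⁻¹ by rw [hia]; simp, conj_pow, ha, mul_one, mul_inv_cancel]
  have hzc : ∀ x : X, z * x = x * z := by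
    have h1 : z ∈ Subgroup.center X := by
      refine Subgroup.mem_center_iff.2 fun x => ?_
      have hle : Subgroup.closure ({a, c} : Set X) ≤ Subgroup.centralizer ({z} : Set X) := by
        refine (Subgroup.closure_le _).2 fun y hy => Subgroup.mem_centralizer_singleton_iff.2 ?_
        rcases hy with rfl | rfl
        · rw [hz, ← mul_assoc, ← hic, mul_assoc, ← hia, ← mul_assoc]
        · rw [hz, ← mul_assoc, ← hia, mul_assoc, ← hic, ← mul_assoc]
      exact Subgroup.mem_centralizer_singleton_iff.1 (hle (hgen ▸ Subgroup.mem_top x))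
    exact fun x => (Subgroup.mem_center_iff.1 h1 x).symm
  have ha2 : a⁻¹ = a * a := inv_eq_of_mul_eq_one_right (by rw [← mul_assoc, ← pow_three' a, ha])
  have hc2 : c⁻¹ = c * c := inv_eq_of_mul_eq_one_right (by rw [← mul_assoc, ← pow_three' c, hc])
  obtain ⟨j, hj⟩ : ∃ j, j = a * i * a⁻¹ := ⟨_, rfl⟩
  obtain ⟨k, hk⟩ : ∃ k, k = a⁻¹ * i * a := ⟨_, rfl⟩
  have hij : i * j = k⁻¹ := by
    have h1 : i * j = a * c⁻¹ := by
      rw [hj, hi]
      calc a * c * a * (a * (a * c * a) * a⁻¹) = a * c * (a * a * a) * c := by simp [mul_assoc]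
        _ = a * c⁻¹ := by rw [← pow_three' a, ha, mul_one, mul_assoc, ← hc2]
    have h2 : k = c * a⁻¹ := by
      rw [hk, hi]
      calc a⁻¹ * (a * c * a) * a = c * (a * a) := by simp [mul_assoc]
        _ = c * a⁻¹ := by rw [← ha2]
    rw [h1, h2, _root_.mul_inv_rev, inv_inv]
  have haa : ∀ x, a * (a⁻¹ * x * a) * a⁻¹ = x := fun x => by simp [mul_assoc]
  have haj : a * j * a⁻¹ = k := by
    rw [hj, hk]
    calc a * (a * i * a⁻¹) * a⁻¹ = (a * a) * i * (a⁻¹ * a⁻¹) := by simp [mul_assoc]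
      _ = a⁻¹ * i * a := by
        rw [← ha2, show a⁻¹ * a⁻¹ = a by rw [← _root_.mul_inv_rev, ← ha2, inv_inv]]
  have hjk : j * k = i⁻¹ := by
    have h1 := congrArg (fun x => a * x * a⁻¹) hij
    rw [show a * (i * j) * a⁻¹ = (a * i * a⁻¹) * (a * j * a⁻¹) by simp [mul_assoc], haj, ← hj,
      show a * k⁻¹ * a⁻¹ = (a * k * a⁻¹)⁻¹ by simp [mul_assoc], hk, haa] at h1
    rw [hk]; exact h1
  have hjj : j * j = z := by
    rw [hj, show a * i * a⁻¹ * (a * i * a⁻¹) = a * (i * i) * a⁻¹ by simp [mul_assoc], ← hz, ← hzc a]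
    simp
  have hkk : k * k = z := by
    rw [hk, show a⁻¹ * i * a * (a⁻¹ * i * a) = a⁻¹ * (i * i) * a by simp [mul_assoc], ← hz, mul_assoc,
      hzc a]
    simp
  -- `z` has order at most two
  have hz2 : z * z = 1 := by
    have h1 : a * i * (a * i) * (a * i) = j * k * i := by
      rw [hj, hk]
      calc a * i * (a * i) * (a * i) = a * i * a⁻¹ * (a * a) * i * a * i := by simp [mul_assoc]
        _ = a * i * a⁻¹ * (a⁻¹ * i * a) * i := by rw [← ha2]; simp [mul_assoc]
    have h2 : a * i * (a * i) * (a * i) = z * z := by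
      calc a * i * (a * i) * (a * i) = a * (i * a) * i * a * i := by simp [mul_assoc]
        _ = a * c * z * a * i := by rw [hia, hz]; simp [mul_assoc]
        _ = z * (a * c * a * i) := by rw [← hzc (a * c)]; simp [mul_assoc]
        _ = z * z := by rw [← hi, ← hz]
    rw [← h2, h1, hjk, inv_mul_cancel]
  have hii : i * i = z := hz.symm
  have hiinv : i⁻¹ = z * i := inv_eq_of_mul_eq_one_right (by rw [hzc, ← mul_assoc, hii, hz2])
  have hjinv : j⁻¹ = z * j := inv_eq_of_mul_eq_one_right (by rw [hzc, ← mul_assoc, hjj, hz2])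
  have hkji : k = j * i := by
    have h1 : k = j⁻¹ * i⁻¹ := by rw [← _root_.mul_inv_rev, hij, inv_inv]
    rw [h1, hjinv, hiinv, ← mul_assoc, mul_assoc z j z, ← hzc j, ← mul_assoc, hz2, one_mul]
  have hji : j * i = z * i * j := by
    have h1 : k * k * (i * j) = k := by rw [hij, mul_inv_cancel_right]
    rw [hkk, hkji] at h1
    rw [← h1]; simp [mul_assoc]
  -- the map
  let w : Q24 → X := fun t => z ^ (t.1 : ℕ) * i ^ (t.2.1 : ℕ) * j ^ (t.2.2.1 : ℕ) * a ^ (t.2.2.2 : ℕ)
  have hwU : ∀ t : Q24, w (t.1, t.2.1, t.2.2.1, t.2.2.2 + 1) = w t * a := by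
    rintro ⟨e, f, g, h⟩
    fin_cases h <;> simp [w, pow_two, mul_assoc, ← pow_three, ha, show (2 : Fin 3) + 1 = 0 from rfl]
  have hai : a * i = j * a := by simp [hj, mul_assoc]
  have haai : a * a * i = k * (a * a) := by
    rw [hk, ← ha2]
    simp [mul_assoc, ha2]
    rw [← ha2]
    simp
  have e2 : ∀ x, z * (z * x) = x := fun x => by rw [← mul_assoc, hz2, one_mul]
  have hiz : ∀ x, i * (z * x) = z * (i * x) := fun x => by rw [← mul_assoc, ← hzc, mul_assoc]
  have hjz : ∀ x, j * (z * x) = z * (j * x) := fun x => by rw [← mul_assoc, ← hzc, mul_assoc]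
  have hii' : ∀ x, i * (i * x) = z * x := fun x => by rw [← mul_assoc, hii]
  have hjj' : ∀ x, j * (j * x) = z * x := fun x => by rw [← mul_assoc, hjj]
  have hji' : ∀ x, j * (i * x) = z * (i * (j * x)) := fun x => by
    rw [← mul_assoc, hji, mul_assoc, mul_assoc]
  have hiz' : i * z = z * i := (hzc i).symm
  have hjz' : j * z = z * j := (hzc j).symm
  have hji'' : j * i = z * (i * j) := by rw [hji, mul_assoc]
  have hwI : ∀ t : Q24, w (q24MulI t) = w t * i := by
    rintro ⟨e, f, g, h⟩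
    fin_cases h
    · fin_cases e <;> fin_cases f <;> fin_cases g <;>
        simp [w, q24MulI, mul_assoc, hz2, e2, hiz, hjz, hii, hii', hjj, hjj', hji', hiz', hjz', hji'']
    · have : ∀ x, x * a ^ 1 * i = x * j * a := fun x => by rw [pow_one, mul_assoc, hai, mul_assoc]
      fin_cases e <;> fin_cases f <;> fin_cases g <;>
        simp [w, q24MulI, mul_assoc, hai, hz2, e2, hiz, hjz, hii, hii', hjj, hjj', hji', hiz', hjz', hji'']
    · have : a * (a * i) = j * (i * (a * a)) := by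
        rw [← mul_assoc, haai, hkji, mul_assoc]
      fin_cases e <;> fin_cases f <;> fin_cases g <;>
        simp [w, q24MulI, pow_two, mul_assoc, this, hz2, e2, hiz, hjz, hii, hii', hjj, hjj', hji', hiz', hjz', hji'']
  let E := Equiv.ofBijective q24SL q24_bijective
  have hE : ∀ t, q24Mat t = (E t : SL(2, ZMod 3)).1 := fun t => (q24SL_val t).symm
  have hEU : ∀ t : Q24, E t * sl3U = E (t.1, t.2.1, t.2.2.1, t.2.2.2 + 1) := fun t => Subtype.ext <| by
    show (E t).1 * !![1, 1; 0, 1] = (E _).1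
    rw [← hE, ← hE, q24_mulU]
  have hEI : ∀ t : Q24, E t * sl3I = E (q24MulI t) := fun t => Subtype.ext <| by
    show (E t).1 * !![0, 1; 2, 0] = (E _).1
    rw [← hE, ← hE, q24_mulI]
  have hE0 : E.symm 1 = (0, 0, 0, 0) := by
    rw [Equiv.symm_apply_eq]; show _ = q24SL _; simp [q24SL]
  have hEU0 : E.symm sl3U = (0, 0, 0, 1) := by
    rw [Equiv.symm_apply_eq]; show _ = q24SL _; simp [q24SL]
  have hEI0 : E.symm sl3I = (0, 1, 0, 0) := by
    rw [Equiv.symm_apply_eq]; show _ = q24SL _; simp [q24SL]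
  obtain ⟨φ, hφ⟩ := hom_of_generators (fun g => w (E.symm g)) ({sl3U, sl3I} : Set _) sl3_generated
    (by simp [hE0, w]) (by
      intro h hh g
      obtain ⟨t, rfl⟩ := E.surjective g
      rcases hh with rfl | rfl
      · rw [hEU, E.symm_apply_apply, E.symm_apply_apply, hwU, hEU0]; simp [w]
      · rw [hEI, E.symm_apply_apply, E.symm_apply_apply, hwI, hEI0]; simp [w])
  have hφU : φ sl3U = a := by rw [hφ, hEU0]; simp [w]
  have hφI : φ sl3I = i := by rw [hφ, hEI0]; simp [w]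
  have hsurj : Function.Surjective φ := by
    rw [← MonoidHom.range_eq_top, ← top_le_iff, ← hgen, Subgroup.closure_le]
    rintro y (rfl | rfl)
    · exact ⟨sl3U, hφU⟩
    · refine ⟨sl3I * sl3U * sl3I⁻¹, ?_⟩
      rw [map_mul, map_mul, map_inv, hφU, hφI, hia]; simp
  have hker : φ.ker ≤ Subgroup.center SL(2, ZMod 3) := by
    intro g hg
    obtain ⟨t, rfl⟩ := E.surjective g
    have hN := φ.normal_ker
    have hmem : ∀ u : Q24, u.2.2.2 = 0 → (u.2.1 ≠ 0 ∨ u.2.2.1 ≠ 0) → E u ∉ φ.ker := by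
      intro u h0 h1 hu
      obtain ⟨v, hv⟩ := q24_conj u h0 h1
      have h2 : E v * E u = sl3I * E v := Subtype.ext (by
        show (E v).1 * (E u).1 = _ * (E v).1
        rw [← hE, ← hE, hv]; rfl)
      have h3 : sl3I ∈ φ.ker := by
        rw [show sl3I = E v * E u * (E v)⁻¹ by rw [h2, mul_inv_cancel_right]]
        exact hN.conj_mem _ hu _
      exact hne (hφI ▸ (MonoidHom.mem_ker.1 h3))
    by_cases hh : t.2.2.2 = 0
    · by_cases hfg : t.2.1 ≠ 0 ∨ t.2.2.1 ≠ 0
      · exact absurd hg (hmem t hh hfg)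
      · push Not at hfg
        obtain ⟨e, f, gg, h⟩ := t
        obtain ⟨rfl, rfl⟩ := hfg
        simp only at hh
        subst hh
        refine Subgroup.mem_center_iff.2 fun x => Subtype.ext ?_
        show x.1 * (E _).1 = (E _).1 * x.1
        rw [← hE]
        fin_cases e
        · simp [q24Mat]
        · have : q24Mat (1, 0, 0, 0) = (2 : ZMod 3) • (1 : Matrix (Fin 2) (Fin 2) (ZMod 3)) := by decide +kernel
          simp [this]
    · exfalso
      obtain ⟨u, v, hu0, hu1, hv, hu⟩ := q24_normal t hh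
      have h1 : E v * E t = sl3I * E t * sl3I⁻¹ := Subtype.ext (by
        show (E v).1 * (E t).1 = _ * (E t).1 * _
        rw [← hE, ← hE, hv]
        rw [show ((sl3I⁻¹ : SL(2, ZMod 3)) : Matrix (Fin 2) (Fin 2) (ZMod 3)) = !![0, 2; 1, 0] by decide +kernel]
        rfl)
      have h2 : E t * E u = E v * E t := Subtype.ext (by
        show (E t).1 * (E u).1 = (E v).1 * (E t).1
        rw [← hE, ← hE, ← hE, hu]; simp [q24Mat])
      refine hmem u hu0 hu1 ?_
      rw [show E u = (E t)⁻¹ * (sl3I * E t * sl3I⁻¹) by rw [← h1, ← h2, inv_mul_cancel_left]]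
      exact mul_mem (inv_mem hg) (hN.conj_mem _ hg _)
  by_cases hz1 : z = 1
  · right
    have hk2 : Subgroup.center SL(2, ZMod 3) ≤ φ.ker := by
      intro g hg
      obtain ⟨t, rfl⟩ := E.surjective g
      have h1 := congrArg Subtype.val (Subgroup.mem_center_iff.1 hg sl3U)
      have h2 := congrArg Subtype.val (Subgroup.mem_center_iff.1 hg sl3I)
      rw [MonoidHom.mem_ker, hφ, E.symm_apply_apply]
      rcases q24_center t (by rw [hE]; exact h1.symm) (by rw [hE]; exact h2.symm) with rfl | rfl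
      · simp [w]
      · simp [w, hz1]
    have hk : φ.ker = Subgroup.center SL(2, ZMod 3) := le_antisymm hker hk2
    exact ⟨((QuotientGroup.quotientMulEquivOfEq hk.symm).trans
      (QuotientGroup.quotientKerEquivOfSurjective φ hsurj)).symm⟩
  · left
    refine ⟨(MulEquiv.ofBijective φ ⟨(injective_iff_map_eq_one φ).2 fun g hg => ?_, hsurj⟩).symm⟩
    obtain ⟨t, rfl⟩ := E.surjective g
    have h0 := hker (MonoidHom.mem_ker.2 hg)
    have h1 := congrArg Subtype.val (Subgroup.mem_center_iff.1 h0 sl3U)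
    have h2 := congrArg Subtype.val (Subgroup.mem_center_iff.1 h0 sl3I)
    rw [hφ, E.symm_apply_apply] at hg
    rcases q24_center t (by rw [hE]; exact h1.symm) (by rw [hE]; exact h2.symm) with rfl | rfl
    · rw [← hE0, E.apply_symm_apply]
    · simp [w] at hg; exact absurd hg hz1

end Three

section Two

/-- Indices for the normal form `r^h a^f`. -/
abbrev Q6 := Fin 3 × Fin 2

def sl2U' : SL(2, ZMod 2) := ⟨!![1, 1; 0, 1], by decide⟩
def sl2R : SL(2, ZMod 2) := ⟨!![0, 1; 1, 1], by decide⟩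

def q6Mat (t : Q6) : Matrix (Fin 2) (Fin 2) (ZMod 2) :=
  (sl2R : Matrix _ _ _) ^ (t.1 : ℕ) * (sl2U' : Matrix _ _ _) ^ (t.2 : ℕ)

def q6SL (t : Q6) : SL(2, ZMod 2) := sl2R ^ (t.1 : ℕ) * sl2U' ^ (t.2 : ℕ)

theorem q6SL_val (t : Q6) : (q6SL t : Matrix (Fin 2) (Fin 2) (ZMod 2)) = q6Mat t := by
  simp [q6SL, q6Mat]

theorem q6_inj : ∀ s t : Q6, q6Mat s = q6Mat t → s = t := by decide +kernel

theorem q6_surj : ∀ a b c d : ZMod 2, a * d - b * c = 1 → ∃ t : Q6, q6Mat t = !![a, b; c, d] := by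
  decide +kernel

def q6MulR : Q6 → Q6
  | (h, 0) => (h + 1, 0)
  | (h, 1) => (h + 2, 1)

theorem q6_mulU : ∀ t : Q6, q6Mat t * !![1, 1; 0, 1] = q6Mat (t.1, t.2 + 1) := by decide +kernel

theorem q6_mulR : ∀ t : Q6, q6Mat t * !![0, 1; 1, 1] = q6Mat (q6MulR t) := by decide +kernel

variable {X : Type*} [Group X]

theorem braid_two (a c : X) (ha : a * a = 1) (hc : c * c = 1) (hbr : a * c * a = c * a * c)
    (hgen : Subgroup.closure ({a, c} : Set X) = ⊤) (hne : a * c ≠ 1) :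
    Nonempty (X ≃* SL(2, ZMod 2)) := by
  set r := a * c with hr
  have hr3 : r ^ 3 = 1 := by
    rw [hr, pow_three]
    calc a * c * (a * c * (a * c)) = (a * c * a) * (c * a * c) := by simp [mul_assoc]
      _ = (c * a * c) * (c * a * c) := by rw [hbr]
      _ = c * a * (c * c) * a * c := by simp [mul_assoc]
      _ = c * (a * a) * c := by rw [hc]; simp [mul_assoc]
      _ = 1 := by rw [ha, mul_one, hc]
  have har : a * r = r * r * a := by
    calc a * r = c := by rw [hr, ← mul_assoc, ha, one_mul]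
      _ = c * a * c * c * a := by rw [mul_assoc (c * a), hc, mul_one, mul_assoc, ha, mul_one]
      _ = a * c * a * c * a := by rw [hbr]
      _ = r * r * a := by simp [r, mul_assoc]
  let w : Q6 → X := fun t => r ^ (t.1 : ℕ) * a ^ (t.2 : ℕ)
  have hrr : r * (r * r) = 1 := by rw [← pow_three]; exact hr3
  have hrr' : ∀ x, r * (r * (r * x)) = x := fun x => by
    calc r * (r * (r * x)) = r * (r * r) * x := by simp [mul_assoc]
      _ = x := by rw [hrr, one_mul]
  have har' : ∀ x, a * (r * x) = r * (r * (a * x)) := fun x => by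
    rw [← mul_assoc, har, mul_assoc, mul_assoc]
  have hwU : ∀ t : Q6, w (t.1, t.2 + 1) = w t * a := by
    rintro ⟨h, f⟩; fin_cases f <;> simp [w, mul_assoc, ha]
  have hwR : ∀ t : Q6, w (q6MulR t) = w t * r := by
    rintro ⟨h, f⟩
    fin_cases h <;> fin_cases f <;> simp [w, q6MulR, pow_two, mul_assoc, har, har', hrr, hrr',
      show (1 : Fin 3) + 2 = 0 from rfl, show (2 : Fin 3) + 2 = 1 from rfl, show (1 : Fin 3) + 1 = 2 from rfl,
      show (2 : Fin 3) + 1 = 0 from rfl]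
  have hbij : Function.Bijective q6SL := by
    refine ⟨fun s t h => q6_inj s t ?_, fun g => ?_⟩
    · rw [← q6SL_val, h, q6SL_val]
    · obtain ⟨t, ht⟩ := q6_surj (g.1 0 0) (g.1 0 1) (g.1 1 0) (g.1 1 1)
        (by rw [← Matrix.det_fin_two]; exact g.2)
      refine ⟨t, Subtype.ext ?_⟩
      show (q6SL t : Matrix (Fin 2) (Fin 2) (ZMod 2)) = g.1
      rw [q6SL_val, ht, ← Matrix.eta_fin_two]
  let E := Equiv.ofBijective q6SL hbij
  have hE : ∀ t, q6Mat t = (E t : SL(2, ZMod 2)).1 := fun t => (q6SL_val t).symm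
  have hEU : ∀ t : Q6, E t * sl2U' = E (t.1, t.2 + 1) := fun t => Subtype.ext <| by
    show (E t).1 * !![1, 1; 0, 1] = (E _).1
    rw [← hE, ← hE, q6_mulU]
  have hER : ∀ t : Q6, E t * sl2R = E (q6MulR t) := fun t => Subtype.ext <| by
    show (E t).1 * !![0, 1; 1, 1] = (E _).1
    rw [← hE, ← hE, q6_mulR]
  have hE0 : E.symm 1 = (0, 0) := by rw [Equiv.symm_apply_eq]; show _ = q6SL _; simp [q6SL]
  have hEU0 : E.symm sl2U' = (0, 1) := by rw [Equiv.symm_apply_eq]; show _ = q6SL _; simp [q6SL]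
  have hER0 : E.symm sl2R = (1, 0) := by rw [Equiv.symm_apply_eq]; show _ = q6SL _; simp [q6SL]
  have hs : ∀ g : SL(2, ZMod 2), g ∈ Submonoid.closure ({sl2U', sl2R} : Set _) := fun g => by
    obtain ⟨t, rfl⟩ := hbij.2 g
    exact mul_mem (pow_mem (Submonoid.subset_closure (by simp)) _)
      (pow_mem (Submonoid.subset_closure (by simp)) _)
  obtain ⟨φ, hφ⟩ := hom_of_generators (fun g => w (E.symm g)) ({sl2U', sl2R} : Set _) hs
    (by simp [hE0, w]) (by
      intro h hh g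
      obtain ⟨t, rfl⟩ := E.surjective g
      rcases hh with rfl | rfl
      · rw [hEU, E.symm_apply_apply, E.symm_apply_apply, hwU, hEU0]; simp [w]
      · rw [hER, E.symm_apply_apply, E.symm_apply_apply, hwR, hER0]; simp [w])
  have hφU : φ sl2U' = a := by rw [hφ, hEU0]; simp [w]
  have hφR : φ sl2R = r := by rw [hφ, hER0]; simp [w]
  have hsurj : Function.Surjective φ := by
    rw [← MonoidHom.range_eq_top, ← top_le_iff, ← hgen, Subgroup.closure_le]
    rintro y (rfl | rfl)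
    · exact ⟨sl2U', hφU⟩
    · exact ⟨sl2U' * sl2R, by rw [map_mul, hφU, hφR, hr, ← mul_assoc, ha, one_mul]⟩
  have hinj : Function.Injective φ := (injective_iff_map_eq_one φ).2 fun g hg => by
    obtain ⟨⟨h, f⟩, rfl⟩ := E.surjective g
    rw [hφ, E.symm_apply_apply] at hg
    have hr1 : r ≠ 1 := hne
    have hr2 : r * r ≠ 1 := fun e => hr1 (by rw [← hrr, e, mul_one])
    have hra : ∀ m : ℕ, r ^ m ≠ a := fun m e => hr2 (by
      have h1 : a * r = r * a := by rw [← e, ← pow_succ, ← pow_succ']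
      rw [har] at h1
      exact absurd (mul_right_cancel h1) fun e2 => hr1 (left_eq_mul.1 e2.symm))
    fin_cases f
    · fin_cases h
      · exact ((Equiv.symm_apply_eq E).1 hE0).symm
      · simp [w] at hg; exact absurd hg hr1
      · simp [w, pow_two] at hg; exact absurd hg hr2
    · simp [w] at hg
      exact absurd (mul_eq_one_iff_eq_inv.1 hg) (by
        rw [inv_eq_of_mul_eq_one_right ha]; exact hra _)
  exact ⟨(MulEquiv.ofBijective φ ⟨hinj, hsurj⟩).symm⟩

end Two

end CfsgLib.ThreeTransp
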