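import Cfsg.Agent.Lib.ThreeTransp.SpecialSmall
import Cfsg.Agent.Lib.Components.Basic

/-!
The structure dichotomy for special rank one groups.
-/

set_option autoImplicit false

namespace CfsgLib.ThreeTransp

open Cfsg
open scoped commutatorElement

variable {X : Type*} [Group X] {A B : Subgroup X}

theorem rog_special_large (h : IsRankOneGroup X A B) (hs : IsSpecialRankOnePair A B)
    (hab : HasAbelianUnipotents A B) (hcard : 3 < ENat.card A) :
    ⁅A, rankOneDiagonal A B⁆ = A ∧ commutator X = ⊤ := by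
  have hle : ⁅A, rankOneDiagonal A B⁆ ≤ A := by
    rw [Subgroup.commutator_le]
    intro a ha t ht
    rw [commutatorElement_def, mul_assoc a t, mul_assoc a]
    exact mul_mem ha ((Subgroup.mem_normalizer_iff.1 ht.1.2 a⁻¹).1 (inv_mem ha))
  have hM : ⁅A, rankOneDiagonal A B⁆ = A := by
    rcases sr_diag_dichotomy hs hab.1 _ hle (fun t ht y hy => by
      rw [← commutatorElement_def]; exact Subgroup.commutator_mem_commutator hy ht) with hM | ⟨y, hy, hall⟩
    · exact hM
    · exfalso
      classical
      refine hcard.not_ge ?_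
      show Set.encard ((A : Set X)) ≤ 3
      refine (Set.encard_le_encard (t := ({1, y, y⁻¹} : Set X)) fun x hx => ?_).trans ?_
      · simpa using hall x hx
      · refine (Set.encard_insert_le _ _).trans ?_
        refine (add_le_add (Set.encard_insert_le _ _) le_rfl).trans ?_
        rw [Set.encard_singleton]; rfl
  refine ⟨hM, top_le_iff.1 ?_⟩
  have hA : A ≤ commutator X := hM ▸ Subgroup.commutator_mono le_top le_top
  obtain ⟨a, ha, ha1⟩ := rop_exists_ne_one h.2
  obtain ⟨c, hc⟩ := opp_exists_left h.2 ha ha1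
  have hB : B ≤ commutator X := by
    rw [← opp_swap_left hab.1 hc]
    rintro _ ⟨x, hx, rfl⟩
    exact (inferInstance : (commutator X).Normal).conj_mem x (hA hx) _
  rw [← h.1]; exact sup_le hA hB

theorem rog_special_dichotomy (h : IsRankOneGroup X A B) (hs : IsSpecialRankOnePair A B)
    (hab : HasAbelianUnipotents A B) :
    (ENat.card A ≤ 3 ∧ (Nonempty (X ≃* Matrix.SpecialLinearGroup (Fin 2) (ZMod 2)) ∨
        Nonempty (X ≃* Matrix.SpecialLinearGroup (Fin 2) (ZMod 3)) ∨
        Nonempty (X ≃* Matrix.ProjectiveSpecialLinearGroup (Fin 2) (ZMod 3)))) ∨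
    (commutator X ⊔ A = ⊤ ∧ IsQuasisimple (commutator X) ∧
      3 < ENat.card ↥(⁅A, rankOneDiagonal A B⁆ : Subgroup X)) := by
  rcases le_or_gt (ENat.card A) 3 with hcard | hcard
  swap
  · obtain ⟨hM, htop⟩ := rog_special_large h hs hab hcard
    refine Or.inr ⟨by rw [htop, top_sup_eq], ?_, by rw [hM]; exact hcard⟩
    exact CfsgLib.Components.isQuasisimple_of_mulEquiv
      (Subgroup.topEquiv.symm.trans (MulEquiv.subgroupCongr htop.symm))
      (rog_quasisimple h ⟨htop⟩)
  refine Or.inl ⟨hcard, ?_⟩
  haveI : Finite A := ENat.card_lt_top.1 (lt_of_le_of_lt hcard (ENat.natCast_lt_top 3))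
  have hn : Nat.card A ≤ 3 := by
    have := hcard; rw [ENat.card_eq_coe_natCard] at this; exact_mod_cast this
  obtain ⟨a, ha, ha1⟩ := rop_exists_ne_one h.2
  obtain ⟨c, hc⟩ := opp_exists_left h.2 ha ha1
  have hd : orderOf a ∣ Nat.card A := by
    rw [← Subgroup.orderOf_mk a ha]; exact orderOf_dvd_natCard _
  have h2 : 2 ≤ orderOf a := by
    have h0 : 0 < orderOf a := Nat.pos_of_ne_zero fun e => by
      rw [e, zero_dvd_iff] at hd; exact Nat.card_pos.ne' hd
    have h1 : orderOf a ≠ 1 := fun e => ha1 (orderOf_eq_one_iff.1 e)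
    omega
  have hle := Nat.le_of_dvd Nat.card_pos hd
  have heq : orderOf a = Nat.card A := by
    obtain ⟨k, hk⟩ := hd
    rcases Nat.lt_or_ge k 2 with hk2 | hk2
    · interval_cases k
      · have := Nat.card_pos (α := A); omega
      · omega
    · nlinarith [Nat.mul_le_mul h2 hk2]
  have hz : A = Subgroup.zpowers a := by
    symm
    refine Subgroup.eq_of_le_of_card_ge ((Subgroup.zpowers_le).2 ha) ?_
    rw [Nat.card_zpowers, heq]
  have hgen : Subgroup.closure ({a, c} : Set X) = ⊤ := by
    rw [← top_le_iff, ← h.1, sup_le_iff]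
    have hA : A ≤ Subgroup.closure ({a, c} : Set X) := by
      rw [hz, Subgroup.zpowers_le]; exact Subgroup.subset_closure (by simp)
    refine ⟨hA, ?_⟩
    rw [← opp_swap_left hab.1 hc]
    have hn : a * c * a ∈ Subgroup.closure ({a, c} : Set X) :=
      mul_mem (mul_mem (Subgroup.subset_closure (by simp)) (Subgroup.subset_closure (by simp)))
        (Subgroup.subset_closure (by simp))
    rintro _ ⟨x, hx, rfl⟩
    exact mul_mem (mul_mem hn (hA hx)) (inv_mem hn)
  have hbr := opp_braid hs hc
  rcases (show Nat.card A = 2 ∨ Nat.card A = 3 by omega) with h3 | h3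
  · left
    have ha2 : a * a = 1 := by rw [← pow_two, ← h3, ← heq, pow_orderOf_eq_one]
    have hc2 : c * c = 1 := by
      rw [← opp_conj_left hs hc, ← pow_two, conj_pow, pow_two, ha2, mul_one, mul_inv_cancel]
    refine braid_two a c ha2 hc2 hbr hgen fun e => ?_
    have := eq_inv_of_mul_eq_one_right e
    rw [inv_eq_of_mul_eq_one_right ha2] at this
    exact rop_eq_one_of_normalizes h.2 ha (conjBy_of_mem (this ▸ hc.2.2.1)) |> ha1
  · refine Or.inr (braid_three a c (by rw [← h3, ← heq, pow_orderOf_eq_one]) hbr hgen fun e => ?_)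
    refine h.2.ne ?_
    have h4 := opp_swap_left hab.1 hc
    rwa [e, conjBy_one] at h4

end CfsgLib.ThreeTransp
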