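import Cfsg.Agent.Lib.ThreeTransp.SymThreeLocal

/-!
Three transpositions with local group the symmetric group of degree three: two members sharing two
distinct perps leave only the square of the symmetric group of degree three.
-/

set_option autoImplicit false

namespace CfsgLib.ThreeTransp.SymThree

open Cfsg CfsgLib.Involutions CfsgLib.ThreeTransp

variable {G : Type*} [Group G] {D : Set G}

theorem isPGroup_zpowers_three {a : G} (ha : a ^ 3 = 1) : IsPGroup 3 ↥(Subgroup.zpowers a) := by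
  rintro ⟨w, hw⟩
  obtain ⟨k, rfl⟩ := Subgroup.mem_zpowers_iff.1 hw
  refine ⟨1, Subtype.ext ?_⟩
  show (a ^ k) ^ (3 ^ 1) = 1
  rw [pow_one, ← zpow_natCast, ← zpow_mul, mul_comm, zpow_mul, zpow_natCast, ha, one_zpow]

theorem zpowers_le_normalizer_zpowers {a b : G} (h : Commute a b) :
    Subgroup.zpowers b ≤ Subgroup.normalizer (Subgroup.zpowers a : Set G) := by
  rw [Subgroup.zpowers_le, Subgroup.mem_normalizer_iff_map_conj_eq, MonoidHom.map_zpowers]
  congr 1
  show b * a * b⁻¹ = a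
  rw [← h.eq, mul_assoc, mul_inv_cancel, mul_one]

/-- Two elements of order dividing three whose product and quotient also have order dividing three
generate a three-group. -/
theorem three_group {a b : G} (ha : a ^ 3 = 1) (hb : b ^ 3 = 1) (hab : (a * b) ^ 3 = 1)
    (hab' : (a * b⁻¹) ^ 3 = 1) : IsPGroup 3 ↥(Subgroup.zpowers a ⊔ Subgroup.zpowers b) := by
  have hb2 : b⁻¹ = b * b :=
    inv_eq_of_mul_eq_one_right (by rw [← mul_assoc, ← pow_two, ← pow_succ]; exact hb)
  have hcomm : Commute a (b * a * b⁻¹) := by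
    have e1 : a * b * (a * b) = b⁻¹ * a⁻¹ := by
      rw [← mul_inv_rev]
      exact eq_inv_of_mul_eq_one_left (by rw [← pow_two, ← pow_succ]; exact hab)
    have e2 : (b⁻¹ * a) ^ 3 = 1 := by
      rw [show b⁻¹ * a = b⁻¹ * (a * b⁻¹) * (b⁻¹)⁻¹ by group, conj_pow, hab']; group
    have e3 : b⁻¹ * a * (b⁻¹ * a) = a⁻¹ * b := by
      rw [show a⁻¹ * b = (b⁻¹ * a)⁻¹ by group]
      exact eq_inv_of_mul_eq_one_left (by rw [← pow_two, ← pow_succ]; exact e2)
    show a * (b * a * b⁻¹) = b * a * b⁻¹ * a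
    calc a * (b * a * b⁻¹) = a * b * (a * b) * (b⁻¹ * b⁻¹) := by group
      _ = b⁻¹ * a⁻¹ * (b⁻¹ * b⁻¹) := by rw [e1]
      _ = b * b * a⁻¹ * ((b * b) * (b * b)) := by rw [hb2]
      _ = b * b * a⁻¹ * b * (b * (b * b)) := by group
      _ = b * b * a⁻¹ * b := by rw [← hb2, mul_inv_cancel, mul_one]
      _ = b * b * (b⁻¹ * a * (b⁻¹ * a)) := by rw [e3, mul_assoc (b * b)]
      _ = b * a * b⁻¹ * a := by group
  set c := b * a * b⁻¹ with hc
  set c' := b * c * b⁻¹ with hc'
  have hc'b : b * c' * b⁻¹ = a := by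
    rw [hc', hc]
    calc b * (b * (b * a * b⁻¹) * b⁻¹) * b⁻¹ = b * (b * b) * a * (b * (b * b))⁻¹ := by group
      _ = a := by rw [← hb2, mul_inv_cancel]; group
  have hconjc : ∀ p q : G, Commute p q → Commute (b * p * b⁻¹) (b * q * b⁻¹) :=
    fun p q h => (commute_conj_iff b).2 h
  have h2 : Commute c c' := hconjc a c hcomm
  have h3 : Commute c' a := hc'b ▸ hconjc c c' h2
  have hc3 : c ^ 3 = 1 := by rw [hc, conj_pow, ha]; group
  have hc'3 : c' ^ 3 = 1 := by rw [hc', conj_pow, hc3]; group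
  have p1 : IsPGroup 3 ↥(Subgroup.zpowers a ⊔ Subgroup.zpowers c) :=
    (isPGroup_zpowers_three ha).to_sup_of_normal_left' (isPGroup_zpowers_three hc3)
      (zpowers_le_normalizer_zpowers hcomm)
  have p2 : IsPGroup 3 ↥(Subgroup.zpowers a ⊔ Subgroup.zpowers c ⊔ Subgroup.zpowers c') := by
    refine p1.to_sup_of_normal_left' (isPGroup_zpowers_three hc'3) ?_
    rw [Subgroup.zpowers_le, Subgroup.mem_normalizer_iff_map_conj_eq, Subgroup.map_sup,
      MonoidHom.map_zpowers, MonoidHom.map_zpowers]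
    congr 2
    · show c' * a * c'⁻¹ = a
      rw [h3.eq, mul_assoc, mul_inv_cancel, mul_one]
    · show c' * c * c'⁻¹ = c
      rw [← h2.eq, mul_assoc, mul_inv_cancel, mul_one]
  have hnorm : Subgroup.zpowers b ≤ Subgroup.normalizer
      ((Subgroup.zpowers a ⊔ Subgroup.zpowers c ⊔ Subgroup.zpowers c' : Subgroup G) : Set G) := by
    rw [Subgroup.zpowers_le, Subgroup.mem_normalizer_iff_map_conj_eq, Subgroup.map_sup,
      Subgroup.map_sup, MonoidHom.map_zpowers, MonoidHom.map_zpowers, MonoidHom.map_zpowers]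
    show Subgroup.zpowers (b * a * b⁻¹) ⊔ Subgroup.zpowers (b * c * b⁻¹)
      ⊔ Subgroup.zpowers (b * c' * b⁻¹) = _
    rw [← hc, ← hc', hc'b]
    ac_rfl
  exact (p2.to_sup_of_normal_left' (isPGroup_zpowers_three hb) hnorm).to_le
    (sup_le_sup_right (le_sup_left.trans le_sup_left) _)

variable [Finite G] (hD : IsThreeTranspositionSet D)
  (hconj : ∀ g : G, ∀ d ∈ D, g * d * g⁻¹ ∈ D) (hl : LocS3 D) {d d' x y : G} (hd : d ∈ D)
  (hd' : d' ∈ D) (hdd : d' ≠ d) (hx : x ∈ perp D d) (hy : y ∈ perp D d) (hxy : x ≠ y)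
  (hx' : x ∈ perp D d') (hy' : y ∈ perp D d')

include hD hconj hl hd hd' hdd hx hy hxy hx' hy'

theorem twin_mem_three_normal :
    ∃ N : Subgroup G, N.Normal ∧ IsPGroup 3 N ∧ x * y ∈ N := by
  haveI : Fact (Nat.Prime 3) := ⟨by norm_num⟩
  obtain ⟨hLM, hML⟩ := twin_full hD hconj hl hd hd' hdd hx hy hxy hx' hy'
  have hreg := twin_reg hD hconj hl hd hd' hdd hx hy hxy hx' hy'
  have hnc := (perp_pair hD hl hd hx hy hxy).1
  have bxy := ts_braid hD hx.1 hy.1 hnc
  have ha3 : (x * y) ^ 3 = 1 := ts_cube hD hx.1 hy.1 hnc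
  have hgen : ∀ u ∈ perp D d, ∀ v ∈ perp D d, u * v ∈ Subgroup.zpowers (x * y) := by
    have hA : ∀ u ∈ perp D d, x * u ∈ Subgroup.zpowers (x * y) := by
      intro u hu
      rcases (perp_pair hD hl hd hx hy hxy).2 u hu with rfl | rfl | rfl
      · rw [ts_mul_self hD hu.1]; exact one_mem _
      · exact Subgroup.mem_zpowers _
      · rw [← mul_assoc, ← mul_assoc, ts_mul_self hD hx.1, one_mul,
          show y * x = (x * y)⁻¹ by rw [mul_inv_rev, ts_inv hD hx.1, ts_inv hD hy.1]]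
        exact inv_mem (Subgroup.mem_zpowers _)
    intro u hu v hv
    rw [show u * v = (x * u)⁻¹ * (x * v) by rw [mul_inv_rev, ts_inv hD hu.1]; group]
    exact mul_mem (inv_mem (hA u hu)) (hA v hv)
  refine (baerSuzuki (p := 3) (Subgroup.zpowers (x * y)) fun g => ?_).imp
    fun N hN => ⟨hN.1, hN.2.1, hN.2.2 (Subgroup.mem_zpowers _)⟩
  rw [MonoidHom.map_zpowers]
  show IsPGroup 3 ↥(Subgroup.zpowers (x * y) ⊔ Subgroup.zpowers (g * (x * y) * g⁻¹))
  rw [show g * (x * y) * g⁻¹ = g * x * g⁻¹ * (g * y * g⁻¹) by group]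
  set u := g * x * g⁻¹ with hu
  set w := g * y * g⁻¹ with hw
  have huE : u ∈ perp D (g * d * g⁻¹) := perp_conj hconj g hx
  have hwE : w ∈ perp D (g * d * g⁻¹) := perp_conj hconj g hy
  have huw : perp D w = perp D u := reg_conj hconj g hreg w hwE u huE
  have hne : u ≠ w := fun h => hxy (mul_left_cancel (mul_right_cancel h))
  by_cases h1 : u ∈ perp D d
  · have hwd : w ∈ perp D d := perp_symm hwE.1 (huw ▸ perp_symm hd h1)
    refine (isPGroup_zpowers_three ha3).to_le (sup_le le_rfl ?_)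
    rw [Subgroup.zpowers_le]
    exact hgen u h1 w hwd
  by_cases h2 : u ∈ perp D x
  · have hwx : w ∈ perp D x := perp_symm hwE.1 (huw ▸ perp_symm hx.1 h2)
    refine (isPGroup_zpowers_three ha3).to_sup_of_normal_left'
      (isPGroup_zpowers_three (ts_cube hD huE.1 hwE.1
        (perp_pair hD hl (hconj g d hd) huE hwE hne).1)) (zpowers_le_normalizer_zpowers ?_)
    have hcu : ∀ m ∈ perp D x, Commute (x * y) m := fun m hm =>
      hm.2.2.mul_left (((hLM y hy).symm ▸ hm : m ∈ perp D y).2.2)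
    exact (hcu u h2).mul_right (hcu w hwx)
  have hnoL : ∀ v ∈ perp D d, ¬ Commute v u := by
    intro v hv hc
    by_cases h : u = v
    · exact h1 (h ▸ hv)
    · exact h2 (hLM v hv ▸ (⟨huE.1, h, hc⟩ : u ∈ perp D v))
  have hnod : ¬ Commute d u := by
    intro hc
    by_cases h : u = d
    · exact h2 (h ▸ perp_symm hd hx)
    · exact h1 ⟨huE.1, h, hc⟩
  obtain ⟨hne', -, p1, -, p3, -⟩ := shared_perps hD hconj hl hd hx hy hxy huE.1 hnod hnoL
  set e' := x * y * u * (x * y)⁻¹ with he'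
  have hh := p1.1
  have q1 := perp_symm huE.1 p1
  have q2 := perp_symm (hconj _ u huE.1) p3
  have q3 : w ∈ perp D (d * (x * u * x) * d) := perp_symm hwE.1 (huw ▸ p1)
  set H := Subgroup.zpowers (x * y) ⊔ Subgroup.zpowers (x * u) with hH
  have hHp : IsPGroup 3 H := by
    refine three_group ha3 (ts_cube hD hx.1 huE.1 (hnoL x hx)) ?_ ?_
    · rw [show x * y * (x * u) = (x * y * x) * u by group]
      exact ts_cube hD (cv_mem hD hconj hx.1 hy.1) huE.1
        (hnoL _ (perp_triple hD hconj hx hy))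
    · rw [show x * y * (x * u)⁻¹ = x * (y * u) * x⁻¹ by
        rw [mul_inv_rev, ts_inv hD huE.1]; group, conj_pow,
        ts_cube hD hy.1 huE.1 (hnoL y hy)]
      group
  have hue : u * e' ∈ H := by
    have e1 : u * e' = (x * u)⁻¹ * (x * y)⁻¹ * (x * u) * (x * y)⁻¹ := by
      have x1 : ∀ t : G, x * (x * t) = t := fun t => by
        rw [← mul_assoc, ts_mul_self hD hx.1, one_mul]
      rw [he']
      simp only [mul_inv_rev, ts_inv hD huE.1, ts_inv hD hx.1, ts_inv hD hy.1, mul_assoc, x1]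
    rw [e1]
    exact mul_mem (mul_mem (mul_mem (inv_mem (Subgroup.mem_sup_right (Subgroup.mem_zpowers _)))
      (inv_mem (Subgroup.mem_sup_left (Subgroup.mem_zpowers _))))
      (Subgroup.mem_sup_right (Subgroup.mem_zpowers _)))
      (inv_mem (Subgroup.mem_sup_left (Subgroup.mem_zpowers _)))
  refine hHp.to_le (sup_le le_sup_left ?_)
  rw [Subgroup.zpowers_le]
  rcases (perp_pair hD hl hh q1 q2 hne'.symm).2 w q3 with h | h | h
  · exact absurd h hne.symm
  · rw [h]; exact hue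
  · have u1 : ∀ t : G, u * (u * t) = t := fun t => by
      rw [← mul_assoc u u t, ts_mul_self hD huE.1, one_mul]
    rw [h, show u * (u * e' * u) = (u * e')⁻¹ by
      rw [mul_inv_rev, ts_inv hD huE.1, ts_inv hD (hconj _ u huE.1), mul_assoc u e' u, u1]]
    exact inv_mem hue

theorem twin_no_other (hcore : Nat.card (pCore 3 ↥(Subgroup.centralizer ({d} : Set G))) = 3)
    {e : G} (he : e ∈ D) (hde : ¬ Commute d e) (hxe : ¬ Commute x e) : False := by
  haveI : Fact (Nat.Prime 3) := ⟨by norm_num⟩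
  obtain ⟨N, hNn, hNp, haN⟩ := twin_mem_three_normal hD hconj hl hd hd' hdd hx hy hxy hx' hy'
  have d2 := ts_mul_self hD hd
  have x2 := ts_mul_self hD hx.1
  have d1 : ∀ t : G, d * (d * t) = t := fun t => by rw [← mul_assoc, d2, one_mul]
  have x1 : ∀ t : G, x * (x * t) = t := fun t => by rw [← mul_assoc, x2, one_mul]
  have hdx : d * x = x * d := hx.2.2.eq
  have hnc := (perp_pair hD hl hd hx hy hxy).1
  have hN2 : ∀ n ∈ N, n * n = 1 → n = 1 := by
    intro n hn h2
    obtain ⟨k, hk⟩ := hNp ⟨n, hn⟩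
    have hk' : n ^ (3 ^ k) = 1 := congrArg Subtype.val hk
    obtain ⟨m, hm⟩ : Odd (3 ^ k) := (by decide : Odd 3).pow
    rwa [hm, pow_succ, pow_mul, pow_two, h2, one_pow, one_mul] at hk'
  have hNcj : ∀ g : G, g * g = 1 → ∀ n ∈ N, g * n * g ∈ N := fun g hg n hn => by
    have := hNn.conj_mem n hn g
    rwa [inv_eq_of_mul_eq_one_right hg] at this
  -- the part of `N` centralizing `d`
  have hfix : ∀ n ∈ N, d * n * d = n → x * n * x = n → n = 1 := by
    intro n hn hnd hnx
    set C := Subgroup.centralizer ({d} : Set G)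
    have memC : ∀ t : G, Commute d t → t ∈ C := fun t ht =>
      Subgroup.mem_centralizer_singleton_iff.2 ht.symm.eq
    have haC : x * y ∈ C := memC _ (hx.2.2.mul_right hy.2.2)
    have hnC : n ∈ C := memC _ (by
      show d * n = n * d
      conv_rhs => rw [← hnd, mul_assoc, d2, mul_one])
    haveI : (N.subgroupOf C).Normal := inferInstance
    have hle : N.subgroupOf C ≤ pCore 3 C :=
      CfsgLib.Base.le_pCore (hNp.comap_of_injective C.subtype C.subtype_injective)
    have hz : Subgroup.zpowers (⟨x * y, haC⟩ : C) = pCore 3 C := by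
      refine Subgroup.eq_of_le_of_card_ge ?_ ?_
      · rw [Subgroup.zpowers_le]; exact hle haN
      · rw [hcore, Nat.card_zpowers, Subgroup.orderOf_mk,
          ts_orderOf_three hD hx.1 hy.1 hnc]
    have hmem : (⟨n, hnC⟩ : C) ∈ Subgroup.zpowers (⟨x * y, haC⟩ : C) := hz ▸ hle hn
    obtain ⟨k, hk⟩ := Subgroup.mem_zpowers_iff.1 hmem
    have hk' : (x * y) ^ k = n := congrArg Subtype.val hk
    have hinv : x * n * x = n⁻¹ := by
      rw [← hk', ← zpow_neg]
      have := conj_zpow_of_inverted (invol_conj_prod_left (hD.1 x hx.1) (hD.1 y hy.1)) k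
      rwa [ts_inv hD hx.1] at this
    refine hN2 n hn ?_
    rw [hnx] at hinv
    exact mul_eq_one_iff_eq_inv.2 hinv
  -- the product of `d` and `x` inverts `N`
  obtain ⟨z, hz⟩ : ∃ z, z = d * x := ⟨_, rfl⟩
  have z2 : z * z = 1 := by
    rw [hz]
    calc d * x * (d * x) = d * (x * d) * x := by group
      _ = d * (d * x) * x := by rw [hdx]
      _ = 1 := by simp [mul_assoc, d1, x2]
  have hzfix : ∀ n ∈ N, z * n * z = n → n = 1 := by
    intro n hn hzn
    let S : Subgroup G := N ⊓ Subgroup.centralizer ({z} : Set G)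
    have hnS : n ∈ S := by
      refine ⟨hn, Subgroup.mem_centralizer_singleton_iff.2 ?_⟩
      conv_lhs => rw [← hzn, mul_assoc, z2, mul_one]
    have hdz : Commute d z := hz ▸ (Commute.refl d).mul_right hx.2.2
    have hS : ∀ m ∈ S, d * m * d ∈ S := by
      rintro m ⟨hm, hmz⟩
      have hmz' : Commute m z := Subgroup.mem_centralizer_singleton_iff.1 hmz
      exact ⟨hNcj d d2 m hm, Subgroup.mem_centralizer_singleton_iff.2
        ((hdz.mul_left hmz').mul_left hdz).eq⟩
    have hSx : ∀ m ∈ S, x * m * x = d * m * d := by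
      rintro m ⟨-, hmz⟩
      have hmz' : m * z = z * m := Subgroup.mem_centralizer_singleton_iff.1 hmz
      rw [hz] at hmz'
      calc x * m * x = d * (d * x * m) * x := by simp [mul_assoc, d1]
        _ = d * (m * (d * x)) * x := by rw [← hmz']
        _ = d * m * d := by simp [mul_assoc, x2]
    have hdn := fpf_inverts d2 hS
      (fun m hm hmd => hfix m hm.1 hmd (by rw [hSx m hm, hmd])) hnS
    have hxn : x * n * x = n⁻¹ := by rw [hSx n hnS, hdn]
    have hnz : Commute n z := Subgroup.mem_centralizer_singleton_iff.1 hnS.2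
    have hd2' : n * d * n⁻¹ ∈ D := hconj n d hd
    have hprod : x * (n * d * n⁻¹) = n⁻¹ * n⁻¹ * z := by
      calc x * (n * d * n⁻¹) = x * (n * (d * n⁻¹ * d) * d) := by simp [mul_assoc, d2]
        _ = x * (n * n * d) := by
          rw [← hdn]; simp [mul_assoc, d1, d2]
        _ = (x * n * x) * (x * n * x) * (x * d) := by simp [mul_assoc, x1]
        _ = n⁻¹ * n⁻¹ * z := by rw [hxn, hz, hdx]
    have hcz : Commute (n⁻¹ * n⁻¹) z := hnz.inv_left.mul_left hnz.inv_left
    rcases hD.2 x hx.1 _ hd2' with h | h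
    · rw [hprod, hcz.mul_pow, pow_two, pow_two, z2, mul_one] at h
      refine hN2 n hn (inv_eq_one.1 ?_)
      rw [mul_inv_rev]
      exact hN2 _ (mul_mem (inv_mem hn) (inv_mem hn)) h
    · rw [hprod, hcz.mul_pow, pow_three z, z2, mul_one] at h
      have hzN : z ∈ N := by
        rw [eq_inv_of_mul_eq_one_right h]
        exact inv_mem (pow_mem (mul_mem (inv_mem hn) (inv_mem hn)) 3)
      exfalso
      refine hx.2.1 ?_
      have h1 := hN2 z hzN z2
      rw [hz] at h1
      rw [← inv_eq_of_mul_eq_one_right h1, ts_inv hD hd]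
  have zinv : ∀ n ∈ N, z * n * z = n⁻¹ := fun n hn =>
    fpf_inverts z2 (hNcj z z2) hzfix hn
  -- a third member gives an element of order three inducing an automorphism of order six
  set r := d * e with hr
  have r3 : r ^ 3 = 1 := ts_cube hD hd he hde
  have hm : x * e = z * r := by
    rw [hz, hr, ← mul_assoc, hdx, mul_assoc x d d, d2, mul_one]
  have m3 : (x * e) ^ 3 = 1 := ts_cube hD hx.1 he hxe
  have zi : z⁻¹ = z := inv_eq_of_mul_eq_one_right z2
  have hsig : ∀ n ∈ N, x * e * n * (x * e)⁻¹ = (r * n * r⁻¹)⁻¹ := by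
    intro n hn
    rw [hm, mul_inv_rev, zi, ← zinv _ (hNn.conj_mem n hn r)]
    group
  have hcj : ∀ g : G, ∀ n ∈ N, g * n * g⁻¹ ∈ N := fun g n hn => hNn.conj_mem n hn g
  have ha1 : x * y = 1 := by
    refine hN2 _ haN ?_
    set n := x * y
    have e0 : (x * e) ^ 3 * n * ((x * e) ^ 3)⁻¹
        = x * e * (x * e * (x * e * n * (x * e)⁻¹) * (x * e)⁻¹) * (x * e)⁻¹ := by
      rw [pow_three]; group
    rw [m3, hsig n haN, hsig _ (inv_mem (hcj r n haN)),
      hsig _ (inv_mem (hcj r _ (inv_mem (hcj r n haN))))] at e0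
    have e1 : n = (r ^ 3 * n * (r ^ 3)⁻¹)⁻¹ := by
      rw [show (1 : G) * n * 1⁻¹ = n by group] at e0
      conv_lhs => rw [e0]
      rw [pow_three]; group
    rw [r3, show (1 : G) * n * 1⁻¹ = n by group] at e1
    exact mul_eq_one_iff_eq_inv.2 e1
  exact hxy (by rw [← inv_eq_of_mul_eq_one_right ha1, ts_inv hD hx.1])

end CfsgLib.ThreeTransp.SymThree

namespace CfsgLib.ThreeTransp.SymThree

open Cfsg CfsgLib.Involutions CfsgLib.ThreeTransp

theorem sym3_local {G : Type*} [Group G] [Finite G] {D : Set G} (hD : IsThreeTranspositionSet D)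
    (hconj : ∀ g : G, ∀ d ∈ D, g * d * g⁻¹ ∈ D) (hne : D.Nonempty) (hl : LocS3 D)
    (hcore : ∀ d ∈ D, Nat.card (pCore 3 ↥(Subgroup.centralizer ({d} : Set G))) = 3) :
    Nonempty (↥(Subgroup.closure D) ≃* Equiv.Perm (Fin 5)) ∨
      Nonempty (↥(Subgroup.closure D) ≃* Equiv.Perm (Fin 3) × Equiv.Perm (Fin 3)) := by
  by_cases hnt : NoTwins D
  · exact Or.inl (no_twins_sym5 hD hconj hl hne hnt)
  simp only [NoTwins, not_forall] at hnt
  obtain ⟨d, hd, d', hd', x, hx, y, hy, hx', hy', hxy, hdd⟩ := hnt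
  refine Or.inr (twin_square hD hconj hl hd hd' hdd hx hy hxy hx' hy' fun e he => ?_)
  by_contra hcon
  simp only [Set.mem_union, not_or] at hcon
  refine twin_no_other hD hconj hl hd hd' hdd hx hy hxy hx' hy' (hcore d hd) he
    (fun h => ?_) (fun h => ?_)
  · by_cases h' : e = d
    · exact hcon.2 (h' ▸ perp_symm hd hx)
    · exact hcon.1 ⟨he, h', h⟩
  · by_cases h' : e = x
    · exact hcon.1 (h' ▸ hx)
    · exact hcon.2 ⟨he, h', h⟩

end CfsgLib.ThreeTransp.SymThree
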