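import Cfsg.Agent.Lib.ThreeTransp.SL2
import Cfsg.Agent.Lib.ThreeTransp.RootGraph
import Cfsg.Agent.Lib.Maximal.Transvec

/-!
The transvection groups of SL(N, k), N ≥ 3: classification of pairs, class, generation.
-/

set_option autoImplicit false

namespace CfsgLib.ThreeTransp

open Cfsg Matrix
open scoped commutatorElement

namespace TransvSL

variable {N : ℕ} {k : Type*} [Field k]

theorem slExt {n : ℕ} {A B : Matrix.SpecialLinearGroup (Fin n) k}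
    (h : (A : Matrix (Fin n) (Fin n) k) = (B : Matrix (Fin n) (Fin n) k)) : A = B := Subtype.ext h

/-- The transvection `1 + a φ` in SL. -/
def st (a φ : Fin N → k) (h : φ ⬝ᵥ a = 0) : Matrix.SpecialLinearGroup (Fin N) k :=
  ⟨1 + vecMulVec a φ, by rw [← CfsgLib.Maximal.tv_val a φ h]; exact CfsgLib.Maximal.tv_det a φ h⟩

theorem st_val (a φ : Fin N → k) (h : φ ⬝ᵥ a = 0) :
    ((st a φ h : Matrix.SpecialLinearGroup (Fin N) k) : Matrix (Fin N) (Fin N) k) = 1 + vecMulVec a φ := rfl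

theorem st_congr {a a' φ φ' : Fin N → k} {h : φ ⬝ᵥ a = 0} {h' : φ' ⬝ᵥ a' = 0}
    (e : vecMulVec a φ = vecMulVec a' φ') : st a φ h = st a' φ' h' :=
  slExt (by rw [st_val, st_val, e])

theorem st_mul (a b φ : Fin N → k) (ha : φ ⬝ᵥ a = 0) (hb : φ ⬝ᵥ b = 0) :
    st a φ ha * st b φ hb = st (a + b) φ (by rw [dotProduct_add, ha, hb, add_zero]) := by
  refine slExt ?_
  rw [Matrix.SpecialLinearGroup.coe_mul, st_val, st_val, st_val]
  simp [mul_add, add_mul, vecMulVec_mul_vecMulVec, hb, add_vecMulVec, add_assoc]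

theorem st_conj (g : Matrix.SpecialLinearGroup (Fin N) k) (a φ : Fin N → k) (h : φ ⬝ᵥ a = 0)
    (h' : (φ ᵥ* ((g⁻¹ : Matrix.SpecialLinearGroup (Fin N) k) : Matrix (Fin N) (Fin N) k)) ⬝ᵥ
      ((g : Matrix (Fin N) (Fin N) k) *ᵥ a) = 0) :
    g * st a φ h * g⁻¹ = st ((g : Matrix (Fin N) (Fin N) k) *ᵥ a)
      (φ ᵥ* ((g⁻¹ : Matrix.SpecialLinearGroup (Fin N) k) : Matrix (Fin N) (Fin N) k)) h' := by
  refine slExt ?_
  rw [Matrix.SpecialLinearGroup.coe_mul, Matrix.SpecialLinearGroup.coe_mul, st_val, st_val, mul_add, add_mul, mul_one,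
    ← Matrix.SpecialLinearGroup.coe_mul, mul_inv_cancel, Matrix.SpecialLinearGroup.coe_one, mul_vecMulVec, vecMulVec_mul]

theorem conj_dot (g : Matrix.SpecialLinearGroup (Fin N) k) (a φ : Fin N → k) :
    (φ ᵥ* ((g⁻¹ : Matrix.SpecialLinearGroup (Fin N) k) : Matrix (Fin N) (Fin N) k)) ⬝ᵥ
      ((g : Matrix (Fin N) (Fin N) k) *ᵥ a) = φ ⬝ᵥ a := by
  rw [← dotProduct_mulVec, mulVec_mulVec, ← Matrix.SpecialLinearGroup.coe_mul, inv_mul_cancel,
    Matrix.SpecialLinearGroup.coe_one, one_mulVec]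

/-- The incident pairs. -/
structure Inc (a φ : Fin N → k) : Prop where
  dot : φ ⬝ᵥ a = 0
  vec : a ≠ 0
  cov : φ ≠ 0

theorem smul_dot {a φ : Fin N → k} (h : φ ⬝ᵥ a = 0) (c : k) : φ ⬝ᵥ (c • a) = 0 := by
  rw [dotProduct_smul, h, smul_zero]

/-- The root group of an incident pair. -/
def rg (a φ : Fin N → k) (h : φ ⬝ᵥ a = 0) : Subgroup (Matrix.SpecialLinearGroup (Fin N) k) where
  carrier := {t | ∃ c : k, t = st (c • a) φ (smul_dot h c)}
  mul_mem' := by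
    rintro _ _ ⟨c, rfl⟩ ⟨d, rfl⟩
    exact ⟨c + d, by rw [st_mul]; exact st_congr (by rw [add_smul])⟩
  one_mem' := ⟨0, slExt (by rw [st_val, Matrix.SpecialLinearGroup.coe_one, zero_smul, zero_vecMulVec, add_zero])⟩
  inv_mem' := by
    rintro _ ⟨c, rfl⟩
    refine ⟨-c, inv_eq_of_mul_eq_one_right ?_⟩
    rw [st_mul]
    exact slExt (by rw [st_val, Matrix.SpecialLinearGroup.coe_one, ← add_smul, add_neg_cancel, zero_smul, zero_vecMulVec, add_zero])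

theorem mem_rg {a φ : Fin N → k} {h : φ ⬝ᵥ a = 0} {t : Matrix.SpecialLinearGroup (Fin N) k} :
    t ∈ rg a φ h ↔ ∃ c : k, t = st (c • a) φ (smul_dot h c) := Iff.rfl

theorem vecMulVec_ne_zero {a φ : Fin N → k} (ha : a ≠ 0) (hφ : φ ≠ 0) : vecMulVec a φ ≠ 0 := by
  obtain ⟨i, hi⟩ := Function.ne_iff.1 ha
  obtain ⟨j, hj⟩ := Function.ne_iff.1 hφ
  intro h
  have := congrFun (congrFun h i) j
  rw [vecMulVec_apply] at this
  exact mul_ne_zero hi hj this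

theorem rg_ne_bot {a φ : Fin N → k} (i : Inc a φ) : rg a φ i.dot ≠ ⊥ := by
  intro h
  have h1 : st ((1 : k) • a) φ (smul_dot i.dot 1) ∈ rg a φ i.dot := ⟨1, rfl⟩
  rw [h, Subgroup.mem_bot] at h1
  have h2 := congrArg (fun t : Matrix.SpecialLinearGroup (Fin N) k => (t : Matrix (Fin N) (Fin N) k)) h1
  rw [st_val, Matrix.SpecialLinearGroup.coe_one, one_smul, add_eq_left] at h2
  exact vecMulVec_ne_zero i.vec i.cov h2

/-- Elements of a root group commute. -/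
theorem rg_comm {a φ : Fin N → k} (h : φ ⬝ᵥ a = 0) : IsMulCommutative (rg a φ h) := by
  refine ⟨⟨fun x y => Subtype.ext ?_⟩⟩
  obtain ⟨c, hc⟩ := x.2
  obtain ⟨d, hd⟩ := y.2
  show (x : Matrix.SpecialLinearGroup (Fin N) k) * y = y * x
  rw [hc, hd, st_mul, st_mul]
  exact st_congr (by rw [add_comm])

theorem rg_smul {a φ : Fin N → k} (h : φ ⬝ᵥ a = 0) {s t : k} (hs : s ≠ 0) (ht : t ≠ 0)
    (h' : (t • φ) ⬝ᵥ (s • a) = 0) : rg (s • a) (t • φ) h' = rg a φ h := by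
  ext x
  constructor
  · rintro ⟨c, rfl⟩
    refine ⟨c * s * t, st_congr ?_⟩
    simp only [smul_vecMulVec, vecMulVec_smul, smul_smul]
    ring_nf
  · rintro ⟨c, rfl⟩
    refine ⟨c / (s * t), st_congr ?_⟩
    simp only [smul_vecMulVec, vecMulVec_smul, smul_smul]
    congr 1
    field_simp

theorem rg_conj (g : Matrix.SpecialLinearGroup (Fin N) k) {a φ : Fin N → k} (h : φ ⬝ᵥ a = 0) :
    conjBy (rg a φ h) g = rg ((g : Matrix (Fin N) (Fin N) k) *ᵥ a)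
      (φ ᵥ* ((g⁻¹ : Matrix.SpecialLinearGroup (Fin N) k) : Matrix (Fin N) (Fin N) k)) ((conj_dot g a φ).trans h) := by
  ext x
  constructor
  · rintro ⟨y, ⟨c, rfl⟩, rfl⟩
    refine ⟨c, ?_⟩
    show g * _ * g⁻¹ = _
    rw [st_conj g _ _ _ ((conj_dot g _ φ).trans (smul_dot h c))]
    exact st_congr (by rw [mulVec_smul])
  · rintro ⟨c, rfl⟩
    refine ⟨st (c • a) φ (smul_dot h c), ⟨c, rfl⟩, ?_⟩
    show g * _ * g⁻¹ = _
    rw [st_conj g _ _ _ ((conj_dot g _ φ).trans (smul_dot h c))]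
    exact st_congr (by rw [mulVec_smul])

theorem Inc.conj {a φ : Fin N → k} (i : Inc a φ) (g : Matrix.SpecialLinearGroup (Fin N) k) :
    Inc ((g : Matrix (Fin N) (Fin N) k) *ᵥ a)
      (φ ᵥ* ((g⁻¹ : Matrix.SpecialLinearGroup (Fin N) k) : Matrix (Fin N) (Fin N) k)) := by
  refine ⟨(conj_dot g a φ).trans i.dot, fun h => i.vec ?_, fun h => i.cov ?_⟩
  · have h2 := congrArg (fun v => ((g⁻¹ : Matrix.SpecialLinearGroup (Fin N) k) : Matrix (Fin N) (Fin N) k) *ᵥ v) h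
    rwa [mulVec_mulVec, ← Matrix.SpecialLinearGroup.coe_mul, inv_mul_cancel, Matrix.SpecialLinearGroup.coe_one, one_mulVec,
      mulVec_zero] at h2
  · have h2 := congrArg (fun v => v ᵥ* (g : Matrix (Fin N) (Fin N) k)) h
    rwa [vecMul_vecMul, ← Matrix.SpecialLinearGroup.coe_mul, inv_mul_cancel, Matrix.SpecialLinearGroup.coe_one, vecMul_one,
      zero_vecMul] at h2

theorem exists_common {φ ψ : Fin N → k} (hφ : φ ≠ 0) (h : ∀ c : k, ψ ≠ c • φ) :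
    ∃ u : Fin N → k, φ ⬝ᵥ u = 1 ∧ ψ ⬝ᵥ u = 1 := by
  obtain ⟨i, hi⟩ := Function.ne_iff.1 hφ
  obtain ⟨j, hj⟩ : ∃ j, φ i * ψ j - φ j * ψ i ≠ 0 := by
    by_contra hcon
    push Not at hcon
    refine h (ψ i / φ i) (funext fun j => ?_)
    have h1 := hcon j
    have h2 : φ i ≠ 0 := hi
    simp only [Pi.smul_apply, smul_eq_mul]
    field_simp
    linear_combination h1
  set d := φ i * ψ j - φ j * ψ i with hd
  refine ⟨Pi.single i ((ψ j - φ j) / d) + Pi.single j ((φ i - ψ i) / d), ?_, ?_⟩ <;>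
  · rw [dotProduct_add, dotProduct_single, dotProduct_single]
    field_simp
    rw [hd]; ring

variable (hN : 3 ≤ N)

/-- The first coordinate vectors. -/
abbrev E (i : Fin N) : Fin N → k := Pi.single i 1

theorem single_ne {i : Fin N} : (E i : Fin N → k) ≠ 0 := fun h => by simpa using congrFun h i

theorem move_vec {a b : Fin N → k} (ha : a ≠ 0) (hab : ∀ c : k, b ≠ c • a) :
    ∃ g : Matrix.SpecialLinearGroup (Fin N) k, (g : Matrix (Fin N) (Fin N) k) *ᵥ a = b := by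
  obtain ⟨ψ, h1, h2⟩ := exists_common ha hab
  rw [dotProduct_comm] at h1 h2
  refine ⟨st (b - a) ψ (by rw [dotProduct_sub, h1, h2, sub_self]), ?_⟩
  rw [st_val, add_mulVec, one_mulVec, vecMulVec_mulVec, h1, op_smul_eq_smul, one_smul, add_sub_cancel]

theorem smul_single_ne {i j : Fin N} (hij : i ≠ j) (c : k) : (E j : Fin N → k) ≠ c • E i := fun h => by
  have := congrFun h j
  simp [hij.symm] at this

theorem transitive {a φ : Fin N → k} (i : Inc a φ) {i₀ i₁ : Fin N} (h01 : i₀ ≠ i₁) (hN : 3 ≤ N) :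
    ∃ g : Matrix.SpecialLinearGroup (Fin N) k, (g : Matrix (Fin N) (Fin N) k) *ᵥ a = E i₀ ∧
      φ ᵥ* ((g⁻¹ : Matrix.SpecialLinearGroup (Fin N) k) : Matrix (Fin N) (Fin N) k) = E i₁ := by
  obtain ⟨i₂, h20, h21⟩ : ∃ i₂ : Fin N, i₂ ≠ i₀ ∧ i₂ ≠ i₁ := by
    have h : ({i₀, i₁} : Finset (Fin N))ᶜ.Nonempty := by
      rw [← Finset.card_pos, Finset.card_compl, Finset.card_pair h01, Fintype.card_fin]; omega
    obtain ⟨i₂, h⟩ := h
    simp only [Finset.mem_compl, Finset.mem_insert, Finset.mem_singleton, not_or] at h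
    exact ⟨i₂, h⟩
  obtain ⟨g₁, hg₁⟩ : ∃ g : Matrix.SpecialLinearGroup (Fin N) k, (g : Matrix (Fin N) (Fin N) k) *ᵥ a = E i₀ := by
    by_cases h : ∀ c : k, (E i₀ : Fin N → k) ≠ c • a
    · exact move_vec i.vec h
    push Not at h
    obtain ⟨c, hc⟩ := h
    obtain ⟨g, hg⟩ := move_vec (b := E i₂) i.vec fun d hd => by
      have hc0 : c ≠ 0 := fun h => single_ne (k := k) (i := i₀) (by rw [hc, h, zero_smul])
      refine smul_single_ne (k := k) h20.symm (d / c) ?_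
      rw [hd, hc, smul_smul, div_mul_cancel₀ d hc0]
    obtain ⟨g', hg'⟩ := move_vec (b := E i₀) (single_ne (k := k) (i := i₂)) (smul_single_ne h20)
    exact ⟨g' * g, by rw [Matrix.SpecialLinearGroup.coe_mul, ← mulVec_mulVec, hg, hg']⟩
  set φ₁ := φ ᵥ* ((g₁⁻¹ : Matrix.SpecialLinearGroup (Fin N) k) : Matrix (Fin N) (Fin N) k) with hφ₁
  have i1 := i.conj g₁
  rw [hg₁, ← hφ₁] at i1
  have hstep : ∀ {φ ψ : Fin N → k}, Inc (E i₀) φ → ψ ⬝ᵥ E i₀ = 0 → (∀ c : k, ψ ≠ c • φ) →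
      ∃ g : Matrix.SpecialLinearGroup (Fin N) k, (g : Matrix (Fin N) (Fin N) k) *ᵥ E i₀ = E i₀ ∧
        φ ᵥ* ((g⁻¹ : Matrix.SpecialLinearGroup (Fin N) k) : Matrix (Fin N) (Fin N) k) = ψ := by
    intro φ ψ i' hψ hne
    obtain ⟨u, h1, h2⟩ := exists_common i'.cov hne
    refine ⟨(st u (ψ - φ) (by rw [sub_dotProduct, h1, h2, sub_self]))⁻¹, ?_, ?_⟩
    · have hfix : (1 + vecMulVec u (ψ - φ)) *ᵥ E i₀ = E i₀ := by
        rw [add_mulVec, one_mulVec, vecMulVec_mulVec, sub_dotProduct, hψ, i'.dot, sub_self, op_smul_eq_smul,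
          zero_smul, add_zero]
      conv_lhs => rw [← hfix, ← st_val u (ψ - φ) (by rw [sub_dotProduct, h1, h2, sub_self])]
      rw [mulVec_mulVec, ← Matrix.SpecialLinearGroup.coe_mul, inv_mul_cancel, Matrix.SpecialLinearGroup.coe_one, one_mulVec]
    · rw [inv_inv, st_val, vecMul_add, vecMul_one, vecMul_vecMulVec, h1, one_smul, add_sub_cancel]
  have hE : ∀ {j : Fin N}, j ≠ i₀ → (E j : Fin N → k) ⬝ᵥ E i₀ = 0 := fun hj => by
    simp [Ne.symm hj]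
  obtain ⟨g₂, hg₂, hg₂'⟩ : ∃ g : Matrix.SpecialLinearGroup (Fin N) k, (g : Matrix (Fin N) (Fin N) k) *ᵥ E i₀ = E i₀ ∧
      φ₁ ᵥ* ((g⁻¹ : Matrix.SpecialLinearGroup (Fin N) k) : Matrix (Fin N) (Fin N) k) = E i₁ := by
    by_cases h : ∀ c : k, (E i₁ : Fin N → k) ≠ c • φ₁
    · exact hstep i1 (hE h01.symm) h
    push Not at h
    obtain ⟨c, hc⟩ := h
    obtain ⟨g, hg, hg'⟩ := hstep i1 (hE h20) fun d hd => by
      have hc0 : c ≠ 0 := fun h => single_ne (k := k) (i := i₁) (by rw [hc, h, zero_smul])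
      refine smul_single_ne (k := k) h21.symm (d / c) ?_
      rw [hd, hc, smul_smul, div_mul_cancel₀ d hc0]
    obtain ⟨g', hg'1, hg'2⟩ := hstep (φ := E i₂) ⟨hE h20, single_ne, single_ne⟩ (hE h01.symm)
      (smul_single_ne h21)
    refine ⟨g' * g, by rw [Matrix.SpecialLinearGroup.coe_mul, ← mulVec_mulVec, hg, hg'1], ?_⟩
    rw [_root_.mul_inv_rev, Matrix.SpecialLinearGroup.coe_mul, ← vecMul_vecMul, hg', hg'2]
  refine ⟨g₂ * g₁, by rw [Matrix.SpecialLinearGroup.coe_mul, ← mulVec_mulVec, hg₁, hg₂], ?_⟩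
  rw [_root_.mul_inv_rev, Matrix.SpecialLinearGroup.coe_mul, ← vecMul_vecMul, ← hφ₁, hg₂']

/-- The plane frame map of two opposite pairs. -/
def frame (a b φ ψ : Fin N → k) (hψa : ψ ⬝ᵥ a = 1) (hψb : ψ ⬝ᵥ b = 0) (hφa : φ ⬝ᵥ a = 0)
    (hφb : φ ⬝ᵥ b = 1) : Matrix.SpecialLinearGroup (Fin 2) k →* Matrix.SpecialLinearGroup (Fin N) k :=
  let P : Matrix (Fin N) (Fin 2) k := Matrix.of fun i j => ![a i, b i] j
  let Q : Matrix (Fin 2) (Fin N) k := Matrix.of ![ψ, φ]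
  have hQP : Q * P = 1 := by
    ext i j
    show ![ψ, φ] i ⬝ᵥ (fun l => ![a l, b l] j) = (1 : Matrix (Fin 2) (Fin 2) k) i j
    fin_cases i <;> fin_cases j <;> simp [hψa, hψb, hφa, hφb]
  { toFun := fun M => ⟨1 + P * ((M : Matrix (Fin 2) (Fin 2) k) - 1) * Q, by
      rw [det_one_add_mul_comm, ← Matrix.mul_assoc, hQP, Matrix.one_mul, add_sub_cancel, M.2]⟩
    map_one' := slExt (by simp)
    map_mul' := fun M M' => slExt (by
      show 1 + P * (((M * M' : Matrix.SpecialLinearGroup (Fin 2) k) : Matrix (Fin 2) (Fin 2) k) - 1) * Q =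
        (1 + P * ((M : Matrix (Fin 2) (Fin 2) k) - 1) * Q) * (1 + P * ((M' : Matrix (Fin 2) (Fin 2) k) - 1) * Q)
      simp only [Matrix.SpecialLinearGroup.coe_mul]
      rw [mul_add, add_mul, add_mul, one_mul, mul_one, one_mul,
        show P * ((M : Matrix (Fin 2) (Fin 2) k) - 1) * Q * (P * ((M' : Matrix (Fin 2) (Fin 2) k) - 1) * Q) =
          P * (((M : Matrix (Fin 2) (Fin 2) k) - 1) * (Q * P) * ((M' : Matrix (Fin 2) (Fin 2) k) - 1)) * Q by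
            simp only [Matrix.mul_assoc], hQP, Matrix.mul_one, add_assoc]
      rw [← Matrix.add_mul, ← Matrix.mul_add, ← Matrix.add_mul, ← Matrix.mul_add]
      congr 3
      noncomm_ring) }

theorem frame_apply (a b φ ψ : Fin N → k) (h1 : ψ ⬝ᵥ a = 1) (h2 : ψ ⬝ᵥ b = 0) (h3 : φ ⬝ᵥ a = 0)
    (h4 : φ ⬝ᵥ b = 1) (M : Matrix.SpecialLinearGroup (Fin 2) k) :
    ((frame a b φ ψ h1 h2 h3 h4 M : Matrix.SpecialLinearGroup (Fin N) k) : Matrix (Fin N) (Fin N) k) =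
      1 + ((((M : Matrix (Fin 2) (Fin 2) k) 0 0 - 1) • vecMulVec a ψ) + (M : Matrix (Fin 2) (Fin 2) k) 0 1 • vecMulVec a φ
        + ((M : Matrix (Fin 2) (Fin 2) k) 1 0 • vecMulVec b ψ) + (((M : Matrix (Fin 2) (Fin 2) k) 1 1 - 1) • vecMulVec b φ)) := by
  ext i j
  show (1 + (Matrix.of fun i j => ![a i, b i] j) * ((M : Matrix (Fin 2) (Fin 2) k) - 1) * Matrix.of ![ψ, φ] :
    Matrix (Fin N) (Fin N) k) i j = _
  simp [Matrix.mul_apply, Fin.sum_univ_two, vecMulVec_apply]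
  ring

theorem frame_injective (a b φ ψ : Fin N → k) (h1 : ψ ⬝ᵥ a = 1) (h2 : ψ ⬝ᵥ b = 0) (h3 : φ ⬝ᵥ a = 0)
    (h4 : φ ⬝ᵥ b = 1) : Function.Injective (frame a b φ ψ h1 h2 h3 h4) := by
  intro M M' h
  have h' := congrArg (fun t : Matrix.SpecialLinearGroup (Fin N) k => (t : Matrix (Fin N) (Fin N) k)) h
  simp only [frame_apply, add_right_inj] at h'
  have key : ∀ (u χ : Fin N → k) (v : Fin N → k) (ω : Fin N → k),
      ω ⬝ᵥ (vecMulVec u χ *ᵥ v) = (ω ⬝ᵥ u) * (χ ⬝ᵥ v) := fun u χ v ω => by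
    rw [vecMulVec_mulVec, op_smul_eq_smul, dotProduct_smul, smul_eq_mul, mul_comm]
  have e : ∀ ω v : Fin N → k, _ := fun ω v => congrArg (fun X => ω ⬝ᵥ (X *ᵥ v)) h'
  simp only [add_mulVec, smul_mulVec, dotProduct_add, dotProduct_smul, key, smul_eq_mul] at e
  have e00 := e ψ a
  have e01 := e ψ b
  have e10 := e φ a
  have e11 := e φ b
  simp [h1, h2, h3, h4] at e00 e01 e10 e11
  refine slExt ?_
  ext i j
  fin_cases i <;> fin_cases j <;> assumption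

theorem frame_upper (a b φ ψ : Fin N → k) (h1 : ψ ⬝ᵥ a = 1) (h2 : ψ ⬝ᵥ b = 0) (h3 : φ ⬝ᵥ a = 0)
    (h4 : φ ⬝ᵥ b = 1) : (upperUnipotentSL2 k).map (frame a b φ ψ h1 h2 h3 h4) = rg a φ h3 := by
  have key : ∀ t, frame a b φ ψ h1 h2 h3 h4 (sl2U k t) = st (t • a) φ (smul_dot h3 t) := fun t =>
    slExt (by rw [frame_apply, st_val, sl2U_val]; simp [smul_vecMulVec])
  ext x
  constructor
  · rintro ⟨M, hM, rfl⟩
    obtain ⟨t, rfl⟩ := (mem_upperUnipotentSL2 k).1 hM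
    exact ⟨t, key t⟩
  · rintro ⟨t, rfl⟩
    exact ⟨sl2U k t, (mem_upperUnipotentSL2 k).2 ⟨t, rfl⟩, key t⟩

theorem frame_lower (a b φ ψ : Fin N → k) (h1 : ψ ⬝ᵥ a = 1) (h2 : ψ ⬝ᵥ b = 0) (h3 : φ ⬝ᵥ a = 0)
    (h4 : φ ⬝ᵥ b = 1) : (lowerUnipotentSL2 k).map (frame a b φ ψ h1 h2 h3 h4) = rg b ψ h2 := by
  have key : ∀ t, frame a b φ ψ h1 h2 h3 h4 (sl2L k t) = st (t • b) ψ (smul_dot h2 t) := fun t =>
    slExt (by rw [frame_apply, st_val, sl2L_val]; simp [smul_vecMulVec])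
  ext x
  constructor
  · rintro ⟨M, hM, rfl⟩
    obtain ⟨t, rfl⟩ := (mem_lowerUnipotentSL2 k).1 hM
    exact ⟨t, key t⟩
  · rintro ⟨t, rfl⟩
    exact ⟨sl2L k t, (mem_lowerUnipotentSL2 k).2 ⟨t, rfl⟩, key t⟩

/-- Pairs crossing both ways generate images of SL₂. -/
theorem pair_both {a φ b ψ : Fin N → k} (ha : φ ⬝ᵥ a = 0) (hb : ψ ⬝ᵥ b = 0) (hx : φ ⬝ᵥ b ≠ 0)
    (hy : ψ ⬝ᵥ a ≠ 0) : IsRankOnePair (rg a φ ha) (rg b ψ hb) ∧ IsPSL2PairOver k (rg a φ ha) (rg b ψ hb) := by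
  set x := φ ⬝ᵥ b with hxd
  set y := ψ ⬝ᵥ a with hyd
  have e1 : ψ ⬝ᵥ (y⁻¹ • a) = 1 := by rw [dotProduct_smul, smul_eq_mul, ← hyd, inv_mul_cancel₀ hy]
  have e2 : (x⁻¹ • φ) ⬝ᵥ (y⁻¹ • a) = 0 := by rw [dotProduct_smul, smul_dotProduct, ha, smul_zero, smul_zero]
  have e3 : (x⁻¹ • φ) ⬝ᵥ b = 1 := by rw [smul_dotProduct, smul_eq_mul, ← hxd, inv_mul_cancel₀ hx]
  set f := frame (y⁻¹ • a) b (x⁻¹ • φ) ψ e1 hb e2 e3
  have hU : (upperUnipotentSL2 k).map f = rg a φ ha := by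
    rw [frame_upper, rg_smul ha (inv_ne_zero hy) (inv_ne_zero hx)]
  have hL : (lowerUnipotentSL2 k).map f = rg b ψ hb := frame_lower ..
  refine ⟨hU ▸ hL ▸ rop_symm (rop_map (sl2_rankOnePair k).1 f (frame_injective ..)), f, ?_, ?_, hU, hL⟩
  · rw [← hU, ← hL, ← Subgroup.map_sup, sup_comm, sl2_gen, MonoidHom.range_eq_map]
  · rw [(MonoidHom.ker_eq_bot_iff f).2 (frame_injective ..)]; exact bot_le

theorem pair_none {a φ b ψ : Fin N → k} (ha : φ ⬝ᵥ a = 0) (hb : ψ ⬝ᵥ b = 0) (hx : φ ⬝ᵥ b = 0)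
    (hy : ψ ⬝ᵥ a = 0) : ⁅rg a φ ha, rg b ψ hb⁆ = ⊥ := by
  rw [Subgroup.commutator_eq_bot_iff_le_centralizer]
  rintro _ ⟨c, rfl⟩
  rw [Subgroup.mem_centralizer_iff]
  rintro _ ⟨d, rfl⟩
  refine slExt ?_
  simp only [Matrix.SpecialLinearGroup.coe_mul, st_val, mul_add, add_mul, one_mul, mul_one, vecMulVec_mul_vecMulVec,
    dotProduct_smul, hx, hy, smul_zero, zero_smul, vecMulVec_zero, add_zero]
  abel

/-- The commutator of crossing transvections. -/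
theorem st_commutator {a φ b ψ : Fin N → k} (ha : φ ⬝ᵥ a = 0) (hb : ψ ⬝ᵥ b = 0) (hy : ψ ⬝ᵥ a = 0) (c d : k) :
    st (c • a) φ (smul_dot ha c) * st (d • b) ψ (smul_dot hb d) * (st (c • a) φ (smul_dot ha c))⁻¹ *
      (st (d • b) ψ (smul_dot hb d))⁻¹ = st ((c * d * (φ ⬝ᵥ b)) • a) ψ (smul_dot hy _) := by
  rw [mul_inv_eq_iff_eq_mul, mul_inv_eq_iff_eq_mul]
  refine slExt ?_
  simp only [Matrix.SpecialLinearGroup.coe_mul, st_val, mul_add, add_mul, one_mul, mul_one, vecMulVec_mul_vecMulVec,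
    dotProduct_smul, smul_vecMulVec, vecMulVec_smul, smul_smul, smul_mul_assoc, mul_smul_comm, hy, hb, ha,
    mul_zero, zero_smul, smul_zero, vecMulVec_zero, smul_add, add_zero, zero_mul, smul_eq_mul]
  module

theorem pair_one {S : Set (Subgroup (Matrix.SpecialLinearGroup (Fin N) k))} {a φ b ψ : Fin N → k} (ha : φ ⬝ᵥ a = 0)
    (hb : ψ ⬝ᵥ b = 0) (hx : φ ⬝ᵥ b ≠ 0) (hy : ψ ⬝ᵥ a = 0) (hS : rg a ψ hy ∈ S) :
    RootCommutatorCase S (rg a φ ha) (rg b ψ hb) := by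
  have hbr : ⁅rg a φ ha, rg b ψ hb⁆ = rg a ψ hy := by
    refine le_antisymm (Subgroup.commutator_le.2 ?_) ?_
    · rintro _ ⟨c, rfl⟩ _ ⟨d, rfl⟩
      exact ⟨_, st_commutator ha hb hy c d⟩
    · rintro _ ⟨e, rfl⟩
      have h1 := Subgroup.commutator_mem_commutator (H₁ := rg a φ ha) (H₂ := rg b ψ hb)
        (show st ((e / (φ ⬝ᵥ b)) • a) φ (smul_dot ha _) ∈ rg a φ ha from ⟨_, rfl⟩)
        (show st ((1 : k) • b) ψ (smul_dot hb _) ∈ rg b ψ hb from ⟨_, rfl⟩)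
      rw [commutatorElement_def, st_commutator ha hb hy] at h1
      convert h1 using 1
      refine st_congr ?_
      rw [mul_one, div_mul_cancel₀ e hx]
  refine ⟨hbr.symm ▸ hS, ?_, ?_, ?_⟩
  · rw [hbr]
    rintro _ ⟨e, rfl⟩ x hx'
    have hle : rg a φ ha ⊔ rg b ψ hb ≤ Subgroup.centralizer {st (e • a) ψ (smul_dot hy e)} := by
      refine sup_le ?_ ?_ <;>
      · rintro _ ⟨c, rfl⟩
        rw [Subgroup.mem_centralizer_singleton_iff]
        refine slExt ?_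
        simp only [Matrix.SpecialLinearGroup.coe_mul, st_val, mul_add, add_mul, one_mul, mul_one, vecMulVec_mul_vecMulVec,
          dotProduct_smul, ha, hb, hy, smul_zero, zero_smul, vecMulVec_zero, add_zero]
        abel
    exact (Subgroup.mem_centralizer_singleton_iff.1 (hle hx')).symm
  · rintro _ ⟨c, rfl⟩ h1
    have hc : c ≠ 0 := fun h => h1 (slExt (by
      rw [st_val, h, zero_smul, zero_vecMulVec, add_zero, Matrix.SpecialLinearGroup.coe_one]))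
    rw [hbr]
    refine le_antisymm ((Subgroup.closure_le _).2 ?_) ?_
    · rintro _ ⟨_, ⟨d, rfl⟩, rfl⟩
      exact ⟨_, st_commutator ha hb hy c d⟩
    · rintro _ ⟨e, rfl⟩
      refine Subgroup.subset_closure ⟨_, ⟨e / (c * (φ ⬝ᵥ b)), rfl⟩, (st_commutator ha hb hy c _).trans (st_congr ?_)⟩
      congr 2
      field_simp
  · rintro _ ⟨d, rfl⟩ h1
    have hd : d ≠ 0 := fun h => h1 (slExt (by
      rw [st_val, h, zero_smul, zero_vecMulVec, add_zero, Matrix.SpecialLinearGroup.coe_one]))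
    rw [hbr]
    refine le_antisymm ((Subgroup.closure_le _).2 ?_) ?_
    · rintro _ ⟨_, ⟨c, rfl⟩, rfl⟩
      exact ⟨_, st_commutator ha hb hy c d⟩
    · rintro _ ⟨e, rfl⟩
      refine Subgroup.subset_closure ⟨_, ⟨e / (d * (φ ⬝ᵥ b)), rfl⟩, (st_commutator ha hb hy _ d).trans (st_congr ?_)⟩
      congr 2
      field_simp

theorem generated : Subgroup.closure {t : Matrix.SpecialLinearGroup (Fin N) k | ∃ a φ, ∃ i : Inc a φ, t = st a φ i.dot} = ⊤ := by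
  set K := Subgroup.closure {t : Matrix.SpecialLinearGroup (Fin N) k | ∃ a φ, ∃ i : Inc a φ, t = st a φ i.dot}
  refine top_le_iff.1 fun g _ => ?_
  have hle : Cfsg.Geo.specialLinear (Fin N) k ≤ K.map Matrix.SpecialLinearGroup.toGL := by
    refine CfsgLib.Maximal.specialLinear_le_of_elem _ fun i j hij c h => ?_
    refine ⟨st (Pi.single i 1) (Pi.single j c) h, ?_, Units.ext rfl⟩
    by_cases hc : c = 0
    · have : st (Pi.single i 1) (Pi.single j c) h = 1 := slExt (by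
        rw [st_val, hc, Pi.single_zero, vecMulVec_zero, add_zero, Matrix.SpecialLinearGroup.coe_one])
      rw [this]; exact one_mem _
    · exact Subgroup.subset_closure ⟨_, _, ⟨h, by simp, by simp [hc]⟩, rfl⟩
  obtain ⟨g', hg', he⟩ := hle ((CfsgLib.Maximal.mem_specialLinear_iff (Matrix.SpecialLinearGroup.toGL g)).2 g.2)
  have : g' = g := slExt (congrArg (fun t : GL (Fin N) k => (t : Matrix (Fin N) (Fin N) k)) he)
  exact this ▸ hg'

end TransvSL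

end CfsgLib.ThreeTransp
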