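import Cfsg.Agent.Lib.ThreeTransp.TransvSU

/-!
The Siegel transvection groups of the singular lines of a hyperbolic quadratic space as root subgroups.
-/

set_option autoImplicit false
set_option linter.unusedSectionVars false

namespace CfsgLib.ThreeTransp.TransvSiegel

open Cfsg Matrix CfsgLib.ThreeTransp.TransvSU

variable {F : Type*} [Field F] {k : ℕ}

/-- The space. -/
abbrev V (k : ℕ) (F : Type*) : Type _ := Fin k ⊕ Fin k → F

/-- The isometry group. -/
abbrev O (k : ℕ) (F : Type*) [Field F] : Subgroup (Matrix.GeneralLinearGroup (Fin k ⊕ Fin k) F) :=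
  Cfsg.isometryGroup F (Cfsg.quadFormPlus k F)

/-- The polar form. -/
def bf (x y : V k F) : F := ∑ i, (x (.inl i) * y (.inr i) + x (.inr i) * y (.inl i))

theorem qp_add (x y : V k F) :
    quadFormPlus k F (x + y) = quadFormPlus k F x + quadFormPlus k F y + bf x y := by
  simp only [quadFormPlus, bf, Pi.add_apply, ← Finset.sum_add_distrib]
  exact Finset.sum_congr rfl fun i _ => by ring

theorem qp_smul (c : F) (x : V k F) : quadFormPlus k F (c • x) = c * c * quadFormPlus k F x := by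
  simp only [quadFormPlus, Pi.smul_apply, smul_eq_mul, Finset.mul_sum]
  exact Finset.sum_congr rfl fun i _ => by ring

theorem bf_comm (x y : V k F) : bf x y = bf y x := Finset.sum_congr rfl fun i _ => by ring

theorem bf_add_left (x y z : V k F) : bf (x + y) z = bf x z + bf y z := by
  simp only [bf, Pi.add_apply, ← Finset.sum_add_distrib]
  exact Finset.sum_congr rfl fun i _ => by ring

theorem bf_smul_left (c : F) (x z : V k F) : bf (c • x) z = c * bf x z := by
  simp only [bf, Pi.smul_apply, smul_eq_mul, Finset.mul_sum]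
  exact Finset.sum_congr rfl fun i _ => by ring

theorem bf_add_right (x y z : V k F) : bf x (y + z) = bf x y + bf x z := by
  rw [bf_comm, bf_add_left, bf_comm y, bf_comm z]

theorem bf_smul_right (c : F) (x z : V k F) : bf x (c • z) = c * bf x z := by
  rw [bf_comm, bf_smul_left, bf_comm]

theorem bf_sub_left (x y z : V k F) : bf (x - y) z = bf x z - bf y z := by
  rw [sub_eq_add_neg, bf_add_left, ← neg_one_smul F y, bf_smul_left]; ring

theorem bf_sub_right (x y z : V k F) : bf x (y - z) = bf x y - bf x z := by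
  rw [bf_comm, bf_sub_left, bf_comm y, bf_comm z]

theorem bf_zero_left (x : V k F) : bf 0 x = 0 := by simp [bf]

theorem bf_zero_right (x : V k F) : bf x 0 = 0 := by simp [bf]

theorem bf_self (x : V k F) : bf x x = 2 * quadFormPlus k F x := by
  simp only [quadFormPlus, bf, Finset.mul_sum]
  exact Finset.sum_congr rfl fun i _ => by ring

theorem bf_sum_left {ι : Type*} (s : Finset ι) (f : ι → V k F) (z : V k F) :
    bf (∑ i ∈ s, f i) z = ∑ i ∈ s, bf (f i) z := by
  classical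
  induction s using Finset.induction_on with
  | empty => simp [bf_zero_left]
  | insert a s ha ih => rw [Finset.sum_insert ha, Finset.sum_insert ha, bf_add_left, ih]

theorem bf_sum_right {ι : Type*} (s : Finset ι) (f : ι → V k F) (z : V k F) :
    bf z (∑ i ∈ s, f i) = ∑ i ∈ s, bf z (f i) := by
  rw [bf_comm, bf_sum_left]
  exact Finset.sum_congr rfl fun i _ => bf_comm _ _

theorem bf_single (i : Fin k) (x : V k F) :
    bf (Pi.single (.inl i) 1) x = x (.inr i) ∧ bf (Pi.single (.inr i) 1) x = x (.inl i) := by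
  simp [bf, Pi.single_apply, Finset.sum_add_distrib]

theorem bf_ext {u v : V k F} (h : ∀ x, bf x u = bf x v) : u = v := by
  funext i
  rcases i with i | i
  · rw [← (bf_single i u).2, ← (bf_single i v).2]; exact h _
  · rw [← (bf_single i u).1, ← (bf_single i v).1]; exact h _

theorem exists_bf {m : ℕ} (f : Fin m → V k F) (hf : LinearIndependent F f) (c : Fin m → F) :
    ∃ x, ∀ i, bf x (f i) = c i := by
  let L : V k F →ₗ[F] (Fin m → F) :=
    { toFun := fun x i => bf x (f i)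
      map_add' := fun x y => funext fun i => bf_add_left x y _
      map_smul' := fun a x => funext fun i => bf_smul_left a x _ }
  have htop : LinearMap.range L = ⊤ := by
    by_contra hne
    obtain ⟨φ, hφ0, hφ⟩ := Submodule.exists_le_ker_of_lt_top _ (lt_top_iff_ne_top.2 hne)
    have hexp : ∀ y : Fin m → F, φ y = ∑ i, y i * φ (Pi.single i 1) := fun y => by
      conv_lhs => rw [pi_eq_sum_univ' y, map_sum]
      exact Finset.sum_congr rfl fun i _ => by rw [map_smul, smul_eq_mul]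
    have hsum : ∑ i, φ (Pi.single i 1) • f i = 0 := bf_ext fun x => by
      have h1 : φ (L x) = 0 := hφ ⟨x, rfl⟩
      rw [hexp] at h1
      rw [bf_zero_right, bf_sum_right, ← h1]
      exact Finset.sum_congr rfl fun i _ => by rw [bf_smul_right, mul_comm]; rfl
    refine hφ0 (LinearMap.ext fun y => ?_)
    rw [hexp, LinearMap.zero_apply]
    exact Finset.sum_eq_zero fun i _ => by
      rw [Fintype.linearIndependent_iff.1 hf _ hsum i, mul_zero]
  obtain ⟨x, hx⟩ := LinearMap.range_eq_top.1 htop c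
  exact ⟨x, fun i => congrFun hx i⟩

/-- A basis of a singular line. -/
structure SL (p r : V k F) : Prop where
  li : LinearIndependent F ![p, r]
  qp : quadFormPlus k F p = 0
  qr : quadFormPlus k F r = 0
  pr : bf p r = 0

theorem SL.rp {p r : V k F} (h : SL p r) : bf r p = 0 := by rw [bf_comm, h.pr]

theorem SL.pp {p r : V k F} (h : SL p r) : bf p p = 0 := by rw [bf_self, h.qp, mul_zero]

theorem SL.rr {p r : V k F} (h : SL p r) : bf r r = 0 := by rw [bf_self, h.qr, mul_zero]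

theorem sl_iff {p r : V k F} : SL p r ↔ LinearIndependent F ![p, r] ∧ quadFormPlus k F p = 0 ∧
    quadFormPlus k F r = 0 ∧ quadFormPlus k F (p + r) = 0 := by
  constructor
  · exact fun h => ⟨h.li, h.qp, h.qr, by rw [qp_add, h.qp, h.qr, h.pr, add_zero, add_zero]⟩
  · rintro ⟨h1, h2, h3, h4⟩
    exact ⟨h1, h2, h3, by rwa [qp_add, h2, h3, zero_add, zero_add] at h4⟩

theorem SL.dual {p r : V k F} (h : SL p r) :
    ∃ x y, bf x p = 1 ∧ bf x r = 0 ∧ bf y p = 0 ∧ bf y r = 1 := by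
  obtain ⟨x, hx⟩ := exists_bf ![p, r] h.li ![1, 0]
  obtain ⟨y, hy⟩ := exists_bf ![p, r] h.li ![0, 1]
  exact ⟨x, y, hx 0, hx 1, hy 0, hy 1⟩

theorem SL.comb {p r : V k F} (h : SL p r) {a b c e : F} (hd : a * e - b * c ≠ 0) :
    SL (a • p + b • r) (c • p + e • r) := by
  refine ⟨LinearIndependent.pair_iff.2 fun s t hst => ?_, ?_, ?_, ?_⟩
  · have h1 : (s * a + t * c) • p + (s * b + t * e) • r = 0 := by rw [← hst]; module
    obtain ⟨e1, e2⟩ := LinearIndependent.pair_iff.1 h.li _ _ h1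
    exact ⟨(mul_eq_zero.1 (show s * (a * e - b * c) = 0 by linear_combination e * e1 - c * e2)).resolve_right hd,
      (mul_eq_zero.1 (show t * (a * e - b * c) = 0 by linear_combination a * e2 - b * e1)).resolve_right hd⟩
  all_goals simp only [qp_add, qp_smul, bf_add_left, bf_add_right, bf_smul_left, bf_smul_right, h.qp, h.qr, h.pr,
    h.rp, h.pp, h.rr]; ring

/-- The effect of a Siegel transvection. -/
def sh (p r : V k F) (a : F) (x : V k F) : V k F := x + a • (bf x r • p - bf x p • r)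

theorem sh_zero (p r x : V k F) : sh p r 0 x = x := by simp [sh]

theorem sh_add {p r : V k F} (h : SL p r) (a b : F) (x : V k F) :
    sh p r a (sh p r b x) = sh p r (a + b) x := by
  simp only [sh, bf_add_left, bf_sub_left, bf_smul_left, h.pp, h.rr, h.pr, h.rp]
  module

theorem iso_mulVec (g : O k F) (x : V k F) : quadFormPlus k F (g.1.1 *ᵥ x) = quadFormPlus k F x := g.2 x x

theorem iso_ext {g h : O k F} (he : ∀ x, g.1.1 *ᵥ x = h.1.1 *ᵥ x) : g = h :=
  Subtype.ext (Units.ext (Matrix.ext_iff_mulVec.2 he))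

theorem iso_mul (g h : O k F) (x : V k F) : (g * h).1.1 *ᵥ x = g.1.1 *ᵥ (h.1.1 *ᵥ x) := by
  rw [mulVec_mulVec]; rfl

theorem iso_one (x : V k F) : (1 : O k F).1.1 *ᵥ x = x := one_mulVec x

theorem iso_bf (g : O k F) (x y : V k F) : bf (g.1.1 *ᵥ x) (g.1.1 *ᵥ y) = bf x y := by
  have h1 := qp_add (g.1.1 *ᵥ x) (g.1.1 *ᵥ y)
  rw [← mulVec_add, iso_mulVec, iso_mulVec, iso_mulVec, qp_add] at h1
  linear_combination -h1

theorem iso_mk (f f' : V k F →ₗ[F] V k F) (h1 : ∀ x, f (f' x) = x) (h2 : ∀ x, f' (f x) = x)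
    (hq : ∀ x, quadFormPlus k F (f x) = quadFormPlus k F x) :
    ∃ g : O k F, ∀ x, g.1.1 *ᵥ x = f x := by
  have hm : ∀ (e : V k F →ₗ[F] V k F) x, LinearMap.toMatrix' e *ᵥ x = e x := fun e x => by
    rw [← Matrix.toLin'_apply, Matrix.toLin'_toMatrix']
  refine ⟨⟨⟨LinearMap.toMatrix' f, LinearMap.toMatrix' f', ?_, ?_⟩, fun u v => ?_⟩, fun x => hm f x⟩
  · rw [← LinearMap.toMatrix'_mul, show f * f' = 1 from LinearMap.ext h1, LinearMap.toMatrix'_one]
  · rw [← LinearMap.toMatrix'_mul, show f' * f = 1 from LinearMap.ext h2, LinearMap.toMatrix'_one]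
  · show quadFormPlus k F (LinearMap.toMatrix' f *ᵥ u) = _
    rw [hm, hq]

/-- The transvection group of a line. -/
def tl {p r : V k F} (h : SL p r) : Subgroup (O k F) where
  carrier := {g | ∃ a, ∀ x, g.1.1 *ᵥ x = sh p r a x}
  mul_mem' := by
    rintro g g' ⟨a, ha⟩ ⟨b, hb⟩
    exact ⟨a + b, fun x => by rw [iso_mul, hb, ha, sh_add h]⟩
  one_mem' := ⟨0, fun x => by rw [iso_one, sh_zero]⟩
  inv_mem' := by
    rintro g ⟨a, ha⟩
    refine ⟨-a, fun x => ?_⟩
    have h1 : g.1.1 *ᵥ sh p r (-a) x = x := by rw [ha, sh_add h, add_neg_cancel, sh_zero]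
    conv_lhs => rw [← h1, ← iso_mul, inv_mul_cancel, iso_one]

theorem tl_exists {p r : V k F} (h : SL p r) (a : F) :
    ∃ g : O k F, ∀ x, g.1.1 *ᵥ x = sh p r a x := by
  let f : F → V k F →ₗ[F] V k F := fun a =>
    { toFun := sh p r a
      map_add' := fun x y => by simp only [sh, bf_add_left]; module
      map_smul' := fun c x => by simp only [sh, bf_smul_left, RingHom.id_apply]; module }
  refine iso_mk (f a) (f (-a)) (fun x => ?_) (fun x => ?_) (fun x => ?_)
  · show sh p r a (sh p r (-a) x) = x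
    rw [sh_add h, add_neg_cancel, sh_zero]
  · show sh p r (-a) (sh p r a x) = x
    rw [sh_add h, neg_add_cancel, sh_zero]
  · show quadFormPlus k F (sh p r a x) = _
    simp only [sh, sub_eq_add_neg, ← neg_smul, qp_add, qp_smul, bf_add_right, bf_smul_right,
      bf_smul_left, h.qp, h.qr, h.pr]
    ring

theorem stated_group {p r : V k F} (h : SL p r) :
    Subgroup.closure {σ : ↥(O k F) | ∀ v : V k F,
      quadFormPlus k F (v + p) - quadFormPlus k F v - quadFormPlus k F p = 0 →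
      quadFormPlus k F (v + r) - quadFormPlus k F v - quadFormPlus k F r = 0 →
        ((σ : Matrix.GeneralLinearGroup (Fin k ⊕ Fin k) F) : Matrix (Fin k ⊕ Fin k) (Fin k ⊕ Fin k) F) *ᵥ v = v}
      = tl h := by
  refine (congrArg Subgroup.closure ?_).trans (Subgroup.closure_eq _)
  ext g
  have hb : ∀ v w : V k F, quadFormPlus k F (v + w) - quadFormPlus k F v - quadFormPlus k F w = bf v w :=
    fun v w => by rw [qp_add]; ring
  simp only [hb]
  constructor
  · intro hg
    obtain ⟨x1, x2, a1, a2, a3, a4⟩ := h.dual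
    set u := g.1.1 *ᵥ x1 - x1 with hu
    set w := g.1.1 *ᵥ x2 - x2 with hw
    have hgv : ∀ v, g.1.1 *ᵥ v = v + (bf v p • u + bf v r • w) := fun v => by
      have h3 := hg (v - bf v p • x1 - bf v r • x2)
        (by rw [bf_sub_left, bf_sub_left, bf_smul_left, bf_smul_left, a1, a3]; ring)
        (by rw [bf_sub_left, bf_sub_left, bf_smul_left, bf_smul_left, a2, a4]; ring)
      rw [mulVec_sub, mulVec_sub, mulVec_smul, mulVec_smul] at h3
      rw [hu, hw]
      linear_combination (norm := module) h3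
    have hfix : ∀ z, bf z p = 0 → bf z r = 0 → bf z u = 0 ∧ bf z w = 0 := fun z z1 z2 => by
      have hz := hg z z1 z2
      have e1 := iso_bf g z x1
      have e2 := iso_bf g z x2
      rw [hz] at e1 e2
      exact ⟨by rw [hu, bf_sub_right, e1, sub_self], by rw [hw, bf_sub_right, e2, sub_self]⟩
    have hspan : ∀ u', (∀ z, bf z p = 0 → bf z r = 0 → bf z u' = 0) →
        u' = bf x1 u' • p + bf x2 u' • r := fun u' hu' => bf_ext fun z => by
      have h3 := hu' (z - bf z p • x1 - bf z r • x2)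
        (by rw [bf_sub_left, bf_sub_left, bf_smul_left, bf_smul_left, a1, a3]; ring)
        (by rw [bf_sub_left, bf_sub_left, bf_smul_left, bf_smul_left, a2, a4]; ring)
      rw [bf_sub_left, bf_sub_left, bf_smul_left, bf_smul_left] at h3
      rw [bf_add_right, bf_smul_right, bf_smul_right]
      linear_combination h3
    have hu' := hspan u fun z z1 z2 => (hfix z z1 z2).1
    have hw' := hspan w fun z z1 z2 => (hfix z z1 z2).2
    generalize bf x1 u = a, bf x2 u = b at hu'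
    generalize bf x1 w = c, bf x2 w = e at hw'
    rw [hu', hw'] at hgv
    have hq : ∀ v, bf v (bf v p • (a • p + b • r) + bf v r • (c • p + e • r)) = 0 := fun v => by
      have h3 := iso_mulVec g v
      rw [hgv, qp_add v] at h3
      simp only [qp_add, qp_smul, bf_add_left, bf_add_right, bf_smul_left, bf_smul_right, h.qp, h.qr,
        h.pr, h.rp, h.pp, h.rr] at h3 ⊢
      linear_combination h3
    have q1 := hq x1
    have q2 := hq x2
    have q3 := hq (x1 + x2)
    simp only [bf_add_left, bf_add_right, bf_smul_right, a1, a2, a3, a4] at q1 q2 q3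
    have ea : a = 0 := by linear_combination q1
    have ee : e = 0 := by linear_combination q2
    have ec : c = -b := by linear_combination q3 - q1 - q2
    exact ⟨-b, fun v => by rw [hgv, sh, ea, ee, ec]; module⟩
  · rintro ⟨a, ha⟩ v v1 v2
    rw [ha, sh, v1, v2, zero_smul, zero_smul, sub_zero, smul_zero, add_zero]

theorem tl_conj {p r : V k F} (h : SL p r) (g : O k F) :
    ∃ h' : SL (g.1.1 *ᵥ p) (g.1.1 *ᵥ r), conjBy (tl h) g = tl h' := by
  have hi : ∀ x, g.1.1 *ᵥ ((g⁻¹).1.1 *ᵥ x) = x := fun x => by rw [← iso_mul, mul_inv_cancel, iso_one]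
  have hi' : ∀ x, (g⁻¹).1.1 *ᵥ (g.1.1 *ᵥ x) = x := fun x => by rw [← iso_mul, inv_mul_cancel, iso_one]
  have h' : SL (g.1.1 *ᵥ p) (g.1.1 *ᵥ r) :=
    ⟨LinearIndependent.pair_iff.2 fun s t hst => LinearIndependent.pair_iff.1 h.li s t (by
      have h1 := congrArg (fun z => (g⁻¹).1.1 *ᵥ z) hst
      simpa only [mulVec_add, mulVec_smul, hi', mulVec_zero] using h1),
      by rw [iso_mulVec, h.qp], by rw [iso_mulVec, h.qr], by rw [iso_bf, h.pr]⟩
  refine ⟨h', ?_⟩
  have hb : ∀ x y : V k F, bf ((g⁻¹).1.1 *ᵥ x) y = bf x (g.1.1 *ᵥ y) := fun x y => by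
    rw [← iso_bf g, hi]
  ext x
  constructor
  · rintro ⟨y, ⟨a, ha⟩, rfl⟩
    refine ⟨a, fun z => ?_⟩
    show (g * y * g⁻¹).1.1 *ᵥ z = _
    simp only [iso_mul, ha, sh, mulVec_add, mulVec_smul, mulVec_sub, hi, hb]
  · rintro ⟨a, ha⟩
    obtain ⟨y, hy⟩ := tl_exists h a
    refine ⟨y, ⟨a, hy⟩, iso_ext fun z => ?_⟩
    show (g * y * g⁻¹).1.1 *ᵥ z = _
    simp only [iso_mul, ha, hy, sh, mulVec_add, mulVec_smul, mulVec_sub, hi, hb]

theorem tl_congr {p r p' r' : V k F} (e1 : p = p') (e2 : r = r') (h : SL p r) (h' : SL p' r') :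
    tl h = tl h' := by
  subst e1; subst e2; rfl

theorem tl_comb {p r : V k F} (h : SL p r) {a b c e : F} (hd : a * e - b * c ≠ 0)
    (h' : SL (a • p + b • r) (c • p + e • r)) : tl h' = tl h := by
  have key : ∀ s x, sh (a • p + b • r) (c • p + e • r) s x = sh p r (s * (a * e - b * c)) x := fun s x => by
    simp only [sh, bf_add_right, bf_smul_right]; module
  ext g
  constructor
  · rintro ⟨s, hs⟩; exact ⟨_, fun x => (hs x).trans (key s x)⟩
  · rintro ⟨s, hs⟩
    exact ⟨s / (a * e - b * c), fun x => by rw [hs, key, div_mul_cancel₀ _ hd]⟩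

theorem tl_ne_bot {p r : V k F} (h : SL p r) : tl h ≠ ⊥ := by
  intro he
  obtain ⟨g, hg⟩ := tl_exists h 1
  have h1 : g ∈ tl h := ⟨1, hg⟩
  rw [he, Subgroup.mem_bot] at h1
  obtain ⟨x, -, a1, a2, -, -⟩ := h.dual
  have h2 := hg x
  rw [h1, iso_one, sh, a1, a2, zero_smul, zero_sub, one_smul, one_smul, left_eq_add, neg_eq_zero] at h2
  exact h.li.ne_zero 1 h2

theorem tl_comm {p r : V k F} (h : SL p r) : IsMulCommutative (tl h) := by
  refine ⟨⟨fun x y => Subtype.ext (iso_ext fun z => ?_)⟩⟩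
  obtain ⟨a, ha⟩ := x.2
  obtain ⟨b, hb⟩ := y.2
  show ((x : O k F) * y).1.1 *ᵥ z = ((y : O k F) * x).1.1 *ᵥ z
  rw [iso_mul, iso_mul, hb, ha, hb, ha, sh_add h, sh_add h, add_comm]

/-- Bases with the pairing concentrated on the last vectors. -/
theorem adapt {p1 r1 p2 r2 : V k F} (h1 : SL p1 r1) (h2 : SL p2 r2)
    (hd : bf p1 p2 * bf r1 r2 = bf p1 r2 * bf r1 p2) :
    ∃ (P1 R1 P2 R2 : V k F) (g1 : SL P1 R1) (g2 : SL P2 R2), tl g1 = tl h1 ∧ tl g2 = tl h2 ∧
      bf P1 P2 = 0 ∧ bf P1 R2 = 0 ∧ bf R1 P2 = 0 := by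
  have mk : ∀ a b c e a' b' c' e' : F, a * e - b * c ≠ 0 → a' * e' - b' * c' ≠ 0 →
      a * a' * bf p1 p2 + a * b' * bf p1 r2 + b * a' * bf r1 p2 + b * b' * bf r1 r2 = 0 →
      a * c' * bf p1 p2 + a * e' * bf p1 r2 + b * c' * bf r1 p2 + b * e' * bf r1 r2 = 0 →
      c * a' * bf p1 p2 + c * b' * bf p1 r2 + e * a' * bf r1 p2 + e * b' * bf r1 r2 = 0 →
      ∃ (P1 R1 P2 R2 : V k F) (g1 : SL P1 R1) (g2 : SL P2 R2), tl g1 = tl h1 ∧ tl g2 = tl h2 ∧
        bf P1 P2 = 0 ∧ bf P1 R2 = 0 ∧ bf R1 P2 = 0 := by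
    intro a b c e a' b' c' e' hd1 hd2 z1 z2 z3
    refine ⟨_, _, _, _, h1.comb hd1, h2.comb hd2, tl_comb h1 hd1 _, tl_comb h2 hd2 _, ?_, ?_, ?_⟩ <;>
      simp only [bf_add_left, bf_add_right, bf_smul_left, bf_smul_right]
    · linear_combination z1
    · linear_combination z2
    · linear_combination z3
  generalize hA : bf p1 p2 = A, hB : bf p1 r2 = B, hC : bf r1 p2 = C, hE : bf r1 r2 = E at hd mk
  by_cases hA0 : A = 0
  · subst hA0
    have hbc : B * C = 0 := by linear_combination -hd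
    by_cases hB0 : B = 0
    · subst hB0
      by_cases hC0 : C = 0
      · subst hC0
        exact mk 1 0 0 1 1 0 0 1 (by simp) (by simp) (by ring) (by ring) (by ring)
      · refine mk 1 0 0 1 (-(E / C)) 1 1 0 (by simp) (by simp) (by ring) (by ring) ?_
        field_simp; ring
    · have hC0 : C = 0 := (mul_eq_zero.1 hbc).resolve_left hB0
      subst hC0
      refine mk (-(E / B)) 1 1 0 1 0 0 1 (by simp) (by simp) (by ring) ?_ (by ring)
      field_simp; ring
  · refine mk (-(C / A)) 1 1 0 (-(B / A)) 1 1 0 (by simp) (by simp) ?_ ?_ ?_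
    · field_simp; linear_combination hd
    · field_simp; ring
    · field_simp; ring

/-- The third line of a special pair. -/
theorem third_line {P1 R1 P2 R2 : V k F} (g1 : SL P1 R1) (g2 : SL P2 R2) (z : bf P1 P2 = 0)
    (hi : ∀ μ : F, P2 ≠ μ • P1) : SL P1 P2 := by
  refine ⟨?_, g1.qp, g2.qp, z⟩
  rw [LinearIndependent.pair_iff]
  intro s t hst
  have ht : t = 0 := by
    by_contra ht
    refine hi (-(s / t)) ?_
    have h1 : t • P2 = -(s • P1) := eq_neg_of_add_eq_zero_right hst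
    calc P2 = t⁻¹ • (t • P2) := (inv_smul_smul₀ ht P2).symm
      _ = -(s / t) • P1 := by rw [h1, smul_neg, smul_smul, neg_smul, div_eq_inv_mul]
  rw [ht, zero_smul, add_zero, smul_eq_zero] at hst
  exact ⟨hst.resolve_right (g1.li.ne_zero 0), ht⟩

/-- The action of `SL₂` on a pair of opposite lines. -/
def act (e1 e2 f1 f2 : V k F) (M : Matrix (Fin 2) (Fin 2) F) (x : V k F) : V k F :=
  x + (((M 0 0 - 1) * bf x f1 + M 0 1 * bf x e2) • e1 + ((M 0 0 - 1) * bf x f2 - M 0 1 * bf x e1) • e2 +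
    (-(M 1 0 * bf x f2) + (M 1 1 - 1) * bf x e1) • f1 + (M 1 0 * bf x f1 + (M 1 1 - 1) * bf x e2) • f2)

theorem act_hom {e1 e2 f1 f2 : V k F} (he : SL e1 e2) (hf : SL f1 f2) (a11 : bf e1 f1 = 1)
    (a12 : bf e1 f2 = 0) (a21 : bf e2 f1 = 0) (a22 : bf e2 f2 = 1) :
    ∃ f : Matrix.SpecialLinearGroup (Fin 2) F →* O k F, Function.Injective f ∧
      (upperUnipotentSL2 F).map f = tl he ∧ (lowerUnipotentSL2 F).map f = tl hf := by
  have b11 : bf f1 e1 = 1 := by rw [bf_comm, a11]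
  have b12 : bf f2 e1 = 0 := by rw [bf_comm, a12]
  have b21 : bf f1 e2 = 0 := by rw [bf_comm, a21]
  have b22 : bf f2 e2 = 1 := by rw [bf_comm, a22]
  have hmul : ∀ (M N : Matrix (Fin 2) (Fin 2) F) x,
      act e1 e2 f1 f2 (M * N) x = act e1 e2 f1 f2 M (act e1 e2 f1 f2 N x) := fun M N x => by
    simp only [act, Matrix.mul_apply, Fin.sum_univ_two, bf_add_left, bf_smul_left, he.pp, he.rr, he.pr, he.rp,
      hf.pp, hf.rr, hf.pr, hf.rp, a11, a12, a21, a22, b11, b12, b21, b22]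
    module
  have hone : ∀ x, act e1 e2 f1 f2 1 x = x := fun x => by simp [act]
  let L : Matrix.SpecialLinearGroup (Fin 2) F → V k F →ₗ[F] V k F := fun M =>
    { toFun := act e1 e2 f1 f2 M.1
      map_add' := fun x y => by simp only [act, bf_add_left]; module
      map_smul' := fun c x => by simp only [act, bf_smul_left, RingHom.id_apply]; module }
  have hex : ∀ M : Matrix.SpecialLinearGroup (Fin 2) F, ∃ g : O k F,
      ∀ x, g.1.1 *ᵥ x = act e1 e2 f1 f2 M.1 x := fun M => by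
    refine iso_mk (L M) (L M⁻¹) (fun x => ?_) (fun x => ?_) (fun x => ?_)
    · show act e1 e2 f1 f2 M.1 (act e1 e2 f1 f2 (M⁻¹).1 x) = x
      rw [← hmul, ← Matrix.SpecialLinearGroup.coe_mul, mul_inv_cancel, Matrix.SpecialLinearGroup.coe_one, hone]
    · show act e1 e2 f1 f2 (M⁻¹).1 (act e1 e2 f1 f2 M.1 x) = x
      rw [← hmul, ← Matrix.SpecialLinearGroup.coe_mul, inv_mul_cancel, Matrix.SpecialLinearGroup.coe_one, hone]
    · show quadFormPlus k F (act e1 e2 f1 f2 M.1 x) = _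
      have hdet : M.1 0 0 * M.1 1 1 - M.1 0 1 * M.1 1 0 = 1 := by
        have h0 := M.2; rwa [Matrix.det_fin_two] at h0
      simp only [act, qp_add, qp_smul, bf_add_left, bf_add_right, bf_smul_left, bf_smul_right, he.qp, he.qr,
        hf.qp, hf.qr, he.pr, hf.pr, a11, a12, a21, a22]
      linear_combination (bf x f1 * bf x e1 + bf x f2 * bf x e2) * hdet
  choose f hfun using hex
  let φ : Matrix.SpecialLinearGroup (Fin 2) F →* O k F := MonoidHom.mk' f fun M N =>
    iso_ext fun x => by rw [iso_mul, hfun, hfun, hfun, Matrix.SpecialLinearGroup.coe_mul, hmul]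
  have hφ : ∀ M x, (φ M).1.1 *ᵥ x = act e1 e2 f1 f2 M.1 x := hfun
  have hU : ∀ t x, act e1 e2 f1 f2 (sl2U F t).1 x = sh e1 e2 t x := fun t x => by
    simp only [act, sh, sl2U_val, Matrix.of_apply, Matrix.cons_val', Matrix.cons_val_zero, Matrix.cons_val_one]
    module
  have hL : ∀ t x, act e1 e2 f1 f2 (sl2L F t).1 x = sh f1 f2 (-t) x := fun t x => by
    simp only [act, sh, sl2L_val, Matrix.of_apply, Matrix.cons_val', Matrix.cons_val_zero, Matrix.cons_val_one]
    module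
  refine ⟨φ, fun M N hMN => ?_, ?_, ?_⟩
  · have hact : ∀ x, act e1 e2 f1 f2 M.1 x = act e1 e2 f1 f2 N.1 x := fun x => by rw [← hφ, ← hφ, hMN]
    have c1 := congrArg (fun w => bf w f1) (hact e1)
    have c2 := congrArg (fun w => bf w e2) (hact e1)
    have c3 := congrArg (fun w => bf w f1) (hact f2)
    have c4 := congrArg (fun w => bf w e2) (hact f2)
    simp [act, bf_add_left, bf_smul_left, he.pp, he.rr, he.pr, he.rp, hf.pp, hf.rr, hf.pr, hf.rp,
      a11, a12, a21, a22, b11, b12, b21, b22] at c1 c2 c3 c4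
    refine Subtype.ext ?_
    ext i j
    fin_cases i <;> fin_cases j <;> assumption
  · ext g
    constructor
    · rintro ⟨M, hM, rfl⟩
      obtain ⟨t, rfl⟩ := (mem_upperUnipotentSL2 F).1 hM
      exact ⟨t, fun x => (hφ _ x).trans (hU t x)⟩
    · rintro ⟨t, ht⟩
      exact ⟨sl2U F t, (mem_upperUnipotentSL2 F).2 ⟨t, rfl⟩, iso_ext fun x => by rw [hφ, hU, ht]⟩
  · ext g
    constructor
    · rintro ⟨M, hM, rfl⟩
      obtain ⟨t, rfl⟩ := (mem_lowerUnipotentSL2 F).1 hM
      exact ⟨-t, fun x => (hφ _ x).trans (hL t x)⟩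
    · rintro ⟨t, ht⟩
      exact ⟨sl2L F (-t), (mem_lowerUnipotentSL2 F).2 ⟨-t, rfl⟩,
        iso_ext fun x => by rw [hφ, hL, ht, neg_neg]⟩

/-- Opposite lines. -/
theorem tl_opposite {p1 r1 p2 r2 : V k F} (h1 : SL p1 r1) (h2 : SL p2 r2)
    (hd : bf p1 p2 * bf r1 r2 ≠ bf p1 r2 * bf r1 p2) :
    IsRankOnePair (tl h1) (tl h2) ∧ ∃ f : Matrix.SpecialLinearGroup (Fin 2) F →* O k F,
      Function.Injective f ∧ (upperUnipotentSL2 F).map f = tl h1 ∧ (lowerUnipotentSL2 F).map f = tl h2 := by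
  generalize hA : bf p1 p2 = A, hB : bf p1 r2 = B, hC : bf r1 p2 = C, hE : bf r1 r2 = E at hd
  have hΔ : A * E - B * C ≠ 0 := sub_ne_zero.2 hd
  generalize hΔd : A * E - B * C = Δ at hΔ
  have hne : E / Δ * (A / Δ) - -B / Δ * (-C / Δ) ≠ 0 := by
    rw [show E / Δ * (A / Δ) - -B / Δ * (-C / Δ) = (A * E - B * C) / (Δ * Δ) by ring, hΔd]
    exact div_ne_zero hΔ (mul_ne_zero hΔ hΔ)
  obtain ⟨f, hf, hU, hL⟩ := act_hom (h1.comb hne) h2
    (by simp only [bf_add_left, bf_smul_left, hA, hC]; field_simp; linear_combination hΔd)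
    (by simp only [bf_add_left, bf_smul_left, hB, hE]; field_simp; ring)
    (by simp only [bf_add_left, bf_smul_left, hA, hC]; field_simp; ring)
    (by simp only [bf_add_left, bf_smul_left, hB, hE]; field_simp; linear_combination hΔd)
  rw [tl_comb h1 hne] at hU
  exact ⟨hU ▸ hL ▸ rop_symm (rop_map (sl2_rankOnePair F).1 f hf), f, hf, hU, hL⟩

theorem tl_comm_special {P1 R1 P2 R2 : V k F} (g1 : SL P1 R1) (g2 : SL P2 R2) (z1 : bf P1 P2 = 0)
    (z2 : bf P1 R2 = 0) (z3 : bf R1 P2 = 0) (h : bf R1 R2 = 0 ∨ ∃ μ : F, P2 = μ • P1) :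
    ⁅tl g1, tl g2⁆ = ⊥ := by
  refine bot_of_comm ?_
  rintro u ⟨a, ha⟩ w ⟨b, hb⟩
  refine iso_ext fun x => ?_
  rw [iso_mul, iso_mul, ha, hb, hb, ha]
  have w1 : bf P2 P1 = 0 := by rw [bf_comm, z1]
  have w2 : bf R2 P1 = 0 := by rw [bf_comm, z2]
  have w3 : bf P2 R1 = 0 := by rw [bf_comm, z3]
  rcases h with h | ⟨μ, rfl⟩
  · have w4 : bf R2 R1 = 0 := by rw [bf_comm, h]
    simp only [sh, bf_add_left, bf_sub_left, bf_smul_left, z1, z2, z3, h, w1, w2, w3, w4]
    module
  · have w4 : bf R2 R1 = bf R1 R2 := bf_comm _ _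
    simp only [sh, bf_add_left, bf_sub_left, bf_smul_left, bf_smul_right, g1.pp, g1.pr, g1.rp, z2, w2, w4]
    module

/-- The set of transvection groups. -/
def lineSet (k : ℕ) (F : Type*) [Field F] : Set (Subgroup (O k F)) :=
  {A | ∃ p r : V k F, ∃ h : SL p r, A = tl h}

theorem tl_special {P1 R1 P2 R2 : V k F} (g1 : SL P1 R1) (g2 : SL P2 R2) (z1 : bf P1 P2 = 0)
    (z2 : bf P1 R2 = 0) (z3 : bf R1 P2 = 0) (hβ : bf R1 R2 ≠ 0) (hi : ∀ μ : F, P2 ≠ μ • P1) :
    RootCommutatorCase (lineSet k F) (tl g1) (tl g2) := by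
  have g3 := third_line g1 g2 z1 hi
  have w1 : bf P2 P1 = 0 := by rw [bf_comm, z1]
  have w2 : bf R2 P1 = 0 := by rw [bf_comm, z2]
  have w3 : bf P2 R1 = 0 := by rw [bf_comm, z3]
  have w4 : bf R2 R1 = bf R1 R2 := bf_comm _ _
  have hcomm : ∀ u w : O k F, ∀ a b : F, (∀ x, u.1.1 *ᵥ x = sh P1 R1 a x) → (∀ x, w.1.1 *ᵥ x = sh P2 R2 b x) →
      ∀ x, (u * w * u⁻¹ * w⁻¹).1.1 *ᵥ x = sh P1 P2 (-(a * b * bf R1 R2)) x := by
    intro u w a b hu hw x
    obtain ⟨t, ht⟩ := tl_exists g3 (-(a * b * bf R1 R2))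
    have e : u * w = t * (w * u) := iso_ext fun y => by
      rw [iso_mul, iso_mul, iso_mul, hw, hu, hu, hw, ht]
      simp only [sh, bf_add_left, bf_sub_left, bf_smul_left, z1, z2, z3, w1, w2, w3, w4,
        g2.pp, g2.pr, g2.rp, g1.pp, g1.pr, g1.rp]
      module
    rw [show u * w * u⁻¹ * w⁻¹ = t by rw [e]; simp [mul_assoc], ht]
  have key : ⁅tl g1, tl g2⁆ = tl g3 ∧
      (∀ u ∈ tl g1, u ≠ 1 → Subgroup.closure ((fun w => u * w * u⁻¹ * w⁻¹) '' (tl g2 : Set (O k F))) = tl g3) ∧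
      (∀ w ∈ tl g2, w ≠ 1 → Subgroup.closure ((fun u => u * w * u⁻¹ * w⁻¹) '' (tl g1 : Set (O k F))) = tl g3) := by
    have hle : ⁅tl g1, tl g2⁆ ≤ tl g3 := by
      rw [Subgroup.commutator_le]
      rintro u ⟨a, ha⟩ w ⟨b, hb⟩
      exact ⟨_, hcomm u w a b ha hb⟩
    have hA : ∀ u ∈ tl g1, u ≠ 1 →
        Subgroup.closure ((fun w => u * w * u⁻¹ * w⁻¹) '' (tl g2 : Set (O k F))) = tl g3 := by
      intro u hu hu1
      obtain ⟨a, ha⟩ := hu
      have ha0 : a ≠ 0 := fun e => hu1 (iso_ext fun x => by rw [ha, e, sh_zero, iso_one])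
      refine le_antisymm ((Subgroup.closure_le _).2 ?_) fun t ht => ?_
      · rintro _ ⟨w, ⟨b, hb⟩, rfl⟩
        exact ⟨_, hcomm u w a b ha hb⟩
      · obtain ⟨s, hs⟩ := ht
        obtain ⟨w, hw⟩ := tl_exists g2 (-s / (a * bf R1 R2))
        refine Subgroup.subset_closure ⟨w, ⟨_, hw⟩, iso_ext fun x => ?_⟩
        show (u * w * u⁻¹ * w⁻¹).1.1 *ᵥ x = _
        rw [hcomm u w a _ ha hw, hs]
        congr 1
        field_simp
    refine ⟨le_antisymm hle ?_, hA, fun w hw hw1 => ?_⟩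
    · obtain ⟨u, hu⟩ := tl_exists g1 1
      have hu1 : u ≠ 1 := fun e => by
        obtain ⟨x, -, a1, a2, -, -⟩ := g1.dual
        have h2 := hu x
        rw [e, iso_one, sh, a1, a2, zero_smul, zero_sub, one_smul, one_smul, left_eq_add, neg_eq_zero] at h2
        exact g1.li.ne_zero 1 h2
      rw [← hA u ⟨1, hu⟩ hu1, Subgroup.closure_le]
      rintro _ ⟨w, hw, rfl⟩
      exact Subgroup.commutator_mem_commutator ⟨1, hu⟩ hw
    · obtain ⟨b, hb⟩ := hw
      have hb0 : b ≠ 0 := fun e => hw1 (iso_ext fun x => by rw [hb, e, sh_zero, iso_one])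
      refine le_antisymm ((Subgroup.closure_le _).2 ?_) fun t ht => ?_
      · rintro _ ⟨u, ⟨a, ha⟩, rfl⟩
        exact ⟨_, hcomm u w a b ha hb⟩
      · obtain ⟨s, hs⟩ := ht
        obtain ⟨u, hu⟩ := tl_exists g1 (-s / (b * bf R1 R2))
        refine Subgroup.subset_closure ⟨u, ⟨_, hu⟩, iso_ext fun x => ?_⟩
        show (u * w * u⁻¹ * w⁻¹).1.1 *ᵥ x = _
        rw [hcomm u w _ b hu hb, hs]
        congr 1
        field_simp
  obtain ⟨hk, hk1, hk2⟩ := key
  refine ⟨⟨_, _, g3, hk⟩, fun c hc x hx => ?_, fun u hu hu1 => by rw [hk1 u hu hu1, hk], fun w hw hw1 => by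
    rw [hk2 w hw hw1, hk]⟩
  rw [hk] at hc
  refine commute_sup (fun u hu => ?_) (fun u hu => ?_) x hx
  · exact comm_of_bot (tl_comm_special g3 g1 g1.pp g1.pr (by rw [bf_comm, z1]) (Or.inl w3)) hc hu
  · have h3 : SL P2 P1 := ⟨(LinearIndependent.pair_symm_iff).1 g3.li, g2.qp, g1.qp, w1⟩
    have e : tl h3 = tl g3 := by
      have hd : (0 : F) * 0 - 1 * 1 ≠ 0 := by simp
      rw [← tl_comb g3 hd (g3.comb hd)]
      exact tl_congr (by module) (by module) _ _
    exact comm_of_bot (tl_comm_special h3 g2 g2.pp g2.pr z1 (Or.inl z2)) (e.symm ▸ hc) hu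

theorem tl_pair {p1 r1 p2 r2 : V k F} (h1 : SL p1 r1) (h2 : SL p2 r2) :
    ⁅tl h1, tl h2⁆ = ⊥ ∨ RootCommutatorCase (lineSet k F) (tl h1) (tl h2) ∨
      (IsRankOnePair (tl h1) (tl h2) ∧ ∃ f : Matrix.SpecialLinearGroup (Fin 2) F →* O k F,
      Function.Injective f ∧ (upperUnipotentSL2 F).map f = tl h1 ∧ (lowerUnipotentSL2 F).map f = tl h2) := by
  by_cases hd : bf p1 p2 * bf r1 r2 = bf p1 r2 * bf r1 p2
  · obtain ⟨P1, R1, P2, R2, g1, g2, e1, e2, z1, z2, z3⟩ := adapt h1 h2 hd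
    rw [← e1, ← e2]
    by_cases hs : bf R1 R2 = 0 ∨ ∃ μ : F, P2 = μ • P1
    · exact Or.inl (tl_comm_special g1 g2 z1 z2 z3 hs)
    · push Not at hs
      exact Or.inr (Or.inl (tl_special g1 g2 z1 z2 z3 hs.1 hs.2))
  · exact Or.inr (Or.inr (tl_opposite h1 h2 hd))

theorem line_set_eq :
    {A : Subgroup ↥(O k F) | ∃ p r : V k F, LinearIndependent F ![p, r] ∧ quadFormPlus k F p = 0 ∧
      quadFormPlus k F r = 0 ∧ quadFormPlus k F (p + r) = 0 ∧
      A = Subgroup.closure {σ : ↥(O k F) | ∀ v : V k F,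
      quadFormPlus k F (v + p) - quadFormPlus k F v - quadFormPlus k F p = 0 →
      quadFormPlus k F (v + r) - quadFormPlus k F v - quadFormPlus k F r = 0 →
        ((σ : Matrix.GeneralLinearGroup (Fin k ⊕ Fin k) F) : Matrix (Fin k ⊕ Fin k) (Fin k ⊕ Fin k) F) *ᵥ v = v}}
      = lineSet k F := by
  ext A
  constructor
  · rintro ⟨p, r, h1, h2, h3, h4, rfl⟩
    exact ⟨p, r, sl_iff.2 ⟨h1, h2, h3, h4⟩, stated_group _⟩
  · rintro ⟨p, r, h, rfl⟩
    obtain ⟨h1, h2, h3, h4⟩ := sl_iff.1 h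
    exact ⟨p, r, h1, h2, h3, h4, (stated_group h).symm⟩

theorem tl_adj {p1 r1 p2 r2 : V k F} (h1 : SL p1 r1) (h2 : SL p2 r2)
    (hd : bf p1 p2 * bf r1 r2 ≠ bf p1 r2 * bf r1 p2) : FAdj (lineSet k F) (tl h1) (tl h2) :=
  ⟨⟨_, _, h1, rfl⟩, ⟨_, _, h2, rfl⟩, (tl_opposite h1 h2 hd).1⟩

/-- Some singular vector has values `1, 0, 0` on an independent triple `p, r, s` with singular first vector. -/
theorem exists_x {p r s : V k F} (hp : SL p r) (hs : SL p s) (hli : LinearIndependent F ![p, r, s]) :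
    ∃ x, quadFormPlus k F x = 0 ∧ bf x p = 1 ∧ bf x r = 0 ∧ bf x s = 0 := by
  obtain ⟨x0, hx0⟩ := exists_bf ![p, r, s] hli ![1, 0, 0]
  have e0 : bf x0 p = 1 := hx0 0
  have e1 : bf x0 r = 0 := hx0 1
  have e2 : bf x0 s = 0 := hx0 2
  refine ⟨x0 + (-quadFormPlus k F x0) • p, ?_, ?_, ?_, ?_⟩
  · rw [qp_add, qp_smul, bf_smul_right, e0, hp.qp]; ring
  · rw [bf_add_left, bf_smul_left, e0, hp.pp]; ring
  · rw [bf_add_left, bf_smul_left, e1, hp.pr]; ring
  · rw [bf_add_left, bf_smul_left, e2, hs.pr]; ring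

theorem exists_ortho (hk : 3 ≤ k) {p r s x : V k F} {β : F} (hβ0 : β ≠ 0) (hp : SL p r) (hs : SL p s)
    (hβ : bf r s = β) (hx : quadFormPlus k F x = 0) (xp : bf x p = 1) (xr : bf x r = 0) (xs : bf x s = 0) :
    ∃ u, bf u p = 0 ∧ bf u r = 0 ∧ bf u s = 0 ∧ bf u x = 0 ∧ quadFormPlus k F u ≠ 0 := by
  let pr' : V k F → V k F := fun v =>
    v - bf v x • p - bf v p • x - (bf v s / β) • r - (bf v r / β) • s
  have px : bf p x = 1 := by rw [bf_comm, xp]
  have rx : bf r x = 0 := by rw [bf_comm, xr]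
  have sx : bf s x = 0 := by rw [bf_comm, xs]
  have sr : bf s r = β := by rw [bf_comm, hβ]
  have xx : bf x x = 0 := by rw [bf_self, hx, mul_zero]
  have hperp : ∀ v, bf (pr' v) p = 0 ∧ bf (pr' v) r = 0 ∧ bf (pr' v) s = 0 ∧ bf (pr' v) x = 0 := fun v => by
    refine ⟨?_, ?_, ?_, ?_⟩ <;>
      simp only [pr', bf_sub_left, bf_smul_left, hp.pp, hp.pr, hp.rp, hp.rr, hs.pr, hs.rp, hs.rr, hβ, sr,
        xp, xr, xs, px, rx, sx, xx] <;> field_simp <;> ring
  by_contra hne
  push Not at hne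
  have hq : ∀ v, quadFormPlus k F (pr' v) = 0 := fun v =>
    hne _ (hperp v).1 (hperp v).2.1 (hperp v).2.2.1 (hperp v).2.2.2
  have hlin : ∀ v w, pr' (v + w) = pr' v + pr' w := fun v w => by
    simp only [pr', bf_add_left, add_div]; module
  have hz : ∀ v, pr' v = 0 := fun v => bf_ext fun w => by
    have h1 : bf (pr' w) (pr' v) = 0 := by
      have h2 := hq (w + v)
      rwa [hlin, qp_add, hq, hq, zero_add, zero_add] at h2
    obtain ⟨v1, v2, v3, v4⟩ := hperp v
    rw [bf_comm, show pr' w = w - bf w x • p - bf w p • x - (bf w s / β) • r - (bf w r / β) • s from rfl] at h1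
    simp only [bf_sub_right, bf_smul_right, v1, v2, v3, v4, mul_zero, sub_zero] at h1
    rw [bf_zero_right, bf_comm, h1]
  have htop : Submodule.span F (Set.range ![p, x, r, s]) = ⊤ := eq_top_iff.2 fun v _ => by
    have h1 : v = bf v x • p + bf v p • x + (bf v s / β) • r + (bf v r / β) • s := by
      rw [← sub_eq_zero, ← hz v]
      simp only [pr']; module
    rw [h1]
    have hm : ∀ i, ![p, x, r, s] i ∈ Submodule.span F (Set.range ![p, x, r, s]) := fun i =>
      Submodule.subset_span ⟨i, rfl⟩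
    exact Submodule.add_mem _ (Submodule.add_mem _ (Submodule.add_mem _ (Submodule.smul_mem _ _ (hm 0))
      (Submodule.smul_mem _ _ (hm 1))) (Submodule.smul_mem _ _ (hm 2))) (Submodule.smul_mem _ _ (hm 3))
  have h4 := finrank_range_le_card (R := F) ![p, x, r, s]
  rw [Set.finrank, htop, finrank_top, Module.finrank_fintype_fun_eq_card, Fintype.card_fin, Fintype.card_sum,
    Fintype.card_fin] at h4
  omega

theorem li_quad {p r s x : V k F} (hp : SL p r) (hs : SL p s) (hli : LinearIndependent F ![p, r, s])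
    (xp : bf x p = 1) : LinearIndependent F ![p, r, s, x] := by
  rw [Fintype.linearIndependent_iff] at hli ⊢
  intro g hg
  simp only [Fin.sum_univ_four, Matrix.cons_val_zero, Matrix.cons_val_one, Matrix.cons_val_two,
    Matrix.cons_val_three, Matrix.tail_cons, Matrix.head_cons] at hg
  have hr : bf r p = 0 := hp.rp
  have hs' : bf s p = 0 := hs.rp
  have h3 : g 3 = 0 := by
    have h1 := congrArg (fun v => bf v p) hg
    simp only [bf_add_left, bf_smul_left, hp.pp, hr, hs', xp, bf_zero_left] at h1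
    linear_combination h1
  have h2 := hli ![g 0, g 1, g 2] (by
    rw [h3, zero_smul, add_zero] at hg
    simp [Fin.sum_univ_three, hg])
  intro i
  fin_cases i
  exacts [h2 0, h2 1, h2 2, h3]

/-- Two lines with a common point have a common opposite line. -/
theorem reach_meet (hk : 3 ≤ k) {p r s : V k F} (hp : SL p r) (hs : SL p s) :
    Relation.ReflTransGen (FAdj (lineSet k F)) (tl hp) (tl hs) := by
  by_cases hli : LinearIndependent F ![p, r, s]
  swap
  · obtain ⟨g, hg, i, hi⟩ : ∃ g : Fin 3 → F, ∑ j, g j • ![p, r, s] j = 0 ∧ ∃ i, g i ≠ 0 := by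
      simpa [Fintype.linearIndependent_iff] using hli
    simp only [Fin.sum_univ_three, Matrix.cons_val_zero, Matrix.cons_val_one, Matrix.cons_val_two,
      Matrix.tail_cons, Matrix.head_cons] at hg
    have h2 : g 2 ≠ 0 := fun h => by
      rw [h, zero_smul, add_zero] at hg
      obtain ⟨e1, e2⟩ := LinearIndependent.pair_iff.1 hp.li _ _ hg
      fin_cases i <;> contradiction
    have hsv : s = (-(g 0 / g 2)) • p + (-(g 1 / g 2)) • r := by
      have h3 : s = (g 2)⁻¹ • (g 2 • s) := (inv_smul_smul₀ h2 s).symm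
      rw [eq_neg_of_add_eq_zero_right hg] at h3
      rw [h3, div_eq_inv_mul, div_eq_inv_mul]; module
    have hb : -(g 1 / g 2) ≠ 0 := fun h => by
      rw [h, zero_smul, add_zero] at hsv
      obtain ⟨e1, e2⟩ := LinearIndependent.pair_iff.1 hs.li (g 0 / g 2) 1 (by rw [hsv]; module)
      exact one_ne_zero e2
    have hd : (1 : F) * -(g 1 / g 2) - 0 * -(g 0 / g 2) ≠ 0 := by simpa using hb
    rw [← tl_comb hp hd (hp.comb hd), tl_congr (show p = (1 : F) • p + (0 : F) • r by module) hsv hs (hp.comb hd)]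
  obtain ⟨x, hx, xp, xr, xs⟩ := exists_x hp hs hli
  have px : bf p x = 1 := by rw [bf_comm, xp]
  have rx : bf r x = 0 := by rw [bf_comm, xr]
  have sx : bf s x = 0 := by rw [bf_comm, xs]
  obtain ⟨y, hy, yp, yr, ys, yx⟩ : ∃ y, quadFormPlus k F y = 0 ∧ bf y p = 0 ∧ bf y r = 1 ∧ bf y s ≠ 0 ∧
      bf y x = 0 := by
    obtain ⟨β, hβ⟩ : ∃ β, bf r s = β := ⟨_, rfl⟩
    by_cases hβ0 : β = 0
    · subst hβ0
      obtain ⟨y0, hy0⟩ := exists_bf ![p, r, s, x] (li_quad hp hs hli xp) ![0, 1, 1, 0]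
      have e0 : bf y0 p = 0 := hy0 0
      have e1 : bf y0 r = 1 := hy0 1
      have e2 : bf y0 s = 1 := hy0 2
      have e3 : bf y0 x = 0 := hy0 3
      refine ⟨y0 + (-quadFormPlus k F y0) • r, ?_, ?_, ?_, ?_, ?_⟩
      · rw [qp_add, qp_smul, bf_smul_right, e1, hp.qr]; ring
      · rw [bf_add_left, bf_smul_left, e0, hp.rp]; ring
      · rw [bf_add_left, bf_smul_left, e1, hp.rr]; ring
      · rw [bf_add_left, bf_smul_left, e2, hβ, mul_zero, add_zero]; exact one_ne_zero
      · rw [bf_add_left, bf_smul_left, e3, rx]; ring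
    · obtain ⟨u, up, ur, us, ux, uq⟩ := exists_ortho hk hβ0 hp hs hβ hx xp xr xs
      have sr : bf s r = β := by rw [bf_comm, hβ]
      have ru : bf r u = 0 := by rw [bf_comm, ur]
      have su : bf s u = 0 := by rw [bf_comm, us]
      refine ⟨β⁻¹ • s + (-quadFormPlus k F u) • r + u, ?_, ?_, ?_, ?_, ?_⟩
      · simp only [qp_add, qp_smul, bf_add_left, bf_smul_left, bf_smul_right, hs.qr, hp.qr, sr, ru, su]
        field_simp; ring
      · simp only [bf_add_left, bf_smul_left, hs.rp, hp.rp, up]; ring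
      · simp only [bf_add_left, bf_smul_left, sr, hp.rr, ur]; field_simp; ring
      · simp only [bf_add_left, bf_smul_left, hs.rr, hβ, us]
        simpa using mul_ne_zero uq hβ0
      · simp only [bf_add_left, bf_smul_left, sx, rx, ux]; ring
  have hxy : SL x y := ⟨LinearIndependent.pair_iff.2 fun a b hab => by
      have h1 := congrArg (fun v => bf v p) hab
      have h2 := congrArg (fun v => bf v r) hab
      simp only [bf_add_left, bf_smul_left, xp, yp, xr, yr, bf_zero_left] at h1 h2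
      exact ⟨by linear_combination h1, by linear_combination h2⟩, hx, hy, by rw [bf_comm, yx]⟩
  refine (Relation.ReflTransGen.single (tl_adj hp hxy ?_)).tail (tl_adj hxy hs ?_)
  · rw [px, show bf r y = 1 by rw [bf_comm, yr], rx, show bf p y = 0 by rw [bf_comm, yp]]
    simp
  · rw [xp, xs, yp, zero_mul, one_mul]; exact ys

theorem line_connected (hk : 3 ≤ k) : IsConnectedFamily (FAdj (lineSet k F)) (lineSet k F) := by
  rintro _ ⟨p1, r1, h1, rfl⟩ _ ⟨p2, r2, h2, rfl⟩
  by_cases hd : bf p1 p2 * bf r1 r2 = bf p1 r2 * bf r1 p2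
  swap
  · exact .single (tl_adj h1 h2 hd)
  obtain ⟨P1, R1, P2, R2, g1, g2, e1, e2, z1, z2, z3⟩ := adapt h1 h2 hd
  rw [← e1, ← e2]
  have hsw : ∀ {p r : V k F} (h : SL p r) (h' : SL r p), tl h' = tl h := fun {p r} h h' => by
    have hd : (0 : F) * 0 - 1 * 1 ≠ 0 := by simp
    rw [← tl_comb h hd (h.comb hd)]
    exact tl_congr (by module) (by module) _ _
  by_cases hμ : ∀ μ : F, P2 ≠ μ • P1
  · have g3 := third_line g1 g2 z1 hμ
    have g3' : SL P2 P1 := ⟨(LinearIndependent.pair_symm_iff).1 g3.li, g2.qp, g1.qp, by rw [bf_comm, z1]⟩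
    refine (reach_meet hk g1 g3).trans ?_
    rw [← hsw g3 g3']
    exact reach_meet hk g3' g2
  · push Not at hμ
    obtain ⟨μ, rfl⟩ := hμ
    have hμ0 : μ ≠ 0 := fun h => g2.li.ne_zero 0 (by simp [h])
    have hd' : μ⁻¹ * 1 - 0 * 0 ≠ 0 := by simpa using hμ0
    have e : μ⁻¹ • (μ • P1) + (0 : F) • R2 = P1 := by
      rw [inv_smul_smul₀ hμ0, zero_smul, add_zero]
    have g2' : SL P1 R2 := by
      have h3 := g2.comb hd'
      rwa [e, zero_smul, one_smul, zero_add] at h3
    have h4 : tl g2' = tl g2 := by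
      rw [← tl_comb g2 hd' (g2.comb hd')]
      exact tl_congr e.symm (by module) _ _
    exact h4 ▸ reach_meet hk g1 g2'

theorem line_main (hk : 3 ≤ k) (T : Set (Subgroup (O k F))) (hT : T = lineSet k F) :
    IsKRootSubgroupSet F ((fun A : Subgroup (O k F) => A.subgroupOf (⨆ B ∈ T, B)) '' T) ∧
      IsConnectedFamily (FAdj T) T := by
  subst hT
  refine ⟨⟨rootSet_restrict _ ?_ ?_ ?_ ?_, ?_⟩, line_connected hk⟩
  · rintro _ ⟨p, r, h, rfl⟩; exact tl_comm h
  · rintro _ ⟨p, r, h, rfl⟩; exact tl_ne_bot h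
  · rintro _ ⟨p, r, h, rfl⟩ g -
    obtain ⟨h', e⟩ := tl_conj h g
    exact ⟨_, _, h', e⟩
  · rintro _ ⟨p1, r1, h1, rfl⟩ _ ⟨p2, r2, h2, rfl⟩
    rcases tl_pair h1 h2 with h | h | ⟨h, -⟩
    exacts [Or.inl h, Or.inr (Or.inr h), Or.inr (Or.inl h)]
  · intro A hA B hB hr
    obtain ⟨_, ⟨p1, r1, h1, rfl⟩, rfl⟩ := hA
    obtain ⟨_, ⟨p2, r2, h2, rfl⟩, rfl⟩ := hB
    have hle : ∀ C ∈ lineSet k F, C ≤ ⨆ B ∈ lineSet k F, B := fun C hC => le_iSup₂_of_le C hC le_rfl
    have m1 := hle _ ⟨p1, r1, h1, rfl⟩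
    have m2 := hle _ ⟨p2, r2, h2, rfl⟩
    have hi : Function.Injective (⨆ B ∈ lineSet k F, B : Subgroup (O k F)).subtype := Subgroup.subtype_injective _
    have hr' := rop_map hr _ hi
    simp only [subgroupOf_map_subtype_eq m1, subgroupOf_map_subtype_eq m2] at hr'
    rcases tl_pair h1 h2 with h | h | ⟨-, f, hf, hU, hL⟩
    · exact absurd h (rop_commutator_ne_bot hr')
    · exfalso
      obtain ⟨a, ha, ha1⟩ := rop_exists_ne_one hr'
      have hU := rop_right_mem_unipotent hr'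
      refine rop_not_commute_pair (rop_of_mem_mem hr' (conjBy_mem_unipotent hU
        ((le_sup_left : tl h1 ≤ tl h1 ⊔ tl h2) ha)) hU fun hh => ha1 (rop_eq_one_of_normalizes hr' ha hh)).1 ?_
      intro x hx y hy
      rw [mem_conjBy] at hx
      have h5 : Commute (a * (a⁻¹ * x * a) * a⁻¹ * (a⁻¹ * x * a)⁻¹) y :=
        h.2.1 _ (Subgroup.commutator_mem_commutator ha hx) y ((le_sup_right : tl h2 ≤ tl h1 ⊔ tl h2) hy)
      have h6 : Commute (a⁻¹ * x * a) y :=
        congrArg (fun t : tl h2 => (t : O k F)) ((tl_comm h2).is_comm.comm ⟨_, hx⟩ ⟨y, hy⟩)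
      have h7 := h5.mul_left h6
      rw [inv_mul_cancel_right, show a * (a⁻¹ * x * a) * a⁻¹ = x by simp [mul_assoc]] at h7
      exact h7.eq
    · exact psl2_restrict (RingEquiv.refl F) f hf m1 m2 hU hL

end CfsgLib.ThreeTransp.TransvSiegel
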