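import Cfsg.Agent.Lib.ThreeTransp.SL2
import Cfsg.Agent.Lib.ThreeTransp.RootGraph
import Cfsg.Agent.Lib.ThreeTransp.TransvSLClass
import Cfsg.Agent.Lib.Classical.SympBasic

/-!
The symplectic transvection groups as a degenerate class of root subgroups.
-/

set_option autoImplicit false

namespace CfsgLib.ThreeTransp.TransvSp

open Cfsg Matrix CfsgLib.Classical

variable {l : Type*} [Fintype l] [DecidableEq l] {F : Type*} [Field F]

/-- The transvection group of a vector. -/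
def tg (p : l ⊕ l → F) : Subgroup (Matrix.symplecticGroup l F) where
  carrier := {g | ∃ c, g = stv c p}
  mul_mem' := by rintro _ _ ⟨c, rfl⟩ ⟨d, rfl⟩; exact ⟨c + d, stv_mul c d p⟩
  one_mem' := ⟨0, (stv_zero p).symm⟩
  inv_mem' := by rintro _ ⟨c, rfl⟩; exact ⟨-c, stv_inv c p⟩

theorem mem_tg {p : l ⊕ l → F} {g : Matrix.symplecticGroup l F} : g ∈ tg p ↔ ∃ c, g = stv c p := Iff.rfl

theorem tg_comm (p : l ⊕ l → F) : IsMulCommutative (tg p) := by
  refine ⟨⟨fun x y => Subtype.ext ?_⟩⟩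
  obtain ⟨c, hc⟩ := x.2
  obtain ⟨d, hd⟩ := y.2
  show (x : Matrix.symplecticGroup l F) * y = y * x
  rw [hc, hd, stv_mul, stv_mul, add_comm]

theorem tg_ne_bot {p : l ⊕ l → F} (hp : p ≠ 0) : tg p ≠ ⊥ := by
  intro h
  have h1 : stv (1 : F) p ∈ tg p := ⟨1, rfl⟩
  rw [h, Subgroup.mem_bot] at h1
  obtain ⟨z, hz⟩ := exists_sbil_eq_one hp
  have h2 := congrArg (fun g : Matrix.symplecticGroup l F => g.1 *ᵥ z) h1
  simp only [stv_mulVec, sp_one_mulVec, hz, one_mul, one_smul, add_eq_left] at h2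
  exact hp h2

theorem tg_conj (g : Matrix.symplecticGroup l F) (p : l ⊕ l → F) : conjBy (tg p) g = tg (g.1 *ᵥ p) := by
  ext x
  constructor
  · rintro ⟨_, ⟨c, rfl⟩, rfl⟩; exact ⟨c, stv_conj g c p⟩
  · rintro ⟨c, rfl⟩; exact ⟨stv c p, ⟨c, rfl⟩, stv_conj g c p⟩

theorem tg_smul {p : l ⊕ l → F} {s : F} (hs : s ≠ 0) : tg (s • p) = tg p := by
  ext x
  constructor
  · rintro ⟨c, rfl⟩; exact ⟨_, stv_smul c s p⟩
  · rintro ⟨c, rfl⟩
    exact ⟨c / s ^ 2, by rw [stv_smul, div_mul_cancel₀ _ (pow_ne_zero 2 hs)]⟩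

theorem fr_act (M : Matrix (Fin 2) (Fin 2) F) (p q x : l ⊕ l → F) :
    (1 + (vecMulVec p ((M 0 0 - 1) • (Matrix.J l F *ᵥ q) + M 0 1 • (p ᵥ* Matrix.J l F)) +
      vecMulVec q (M 1 0 • (Matrix.J l F *ᵥ q) + (M 1 1 - 1) • (p ᵥ* Matrix.J l F)))) *ᵥ x =
    x + (((M 0 0 - 1) * sbil x q + M 0 1 * sbil p x) • p + (M 1 0 * sbil x q + (M 1 1 - 1) * sbil p x) • q) := by
  have e1 : (Matrix.J l F *ᵥ q) ⬝ᵥ x = sbil x q := by rw [sbil, dotProduct_comm]
  have e2 : (p ᵥ* Matrix.J l F) ⬝ᵥ x = sbil p x := by rw [sbil, dotProduct_mulVec]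
  simp only [add_mulVec, one_mulVec, vecMulVec_mulVec, op_smul_eq_smul, add_dotProduct, smul_dotProduct, e1, e2,
    smul_eq_mul]

/-- The action of SL₂ on a hyperbolic plane. -/
def hyp (p q : l ⊕ l → F) (h : sbil p q = 1) :
    Matrix.SpecialLinearGroup (Fin 2) F →* Matrix.symplecticGroup l F where
  toFun M := ⟨1 + (vecMulVec p (((M : Matrix (Fin 2) (Fin 2) F) 0 0 - 1) • (Matrix.J l F *ᵥ q) +
      (M : Matrix (Fin 2) (Fin 2) F) 0 1 • (p ᵥ* Matrix.J l F)) +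
      vecMulVec q ((M : Matrix (Fin 2) (Fin 2) F) 1 0 • (Matrix.J l F *ᵥ q) +
      ((M : Matrix (Fin 2) (Fin 2) F) 1 1 - 1) • (p ᵥ* Matrix.J l F))),
    mem_symplecticGroup_iff_sbil.2 fun u v => by
      have hd := M.2
      rw [Matrix.det_fin_two] at hd
      simp only [fr_act, sbil_add_left, sbil_add_right, sbil_smul_left, sbil_smul_right, sbil_self, h,
        sbil_swap p q, sbil_swap p u, sbil_swap p v, sbil_swap q u, sbil_swap q v]

      linear_combination (norm := ring_nf) (sbil p u * sbil q v - sbil q u * sbil p v) * hd⟩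
  map_one' := sp_ext fun x => by
    rw [show (Subtype.val _ : Matrix (l ⊕ l) (l ⊕ l) F) *ᵥ x = _ from fr_act _ p q x, sp_one_mulVec]
    simp
  map_mul' M M' := sp_ext fun x => by
    simp only [sp_mul_mulVec, fr_act]
    simp only [Matrix.SpecialLinearGroup.coe_mul, Matrix.mul_apply, Fin.sum_univ_two,
      sbil_add_left, sbil_add_right, sbil_smul_left, sbil_smul_right, sbil_self, h]
    module

theorem hyp_apply (p q : l ⊕ l → F) (h : sbil p q = 1) (M : Matrix.SpecialLinearGroup (Fin 2) F) (x : l ⊕ l → F) :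
    (hyp p q h M).1 *ᵥ x = x + ((((M : Matrix (Fin 2) (Fin 2) F) 0 0 - 1) * sbil x q +
      (M : Matrix (Fin 2) (Fin 2) F) 0 1 * sbil p x) • p + ((M : Matrix (Fin 2) (Fin 2) F) 1 0 * sbil x q +
      ((M : Matrix (Fin 2) (Fin 2) F) 1 1 - 1) * sbil p x) • q) := fr_act _ p q x

theorem hyp_injective (p q : l ⊕ l → F) (h : sbil p q = 1) : Function.Injective (hyp p q h) := by
  intro M M' hM
  have hx := congrArg (fun g : Matrix.symplecticGroup l F => g.1 *ᵥ p) hM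
  have hy := congrArg (fun g : Matrix.symplecticGroup l F => g.1 *ᵥ q) hM
  simp only [hyp_apply, sbil_self, h, mul_zero, mul_one, add_zero, zero_add, add_right_inj] at hx hy
  have a1 := congrArg (fun v => sbil v q) hx
  have a2 := congrArg (fun v => sbil p v) hx
  have b1 := congrArg (fun v => sbil v q) hy
  have b2 := congrArg (fun v => sbil p v) hy
  simp [sbil_add_left, sbil_add_right, sbil_smul_left, sbil_smul_right, h] at a1 a2 b1 b2
  refine Subtype.ext ?_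
  ext i j
  fin_cases i <;> fin_cases j <;> assumption

theorem hyp_upper (p q : l ⊕ l → F) (h : sbil p q = 1) :
    (upperUnipotentSL2 F).map (hyp p q h) = tg p := by
  have key : ∀ t, hyp p q h (sl2U F t) = stv t p := fun t => sp_ext fun x => by
    simp [hyp_apply, sl2U_val]
  ext x
  constructor
  · rintro ⟨M, hM, rfl⟩
    obtain ⟨t, rfl⟩ := (mem_upperUnipotentSL2 F).1 hM
    exact ⟨t, key t⟩
  · rintro ⟨t, rfl⟩
    exact ⟨sl2U F t, (mem_upperUnipotentSL2 F).2 ⟨t, rfl⟩, key t⟩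

theorem hyp_lower (p q : l ⊕ l → F) (h : sbil p q = 1) :
    (lowerUnipotentSL2 F).map (hyp p q h) = tg q := by
  have key : ∀ t, hyp p q h (sl2L F t) = stv (-t) q := fun t => sp_ext fun x => by
    simp [hyp_apply, sl2L_val, sbil_swap q x]
  ext x
  constructor
  · rintro ⟨M, hM, rfl⟩
    obtain ⟨t, rfl⟩ := (mem_lowerUnipotentSL2 F).1 hM
    exact ⟨-t, key t⟩
  · rintro ⟨t, rfl⟩
    exact ⟨sl2L F (-t), (mem_lowerUnipotentSL2 F).2 ⟨-t, rfl⟩, by rw [key, neg_neg]⟩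

theorem tg_pair (p q : l ⊕ l → F) :
    ⁅tg p, tg q⁆ = ⊥ ∨ (IsRankOnePair (tg p) (tg q) ∧ IsPSL2PairOver F (tg p) (tg q)) := by
  by_cases hs : sbil p q = 0
  · left
    rw [Subgroup.commutator_eq_bot_iff_le_centralizer]
    rintro _ ⟨c, rfl⟩
    rw [Subgroup.mem_centralizer_iff]
    rintro _ ⟨d, rfl⟩
    refine sp_ext fun x => ?_
    simp only [sp_mul_mulVec, stv_mulVec, sbil_add_right, sbil_smul_right, sbil_swap p q, hs, neg_zero,
      mul_zero, add_zero]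
    module
  · right
    have h : sbil ((sbil p q)⁻¹ • p) q = 1 := by rw [sbil_smul_left, inv_mul_cancel₀ hs]
    set f := hyp ((sbil p q)⁻¹ • p) q h
    have hU : (upperUnipotentSL2 F).map f = tg p := by rw [hyp_upper, tg_smul (inv_ne_zero hs)]
    have hL : (lowerUnipotentSL2 F).map f = tg q := hyp_lower ..
    refine ⟨hU ▸ hL ▸ rop_symm (rop_map (sl2_rankOnePair F).1 f (hyp_injective ..)), f, ?_, ?_, hU, hL⟩
    · rw [← hU, ← hL, ← Subgroup.map_sup, sup_comm, sl2_gen, MonoidHom.range_eq_map]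
    · rw [(MonoidHom.ker_eq_bot_iff f).2 (hyp_injective ..)]; exact bot_le

theorem stated_group (p : l ⊕ l → F) :
    Subgroup.closure {g : ↥(Matrix.symplecticGroup l F) | ∃ c : F, ∀ v : l ⊕ l → F,
      (g : Matrix (l ⊕ l) (l ⊕ l) F) *ᵥ v = v + (c * (v ⬝ᵥ (Matrix.J l F *ᵥ p))) • p} = tg p := by
  have h : {g : ↥(Matrix.symplecticGroup l F) | ∃ c : F, ∀ v : l ⊕ l → F,
      (g : Matrix (l ⊕ l) (l ⊕ l) F) *ᵥ v = v + (c * (v ⬝ᵥ (Matrix.J l F *ᵥ p))) • p} =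
      (tg p : Set (Matrix.symplecticGroup l F)) := by
    ext g
    constructor
    · rintro ⟨c, hc⟩
      refine ⟨-c, sp_ext fun v => ?_⟩
      rw [hc v, stv_mulVec, show v ⬝ᵥ (Matrix.J l F *ᵥ p) = sbil v p from rfl, sbil_swap p v]
      module
    · rintro ⟨c, rfl⟩
      refine ⟨-c, fun v => ?_⟩
      rw [stv_mulVec, show v ⬝ᵥ (Matrix.J l F *ᵥ p) = sbil v p from rfl, sbil_swap p v]
      module
  rw [h, Subgroup.closure_eq]

theorem tg_main [Nonempty l] :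
    let S : Set (Subgroup (Matrix.symplecticGroup l F)) := {A | ∃ p : l ⊕ l → F, p ≠ 0 ∧ A = tg p}
    IsRootSubgroupClass S ∧ IsDegenerateRootSet S ∧ IsKRootSubgroupSet F S ∧ IsConnectedFamily (FAdj S) S := by
  intro S
  have hpair : ∀ A ∈ S, ∀ B ∈ S, ⁅A, B⁆ = ⊥ ∨ (IsRankOnePair A B ∧ IsPSL2PairOver F A B) := by
    rintro _ ⟨p, -, rfl⟩ _ ⟨q, -, rfl⟩; exact tg_pair p q
  have hS : IsRootSubgroupSet S := by
    refine ⟨?_, ?_, ?_, ?_, fun A hA B hB => (hpair A hA B hB).imp_right fun h => Or.inl h.1⟩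
    · rintro _ ⟨p, -, rfl⟩; exact tg_comm p
    · rintro _ ⟨p, hp, rfl⟩; exact tg_ne_bot hp
    · refine sp_eq_top_of_stv_mem _ fun a v => ?_
      by_cases hv : v = 0
      · subst hv
        have h1 : stv a (0 : l ⊕ l → F) = 1 := sp_ext fun x => by simp
        rw [h1]; exact one_mem _
      · exact Subgroup.mem_iSup_of_mem (tg v) (Subgroup.mem_iSup_of_mem ⟨v, hv, rfl⟩ (mem_tg.2 ⟨a, rfl⟩))
    · rintro _ ⟨p, hp, rfl⟩ g
      exact ⟨_, sp_mulVec_ne_zero g hp, tg_conj g p⟩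
  obtain ⟨i⟩ := (inferInstance : Nonempty l)
  have he : (Pi.single (.inl i) 1 : l ⊕ l → F) ≠ 0 := by simp
  have hcl : IsConjClassOfSubgroups S := by
    refine ⟨⟨_, _, he, rfl⟩, ?_⟩
    rintro _ ⟨p, hp, rfl⟩ _ ⟨q, hq, rfl⟩
    obtain ⟨g, hg⟩ := sp_transitive hp hq
    exact ⟨g, by rw [tg_conj, hg]⟩
  refine ⟨⟨hS, hcl⟩, fun A hA B hB hc => ?_, ⟨hS, fun A hA B hB h => ?_⟩, ?_⟩
  · rcases hpair A hA B hB with h | ⟨h, -⟩
    · exact rcc_not_commute hS hc h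
    · exact rop_not_rcc hS hB h hc
  · rcases hpair A hA B hB with h' | ⟨-, h'⟩
    · exact absurd h' (rop_commutator_ne_bot h)
    · exact h'
  · obtain ⟨z, hz⟩ := exists_sbil_eq_one he
    have hz0 : z ≠ 0 := fun h => by simp [h] at hz
    refine rs_connected_of_class hS hcl ⟨_, ⟨_, he, rfl⟩, fun hi => (hi.2 (tg z)).1 ⟨⟨_, he, rfl⟩, ⟨z, hz0, rfl⟩, ?_⟩⟩
    rcases hpair _ ⟨_, he, rfl⟩ (tg z) ⟨z, hz0, rfl⟩ with h | ⟨h, -⟩
    · exfalso
      have h1 := comm_of_bot h (show stv (1 : F) (Pi.single (Sum.inl i) 1) ∈ tg _ from ⟨1, rfl⟩)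
        (show stv (1 : F) z ∈ tg z from ⟨1, rfl⟩)
      have h3 : ∀ x, (stv (1 : F) (Pi.single (Sum.inl i) 1)).1 *ᵥ ((stv (1 : F) z).1 *ᵥ x) =
          (stv (1 : F) z).1 *ᵥ ((stv (1 : F) (Pi.single (Sum.inl i) 1)).1 *ᵥ x) := fun x => by
        rw [← sp_mul_mulVec, ← sp_mul_mulVec, h1]
      have h2 := congrArg (fun w => sbil (Pi.single (Sum.inl i) 1) w) (h3 z)
      simp only [stv_mulVec, sbil_add_right, sbil_smul_right, sbil_self, sbil_swap (Pi.single (Sum.inl i) 1) z,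
        hz, one_mul, mul_zero, mul_one, add_zero, zero_add, zero_smul] at h2
      exact one_ne_zero (show (1 : F) = 0 by linear_combination h2)
    · exact h

end CfsgLib.ThreeTransp.TransvSp
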