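import Cfsg.Agent.Lib.ThreeTransp.ProductUnique

/-!
The centraliser of a product of three commuting transpositions in a group of type M(23) or M(24).
-/

set_option autoImplicit false

namespace CfsgLib.ThreeTransp

open Cfsg CfsgLib.Involutions

variable {G : Type*} [Group G] [Finite G] {D : Set G}

/-- An element exchanging two of three commuting transpositions and fixing the third. -/
theorem TClass.exists_exchange (hC : TClass D) (hp : IsPrimitiveUnderConj D) {a b c : G} (ha : a ∈ D)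
    (hb : b ∈ D) (hc : c ∈ D) (hab : a ≠ b) (hac : a ≠ c) (hbc : b ≠ c) (cab : Commute a b)
    (cac : Commute a c) (cbc : Commute b c) :
    ∃ g : G, g * a * g⁻¹ = b ∧ g * b * g⁻¹ = a ∧ g * c * g⁻¹ = c := by
  have hW : WeakTS D := weakTS_of_group ⟨hC.ts, hC.conj, hC.gen⟩
  obtain ⟨x, hx, hxa, hxb⟩ := hC.exists_moved_by_both hp hc
    (⟨ha, hac, cac.symm⟩ : a ∈ nb D c) (⟨hb, hbc, cbc.symm⟩ : b ∈ nb D c) cab
  have key : ∀ {a b : G}, a ∈ D → b ∈ D → Commute a b → ¬ Commute x a → ¬ Commute x b →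
      x * (a * b) * x * a * (x * (a * b) * x)⁻¹ = b := by
    intro a b ha hb cab hxa hxb
    calc x * (a * b) * x * a * (x * (a * b) * x)⁻¹
        = x * (a * b * (x * a * x) * (b * a)) * x := by
          simp only [mul_inv_rev, hW.inv hx.1, hW.inv ha, hW.inv hb, mul_assoc]
      _ = x * (a * b * (a * x * a) * (b * a)) * x := by rw [hW.braid hx.1 ha hxa]
      _ = x * (b * x * b) * x := by
          rw [show b * a = a * b from cab.symm.eq]
          calc x * (a * b * (a * x * a) * (a * b)) * x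
              = x * ((a * b) * a * x * (a * (a * b))) * x := by simp only [mul_assoc]
            _ = x * (b * x * b) * x := by
                rw [hW.mul_mul_self ha, show a * b * a = b from by
                  rw [cab.eq, mul_assoc, hW.sq a ha, mul_one]]
      _ = b := by rw [← hW.braid hx.1 hb hxb, hW.conj_self hx.1]
  refine ⟨x * (a * b) * x, key ha hb cab hxa hxb, ?_, ?_⟩
  · rw [cab.eq]; exact key hb ha cab.symm hxb hxa
  · have hcx : Commute c x := hx.2.2
    have : Commute (x * (a * b) * x) c :=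
      (hcx.symm.mul_left (cac.mul_left cbc)).mul_left hcx.symm
    rw [this.eq, mul_inv_cancel_right]

theorem TClass.triple_quotient (hC : TClass D) (hp : IsPrimitiveUnderConj D) (hdata : HasPartnerData D)
    {d₁ d₂ d₃ : G} (h₁ : d₁ ∈ D) (h₂ : d₂ ∈ D) (h₃ : d₃ ∈ D) (h12 : d₁ ≠ d₂) (h13 : d₁ ≠ d₃)
    (h23 : d₂ ≠ d₃) (c12 : Commute d₁ d₂) (c13 : Commute d₁ d₃) (c23 : Commute d₂ d₃) :
    Subgroup.centralizer ({d₁, d₂, d₃} : Set G) ≤ Subgroup.centralizer ({d₁ * d₂ * d₃} : Set G) ∧
    ∃ _ : ((Subgroup.centralizer ({d₁, d₂, d₃} : Set G)).subgroupOf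
      (Subgroup.centralizer ({d₁ * d₂ * d₃} : Set G))).Normal,
      Nonempty (↥(Subgroup.centralizer ({d₁ * d₂ * d₃} : Set G)) ⧸
        (Subgroup.centralizer ({d₁, d₂, d₃} : Set G)).subgroupOf
          (Subgroup.centralizer ({d₁ * d₂ * d₃} : Set G)) ≃* Equiv.Perm (Fin 3)) := by
  classical
  set K := Subgroup.centralizer ({d₁, d₂, d₃} : Set G) with hK
  set C := Subgroup.centralizer ({d₁ * d₂ * d₃} : Set G) with hCdef
  let f : Fin 3 → G := ![d₁, d₂, d₃]
  have hf : Function.Injective f := by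
    intro i k; fin_cases i <;> fin_cases k <;> simp [f, h12, h13, h23, h12.symm, h13.symm, h23.symm]
  have hfD : ∀ i, f i ∈ D := by intro i; fin_cases i <;> assumption
  have hfc : ∀ i k, Commute (f i) (f k) := by
    intro i k
    fin_cases i <;> fin_cases k <;>
      simp [f, c12, c13, c23, c12.symm, c13.symm, c23.symm]
  have hprod : d₁ * d₂ * d₃ = (List.ofFn f).prod := by simp [f, List.ofFn_succ, mul_assoc]
  -- conjugation by `C` permutes the three
  have hperm : ∀ g : C, ∀ i, ∃ k, (g : G) * f i * (g : G)⁻¹ = f k := by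
    intro g i
    let φ : G ≃* G := MulAut.conj (g : G)
    have hj : φ (d₁ * d₂ * d₃) = d₁ * d₂ * d₃ := by
      show (g : G) * (d₁ * d₂ * d₃) * (g : G)⁻¹ = d₁ * d₂ * d₃
      rw [Subgroup.mem_centralizer_singleton_iff.1 g.2, mul_inv_cancel_right]
    have hl : ∀ ψ : G ≃* G, (∀ a ∈ D, ψ a ∈ D) → ψ (d₁ * d₂ * d₃) = d₁ * d₂ * d₃ →
        ((List.ofFn f).map ψ).Nodup ∧ ((List.ofFn f).map ψ).length = 3 ∧
          (∀ a ∈ (List.ofFn f).map ψ, a ∈ D) ∧
          (∀ a ∈ (List.ofFn f).map ψ, ∀ b ∈ (List.ofFn f).map ψ, Commute a b) ∧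
          ((List.ofFn f).map ψ).prod = d₁ * d₂ * d₃ := by
      intro ψ hD hψ
      refine ⟨(List.nodup_ofFn.2 hf).map ψ.injective, by simp, ?_, ?_, ?_⟩
      · intro a ha
        obtain ⟨u, hu, rfl⟩ := List.mem_map.1 ha
        obtain ⟨k, rfl⟩ := List.mem_ofFn.1 hu
        exact hD _ (hfD k)
      · intro a ha b hb
        obtain ⟨u, hu, rfl⟩ := List.mem_map.1 ha
        obtain ⟨v, hv, rfl⟩ := List.mem_map.1 hb
        obtain ⟨k, rfl⟩ := List.mem_ofFn.1 hu
        obtain ⟨k', rfl⟩ := List.mem_ofFn.1 hv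
        exact (hfc k k').map ψ
      · rw [← map_list_prod ψ, ← hprod, hψ]
    have h1 := hl φ (fun a ha => hC.conj _ a ha) hj
    have h2 := hl (MulEquiv.refl G) (fun a ha => ha) rfl
    have := (hC.product_unique hp hdata le_rfl h1 h2 (φ (f i))).1
      (List.mem_map.2 ⟨f i, List.mem_ofFn.2 ⟨i, rfl⟩, rfl⟩)
    obtain ⟨u, hu, hu'⟩ := List.mem_map.1 this
    obtain ⟨k, rfl⟩ := List.mem_ofFn.1 hu
    exact ⟨k, hu'.symm⟩
  choose π hπ using hperm
  have hπinj : ∀ g, Function.Injective (π g) := fun g i k h => hf (by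
    have := (hπ g i).trans ((congrArg f h).trans (hπ g k).symm)
    exact mul_left_cancel (mul_right_cancel this))
  let toP : C →* Equiv.Perm (Fin 3) := MonoidHom.mk'
    (fun g => Equiv.ofBijective (π g) (Finite.injective_iff_bijective.1 (hπinj g)))
    fun g g' => Equiv.ext fun i => hf (by
      show f (π (g * g') i) = f (π g (π g' i))
      rw [← hπ, ← hπ, ← hπ, Subgroup.coe_mul]; group)
  have hsurj : Function.Surjective toP := by
    rw [← MonoidHom.range_eq_top, eq_top_iff, ← Equiv.Perm.closure_isSwap, Subgroup.closure_le]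
    rintro σ ⟨i, k, hik, rfl⟩
    obtain ⟨l, hli, hlk⟩ : ∃ l : Fin 3, l ≠ i ∧ l ≠ k := by revert hik; revert i k; decide
    obtain ⟨g, g1, g2, g3⟩ := hC.exists_exchange hp (hfD i) (hfD k) (hfD l) (hf.ne hik)
      (hf.ne hli.symm) (hf.ne hlk.symm) (hfc i k) (hfc i l) (hfc k l)
    have hex : ∀ r, g * f r * g⁻¹ = f (Equiv.swap i k r) := by
      intro r
      have : r = i ∨ r = k ∨ r = l := by omega
      rcases this with rfl | rfl | rfl
      · rw [Equiv.swap_apply_left, g1]
      · rw [Equiv.swap_apply_right, g2]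
      · rw [Equiv.swap_apply_of_ne_of_ne hli hlk, g3]
    have hgC : g ∈ C := by
      rw [hCdef, Subgroup.mem_centralizer_singleton_iff]
      have h0 : d₁ * d₂ * d₃ = f 0 * f 1 * f 2 := rfl
      have : g * (d₁ * d₂ * d₃) * g⁻¹ = f (Equiv.swap i k 0) * f (Equiv.swap i k 1) * f (Equiv.swap i k 2) := by
        rw [← hex, ← hex, ← hex, h0]; group
      rw [← mul_inv_eq_iff_eq_mul, this]
      fin_cases i <;> fin_cases k <;>
        simp_all [f, Equiv.swap_apply_def, c12.eq, c13.eq, c23.eq, mul_assoc]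
      all_goals simp only [← mul_assoc, c12.eq, c13.eq, c23.eq]
      all_goals simp only [mul_assoc, c12.eq, c13.eq, c23.eq]
    exact ⟨⟨g, hgC⟩, Equiv.ext fun r => hf ((hπ ⟨g, hgC⟩ r).symm.trans (hex r))⟩
  have hle : K ≤ C := by
    intro x hx
    rw [hK, Subgroup.mem_centralizer_iff] at hx
    rw [hCdef, Subgroup.mem_centralizer_singleton_iff]
    exact (((show Commute x d₁ from (hx d₁ (by simp)).symm).mul_right
      (hx d₂ (by simp)).symm).mul_right (hx d₃ (by simp)).symm).eq
  have hker : toP.ker = K.subgroupOf C := by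
    ext g
    rw [MonoidHom.mem_ker, Subgroup.mem_subgroupOf, hK, Subgroup.mem_centralizer_iff]
    constructor
    · intro h u hu
      obtain ⟨i, rfl⟩ : ∃ i, f i = u := by
        rcases hu with rfl | rfl | rfl
        exacts [⟨0, rfl⟩, ⟨1, rfl⟩, ⟨2, rfl⟩]
      have h1 : π g i = i := congrArg (fun σ : Equiv.Perm (Fin 3) => σ i) h
      have h2 := hπ g i
      rw [h1, mul_inv_eq_iff_eq_mul] at h2
      exact h2.symm
    · intro h
      refine Equiv.ext fun i => hf ((hπ g i).symm.trans ?_)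
      rw [mul_inv_eq_iff_eq_mul]
      exact (h (f i) (by fin_cases i <;> simp [f])).symm
  haveI hn : (K.subgroupOf C).Normal := hker ▸ inferInstance
  exact ⟨hle, hn, ⟨(QuotientGroup.quotientMulEquivOfEq hker.symm).trans
    (QuotientGroup.quotientKerEquivOfSurjective toP hsurj)⟩⟩

end CfsgLib.ThreeTransp
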