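import Mathlib
import Cfsg.Agent.Lib.ThreeTransp.HeisTwo

/-!
A group with a normal 3-subgroup of index two acting on an elementary abelian 2-group so that
`(1 + t + t²)(1 + a)` vanishes for the elements `t` inverted by the involution `a`: it has order 6,
or order 54 with the relations of the derived subgroup of `SU₃(2)`.
-/

set_option autoImplicit false
set_option linter.style.haveILetI false

namespace CfsgLib.ThreeTransp.TwoThreeTwo

open scoped commutatorElement
open CfsgLib.ThreeTransp.HeisTwo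

variable {K V : Type*} [Group K] [AddCommGroup V]

/-- The hypotheses. -/
structure Setup (ρ : K →* AddMonoid.End V) (P : Subgroup K) (a : K) : Prop where
  char : ∀ v : V, v + v = 0
  normal : P.Normal
  pGroup : IsPGroup 3 P
  index : P.index = 2
  sq : a * a = 1
  out : a ∉ P
  gen : P ≤ Subgroup.closure {t : K | t ∈ P ∧ a * t * a = t⁻¹}
  ne : P ≠ ⊥
  cube : ∀ t ∈ P, a * t * a = t⁻¹ → t ^ 3 = 1
  kills : ∀ t ∈ P, a * t * a = t⁻¹ → t ≠ 1 → ∀ v,
    (v + ρ a v) + ρ t (v + ρ a v) + ρ t (ρ t (v + ρ a v)) = 0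
  faith : ∀ t ∈ P, a * t * a = t⁻¹ → t ≠ 1 → ρ t ≠ 1

variable {ρ : K →* AddMonoid.End V} {P : Subgroup K} {a : K}

theorem act_mul (g h : K) (v : V) : ρ (g * h) v = ρ g (ρ h v) := by
  rw [map_mul]; rfl

theorem Setup.inv_a (h : Setup ρ P a) : a⁻¹ = a := inv_eq_of_mul_eq_one_right h.sq

theorem Setup.conj_mem (h : Setup ρ P a) {t : K} (ht : t ∈ P) : a * t * a ∈ P := by
  have := h.normal.conj_mem t ht a
  rwa [h.inv_a] at this

/-- `g⁻¹ a g a` is inverted by `a`. -/
theorem Setup.inverted_comm (h : Setup ρ P a) (g : K) :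
    a * (g⁻¹ * a * g * a) * a = (g⁻¹ * a * g * a)⁻¹ := by
  have h2 : g⁻¹ * a * g * a * (a * (g⁻¹ * a * g * a) * a) = 1 := by
    have e : ∀ w : K, a * (a * w) = w := fun w => by rw [← mul_assoc, h.sq, one_mul]
    simp [mul_assoc, e, h.sq]
  exact (inv_eq_of_mul_eq_one_right h2).symm

theorem Setup.conj_inv {t : K} (h : Setup ρ P a) (hta : a * t * a = t⁻¹) :
    a * t⁻¹ * a = t⁻¹⁻¹ := by
  calc a * t⁻¹ * a = (a * t * a)⁻¹ := by rw [mul_inv_rev, mul_inv_rev, h.inv_a]; group
    _ = t⁻¹⁻¹ := by rw [hta]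

theorem Setup.pair (h : Setup ρ P a) {y z : K} (hy : y ∈ P) (hya : a * y * a = y⁻¹) (hy1 : y ≠ 1)
    (hz : z ∈ P) (hza : a * z * a = z⁻¹) (hz1 : z ≠ 1) (hne : z ≠ y) (hne' : z ≠ y⁻¹)
    {U : Set V} (hUa : ∀ v ∈ U, v + ρ a v ∈ U) (hUy : ∀ v ∈ U, ρ y v ∈ U)
    (hUz : ∀ v ∈ U, ρ z v ∈ U) (hc : ∀ v ∈ U, ρ y (ρ z v) = ρ z (ρ y v)) :
    ∀ v ∈ U, ρ a v = v := by
  have hy3 : y ^ 3 = 1 := h.cube y hy hya
  have hz3 : z ^ 3 = 1 := h.cube z hz hza
  have y3 : ∀ v, ρ y (ρ y (ρ y v)) = v := fun v => by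
    rw [← act_mul, ← act_mul, ← pow_two, ← pow_succ, hy3, map_one]; rfl
  have z3 : ∀ v, ρ z (ρ z (ρ z v)) = v := fun v => by
    rw [← act_mul, ← act_mul, ← pow_two, ← pow_succ, hz3, map_one]; rfl
  have yi : ∀ v, ρ y⁻¹ v = ρ y (ρ y v) := fun v => by
    rw [← act_mul, inv_eq_of_mul_eq_one_right (show y * (y * y) = 1 by
      rw [← hy3, pow_succ', pow_two])]
  have zi : ∀ v, ρ z⁻¹ v = ρ z (ρ z v) := fun v => by
    rw [← act_mul, inv_eq_of_mul_eq_one_right (show z * (z * z) = 1 by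
      rw [← hz3, pow_succ', pow_two])]
  -- the two mixed lines
  have line : ∀ z' : K, z' ∈ P → a * z' * a = z'⁻¹ → y ≠ z'⁻¹ → (∀ v ∈ U, ρ z' v ∈ U) →
      (∀ v ∈ U, ρ y (ρ z' v) = ρ z' (ρ y v)) →
      (∀ v, ρ z'⁻¹ v = ρ z' (ρ z' v)) → (∀ v, ρ z' (ρ z' (ρ z' v)) = v) → ∀ v ∈ U,
      (v + ρ a v) + ρ y (ρ z' (v + ρ a v)) + ρ y (ρ y (ρ z' (ρ z' (v + ρ a v)))) = 0 := by
    intro z' hz' hz'a hne'' hU hc' zi' z3' v hv
    have hgP : (y * z')⁻¹ * a * (y * z') * a ∈ P := by
      have := mul_mem (inv_mem (mul_mem hy hz')) (h.conj_mem (mul_mem hy hz'))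
      simpa [mul_assoc] using this
    have e : (y * z')⁻¹ * a * (y * z') * a = z'⁻¹ * y⁻¹ * (y⁻¹ * z'⁻¹) := by
      calc (y * z')⁻¹ * a * (y * z') * a
          = (y * z')⁻¹ * ((a * y * a⁻¹) * (a * z' * a)) := by group
        _ = _ := by rw [h.inv_a, hya, hz'a, mul_inv_rev]
    have h1 : (y * z')⁻¹ * a * (y * z') * a ≠ 1 := by
      intro h1
      rw [e] at h1
      have : y⁻¹ * y⁻¹ = z' * z' := by
        have := congrArg (fun x => z' * x * z') h1
        simpa [mul_assoc] using this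
      have hz'3 : z' ^ 3 = 1 := h.cube z' hz' hz'a
      apply hne''
      calc y = y⁻¹ * y⁻¹ := by
            rw [← mul_inv_rev, eq_inv_iff_mul_eq_one, ← hy3, pow_succ', pow_two]
        _ = z' * z' := this
        _ = z'⁻¹ := by
            rw [eq_inv_iff_mul_eq_one, ← hz'3, pow_succ, pow_two]
    have hact : ∀ u ∈ U, ρ ((y * z')⁻¹ * a * (y * z') * a) u = ρ y (ρ z' u) := by
      intro u hu
      rw [e, act_mul, act_mul, act_mul, zi' u, yi, yi]
      rw [y3, hc' _ (hU u hu), zi', z3', hc' u hu]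
    have hw : v + ρ a v ∈ U := hUa v hv
    have := h.kills _ hgP (h.inverted_comm _) h1 v
    rw [hact _ hw, hact _ (hUy _ (hU _ hw))] at this
    rw [← hc' _ (hU _ hw)] at this
    exact this
  intro v hv
  have hzi : ∀ w ∈ U, ρ z⁻¹ w ∈ U := fun w hw => by rw [zi]; exact hUz _ (hUz _ hw)
  have hci : ∀ w ∈ U, ρ y (ρ z⁻¹ w) = ρ z⁻¹ (ρ y w) := fun w hw => by
    rw [zi, zi, hc _ (hUz _ hw), hc _ hw]
  have L1 := line z hz hza (fun e => hne' (by rw [e, inv_inv])) hUz hc zi z3 v hv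
  have L2 := line z⁻¹ (inv_mem hz) (h.conj_inv hza) (fun e => hne (by rw [e, inv_inv])) hzi hci
    (fun w => by rw [inv_inv, zi, zi, z3]) (fun w => by rw [zi, zi, zi, z3, z3]) v hv
  have Ly := h.kills y hy hya hy1 v
  have Lz := h.kills z hz hza hz1 v
  simp only [zi, z3] at L2
  set w := v + ρ a v with hw
  have Lyz : ρ y (w + ρ z w + ρ z (ρ z w)) = 0 := by rw [Lz, map_zero]
  have Lyyz : ρ y (ρ y (w + ρ z w + ρ z (ρ z w))) = 0 := by rw [Lz, map_zero, map_zero]
  simp only [map_add] at Lyz Lyyz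
  have h3 : w + w + w = 0 := by
    have := congrArg₂ (· - ·) (congrArg₂ (· + ·) (congrArg₂ (· + ·) Ly Lz) (congrArg₂ (· + ·) L1 L2))
      (congrArg₂ (· + ·) (congrArg₂ (· + ·) Lyz Lyyz) Lz)
    simp only [add_zero, sub_zero] at this
    rw [← this]
    abel
  rw [h.char, zero_add] at h3
  have := congrArg (fun u => v + u) h3
  simp only [hw, ← add_assoc, h.char, zero_add, add_zero] at this
  exact this

theorem Setup.rho_a_ne (h : Setup ρ P a) : ρ a ≠ 1 := by
  intro hr
  obtain ⟨t, ⟨htP, hta⟩, ht1⟩ : ∃ t, (t ∈ P ∧ a * t * a = t⁻¹) ∧ t ≠ 1 := by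
    by_contra hc
    push_neg at hc
    refine h.ne (le_bot_iff.1 (h.gen.trans ((Subgroup.closure_le _).2 ?_)))
    exact fun t ht => Subgroup.mem_bot.2 (hc t ht)
  apply h.faith t htP hta ht1
  have e : ρ t⁻¹ = ρ t := by rw [← hta, map_mul, map_mul, hr]; simp
  calc ρ t = ρ (t⁻¹ * (t * t)) := by simp
    _ = ρ (t ^ 3) := by rw [map_mul, e, ← map_mul, pow_succ', pow_two]
    _ = 1 := by rw [h.cube t htP hta, map_one]

/-- Two commuting inverted elements are dependent. -/
theorem Setup.dependent (h : Setup ρ P a) {y z : K} (hy : y ∈ P) (hya : a * y * a = y⁻¹)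
    (hy1 : y ≠ 1) (hz : z ∈ P) (hza : a * z * a = z⁻¹) (hc : y * z = z * y) :
    z = 1 ∨ z = y ∨ z = y⁻¹ := by
  by_contra hh
  push_neg at hh
  refine h.rho_a_ne (AddMonoidHom.ext fun v => ?_)
  exact h.pair hy hya hy1 hz hza hh.1 hh.2.1 hh.2.2 (U := Set.univ) (fun _ _ => trivial)
    (fun _ _ => trivial) (fun _ _ => trivial) (fun u _ => by rw [← act_mul, ← act_mul, hc]) v trivial

theorem Setup.conj_comm (h : Setup ρ P a) (x y : K) :
    a * ⁅x, y⁆ * a = ⁅a * x * a, a * y * a⁆ := by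
  rw [commutatorElement_def, commutatorElement_def]
  simp only [mul_inv_rev, h.inv_a]
  have e : ∀ w : K, a * (a * w) = w := fun w => by rw [← mul_assoc, h.sq, one_mul]
  simp [mul_assoc, e]

theorem Setup.closure_top (h : Setup ρ P a) {S : Set K} (hS : P ≤ Subgroup.closure S) :
    Subgroup.closure (insert a S) = ⊤ := by
  rw [eq_top_iff]
  intro g _
  have hP : P ≤ Subgroup.closure (insert a S) := hS.trans (Subgroup.closure_mono (Set.subset_insert a S))
  have haI : a ∈ Subgroup.closure (insert a S) := Subgroup.subset_closure (Or.inl rfl)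
  by_cases hg : g ∈ P
  · exact hP hg
  · have : a * g ∈ P := (Subgroup.mul_mem_iff_of_index_two h.index).2 (iff_of_false h.out hg)
    have := mul_mem haI (hP this)
    rwa [← mul_assoc, h.sq, one_mul] at this

theorem Setup.case_comm [Finite K] (h : Setup ρ P a) (hab : ∀ x ∈ P, ∀ y ∈ P, x * y = y * x) :
    ∃ x, Rels x 1 a ∧ Subgroup.closure ({x, 1, a} : Set K) = ⊤ ∧ Nat.card K = 6 := by
  obtain ⟨t, ⟨htP, hta⟩, ht1⟩ : ∃ t, (t ∈ P ∧ a * t * a = t⁻¹) ∧ t ≠ 1 := by
    by_contra hc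
    push_neg at hc
    refine h.ne (le_bot_iff.1 (h.gen.trans ((Subgroup.closure_le _).2 ?_)))
    exact fun t ht => Subgroup.mem_bot.2 (hc t ht)
  have hle : P ≤ Subgroup.zpowers t := h.gen.trans ((Subgroup.closure_le _).2 fun z hz => by
    rcases h.dependent htP hta ht1 hz.1 hz.2 (hab t htP z hz.1) with rfl | rfl | rfl
    exacts [one_mem _, Subgroup.mem_zpowers _, inv_mem (Subgroup.mem_zpowers _)])
  have hr : Rels t 1 a :=
    ⟨h.cube t htP hta, one_pow 3, h.sq, by simp, by simp, hta, by simp [h.sq]⟩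
  refine ⟨t, hr, ?_, ?_⟩
  · refine eq_top_iff.2 (le_trans (h.closure_top (S := {t}) ?_).ge (Subgroup.closure_mono ?_))
    · rw [← Subgroup.zpowers_eq_closure]; exact hle
    · rintro u (rfl | rfl)
      exacts [Or.inr (Or.inr rfl), Or.inl rfl]
  · haveI : Fact (Nat.Prime 3) := ⟨Nat.prime_three⟩
    have h3 : Nat.card P = 3 := by
      have e : P = Subgroup.zpowers t := le_antisymm hle (Subgroup.zpowers_le.2 htP)
      rw [e, Nat.card_zpowers]
      exact orderOf_eq_prime (h.cube t htP hta) ht1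
    rw [← P.card_mul_index, h3, h.index]

theorem Setup.case_noncomm [Finite K] (h : Setup ρ P a)
    (hnc : ∃ x ∈ P, ∃ y ∈ P, x * y ≠ y * x) :
    ∃ x y, Rels x y a ∧ Subgroup.closure ({x, y, a} : Set K) = ⊤ ∧ Nat.card K = 54 := by
  haveI : Fact (Nat.Prime 3) := ⟨Nat.prime_three⟩
  haveI := h.normal
  -- central inverted elements are trivial
  have hcen : ∀ z ∈ P, (∀ x ∈ P, z * x = x * z) → a * z * a = z⁻¹ → z = 1 := by
    intro z hz hzc hza
    by_contra hz1
    obtain ⟨x, hx, y, hy, hxy⟩ := hnc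
    have hle : P ≤ Subgroup.zpowers z := h.gen.trans ((Subgroup.closure_le _).2 fun w hw => by
      rcases h.dependent hz hza hz1 hw.1 hw.2 (hzc w hw.1) with rfl | rfl | rfl
      exacts [one_mem _, Subgroup.mem_zpowers _, inv_mem (Subgroup.mem_zpowers _)])
    obtain ⟨i, rfl⟩ := hle hx
    obtain ⟨j, rfl⟩ := hle hy
    exact hxy (zpow_mul_comm z i j)
  -- `a` centralises the centre
  have hfix : ∀ z ∈ P, (∀ x ∈ P, z * x = x * z) → a * z * a = z := by
    intro z hz hzc
    have hm : z⁻¹ * a * z * a ∈ P := by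
      have := mul_mem (inv_mem hz) (h.conj_mem hz)
      simpa [mul_assoc] using this
    have hz' : ∀ x ∈ P, (a * z * a) * x = x * (a * z * a) := by
      intro x hx
      calc (a * z * a) * x = a * (z * (a * x * a)) * a := by
            simp only [mul_assoc]; rw [h.sq, mul_one]
        _ = a * ((a * x * a) * z) * a := by rw [hzc _ (h.conj_mem hx)]
        _ = x * (a * z * a) := by simp only [← mul_assoc]; rw [h.sq, one_mul]
    have := hcen _ hm (fun x hx => by
      calc z⁻¹ * a * z * a * x = z⁻¹ * ((a * z * a) * x) := by group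
        _ = z⁻¹ * x * (a * z * a) := by rw [hz' x hx]; simp [mul_assoc]
        _ = x * z⁻¹ * (a * z * a) := by
            rw [(show Commute z x from hzc x hx).inv_left.eq]
        _ = x * (z⁻¹ * a * z * a) := by group) (h.inverted_comm z)
    calc a * z * a = z * (z⁻¹ * a * z * a) := by group
      _ = z := by rw [this, mul_one]
  -- an element of the second centre outside the centre
  obtain ⟨g, hgP, hg2, hg1⟩ : ∃ g ∈ P, (∀ x ∈ P, ∀ y ∈ P, ⁅g, x⁆ * y = y * ⁅g, x⁆) ∧
      ∃ x ∈ P, g * x ≠ x * g := by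
    obtain ⟨x₀, hx₀, y₀, hy₀, hxy⟩ := hnc
    let Z : Subgroup P := Subgroup.center P
    haveI : Nontrivial (P ⧸ Z) := by
      refine QuotientGroup.nontrivial_iff.2 fun e => hxy ?_
      have hm : (⟨x₀, hx₀⟩ : P) ∈ Z := e ▸ Subgroup.mem_top _
      exact congrArg Subtype.val ((Subgroup.mem_center_iff.1 hm) ⟨y₀, hy₀⟩).symm
    haveI := (h.pGroup.to_quotient Z).center_nontrivial
    obtain ⟨⟨c, hc⟩, hc1⟩ := exists_ne (1 : Subgroup.center (P ⧸ Z))
    obtain ⟨g, rfl⟩ := QuotientGroup.mk_surjective c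
    refine ⟨g, g.2, fun x hx y hy => ?_, ?_⟩
    · have hm : ⁅g, (⟨x, hx⟩ : P)⁆ ∈ Z := by
        refine (QuotientGroup.eq_one_iff _).1 ?_
        show ((⁅g, (⟨x, hx⟩ : P)⁆ : P) : P ⧸ Z) = 1
        rw [← QuotientGroup.mk'_apply, map_commutatorElement, commutatorElement_eq_one_iff_mul_comm]
        exact (Subgroup.mem_center_iff.1 hc _).symm
      exact congrArg Subtype.val ((Subgroup.mem_center_iff.1 hm) ⟨y, hy⟩).symm
    · by_contra hall
      push_neg at hall
      refine hc1 (Subtype.ext ((QuotientGroup.eq_one_iff g).2 (Subgroup.mem_center_iff.2 fun x => ?_)))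
      exact Subtype.ext (hall x x.2).symm
  -- an inverted one
  obtain ⟨u, huP, hua, hu2, hu1⟩ : ∃ u ∈ P, a * u * a = u⁻¹ ∧
      (∀ x ∈ P, ∀ y ∈ P, ⁅u, x⁆ * y = y * ⁅u, x⁆) ∧ ∃ x ∈ P, u * x ≠ x * u := by
    by_contra hno
    push_neg at hno
    obtain ⟨x₀, hx₀, hgx⟩ := hg1
    have hg'2 : ∀ x ∈ P, ∀ y ∈ P, ⁅a * g * a, x⁆ * y = y * ⁅a * g * a, x⁆ := by
      intro x hx y hy
      have e : ⁅a * g * a, x⁆ = a * ⁅g, a * x * a⁆ * a := by
        rw [h.conj_comm]
        congr 1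
        calc x = (a * a) * x * (a * a) := by rw [h.sq]; group
          _ = a * (a * x * a) * a := by group
      have hk : ⁅g, a * x * a⁆ ∈ P := by
        rw [commutatorElement_def]
        exact mul_mem (mul_mem (mul_mem hgP (h.conj_mem hx)) (inv_mem hgP)) (inv_mem (h.conj_mem hx))
      rw [e, hfix _ hk (hg2 _ (h.conj_mem hx))]
      exact hg2 _ (h.conj_mem hx) y hy
    set u := g⁻¹ * a * g * a with hu
    have huP : u ∈ P := by
      have := mul_mem (inv_mem hgP) (h.conj_mem hgP)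
      simpa [hu, mul_assoc] using this
    have hu2 : ∀ x ∈ P, ∀ y ∈ P, ⁅u, x⁆ * y = y * ⁅u, x⁆ := by
      intro x hx y hy
      set g' := a * g * a
      have e : ⁅u, x⁆ = g⁻¹ * ⁅g', x⁆ * ⁅g, x⁆⁻¹ * g := by
        simp only [commutatorElement_def, hu, g']
        group
      have c1 := hg'2 x hx g⁻¹ (inv_mem hgP)
      have c2 : ⁅g, x⁆⁻¹ * g = g * ⁅g, x⁆⁻¹ :=
        (show Commute ⁅g, x⁆ g from hg2 x hx g hgP).inv_left.eq
      have e' : ⁅u, x⁆ = ⁅g', x⁆ * ⁅g, x⁆⁻¹ := by
        rw [e, ← c1]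
        calc ⁅g', x⁆ * g⁻¹ * ⁅g, x⁆⁻¹ * g = ⁅g', x⁆ * g⁻¹ * (⁅g, x⁆⁻¹ * g) := by group
          _ = _ := by rw [c2]; group
      rw [e']
      exact ((show Commute ⁅g', x⁆ y from hg'2 x hx y hy).mul_left
        ((show Commute ⁅g, x⁆ y from hg2 x hx y hy).inv_left)).eq
    have hu1 : u = 1 := hcen u huP (hno u huP (h.inverted_comm g) hu2) (h.inverted_comm g)
    have hga : a * g * a = g := by
      calc a * g * a = g * u := by rw [hu]; group
        _ = g := by rw [hu1, mul_one]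
    -- `g` would commute with every inverted element
    have hcm : ∀ x ∈ P, a * x * a = x⁻¹ → g * x = x * g := by
      intro x hx hxa
      have hzP : ⁅g, x⁆ ∈ P := by
        rw [commutatorElement_def]
        exact mul_mem (mul_mem (mul_mem hgP hx) (inv_mem hgP)) (inv_mem hx)
      have hz := hfix _ hzP (hg2 x hx)
      rw [h.conj_comm, hga, hxa] at hz
      have e : ⁅g, x⁻¹⁆ = ⁅g, x⁆⁻¹ := by
        have c := hg2 x hx x hx
        have : ⁅g, x⁻¹⁆ = x⁻¹ * ⁅g, x⁆⁻¹ * x := by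
          rw [commutatorElement_def, commutatorElement_def]; group
        rw [this, mul_assoc, (show Commute ⁅g, x⁆ x from c).inv_left.eq, ← mul_assoc, inv_mul_cancel,
          one_mul]
      rw [e] at hz
      obtain ⟨k, hk⟩ := h.pGroup ⟨⁅g, x⁆, hzP⟩
      have hk' : ⁅g, x⁆ ^ 3 ^ k = 1 := congrArg Subtype.val hk
      have h2 : ⁅g, x⁆ ^ 2 = 1 := by
        rw [pow_two]; nth_rewrite 1 [← hz]; exact inv_mul_cancel _
      have h4 := Nat.dvd_gcd (orderOf_dvd_of_pow_eq_one hk') (orderOf_dvd_of_pow_eq_one h2)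
      rw [show Nat.gcd (3 ^ k) 2 = 1 from Nat.Coprime.pow_left k (by norm_num), Nat.dvd_one,
        orderOf_eq_one_iff] at h4
      exact commutatorElement_eq_one_iff_mul_comm.1 h4
    have hle : P ≤ Subgroup.centralizer {g} := h.gen.trans ((Subgroup.closure_le _).2 fun x hx =>
      Subgroup.mem_centralizer_iff.2 fun y hy => by
        rw [Set.mem_singleton_iff] at hy; subst hy; exact hcm x hx.1 hx.2)
    exact hgx (Subgroup.mem_centralizer_iff.1 (hle hx₀) g rfl)
  -- `x ↦ ⁅u, x⁆`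
  set c : K → K := fun x => ⁅u, x⁆ with hc
  have hcP : ∀ x ∈ P, c x ∈ P := fun x hx => by
    rw [hc]; simp only [commutatorElement_def]
    exact mul_mem (mul_mem (mul_mem huP hx) (inv_mem huP)) (inv_mem hx)
  have hcmul : ∀ x ∈ P, ∀ y ∈ P, c (x * y) = c x * c y := by
    intro x hx y hy
    have : c (x * y) = c x * (x * c y * x⁻¹) := by
      simp only [hc, commutatorElement_def]; group
    rw [this, ← hu2 y hy x hx, mul_inv_cancel_right]
  have hcu : c u = 1 := by simp [hc]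
  have hcinv : ∀ x ∈ P, c x⁻¹ = (c x)⁻¹ := by
    intro x hx
    have := hcmul x hx x⁻¹ (inv_mem hx)
    rw [mul_inv_cancel] at this
    have e1 : c 1 = 1 := by simp [hc]
    rw [e1] at this
    exact (inv_eq_of_mul_eq_one_right this.symm).symm
  have hu0 : u ≠ 1 := by rintro rfl; obtain ⟨x, hx, hne⟩ := hu1; simp at hne
  obtain ⟨v, hvP, hva, hv1⟩ : ∃ v ∈ P, a * v * a = v⁻¹ ∧ c v ≠ 1 := by
    by_contra hno
    push_neg at hno
    obtain ⟨x, hx, hne⟩ := hu1
    have hle : P ≤ Subgroup.centralizer {u} := h.gen.trans ((Subgroup.closure_le _).2 fun y hy =>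
      Subgroup.mem_centralizer_iff.2 fun w hw => by
        rw [Set.mem_singleton_iff] at hw; subst hw
        exact commutatorElement_eq_one_iff_mul_comm.1 (hno y hy.1 hy.2))
    exact hne (Subgroup.mem_centralizer_iff.1 (hle hx) u rfl)
  -- `a` fixes the fixed points of each nontrivial value of `c`
  have hline : ∀ x ∈ P, a * x * a = x⁻¹ → c x ≠ 1 → ∀ w, ρ (c x) w = w → ρ a w = w := by
    intro x hx hxa hx1 w hw
    have hal : a * c x = c x * a := by
      have := congrArg (fun t => t * a) (hfix _ (hcP x hx) (hu2 x hx))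
      simpa [mul_assoc, h.sq] using this
    have hne : x ≠ u := by rintro rfl; exact hx1 hcu
    have hne' : x ≠ u⁻¹ := by
      rintro rfl; exact hx1 (by rw [hcinv u huP, hcu, inv_one])
    have hx0 : x ≠ 1 := by rintro rfl; exact hx1 (by simp [hc])
    refine h.pair huP hua hu0 hx hxa hx0 hne hne' (U := {w | ρ (c x) w = w}) ?_ ?_ ?_ ?_ w hw
    · intro w (hw : _ = _)
      show ρ (c x) (w + ρ a w) = _
      rw [map_add, hw, ← act_mul, ← hal, act_mul, hw]
    · intro w (hw : _ = _)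
      show ρ (c x) (ρ u w) = _
      rw [← act_mul, hu2 x hx u huP, act_mul, hw]
    · intro w (hw : _ = _)
      show ρ (c x) (ρ x w) = _
      rw [← act_mul, hu2 x hx x hx, act_mul, hw]
    · intro w (hw : _ = _)
      have e : u * x = x * u * c x := by
        rw [mul_assoc, ← hu2 x hx u huP, ← mul_assoc, ← hu2 x hx x hx]
        simp only [hc, commutatorElement_def]; group
      rw [← act_mul, e, act_mul, hw, act_mul]
  have hl3 : ∀ x ∈ P, c x ^ 3 = 1 := by
    intro x hx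
    have h1 : (c x * x) ^ 3 = c x ^ 3 * x ^ 3 := (show Commute (c x) x from hu2 x hx x hx).mul_pow 3
    have h2 : x ^ 3 = 1 → c x ^ 3 = 1 := fun hx3 => by
      have e : c x * x = u * x * u⁻¹ := by simp only [hc, commutatorElement_def]; group
      rw [e, conj_pow, hx3, mul_one, mul_inv_cancel] at h1
      rw [mul_one] at h1
      exact h1.symm
    have e : c x * x = u * x * u⁻¹ := by simp only [hc, commutatorElement_def]; group
    have h3 : (c x * x) ^ 3 = u * x ^ 3 * u⁻¹ := by rw [e, conj_pow]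
    have h4 : c (x ^ 3) = c x ^ 3 := by
      rw [pow_succ', pow_two, hcmul x hx _ (mul_mem hx hx), hcmul x hx x hx, pow_succ', pow_two]
    have h5 : ⁅u ^ 3, x⁆ = c x ^ 3 := by
      have cu : Commute (c x) u := hu2 x hx u huP
      have e2 : x * u * x⁻¹ = (c x)⁻¹ * u := by simp only [hc, commutatorElement_def]; group
      have e3 : x * u ^ 3 * x⁻¹ = ((c x) ^ 3)⁻¹ * u ^ 3 := by
        rw [← conj_pow, e2, cu.inv_left.mul_pow, inv_pow]
      rw [commutatorElement_def]
      calc u ^ 3 * x * (u ^ 3)⁻¹ * x⁻¹ = u ^ 3 * (x * u ^ 3 * x⁻¹)⁻¹ := by group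
        _ = c x ^ 3 := by rw [e3]; group
    rw [← h5, h.cube u huP hua]
    simp
  -- any further value lies in the subgroup generated by `c v`
  have hspan : ∀ x ∈ P, a * x * a = x⁻¹ → c x ∈ Subgroup.zpowers (c v) := by
    intro x hx hxa
    by_contra hnot
    have hw1 : c x ≠ 1 := fun e => hnot (by rw [e]; exact one_mem _)
    refine h.rho_a_ne (AddMonoidHom.ext fun w => ?_)
    show ρ a w = w
    have zw : ∀ x' ∈ P, a * x' * a = x'⁻¹ → c x' ∉ Subgroup.zpowers (c v) →
        ∀ w, ρ (c v * c x') w = w → ρ a w = w := by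
      intro x' hx' hx'a hn w hw
      have hy : (v * x')⁻¹ * a * (v * x') * a ∈ P := by
        have := mul_mem (inv_mem (mul_mem hvP hx')) (h.conj_mem (mul_mem hvP hx'))
        simpa [mul_assoc] using this
      have ey : (v * x')⁻¹ * a * (v * x') * a = (v * x')⁻¹ * (v⁻¹ * x'⁻¹) := by
        calc (v * x')⁻¹ * a * (v * x') * a
            = (v * x')⁻¹ * ((a * v * a⁻¹) * (a * x' * a)) := by group
          _ = _ := by rw [h.inv_a, hva, hx'a]
      have cy : c ((v * x')⁻¹ * a * (v * x') * a) = c v * c x' := by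
        rw [ey, hcmul _ (inv_mem (mul_mem hvP hx')) _ (mul_mem (inv_mem hvP) (inv_mem hx')),
          hcinv _ (mul_mem hvP hx'), hcmul v hvP x' hx', hcmul _ (inv_mem hvP) _ (inv_mem hx'),
          hcinv v hvP, hcinv x' hx']
        have cc : Commute (c v) (c x') := hu2 v hvP _ (hcP x' hx')
        rw [← mul_inv_rev, cc.eq, ← mul_inv_rev, inv_eq_iff_mul_eq_one, mul_assoc, ← pow_two,
          ← pow_succ', cc.symm.mul_pow, hl3 v hvP, hl3 x' hx', one_mul]
      refine hline _ hy (h.inverted_comm _) ?_ w (by rw [cy]; exact hw)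
      rw [cy]
      exact fun e => hn (by
        rw [eq_inv_of_mul_eq_one_right e]; exact inv_mem (Subgroup.mem_zpowers _))
    set z := c v with hz
    set z' := c x with hz'
    have czz : z * z' = z' * z := hu2 v hvP _ (hcP x hx)
    have hz3 : z ^ 3 = 1 := hl3 v hvP
    have hz'3 : z' ^ 3 = 1 := hl3 x hx
    have k : ∀ (l : K), l ^ 3 = 1 → (∀ w, ρ l w = w → ρ a w = w) →
        ρ a (w + ρ l w + ρ l (ρ l w)) = w + ρ l w + ρ l (ρ l w) := by
      intro l hl hfl
      refine hfl _ ?_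
      have l3 : ρ l (ρ l (ρ l w)) = w := by
        rw [← act_mul, ← act_mul, ← pow_two, ← pow_succ, hl, map_one]; rfl
      rw [map_add, map_add, l3]; abel
    have hcomm : Commute z z' := czz
    have hx'i : a * x⁻¹ * a = x⁻¹⁻¹ := h.conj_inv hxa
    have k1 := k z hz3 (hline v hvP hva hv1)
    have k2 := k z' hz'3 (hline x hx hxa hw1)
    have k3 := k (z * z') (by rw [hcomm.mul_pow, hz3, hz'3, one_mul]) (zw x hx hxa hnot)
    have k4 := k (z * z'⁻¹) (by rw [hcomm.inv_right.mul_pow, hz3, inv_pow, hz'3, inv_one, one_mul])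
      (by
        have := zw x⁻¹ (inv_mem hx) hx'i (by rw [hcinv x hx, Subgroup.inv_mem_iff]; exact hnot)
        rwa [hcinv x hx] at this)
    have hall : ∀ w, ρ z w = w → ρ a w = w := hline v hvP hva hv1
    -- the product of the two sums is fixed by `z`
    have k5 : ρ a ((w + ρ z' w + ρ z' (ρ z' w)) + ρ z (w + ρ z' w + ρ z' (ρ z' w)) +
        ρ z (ρ z (w + ρ z' w + ρ z' (ρ z' w)))) = (w + ρ z' w + ρ z' (ρ z' w)) +
        ρ z (w + ρ z' w + ρ z' (ρ z' w)) + ρ z (ρ z (w + ρ z' w + ρ z' (ρ z' w))) := by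
      refine hall _ ?_
      have z3 : ∀ s, ρ z (ρ z (ρ z s)) = s := fun s => by
        rw [← act_mul, ← act_mul, ← pow_two, ← pow_succ, hz3, map_one]; rfl
      rw [map_add, map_add, z3]; abel
    have zz : ∀ s, ρ z' (ρ z s) = ρ z (ρ z' s) := fun s => by
      rw [← act_mul, ← act_mul, czz]
    have z'i : ∀ s, ρ z'⁻¹ s = ρ z' (ρ z' s) := fun s => by
      rw [← act_mul, inv_eq_of_mul_eq_one_right (show z' * (z' * z') = 1 by
        rw [← hz'3, pow_succ', pow_two])]
    have z'3 : ∀ s, ρ z' (ρ z' (ρ z' s)) = s := fun s => by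
      rw [← act_mul, ← act_mul, ← pow_two, ← pow_succ, hz'3, map_one]; rfl
    simp only [act_mul, z'i, map_add, zz, z'3] at k1 k2 k3 k4 k5
    have h3 : ρ a w + ρ a w + ρ a w = w + w + w := by
      have := congrArg₂ (· - ·) (congrArg₂ (· + ·) (congrArg₂ (· + ·) k1 k2)
        (congrArg₂ (· + ·) k3 k4)) k5
      have e1 : ρ a w + ρ a w + ρ a w = _ := Eq.trans (by abel) this
      exact e1.trans (by abel)
    simpa [h.char] using h3
  -- generation
  have hN : P ≤ Subgroup.closure ({u, v} : Set K) := by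
    set N := Subgroup.closure ({u, v} : Set K) with hN
    have huN : u ∈ N := Subgroup.subset_closure (Or.inl rfl)
    have hvN : v ∈ N := Subgroup.subset_closure (Or.inr rfl)
    have hzN : c v ∈ N := by
      simp only [hc, commutatorElement_def]
      exact mul_mem (mul_mem (mul_mem huN hvN) (inv_mem huN)) (inv_mem hvN)
    refine h.gen.trans ((Subgroup.closure_le _).2 fun x hx => ?_)
    obtain ⟨hxP, hxa⟩ := hx
    obtain ⟨i, hi⟩ := Subgroup.mem_zpowers_iff.1 (hspan x hxP hxa)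
    have hcpow : ∀ n : ℕ, c (v ^ n) = c v ^ n := by
      intro n
      induction n with
      | zero => simp [hc]
      | succ n ih => rw [pow_succ, hcmul _ (pow_mem hvP n) v hvP, ih, pow_succ]
    have hczpow : ∀ n : ℤ, c (v ^ n) = c v ^ n := by
      intro n
      obtain ⟨n, rfl | rfl⟩ := Int.eq_nat_or_neg n
      · rw [zpow_natCast, zpow_natCast, hcpow]
      · rw [zpow_neg, zpow_natCast, zpow_neg, zpow_natCast, hcinv _ (pow_mem hvP n), hcpow]
    set g' := (v ^ i)⁻¹ * x with hg'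
    have hg'P : g' ∈ P := mul_mem (inv_mem (zpow_mem hvP i)) hxP
    have hcg : c g' = 1 := by
      rw [hg', hcmul _ (inv_mem (zpow_mem hvP i)) x hxP, hcinv _ (zpow_mem hvP i), hczpow, hi,
        inv_mul_cancel]
    set w := g'⁻¹ * a * g' * a with hw
    have hwP : w ∈ P := by
      have := mul_mem (inv_mem hg'P) (h.conj_mem hg'P)
      simpa [hw, mul_assoc] using this
    have hva' : a * v ^ i * a = (v ^ i)⁻¹ := by
      have e : a * v * a⁻¹ = v⁻¹ := by rw [h.inv_a, hva]
      calc a * v ^ i * a = (a * v * a⁻¹) ^ i := by rw [conj_zpow, h.inv_a]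
        _ = (v ^ i)⁻¹ := by rw [e, inv_zpow]
    have ew : w = g'⁻¹ * (v ^ i * x⁻¹) := by
      calc w = g'⁻¹ * ((a * v ^ i * a)⁻¹ * (a * x * a)) := by
            rw [hw, hg', mul_inv_rev, mul_inv_rev, h.inv_a]; simp [mul_assoc]
        _ = _ := by rw [hva', hxa, inv_inv]
    have hwc : c w = 1 := by
      have e1 : c (v ^ i * x⁻¹) = 1 := by
        rw [hcmul _ (zpow_mem hvP i) _ (inv_mem hxP), hczpow, hcinv x hxP, hi, mul_inv_cancel]
      rw [ew, hcmul _ (inv_mem hg'P) _ (mul_mem (zpow_mem hvP i) (inv_mem hxP)), hcinv _ hg'P, hcg,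
        e1, inv_one, one_mul]
    have hwN : w ∈ N := by
      rcases h.dependent huP hua hu0 hwP (h.inverted_comm _)
        (commutatorElement_eq_one_iff_mul_comm.1 hwc) with e | e | e <;> rw [e]
      exacts [one_mem _, huN, inv_mem huN]
    -- `x * w * x` is a power of `v`
    have e1 : x * w * x = v ^ i * v ^ i := by rw [ew, hg']; group
    have e2 : x * w * x⁻¹ ∈ N := by
      rcases h.dependent huP hua hu0 hwP (h.inverted_comm _)
        (commutatorElement_eq_one_iff_mul_comm.1 hwc) with e | e | e <;> rw [e]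
      · simp
      · have : x * u * x⁻¹ = (c x)⁻¹ * u := by simp only [hc, commutatorElement_def]; group
        rw [this, ← hi]; exact mul_mem (inv_mem (zpow_mem hzN i)) huN
      · have : x * u⁻¹ * x⁻¹ = u⁻¹ * c x := by simp only [hc, commutatorElement_def]; group
        rw [this, ← hi]; exact mul_mem (inv_mem huN) (zpow_mem hzN i)
    have e3 : x * x ∈ N := by
      have : x * x = (x * w * x⁻¹)⁻¹ * (x * w * x) := by group
      rw [this, e1]; exact mul_mem (inv_mem e2) (mul_mem (zpow_mem hvN i) (zpow_mem hvN i))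
    have e4 : x = (x * x) * (x * x) := by
      have h3 := h.cube x hxP hxa
      rw [pow_succ, pow_two] at h3
      rw [← mul_assoc, h3, one_mul]
    rw [e4]; exact mul_mem e3 e3
  have hr : Rels u v a := ⟨h.cube u huP hua, h.cube v hvP hva, h.sq, (hu2 v hvP u huP).symm,
    (hu2 v hvP v hvP).symm, hua, hva⟩
  refine ⟨u, v, hr, ?_, ?_⟩
  · refine eq_top_iff.2 (le_trans (h.closure_top (S := {u, v}) hN).ge (Subgroup.closure_mono ?_))
    rintro t (rfl | rfl | rfl)
    exacts [Or.inr (Or.inr rfl), Or.inl rfl, Or.inr (Or.inl rfl)]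
  · have hle : Subgroup.closure ({u, v} : Set K) ≤ P := (Subgroup.closure_le _).2 (by
      rintro t (rfl | rfl)
      exacts [huP, hvP])
    have h27 : Nat.card P = 27 := by
      rw [← le_antisymm hle hN]
      exact hr.card_pair_eq (h.pGroup.to_le hle)
        fun e => hv1 (commutatorElement_eq_one_iff_mul_comm.2 e)
    rw [← P.card_mul_index, h27, h.index]

end CfsgLib.ThreeTransp.TwoThreeTwo
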