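import Mathlib
import Cfsg.Agent.Lib.ThreeTransp.TwoThreeTwo
import Cfsg.Agent.Lib.PGroups.Basic
import Cfsg.Agent.Lib.Base.Cores
import Cfsg.Agent.Lib.Coprime.Action2
import Cfsg.Agent.Lib.Components.FStar
import Cfsg.Prelude.Def_Local

/-!
The quotient by `O₂` of a 3-transposition group with `F*(H) = O₂(H)` and 3-by-2 quotient.
-/

set_option autoImplicit false
set_option linter.style.haveILetI false

namespace CfsgLib.ThreeTransp.TwoThreeTwo

open scoped commutatorElement
open CfsgLib.ThreeTransp.HeisTwo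

/-- A finite `p`-group generated by one class is generated by each of its members. -/
theorem zpowers_eq_top_of_class {G : Type*} [Group G] [Finite G] {p : ℕ} [Fact p.Prime]
    (hG : IsPGroup p G) {S : Set G} (hS : Subgroup.closure S = ⊤) {d : G}
    (hcl : ∀ s ∈ S, IsConj d s) : Subgroup.zpowers d = ⊤ := by
  by_contra hne
  rcases eq_top_or_exists_le_coatom (Subgroup.zpowers d) with h | ⟨M, hM, hle⟩
  · exact hne h
  haveI := hG.isNilpotent
  have hMn : M.Normal :=
    Subgroup.NormalizerCondition.normal_of_coatom M Group.normalizerCondition_of_isNilpotent hM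
  refine hM.1 (top_le_iff.1 (hS ▸ (Subgroup.closure_le M).2 fun s hs => ?_))
  obtain ⟨c, hc⟩ := isConj_iff.1 (hcl s hs)
  rw [← hc]
  exact hMn.conj_mem d (hle (Subgroup.mem_zpowers d)) c

section Action

variable {H : Type*} [Group H] [Finite H] (Q : Subgroup H) [Q.Normal]

/-- the Frattini quotient of a subgroup, additively -/
abbrev Mod : Type _ := Additive (↥Q ⧸ frattini ↥Q)

/-- conjugation on the Frattini quotient -/
noncomputable def act (h : H) : (↥Q ⧸ frattini ↥Q) →* (↥Q ⧸ frattini ↥Q) :=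
  QuotientGroup.map _ _ (MulAut.conjNormal h).toMonoidHom (fun x hx =>
    (Subgroup.characteristic_iff_le_comap.1 (frattini_characteristic (G := ↥Q)))
      (MulAut.conjNormal h) hx)

theorem act_mk (h : H) (q : ↥Q) :
    act Q h (q : ↥Q ⧸ frattini ↥Q) = ((MulAut.conjNormal h q : ↥Q) : ↥Q ⧸ frattini ↥Q) := rfl

theorem mk_comm (hQ : IsPGroup 2 Q) (x y : ↥Q ⧸ frattini ↥Q) : x * y = y * x := by
  haveI : Fact (Nat.Prime 2) := ⟨Nat.prime_two⟩
  obtain ⟨x, rfl⟩ := QuotientGroup.mk_surjective x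
  obtain ⟨y, rfl⟩ := QuotientGroup.mk_surjective y
  rw [← QuotientGroup.mk_mul, ← QuotientGroup.mk_mul, QuotientGroup.eq]
  refine CfsgLib.PGroups.commutator_le_frattini hQ ?_
  have : (x * y)⁻¹ * (y * x) = ⁅y⁻¹, x⁻¹⁆ := by rw [commutatorElement_def]; group
  rw [this]
  exact Subgroup.commutator_mem_commutator (Subgroup.mem_top _) (Subgroup.mem_top _)

theorem mk_sq (hQ : IsPGroup 2 Q) (x : ↥Q ⧸ frattini ↥Q) : x * x = 1 := by
  haveI : Fact (Nat.Prime 2) := ⟨Nat.prime_two⟩
  obtain ⟨x, rfl⟩ := QuotientGroup.mk_surjective x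
  rw [← QuotientGroup.mk_mul, QuotientGroup.eq_one_iff, ← pow_two]
  exact CfsgLib.PGroups.pow_mem_frattini hQ x

end Action

set_option maxHeartbeats 1000000 in
theorem main {H : Type*} [Group H] [Finite H] {E : Set H}
    (hE : Cfsg.IsThreeTranspositionClass E) (hE2 : ∃ a ∈ E, ∃ b ∈ E, a ≠ b)
    (hF : Cfsg.generalizedFittingSubgroup H = Cfsg.pCore 2 H)
    (h232 : ∃ P : Sylow 3 (H ⧸ Cfsg.pCore 2 H), (P : Subgroup (H ⧸ Cfsg.pCore 2 H)).Normal ∧
      ∃ k : ℕ, (P : Subgroup (H ⧸ Cfsg.pCore 2 H)).index = 2 ^ k) :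
    Nonempty (H ⧸ Cfsg.pCore 2 H ≃* Equiv.Perm (Fin 3)) ∨
      Nonempty (H ⧸ Cfsg.pCore 2 H ≃* ↥(commutator ↥(Cfsg.SU 3 CfsgLib.Spor.QField 2))) := by
  haveI : Fact (Nat.Prime 2) := ⟨Nat.prime_two⟩
  haveI : Fact (Nat.Prime 3) := ⟨Nat.prime_three⟩
  obtain ⟨⟨hord, hset⟩, ⟨d₀, hd₀E, hcl⟩, hgen⟩ := hE
  set Q := Cfsg.pCore 2 H with hQdef
  have hQp : IsPGroup 2 Q := CfsgLib.Base.isPGroup_pCore 2 H
  set π := QuotientGroup.mk' Q with hπ
  have hsurj : Function.Surjective π := QuotientGroup.mk'_surjective Q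
  obtain ⟨P, hPn, k, hk⟩ := h232
  set a := π d₀ with ha
  have hsq₀ : d₀ * d₀ = 1 := CfsgLib.Involutions.invol_mul_self (hord d₀ hd₀E)
  have hEconj : ∀ b ∈ E, IsConj d₀ b := fun b hb => by rw [hcl] at hb; exact hb
  have hconjE : ∀ g : H, ∀ b ∈ E, g * b * g⁻¹ ∈ E := fun g b hb => by
    rw [hcl]; exact (hEconj b hb).trans (isConj_iff.2 ⟨g, rfl⟩)
  have hgenK : Subgroup.closure (π '' E) = ⊤ := by
    rw [← MonoidHom.map_closure, hgen, Subgroup.map_top_of_surjective _ hsurj]
  have hclK : ∀ s ∈ π '' E, IsConj a s := by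
    rintro _ ⟨b, hb, rfl⟩; exact π.map_isConj (hEconj b hb)
  have hasq : a * a = 1 := by rw [ha, ← map_mul, hsq₀, map_one]
  -- `a` is not trivial
  have ha1 : a ≠ 1 := by
    intro h1
    have hall : ∀ b ∈ E, b ∈ Q := fun b hb => by
      have h2 := hclK (π b) ⟨b, hb, rfl⟩
      rw [h1, isConj_one_right] at h2
      exact (QuotientGroup.eq_one_iff b).1 h2
    have hQtop : Q = ⊤ := top_le_iff.1 (hgen ▸ (Subgroup.closure_le Q).2 hall)
    have hH : IsPGroup 2 H := by
      rw [hQtop] at hQp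
      exact hQp.of_equiv Subgroup.topEquiv
    have htop := zpowers_eq_top_of_class hH hgen hEconj
    obtain ⟨x, hx, y, hy, hxy⟩ := hE2
    have hsame : ∀ z ∈ E, z = d₀ := fun z hz => by
      obtain ⟨c, hc⟩ := isConj_iff.1 (hEconj z hz)
      obtain ⟨i, rfl⟩ := Subgroup.mem_zpowers_iff.1 (htop.symm ▸ Subgroup.mem_top c : c ∈ Subgroup.zpowers d₀)
      rw [← hc]; group
    exact hxy ((hsame x hx).trans (hsame y hy).symm)
  -- `P` has index two
  set P' : Subgroup (H ⧸ Q) := (P : Subgroup (H ⧸ Q)) with hP'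
  haveI := hPn
  have haP : a ∉ P' := by
    intro h
    obtain ⟨j, hj⟩ := P.isPGroup' ⟨a, h⟩
    have h3 : a ^ 3 ^ j = 1 := congrArg Subtype.val hj
    have h2 : a ^ 2 = 1 := by rw [pow_two, hasq]
    have h4 := Nat.dvd_gcd (orderOf_dvd_of_pow_eq_one h3) (orderOf_dvd_of_pow_eq_one h2)
    rw [show Nat.gcd (3 ^ j) 2 = 1 from Nat.Coprime.pow_left j (by norm_num), Nat.dvd_one,
      orderOf_eq_one_iff] at h4
    exact ha1 h4
  have hidx : P'.index = 2 := by
    let σ := QuotientGroup.mk' P'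
    have hpq : IsPGroup 2 ((H ⧸ Q) ⧸ P') := IsPGroup.of_card (n := k) (by
      rw [← Subgroup.index_eq_card]; exact hk)
    have hg' : Subgroup.closure (σ '' (π '' E)) = ⊤ := by
      rw [← MonoidHom.map_closure, hgenK,
        Subgroup.map_top_of_surjective _ (QuotientGroup.mk'_surjective P')]
    have htop := zpowers_eq_top_of_class hpq hg' (d := σ a) (by
      rintro _ ⟨b, hb, rfl⟩; exact σ.map_isConj (hclK b hb))
    rw [Subgroup.index_eq_card, ← Subgroup.card_top, ← htop, Nat.card_zpowers]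
    refine orderOf_eq_prime (by rw [pow_two, ← map_mul, hasq, map_one]) fun h1 => haP ?_
    exact (QuotientGroup.eq_one_iff a).1 h1
  have hai : a⁻¹ = a := inv_eq_of_mul_eq_one_right hasq
  -- generation by inverted elements
  have hgenP : P' ≤ Subgroup.closure {t : H ⧸ Q | t ∈ P' ∧ a * t * a = t⁻¹} := by
    set S := {t : H ⧸ Q | t ∈ P' ∧ a * t * a = t⁻¹} with hS
    set L := Subgroup.closure S with hL
    have hLP : L ≤ P' := (Subgroup.closure_le _).2 fun t ht => ht.1
    have haL : ∀ x ∈ L, a * x * a ∈ L := by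
      intro x hx
      have hle : L ≤ L.comap (MulAut.conj a).toMonoidHom := (Subgroup.closure_le _).2 fun t ht => by
        show a * t * a⁻¹ ∈ L
        rw [hai, ht.2]
        exact inv_mem (Subgroup.subset_closure ht)
      have := hle hx
      simpa [hai] using this
    have key : ∀ g : H ⧸ Q, g ∈ L ∨ a * g ∈ L := by
      intro g
      have hg : g ∈ Subgroup.closure (π '' E) := hgenK.symm ▸ Subgroup.mem_top g
      induction hg using Subgroup.closure_induction_left with
      | one => exact Or.inl (one_mem _)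
      | mul_left s hs y _ ih =>
          obtain ⟨b, hb, rfl⟩ := hs
          have hbb : π b * π b = 1 := by
            rw [← map_mul, CfsgLib.Involutions.invol_mul_self (hord b hb), map_one]
          have hbP : π b ∉ P' := fun hm => haP (by
            obtain ⟨c, hc⟩ := isConj_iff.1 (hclK _ ⟨b, hb, rfl⟩).symm
            rw [← hc]; exact hPn.conj_mem _ hm c)
          have hab : a * π b ∈ L := Subgroup.subset_closure
            ⟨(Subgroup.mul_mem_iff_of_index_two hidx).2 (iff_of_false haP hbP), by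
              rw [← mul_assoc, hasq, one_mul, mul_inv_rev, inv_eq_of_mul_eq_one_right hbb, hai]⟩
          rcases ih with ih | ih
          · right; rw [← mul_assoc]; exact mul_mem hab ih
          · left
            have := mul_mem (haL _ hab) ih
            rwa [← mul_assoc a a, hasq, one_mul, mul_assoc (π b), ← mul_assoc a a, hasq, one_mul] at this
      | inv_mul_cancel s hs y _ ih =>
          obtain ⟨b, hb, rfl⟩ := hs
          have hbb : π b * π b = 1 := by
            rw [← map_mul, CfsgLib.Involutions.invol_mul_self (hord b hb), map_one]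
          rw [inv_eq_of_mul_eq_one_right hbb]
          have hbP : π b ∉ P' := fun hm => haP (by
            obtain ⟨c, hc⟩ := isConj_iff.1 (hclK _ ⟨b, hb, rfl⟩).symm
            rw [← hc]; exact hPn.conj_mem _ hm c)
          have hab : a * π b ∈ L := Subgroup.subset_closure
            ⟨(Subgroup.mul_mem_iff_of_index_two hidx).2 (iff_of_false haP hbP), by
              rw [← mul_assoc, hasq, one_mul, mul_inv_rev, inv_eq_of_mul_eq_one_right hbb, hai]⟩
          rcases ih with ih | ih
          · right; rw [← mul_assoc]; exact mul_mem hab ih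
          · left
            have := mul_mem (haL _ hab) ih
            rwa [← mul_assoc a a, hasq, one_mul, mul_assoc (π b), ← mul_assoc a a, hasq, one_mul] at this
    intro x hx
    rcases key x with h | h
    · exact h
    · exact absurd ((Subgroup.mul_mem_iff_of_index_two hidx).1 (hLP h)) (fun e => haP (e.2 hx))
  -- inverted elements are products of two members of the class
  have hlift : ∀ t ∈ P', a * t * a = t⁻¹ → ∃ b ∈ E, π (d₀ * b) = t := by
    intro t ht hta
    obtain ⟨j, hj⟩ := P.isPGroup' ⟨t, ht⟩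
    have h3 : t ^ 3 ^ j = 1 := congrArg Subtype.val hj
    obtain ⟨m, hm⟩ : Odd (3 ^ j) := Odd.pow (by decide)
    set s := t ^ (m + 1) with hs
    have hss : s * s = t := by
      rw [hs, ← pow_add, show m + 1 + (m + 1) = 3 ^ j + 1 by omega, pow_succ, h3, one_mul]
    have hsa : a * s * a = s⁻¹ := by
      have e : a * t * a⁻¹ = t⁻¹ := by rw [hai, hta]
      calc a * s * a = (a * t * a⁻¹) ^ (m + 1) := by rw [conj_pow, hai]
        _ = s⁻¹ := by rw [e, inv_pow]
    obtain ⟨g, hg⟩ := hsurj s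
    refine ⟨g⁻¹ * d₀ * g, by simpa using hconjE g⁻¹ d₀ hd₀E, ?_⟩
    rw [map_mul, map_mul, map_mul, map_inv, hg, ← ha, ← mul_assoc, ← mul_assoc, ← hsa]
    calc a * (a * s * a) * a * s = (a * a) * s * (a * a) * s := by simp [mul_assoc]
      _ = t := by rw [hasq, one_mul, mul_one, hss]
  have hcube : ∀ t ∈ P', t ≠ 1 → ∀ b ∈ E, ∀ d ∈ E, π (d * b) = t → (d * b) ^ 3 = 1 := by
    intro t ht ht1 b hb d hd hdb
    refine (hset d hd b hb).resolve_left fun h2 => ht1 ?_
    have h2' : t ^ 2 = 1 := by rw [← hdb, ← map_pow, h2, map_one]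
    obtain ⟨j, hj⟩ := P.isPGroup' ⟨t, ht⟩
    have h3 : t ^ 3 ^ j = 1 := congrArg Subtype.val hj
    have h4 := Nat.dvd_gcd (orderOf_dvd_of_pow_eq_one h3) (orderOf_dvd_of_pow_eq_one h2')
    rwa [show Nat.gcd (3 ^ j) 2 = 1 from Nat.Coprime.pow_left j (by norm_num), Nat.dvd_one,
      orderOf_eq_one_iff] at h4
  -- the module
  letI : CommGroup (↥Q ⧸ frattini ↥Q) :=
    { (inferInstance : Group (↥Q ⧸ frattini ↥Q)) with mul_comm := mk_comm Q hQp }
  let ρ₀ : H →* AddMonoid.End (Mod Q) :=
    { toFun := fun h => MonoidHom.toAdditive (act Q h)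
      map_one' := by
        refine AddMonoidHom.ext fun x => ?_
        obtain ⟨q, hq⟩ := QuotientGroup.mk_surjective (Additive.toMul x)
        rw [show x = Additive.ofMul (q : ↥Q ⧸ frattini ↥Q) from hq ▸ rfl]
        show Additive.ofMul (act Q 1 (q : ↥Q ⧸ frattini ↥Q)) = Additive.ofMul (q : ↥Q ⧸ frattini ↥Q)
        rw [act_mk, map_one]
        rfl
      map_mul' := fun g h => by
        refine AddMonoidHom.ext fun x => ?_
        obtain ⟨q, hq⟩ := QuotientGroup.mk_surjective (Additive.toMul x)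
        rw [show x = Additive.ofMul (q : ↥Q ⧸ frattini ↥Q) from hq ▸ rfl]
        show Additive.ofMul (act Q (g * h) (q : ↥Q ⧸ frattini ↥Q)) =
          Additive.ofMul (act Q g (act Q h (q : ↥Q ⧸ frattini ↥Q)))
        rw [act_mk, act_mk, act_mk, map_mul]
        rfl }
  have hQker : Q ≤ ρ₀.ker := by
    intro g hg
    rw [MonoidHom.mem_ker]
    refine AddMonoidHom.ext fun x => ?_
    obtain ⟨q, hq⟩ := QuotientGroup.mk_surjective (Additive.toMul x)
    rw [show x = Additive.ofMul (q : ↥Q ⧸ frattini ↥Q) from hq ▸ rfl]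
    show Additive.ofMul (act Q g (q : ↥Q ⧸ frattini ↥Q)) = Additive.ofMul (q : ↥Q ⧸ frattini ↥Q)
    rw [act_mk, show MulAut.conjNormal g q = (⟨g, hg⟩ : ↥Q) * q * (⟨g, hg⟩ : ↥Q)⁻¹ from
      Subtype.ext (by simp [MulAut.conjNormal_apply]), QuotientGroup.mk_mul, QuotientGroup.mk_mul,
      QuotientGroup.mk_inv, mul_comm ((⟨g, hg⟩ : ↥Q) : ↥Q ⧸ frattini ↥Q), mul_inv_cancel_right]
  let ρ := QuotientGroup.lift Q ρ₀ hQker
  have hchar : ∀ v : Mod Q, v + v = 0 := fun v => mk_sq Q hQp (Additive.toMul v)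
  have hS : Setup ρ P' a := by
    refine ⟨hchar, hPn, P.isPGroup', hidx, hasq, haP, hgenP, ?_, ?_, ?_, ?_⟩
    · intro h1
      have htop : Subgroup.zpowers a = ⊤ := by
        refine top_le_iff.1 fun g _ => ?_
        by_cases hg : g ∈ P'
        · rw [h1, Subgroup.mem_bot] at hg; rw [hg]; exact one_mem _
        · have : a * g ∈ P' := (Subgroup.mul_mem_iff_of_index_two hidx).2 (iff_of_false haP hg)
          rw [h1, Subgroup.mem_bot] at this
          rw [eq_inv_of_mul_eq_one_right this]; exact inv_mem (Subgroup.mem_zpowers a)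
      -- then `H` is a 2-group
      have hQtop : Q = ⊤ := by
        have hK : IsPGroup 2 (H ⧸ Q) := IsPGroup.of_card (n := 1) (by
          rw [← Subgroup.card_top, ← htop, Nat.card_zpowers, pow_one]
          exact orderOf_eq_prime (by rw [pow_two, hasq]) ha1)
        obtain ⟨m, hm⟩ := IsPGroup.iff_card.1 hQp
        obtain ⟨m', hm'⟩ := IsPGroup.iff_card.1 hK
        have hH : IsPGroup 2 H := IsPGroup.of_card (n := m' + m) (by
          rw [Subgroup.card_eq_card_quotient_mul_card_subgroup Q, hm, hm', pow_add])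
        exact top_le_iff.1 (CfsgLib.Base.le_pCore (hH.to_subgroup (⊤ : Subgroup H)))
      exact ha1 ((QuotientGroup.eq_one_iff d₀).2 (hQtop ▸ Subgroup.mem_top d₀))
    · intro t ht hta
      rcases eq_or_ne t 1 with rfl | ht1
      · exact one_pow 3
      obtain ⟨b, hb, hbt⟩ := hlift t ht hta
      rw [← hbt, ← map_pow, hcube t ht ht1 b hb d₀ hd₀E hbt, map_one]
    · intro t ht hta ht1 x
      obtain ⟨b, hb, hbt⟩ := hlift t ht hta
      obtain ⟨q, hq⟩ := QuotientGroup.mk_surjective (Additive.toMul x)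
      rw [show x = Additive.ofMul (q : ↥Q ⧸ frattini ↥Q) from hq ▸ rfl]
      set g := d₀ * b with hg
      have hg3 : g ^ 3 = 1 := hcube t ht ht1 b hb d₀ hd₀E hbt
      set d' := (q : H) * d₀ * (q : H)⁻¹ with hd'
      have hqπ : π (q : H) = 1 := (QuotientGroup.eq_one_iff (q : H)).2 q.2
      have hd't : π (d' * b) = t := by
        rw [← hbt, hd', map_mul, map_mul, map_mul, map_inv, hqπ, map_mul]; simp
      have h3 := hcube t ht ht1 b hb d' (hconjE _ _ hd₀E) hd't
      set c : ↥Q := q * (MulAut.conjNormal d₀ q)⁻¹ with hc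
      have hd0i : d₀⁻¹ = d₀ := inv_eq_of_mul_eq_one_right hsq₀
      have hprod : c * MulAut.conjNormal g c * MulAut.conjNormal g (MulAut.conjNormal g c) = 1 := by
        apply Subtype.ext
        have hd'b : d' * b = (c : H) * g := by
          simp only [hc, hd', hg, Subgroup.coe_mul, InvMemClass.coe_inv, MulAut.conjNormal_apply,
            mul_inv_rev, inv_inv, hd0i]
          simp [mul_assoc, ← mul_assoc d₀ d₀, hsq₀]
        rw [hd'b] at h3
        simp only [Subgroup.coe_mul, MulAut.conjNormal_apply, OneMemClass.coe_one]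
        calc _ = ((c : H) * g) ^ 3 * (g ^ 3)⁻¹ := by simp only [pow_succ, pow_zero, one_mul]; group
          _ = 1 := by rw [h3, hg3]; group
      have e1 : ρ a (Additive.ofMul (q : ↥Q ⧸ frattini ↥Q)) =
          Additive.ofMul ((MulAut.conjNormal d₀ q : ↥Q) : ↥Q ⧸ frattini ↥Q) := rfl
      have e2 : Additive.ofMul (q : ↥Q ⧸ frattini ↥Q) + ρ a (Additive.ofMul (q : ↥Q ⧸ frattini ↥Q)) =
          Additive.ofMul (c : ↥Q ⧸ frattini ↥Q) := by
        rw [e1, ← ofMul_mul, hc, QuotientGroup.mk_mul, QuotientGroup.mk_inv,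
          inv_eq_of_mul_eq_one_right (mk_sq Q hQp _)]
      rw [e2, ← hbt]
      show Additive.ofMul ((c : ↥Q ⧸ frattini ↥Q) * act Q g (c : ↥Q ⧸ frattini ↥Q) *
        act Q g (act Q g (c : ↥Q ⧸ frattini ↥Q))) = 0
      rw [act_mk, act_mk, ← QuotientGroup.mk_mul, ← QuotientGroup.mk_mul, hprod]
      rfl
    · intro t ht hta ht1 h1
      obtain ⟨b, hb, hbt⟩ := hlift t ht hta
      set g := d₀ * b with hg
      have hg3 : g ^ 3 = 1 := hcube t ht ht1 b hb d₀ hd₀E hbt
      have hord3 : orderOf g = 3 := orderOf_eq_prime hg3 fun e => ht1 (by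
        rw [← hbt, e, map_one])
      have hle : Subgroup.zpowers g ≤ Subgroup.centralizer (Q : Set H) := by
        refine CfsgLib.Coprime.le_centralizer_of_trivial_mod_frattini
          (fun x _ => by simp [Subgroup.normalizer_eq_top]) ?_ ?_
        · rw [Nat.card_zpowers, hord3]
          obtain ⟨n, hn⟩ := IsPGroup.iff_card.1 (hQp.to_subgroup (frattini ↥Q))
          rw [hn]
          exact Nat.Coprime.pow_right n (by norm_num)
        · intro y hy k hkQ
          have hρy : ρ (π y) = 1 := by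
            obtain ⟨i, rfl⟩ := Subgroup.mem_zpowers_iff.1 hy
            have hmem : π g ∈ ρ.ker := by rw [MonoidHom.mem_ker, hbt, h1]
            rw [map_zpow]
            exact MonoidHom.mem_ker.1 (zpow_mem hmem i)
          have hfix := congrArg (fun f : AddMonoid.End (Mod Q) =>
            f (Additive.ofMul ((⟨k, hkQ⟩ : ↥Q) : ↥Q ⧸ frattini ↥Q))) hρy
          have hfix' : ((MulAut.conjNormal y ⟨k, hkQ⟩ : ↥Q) : ↥Q ⧸ frattini ↥Q) =
              ((⟨k, hkQ⟩ : ↥Q) : ↥Q ⧸ frattini ↥Q) := Additive.ofMul.injective hfix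
          refine ⟨MulAut.conjNormal y ⟨k, hkQ⟩ * (⟨k, hkQ⟩ : ↥Q)⁻¹, ?_, ?_⟩
          · rw [SetLike.mem_coe, ← QuotientGroup.eq_one_iff, QuotientGroup.mk_mul,
              QuotientGroup.mk_inv, hfix', mul_inv_cancel]
          · simp [MulAut.conjNormal_apply]
      have hgQ : g ∈ Q := by
        have := CfsgLib.Components.centralizer_fstar_le (G := H)
        rw [hF] at this
        exact this (hle (Subgroup.mem_zpowers g))
      exact ht1 (by rw [← hbt]; exact (QuotientGroup.eq_one_iff g).2 hgQ)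
  by_cases hab : ∀ x ∈ P', ∀ y ∈ P', x * y = y * x
  · left
    obtain ⟨x, hr, htop, hc⟩ := hS.case_comm hab
    have hr' : Rels (finRotate 3) (1 : Equiv.Perm (Fin 3)) (Equiv.swap 0 1) :=
      ⟨by decide, by decide, by decide, by decide, by decide, by decide, by decide⟩
    refine iso_six hr hr' htop ?_ hc (by simp [Nat.card_eq_fintype_card, Fintype.card_perm, Nat.factorial])
    rw [eq_top_iff, ← Equiv.Perm.closure_cycle_adjacent_swap
      (isCycle_finRotate (n := 1)) (by decide) (0 : Fin 3)]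
    refine Subgroup.closure_mono ?_
    rintro u (rfl | rfl)
    · exact Or.inl rfl
    · exact Or.inr (Or.inr (by decide))
  · right
    push_neg at hab
    obtain ⟨x, y, hr, htop, hc⟩ := hS.case_noncomm hab
    obtain ⟨x', y', s', hr', htop', hc'⟩ := su32_model
    exact iso_fiftyfour hr hr' htop htop' hc hc'

end CfsgLib.ThreeTransp.TwoThreeTwo
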