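import Cfsg.Agent.Lib.KnownB.TypeM22.Kernel

/-!
In groups of type M(22), M(23), M(24) a non-commuting pair of transpositions has a large set of
pairwise commuting common partners; hence no product of two to four commuting transpositions lies
in a class of 3-transpositions.
-/

set_option autoImplicit false

namespace CfsgLib.ThreeTransp.TypeConfig

open Cfsg CfsgLib.Classical.Unitary CfsgLib.ThreeTransp CfsgLib.ThreeTransp.USix
open CfsgLib.KnownB.TypeM22 (exists_frame)

/-- A non-commuting pair with `n` distinct pairwise commuting common partners. -/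
def Config {G : Type*} [Group G] (D : Set G) (n : ℕ) : Prop :=
  ∃ a ∈ D, ∃ a' ∈ D, ¬ Commute a a' ∧ ∃ l : List G, l.Nodup ∧ l.length = n ∧
    (∀ b ∈ l, b ∈ D) ∧ (∀ b ∈ l, ∀ b' ∈ l, Commute b b') ∧
    ∀ b ∈ l, Commute a b ∧ Commute a' b

variable {G : Type*} [Group G] {D : Set G}

/-- Members with commuting images modulo a central subgroup commute. -/
theorem commute_of_image (hW : WeakTS D) {H : Type*} [Group H] (f : G →* H)
    (hf : ∀ x, f x = 1 → x ∈ Subgroup.center G) {y z : G} (hy : y ∈ D) (hz : z ∈ D)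
    (hc : Commute (f y) (f z)) : Commute y z := by
  by_contra hn
  have hb := hW.braid hy hz hn
  have h1 := congrArg f hb
  simp only [map_mul] at h1
  rw [hc.eq, mul_assoc, mul_assoc] at h1
  have h2 : f y = f z := by
    have h4 : f z * (f y * f y) = f z * (f y * f z) := h1
    exact mul_left_cancel (mul_left_cancel h4)
  have h3 : y⁻¹ * z ∈ Subgroup.center G := hf _ (by rw [map_mul, map_inv, h2, inv_mul_cancel])
  have h4 := Subgroup.mem_center_iff.1 h3 y
  rw [← mul_assoc, mul_inv_cancel, one_mul] at h4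
  refine hn ?_
  show y * z = z * y
  calc y * z = y * (y⁻¹ * z * y) := by rw [← h4]
    _ = z * y := by group

/-- One level up. -/
theorem lift (hW : WeakTS D) {d : G} (hd : d ∈ D) {H : Type*} [Group H]
    (f : Subgroup.closure (nb D d) →* H)
    (hf : ∀ x, f x = 1 → x ∈ Subgroup.center (Subgroup.closure (nb D d))) {n : ℕ}
    (h : Config (f '' inClosure (nb D d)) n) : Config D (n + 1) := by
  classical
  obtain ⟨_, ⟨a, ha, rfl⟩, _, ⟨a', ha', rfl⟩, hn, l, hnd, hlen, hlD, hlc, hla⟩ := h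
  have hlift : ∀ q ∈ l, ∃ x : Subgroup.closure (nb D d), (x : G) ∈ nb D d ∧ f x = q := fun q hq =>
    hlD q hq
  choose s hs hsf using hlift
  have hcom : ∀ {x y : Subgroup.closure (nb D d)}, (x : G) ∈ nb D d → (y : G) ∈ nb D d →
      Commute (f x) (f y) → Commute (x : G) y := fun hx hy hc =>
    (congrArg Subtype.val (commute_of_image (hW.sub d) f hf hx hy hc).eq : _)
  refine ⟨a, ha.1, a', ha'.1, fun hc => hn ((show Commute a a' from Subtype.ext hc.eq).map f),
    d :: l.attach.map (fun q => ((s q.1 q.2 : Subgroup.closure (nb D d)) : G)), ?_, ?_, ?_, ?_, ?_⟩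
  · refine List.nodup_cons.2 ⟨fun hm => ?_, (List.nodup_attach.2 hnd).map fun p q e => ?_⟩
    · obtain ⟨q, -, hq⟩ := List.mem_map.1 hm
      exact (hs q.1 q.2).2.1 hq
    · exact Subtype.ext ((hsf p.1 p.2).symm.trans
        ((congrArg f (Subtype.ext e)).trans (hsf q.1 q.2)))
  · simp [hlen]
  · intro b hb
    rcases List.mem_cons.1 hb with rfl | hb
    · exact hd
    · obtain ⟨q, -, rfl⟩ := List.mem_map.1 hb
      exact (hs q.1 q.2).1
  · intro b hb b' hb'
    rcases List.mem_cons.1 hb with rfl | hb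
    · rcases List.mem_cons.1 hb' with rfl | hb'
      · exact Commute.refl _
      · obtain ⟨q, -, rfl⟩ := List.mem_map.1 hb'
        exact (hs q.1 q.2).2.2
    · obtain ⟨q, -, rfl⟩ := List.mem_map.1 hb
      rcases List.mem_cons.1 hb' with rfl | hb'
      · exact (hs q.1 q.2).2.2.symm
      · obtain ⟨q', -, rfl⟩ := List.mem_map.1 hb'
        exact hcom (hs q.1 q.2) (hs q'.1 q'.2)
          (by rw [hsf, hsf]; exact hlc _ q.2 _ q'.2)
  · intro b hb
    rcases List.mem_cons.1 hb with rfl | hb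
    · exact ⟨ha.2.2.symm, ha'.2.2.symm⟩
    · obtain ⟨q, -, rfl⟩ := List.mem_map.1 hb
      exact ⟨hcom ha (hs q.1 q.2) (by rw [hsf]; exact (hla _ q.2).1),
        hcom ha' (hs q.1 q.2) (by rw [hsf]; exact (hla _ q.2).2)⟩

theorem weak_image (hW : WeakTS D) {H : Type*} [Group H] (f : G →* H)
    (hs : Function.Surjective f) : WeakTS (f '' D) := by
  refine ⟨?_, ?_, ?_, ?_⟩
  · rintro _ ⟨a, ha, rfl⟩
    rw [← map_mul, hW.sq a ha, map_one]
  · rintro _ ⟨a, ha, rfl⟩ _ ⟨b, hb, rfl⟩
    rcases hW.prod a ha b hb with r | r <;> [left; right] <;> rw [← map_mul, ← map_pow, r, map_one]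
  · intro g
    obtain ⟨g, rfl⟩ := hs g
    rintro _ ⟨a, ha, rfl⟩
    exact ⟨g * a * g⁻¹, hW.conj g a ha, by simp⟩
  · rw [← MonoidHom.map_closure, hW.gen, Subgroup.map_top_of_surjective _ hs]

/-- Type M(22). -/
theorem config22 (hW : WeakTS D) (h : IsOfTypeM22 G D) : Config D 3 := by
  obtain ⟨-, d, hd, c, -, -, ⟨F, _, _, hF4, ⟨φ⟩⟩, -⟩ := h
  have hF : Nat.card F = 2 ^ 2 := by rw [Nat.card_eq_fintype_card, hF4]; norm_num
  obtain ⟨σ, hσ⟩ := exists_uFrob hF
  let f : Subgroup.closure (nb D d) →* PSU 6 F 2 :=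
    φ.toMonoidHom.comp (QuotientGroup.mk' (Subgroup.center (Subgroup.closure (nb D d))))
  have hfs : Function.Surjective f := φ.surjective.comp (QuotientGroup.mk'_surjective _)
  have hfk : ∀ x, f x = 1 → x ∈ Subgroup.center (Subgroup.closure (nb D d)) := fun x hx =>
    (QuotientGroup.eq_one_iff x).1 ((map_eq_one_iff φ φ.injective).1
      (show φ (QuotientGroup.mk' _ x) = 1 from hx))
  refine lift (n := 2) hW hd f hfk ?_
  have hW' := weak_image (hW.sub d) f hfs
  obtain ⟨t, ht, ht1⟩ : ∃ t ∈ f '' inClosure (nb D d), t ≠ 1 := by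
    by_contra hall
    push Not at hall
    haveI := (psu_six_simple (F := F) hF4).1
    obtain ⟨x, hx⟩ := exists_ne (1 : PSU 6 F 2)
    refine hx (Subgroup.mem_bot.1 ?_)
    rw [show (⊥ : Subgroup (PSU 6 F 2)) = Subgroup.closure (f '' inClosure (nb D d)) from
      (eq_bot_iff.2 ((Subgroup.closure_le _).2 fun z hz => Subgroup.mem_bot.2 (hall z hz))).symm]
    rw [hW'.gen]
    exact Subgroup.mem_top x
  obtain ⟨u, hu, hu0, rfl⟩ := mem_is_pt hF hσ hW' ht ht1
  obtain ⟨r, s, H⟩ := exists_frame hF hσ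
  have hne : ∀ i, r i ≠ 0 ∧ s i ≠ 0 := fun i => by
    have h1 : uh σ (r i) (s i) = 1 := by rw [H.rs, if_pos rfl]
    constructor <;> intro e <;> simp [e, uh] at h1
  have hr : ∀ i, pt hF hσ (r i) (H.rr i i) ∈ f '' inClosure (nb D d) := fun i =>
    pt_mem hF hσ hW' hu (H.rr i i) hu0 (hne i).1 ht
  have hs : ∀ i, pt hF hσ (s i) (H.ss i i) ∈ f '' inClosure (nb D d) := fun i =>
    pt_mem hF hσ hW' hu (H.ss i i) hu0 (hne i).2 ht
  refine ⟨_, hr 0, _, hs 0, ?_, [pt hF hσ (r 1) (H.rr 1 1), pt hF hσ (r 2) (H.rr 2 2)],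
    ?_, rfl, ?_, ?_, ?_⟩
  · rw [pt_commute_iff hF hσ, H.rs]
    simp
  · simp only [List.nodup_cons, List.mem_singleton, List.not_mem_nil, not_false_eq_true,
      List.nodup_nil, and_true]
    intro e
    have h1 := (pt_commute_iff hF hσ (H.rr 2 2) (H.ss 1 1)).2 (by rw [H.rs]; simp)
    rw [← e, pt_commute_iff hF hσ, H.rs] at h1
    simp at h1
  · simp only [List.mem_cons, List.not_mem_nil, or_false, forall_eq_or_imp, forall_eq]
    exact ⟨hr 1, hr 2⟩
  · intro b hb b' hb'
    simp only [List.mem_cons, List.not_mem_nil, or_false] at hb hb'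
    rcases hb with rfl | rfl <;> rcases hb' with rfl | rfl <;>
      first
        | exact Commute.refl _
        | exact (pt_commute_iff hF hσ _ _).2 (H.rr _ _)
  · simp only [List.mem_cons, List.not_mem_nil, or_false, forall_eq_or_imp, forall_eq,
      pt_commute_iff hF hσ]
    exact ⟨⟨H.rr _ _, by rw [H.sr hσ]; simp⟩, H.rr _ _, by rw [H.sr hσ]; simp⟩

/-- Type M(23). -/
theorem config23 (hW : WeakTS D) (h : IsOfTypeM23 G D) : Config D 4 := by
  obtain ⟨-, d, hd, c, -, -, h22, -⟩ := h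
  exact lift (n := 3) hW hd (QuotientGroup.mk' _) (fun x hx => (QuotientGroup.eq_one_iff x).1 hx)
    (config22 (weak_image (hW.sub d) (QuotientGroup.mk' _) (QuotientGroup.mk'_surjective _)) h22)

/-- Type M(24). -/
theorem config24 (hW : WeakTS D) (h : IsOfTypeM24 G D) : Config D 5 := by
  obtain ⟨-, d, hd, c, -, -, h23, -⟩ := h
  exact lift (n := 4) hW hd (QuotientGroup.mk' _) (fun x hx => (QuotientGroup.eq_one_iff x).1 hx)
    (config23 (weak_image (hW.sub d) (QuotientGroup.mk' _) (QuotientGroup.mk'_surjective _)) h23)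

/-- A product of `m` commuting members, `2 ≤ m ≤ n`, has a conjugate with which it has a product
of order six, provided such products are conjugate. -/
theorem not_product (hW : WeakTS D) {n : ℕ} (hC : Config D n) {D' : Set G}
    (hD' : IsThreeTranspositionSet D') (hinv : ∀ g : G, ∀ x ∈ D', g * x * g⁻¹ ∈ D')
    {m : ℕ} (hm2 : 2 ≤ m) (hmn : m ≤ n)
    (hconj : ∀ x y : G,
      (∃ l : List G, l.Nodup ∧ l.length = m ∧ (∀ a ∈ l, a ∈ D) ∧
        (∀ a ∈ l, ∀ b ∈ l, Commute a b) ∧ l.prod = x) →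
      (∃ l : List G, l.Nodup ∧ l.length = m ∧ (∀ a ∈ l, a ∈ D) ∧
        (∀ a ∈ l, ∀ b ∈ l, Commute a b) ∧ l.prod = y) → IsConj x y)
    {x : G} (hx : x ∈ D')
    (hxp : ∃ l : List G, l.Nodup ∧ l.length = m ∧ (∀ a ∈ l, a ∈ D) ∧
      (∀ a ∈ l, ∀ b ∈ l, Commute a b) ∧ l.prod = x) : False := by
  obtain ⟨a, ha, a', ha', hn, l, hnd, hlen, hlD, hlc, hla⟩ := hC
  match l, hlen with
  | [], e => simp at e; omega
  | [_], e => simp at e; omega
  | b1 :: b2 :: r, e =>
    set C := r.take (m - 2) with hCdef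
    have hCsub : ∀ {z}, z ∈ C → z ∈ r := fun hz => List.mem_of_mem_take hz
    have hClen : C.length = m - 2 := by simp at e; simp [C]; omega
    obtain ⟨hn12, hn1, hn2, hrnd⟩ : b1 ≠ b2 ∧ b1 ∉ r ∧ b2 ∉ r ∧ r.Nodup := by
      simp only [List.nodup_cons, List.mem_cons, not_or] at hnd
      exact ⟨hnd.1.1, hnd.1.2, hnd.2.1, hnd.2.2⟩
    have hCnd : C.Nodup := hrnd.sublist (List.take_sublist _ _)
    have hne : ∀ {b}, b ∈ b1 :: b2 :: r → b ≠ a ∧ b ≠ a' := fun hb =>
      ⟨fun e' => hn (e' ▸ (hla _ hb).2).symm, fun e' => hn (e' ▸ (hla _ hb).1)⟩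
    have mk : ∀ (p : G), p ∈ D → ∀ (q : G), q ∈ b1 :: b2 :: r → q ∉ r → p ∉ b1 :: b2 :: r →
        (∀ z ∈ b1 :: b2 :: r, Commute p z) →
        ∃ w : List G, w.Nodup ∧ w.length = m ∧ (∀ z ∈ w, z ∈ D) ∧
          (∀ z ∈ w, ∀ z' ∈ w, Commute z z') ∧ w.prod = p * (q * C.prod) := by
      intro p hp q hq hqr hpl hpc
      refine ⟨p :: q :: C, ?_, ?_, ?_, ?_, by simp⟩
      · simp only [List.nodup_cons, List.mem_cons, not_or]
        exact ⟨⟨fun e' => hpl (e' ▸ hq), fun hz => hpl (by simp [hCsub hz])⟩,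
          fun hz => hqr (hCsub hz), hCnd⟩
      · simp [hClen]; omega
      · intro z hz
        rcases List.mem_cons.1 hz with rfl | hz
        · exact hp
        rcases List.mem_cons.1 hz with rfl | hz
        · exact hlD _ hq
        · exact hlD _ (by simp [hCsub hz])
      · have hl' : ∀ z ∈ q :: C, z ∈ b1 :: b2 :: r := by
          intro z hz
          rcases List.mem_cons.1 hz with rfl | hz
          · exact hq
          · simp [hCsub hz]
        intro z hz z' hz'
        rcases List.mem_cons.1 hz with e1 | hz <;> rcases List.mem_cons.1 hz' with e2 | hz'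
        · rw [e1, e2]
        · rw [e1]; exact hpc _ (hl' _ hz')
        · rw [e2]; exact (hpc _ (hl' _ hz)).symm
        · exact hlc _ (hl' _ hz) _ (hl' _ hz')
    have w1 := mk a ha b1 (by simp) hn1 (fun h => (hne h).1 rfl) fun z hz => (hla z hz).1
    have w2 := mk a' ha' b2 (by simp) hn2 (fun h => (hne h).2 rfl) fun z hz => (hla z hz).2
    obtain ⟨g1, hg1⟩ := isConj_iff.1 (hconj x _ hxp w1)
    obtain ⟨g2, hg2⟩ := isConj_iff.1 (hconj x _ hxp w2)
    have hp1 : a * (b1 * C.prod) ∈ D' := hg1 ▸ hinv g1 x hx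
    have hp2 : a' * (b2 * C.prod) ∈ D' := hg2 ▸ hinv g2 x hx
    have c1 : Commute a' b1 := (hla b1 (by simp)).2
    have c2 : Commute a b2 := (hla b2 (by simp)).1
    have cC1 : Commute a' C.prod := Commute.list_prod_right _ _ fun z hz =>
      (hla z (by simp [hCsub hz])).2
    have cC2 : Commute b2 C.prod := Commute.list_prod_right _ _ fun z hz =>
      hlc b2 (by simp) z (by simp [hCsub hz])
    have hCsq : C.prod * C.prod = 1 := by
      have : ∀ L : List G, (∀ z ∈ L, z ∈ b1 :: b2 :: r) → L.prod * L.prod = 1 := by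
        intro L
        induction L with
        | nil => intro; simp
        | cons z L ih =>
          intro hL
          have hcz : Commute z L.prod := Commute.list_prod_right _ _ fun y hy =>
            hlc z (hL z (by simp)) y (hL y (List.mem_cons_of_mem _ hy))
          rw [List.prod_cons, ← pow_two, hcz.mul_pow, pow_two, pow_two,
            hW.sq z (hlD z (hL z (by simp))), ih fun y hy => hL y (List.mem_cons_of_mem _ hy),
            one_mul]
      exact this C fun z hz => by simp [hCsub hz]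
    have hprod : a * (b1 * C.prod) * (a' * (b2 * C.prod)) = a * a' * (b1 * b2) := by
      have h1 : Commute (b1 * C.prod) a' := (c1.mul_right cC1).symm
      calc a * (b1 * C.prod) * (a' * (b2 * C.prod))
          = a * ((b1 * C.prod) * a') * (b2 * C.prod) := by group
        _ = a * a' * b1 * (C.prod * b2) * C.prod := by rw [h1.eq]; group
        _ = a * a' * b1 * b2 * (C.prod * C.prod) := by rw [← cC2.eq]; group
        _ = a * a' * (b1 * b2) := by rw [hCsq, mul_one]; group
    have hcomm : Commute (a * a') (b1 * b2) :=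
      ((hla b1 (by simp)).1.mul_right c2).mul_left (c1.mul_right (hla b2 (by simp)).2)
    have hb12 : (b1 * b2) ^ 2 = 1 := by
      rw [(hlc b1 (by simp) b2 (by simp)).mul_pow, pow_two, pow_two,
        hW.sq b1 (hlD b1 (by simp)), hW.sq b2 (hlD b2 (by simp)), one_mul]
    have ha2 : (a * a') ^ 2 ≠ 1 := fun e' => hn (by
      rw [pow_two, mul_eq_one_iff_eq_inv, mul_inv_rev, hW.inv ha, hW.inv ha'] at e'
      exact e')
    have ha3 : (a * a') ^ 3 = 1 := (hW.prod a ha a' ha').resolve_left ha2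
    rcases hD'.2 _ hp1 _ hp2 with hh | hh <;> rw [hprod, hcomm.mul_pow] at hh
    · rw [hb12, mul_one] at hh
      exact ha2 hh
    · rw [ha3, one_mul, pow_succ, hb12, one_mul, mul_eq_one_iff_eq_inv,
        hW.inv (hlD b2 (by simp))] at hh
      exact hn12 hh

/-- A class of 3-transpositions in a group of type M(24) is the given one, once every involution
is a product of at most four commuting members, conjugate by their number. -/
theorem class_unique24 (hW : WeakTS D) (h : IsOfTypeM24 G D) (htr : ∀ a ∈ D, ∀ b ∈ D, IsConj a b)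
    (hall : ∀ x : G, orderOf x = 2 → ∃ m : ℕ, 1 ≤ m ∧ m ≤ 4 ∧ (∃ l : List G, l.Nodup ∧
      l.length = m ∧ (∀ a ∈ l, a ∈ D) ∧ (∀ a ∈ l, ∀ b ∈ l, Commute a b) ∧ l.prod = x))
    (hcl : ∀ m : ℕ, 1 ≤ m → m ≤ 4 → ∀ x y : G,
      (∃ l : List G, l.Nodup ∧ l.length = m ∧ (∀ a ∈ l, a ∈ D) ∧
        (∀ a ∈ l, ∀ b ∈ l, Commute a b) ∧ l.prod = x) →
      (∃ l : List G, l.Nodup ∧ l.length = m ∧ (∀ a ∈ l, a ∈ D) ∧
        (∀ a ∈ l, ∀ b ∈ l, Commute a b) ∧ l.prod = y) → IsConj x y)
    {D' : Set G} (hD' : IsThreeTranspositionClass D') : D' = D := by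
  obtain ⟨hT, ⟨x, hx, rfl⟩, -⟩ := hD'
  obtain ⟨m, hm1, hm4, hl⟩ := hall x (hT.1 x hx)
  rcases Nat.lt_or_ge m 2 with hm | hm
  · obtain ⟨l, -, hlen, hlD, -, hp⟩ := hl
    obtain ⟨a, rfl⟩ := List.length_eq_one_iff.1 (show l.length = 1 by omega)
    simp only [List.prod_singleton] at hp
    subst hp
    have ha := hlD a (by simp)
    ext y
    constructor
    · intro hy
      obtain ⟨g, rfl⟩ := isConj_iff.1 hy
      exact hW.conj g a ha
    · exact fun hy => htr a ha y hy
  · exact (not_product hW (config24 hW h) hT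
      (fun g z hz => IsConj.trans hz (isConj_iff.2 ⟨g, rfl⟩)) hm (hm4.trans (by norm_num)) (hcl m hm1 hm4) hx hl).elim

end CfsgLib.ThreeTransp.TypeConfig
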