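import Cfsg.Agent.Lib.KnownB.Jordan

/-!
Invariant complementary subspaces of unipotent maps and sub-multisets of their Jordan types.
-/

set_option autoImplicit false

namespace CfsgLib.ThreeTransp.UnipInv

open Module CfsgLib.KnownB.Jordan

variable {F : Type*} [Field F]

theorem finrank_range_pow {V : Type*} [AddCommGroup V] [Module F V] {ι : Type*} [Fintype ι]
    (N : Module.End F V) (d : ι → ℕ) (b : Module.Basis ((k : ι) × Fin (d k)) F V)
    (hb : ∀ x : (k : ι) × Fin (d k), N (b x) =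
        if h : (x.2 : ℕ) + 1 < d x.1 then b ⟨x.1, ⟨x.2 + 1, h⟩⟩ else 0) (j : ℕ) :
    finrank F (LinearMap.range (N ^ j)) = ∑ k, (d k - j) := by
  classical
  have hpow : ∀ (i : ℕ) (x : (k : ι) × Fin (d k)), (N ^ i) (b x) =
      if h : (x.2 : ℕ) + i < d x.1 then b ⟨x.1, ⟨x.2 + i, h⟩⟩ else 0 := by
    intro i
    induction i with
    | zero => intro x; rw [dif_pos (show (x.2 : ℕ) + 0 < d x.1 by simp)]; simp
    | succ i ih =>
      intro x
      rw [pow_succ', Module.End.mul_apply, ih]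
      by_cases h : (x.2 : ℕ) + i < d x.1
      · rw [dif_pos h, hb]
        rfl
      · rw [dif_neg h, map_zero, dif_neg (by omega)]
  have hr : LinearMap.range (N ^ j) =
      Submodule.span F (Set.range fun y : {x : (k : ι) × Fin (d k) // j ≤ (x.2 : ℕ)} => b y.1) := by
    rw [LinearMap.range_eq_map, ← b.span_eq, Submodule.map_span]
    apply le_antisymm <;> rw [Submodule.span_le]
    · rintro _ ⟨_, ⟨x, rfl⟩, rfl⟩
      rw [hpow]
      split_ifs with h
      · exact Submodule.subset_span ⟨⟨⟨x.1, ⟨x.2 + j, h⟩⟩, by simp⟩, rfl⟩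
      · exact zero_mem _
    · rintro _ ⟨⟨⟨k, i⟩, hi⟩, rfl⟩
      refine Submodule.subset_span ⟨b ⟨k, ⟨i - j, by omega⟩⟩, ⟨_, rfl⟩, ?_⟩
      have hij : (i : ℕ) - j + j = i := Nat.sub_add_cancel hi
      rw [hpow, dif_pos (show (i : ℕ) - j + j < d k by omega)]
      simp only [hij]
  let eqv : {x : (k : ι) × Fin (d k) // j ≤ (x.2 : ℕ)} ≃ ((k : ι) × Fin (d k - j)) :=
    { toFun := fun x => ⟨x.1.1, ⟨(x.1.2 : ℕ) - j, by have := x.1.2.2; have := x.2; omega⟩⟩
      invFun := fun y => ⟨⟨y.1, ⟨(y.2 : ℕ) + j, by have := y.2.2; omega⟩⟩, by simp⟩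
      left_inv := fun ⟨⟨k, i⟩, hi⟩ => by simp [Nat.sub_add_cancel hi]
      right_inv := fun ⟨k, i⟩ => by simp }
  rw [hr, finrank_span_eq_card (R := F) (b := fun y : {x : (k : ι) × Fin (d k) // j ≤ (x.2 : ℕ)} => b y.1)
      (b.linearIndependent.comp _ Subtype.val_injective), Fintype.card_congr eqv, Fintype.card_sigma]
  simp

/-- The type of an invariant subspace with an invariant complement is part of the type. -/
theorem exists_sub_type {V : Type*} [AddCommGroup V] [Module F V] [FiniteDimensional F V] {N : Module.End F V}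
    (hN : IsNilpotent N) {t : ℕ} {d : Fin t → ℕ}
    (hr : ∀ j, finrank F (LinearMap.range (N ^ j)) = ∑ k, (d k - j)) {U W : Submodule F V}
    (hU : ∀ v ∈ U, N v ∈ U) (hW : ∀ v ∈ W, N v ∈ W) (hc : IsCompl U W) :
    ∃ ν : Multiset ℕ, ν ≤ Multiset.map d (Finset.univ : Finset (Fin t)).val ∧ ν.sum = finrank F U := by
  classical
  obtain ⟨m, hm⟩ := hN
  have hres : ∀ (W : Submodule F V) (hW : ∀ v ∈ W, N v ∈ W),
      ∃ (s : ℕ) (d' : Fin s → ℕ), (∀ k, 1 ≤ d' k) ∧ ∑ k, d' k = finrank F W ∧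
        ∀ j, finrank F (W.map (N ^ j)) = ∑ k, (d' k - j) := by
    intro W hW
    obtain ⟨s, d', b', hd', hb'⟩ := exists_chains (N.restrict hW) ⟨m, by
      rw [Module.End.pow_restrict]
      apply LinearMap.ext
      intro v
      apply Subtype.ext
      rw [LinearMap.restrict_apply]
      simp [hm]⟩
    refine ⟨s, d', hd', ?_, fun j => ?_⟩
    · rw [Module.finrank_eq_card_basis b', Fintype.card_sigma]; simp
    · rw [← finrank_range_pow _ d' b' hb' j, ← Submodule.finrank_map_subtype_eq, ← LinearMap.range_comp]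
      have hc : W.subtype ∘ₗ (N.restrict hW) ^ j = (N ^ j) ∘ₗ W.subtype := by
        rw [Module.End.pow_restrict]
        rfl
      rw [hc, LinearMap.range_comp, Submodule.range_subtype]
  obtain ⟨s₁, d₁, hd₁, hs₁, hr₁⟩ := hres U hU
  obtain ⟨s₂, d₂, hd₂, hs₂, hr₂⟩ := hres W hW
  have hle : ∀ (j : ℕ) (W : Submodule F V), (∀ v ∈ W, N v ∈ W) → W.map (N ^ j) ≤ W := fun j W hW =>
    Submodule.map_le_iff_le_comap.2 fun v hv => Module.End.pow_apply_mem_of_forall_mem j hW v hv
  have hadd : ∀ j, ∑ k, (d k - j) = ∑ k, (d₁ k - j) + ∑ k, (d₂ k - j) := by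
    intro j
    rw [← hr j, ← hr₁ j, ← hr₂ j, LinearMap.range_eq_map, ← hc.sup_eq_top, Submodule.map_sup,
      ← Submodule.finrank_sup_add_finrank_inf_eq (U.map (N ^ j)) (W.map (N ^ j)),
      (hc.disjoint.mono (hle j U hU) (hle j W hW)).eq_bot, finrank_bot, add_zero]
  refine ⟨Multiset.map d₁ (Finset.univ : Finset (Fin s₁)).val, ?_, hs₁⟩
  rw [Multiset.le_iff_count]
  intro j
  have e1 : ∀ {s : ℕ} (f : Fin s → ℕ), Multiset.count j (Multiset.map f (Finset.univ : Finset (Fin s)).val) =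
      (Finset.univ.filter (fun k => f k = j)).card := fun f => by
    rw [Multiset.count_map, ← Finset.filter_val]
    exact congrArg Finset.card (Finset.filter_congr fun a _ => eq_comm)
  rw [e1, e1]
  rcases Nat.eq_zero_or_pos j with rfl | hj
  · rw [Finset.filter_eq_empty_iff.2 (fun k _ => by have := hd₁ k; omega)]
    simp
  · have h1 := sum_second_diff d hj
    have h2 := sum_second_diff d₁ hj
    have h3 := sum_second_diff d₂ hj
    rw [hadd (j - 1), hadd (j + 1), hadd j] at h1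
    omega

theorem exists_le_map {α β : Type*} [DecidableEq β] (d : α → β) : ∀ (s : Multiset α) (ν : Multiset β),
    ν ≤ s.map d → ∃ s', s' ≤ s ∧ s'.map d = ν := by
  intro s
  induction s using Multiset.induction_on with
  | empty =>
    intro ν h
    refine ⟨0, le_rfl, ?_⟩
    rw [Multiset.map_zero] at h ⊢
    exact (Multiset.le_zero.1 h).symm
  | cons a s ih =>
    intro ν h
    rw [Multiset.map_cons] at h
    by_cases ha : d a ∈ ν
    · obtain ⟨s', hs', he⟩ := ih (ν.erase (d a)) (Multiset.erase_le_iff_le_cons.2 h)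
      exact ⟨a ::ₘ s', Multiset.cons_le_cons a hs', by rw [Multiset.map_cons, he, Multiset.cons_erase ha]⟩
    · obtain ⟨s', hs', he⟩ := ih ν ((Multiset.le_cons_of_notMem ha).1 h)
      exact ⟨s', hs'.trans (Multiset.le_cons_self s a), he⟩

/-- A sub-multiset of the type gives complementary invariant subspaces. -/
theorem exists_compl_pair {V : Type*} [AddCommGroup V] [Module F V] [FiniteDimensional F V] {N : Module.End F V} {t : ℕ}
    {d : Fin t → ℕ} (b : Module.Basis ((k : Fin t) × Fin (d k)) F V)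
    (hb : ∀ x : (k : Fin t) × Fin (d k), N (b x) =
        if h : (x.2 : ℕ) + 1 < d x.1 then b ⟨x.1, ⟨x.2 + 1, h⟩⟩ else 0)
    {ν : Multiset ℕ} (hν : ν ≤ Multiset.map d (Finset.univ : Finset (Fin t)).val) :
    ∃ U W : Submodule F V, (∀ v ∈ U, N v ∈ U) ∧ (∀ v ∈ W, N v ∈ W) ∧ IsCompl U W ∧ finrank F U = ν.sum := by
  classical
  obtain ⟨s', hs', hν'⟩ := exists_le_map d _ ν hν
  let s : Finset (Fin t) := ⟨s', Multiset.nodup_of_le hs' Finset.univ.nodup⟩
  let T : Set ((k : Fin t) × Fin (d k)) := {x | x.1 ∈ s}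
  have hinv : ∀ (T' : Set ((k : Fin t) × Fin (d k))), (∀ x ∈ T', ∀ y, y.1 = x.1 → y ∈ T') →
      ∀ v ∈ Submodule.span F (b '' T'), N v ∈ Submodule.span F (b '' T') := by
    intro T' hT v hv
    refine (Submodule.map_span_le N (b '' T') (Submodule.span F (b '' T'))).2 ?_ (Submodule.mem_map_of_mem hv)
    rintro _ ⟨x, hx, rfl⟩
    rw [hb]
    split_ifs with h
    · exact Submodule.subset_span ⟨⟨x.1, ⟨x.2 + 1, h⟩⟩, hT x hx _ rfl, rfl⟩
    · exact zero_mem _
  refine ⟨Submodule.span F (b '' T), Submodule.span F (b '' Tᶜ),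
    hinv T (fun x hx y hy => by simpa [T, hy] using hx), hinv Tᶜ (fun x hx y hy => by simpa [T, hy] using hx), ?_, ?_⟩
  · refine ⟨b.linearIndependent.disjoint_span_image disjoint_compl_right, codisjoint_iff.2 ?_⟩
    rw [← Submodule.span_union, ← Set.image_union, Set.union_compl_self, Set.image_univ, b.span_eq]
  · rw [Set.image_eq_range]
    refine (finrank_span_eq_card (R := F) (b := fun y : T => b y) (b.linearIndependent.comp _ Subtype.val_injective)).trans ?_
    rw [Fintype.card_of_subtype (s.sigma fun k => Finset.univ) (fun x => by simp [T]), Finset.card_sigma]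
    simp only [Finset.card_univ, Fintype.card_fin]
    rw [← hν']
    rfl

/-- A unipotent matrix of given type. -/
theorem exists_unip (μ : Multiset ℕ) (h0 : ∀ a ∈ μ, 0 < a) {n : ℕ} (hsum : μ.sum = n) :
    ∃ (t : ℕ) (d : Fin t → ℕ) (u : Matrix (Fin n) (Fin n) F),
      Multiset.map d (Finset.univ : Finset (Fin t)).val = μ ∧ (∀ k, 1 ≤ d k) ∧
        ∀ j, finrank F (LinearMap.range (Matrix.toLin' (u - 1) ^ j)) = ∑ k, (d k - j) := by
  classical
  let d : Fin μ.toList.length → ℕ := fun k => μ.toList.get k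
  have hmap : Multiset.map d (Finset.univ : Finset (Fin μ.toList.length)).val = μ := by
    rw [Fin.univ_val_map]
    exact (congrArg _ (List.ofFn_get _)).trans (Multiset.coe_toList μ)
  have hd1 : ∀ k, 1 ≤ d k := fun k => h0 _ (Multiset.mem_toList.1 (List.get_mem _ _))
  have hsum' : ∑ k, d k = n := by
    show (Multiset.map d (Finset.univ : Finset (Fin μ.toList.length)).val).sum = n
    rw [hmap, hsum]
  let e : ((k : Fin μ.toList.length) × Fin (d k)) ≃ Fin n := Fintype.equivFinOfCardEq (by simp [hsum'])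
  refine ⟨_, d, Matrix.reindex e e (Cfsg.jordanTypeMatrix d F), hmap, hd1, fun j => ?_⟩
  rw [← Matrix.toLin'_pow,
    ← rank_pow_conj (u := Matrix.reindex e e (Cfsg.jordanTypeMatrix d F)) (e := e) (IsConj.refl _) j,
    Matrix.toLin'_apply']
  rfl

end CfsgLib.ThreeTransp.UnipInv
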