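import Cfsg.Agent.Lib.ThreeTransp.UnipInv
import Cfsg.Agent.Lib.AschbacherForm.UnitBase
import Cfsg.Agent.Lib.KnownB.UnitaryConj
import Cfsg.Agent.Lib.InvolTwo.JordanTypes

/-!
# Unitary unipotent matrices of every Jordan type
-/

set_option autoImplicit false
set_option linter.unusedSectionVars false

namespace CfsgLib.ThreeTransp.UnipUnitary

open Matrix

universe u

variable {F : Type u} [Field F]

/-- A shifted Pascal table. -/
def pasc : ℕ → ℕ → ℕ
  | 0, 0 => 1
  | 0, _ + 1 => 0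
  | _ + 1, 0 => 0
  | s + 1, j + 1 => pasc s (j + 1) + pasc s j

theorem pasc_gt : ∀ {s j : ℕ}, s < j → pasc s j = 0
  | 0, 0, h => absurd h (lt_irrefl 0)
  | 0, _ + 1, _ => rfl
  | _ + 1, 0, h => absurd h (by omega)
  | s + 1, j + 1, h => by rw [pasc, pasc_gt (show s < j + 1 by omega), pasc_gt (show s < j by omega)]

theorem pasc_self : ∀ s : ℕ, pasc s s = 1
  | 0 => rfl
  | s + 1 => by rw [pasc, pasc_self s, pasc_gt (Nat.lt_succ_self s)]

/-- The form on one block, extended by zero. -/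
def blockVal (F : Type u) [Field F] (a i j : ℕ) : F :=
  if i < a then (-1 : F) ^ (a - 1 - i) * (pasc (a - 1 - i) j : F) else 0

theorem blockVal_top_left {a i j : ℕ} (h : a ≤ i) : blockVal F a i j = 0 := if_neg (by omega)

theorem blockVal_gt {a i j : ℕ} (h : a ≤ i + j) : blockVal F a i j = 0 := by
  rw [blockVal]; split_ifs with hi
  · rw [pasc_gt (show a - 1 - i < j by omega)]; simp
  · rfl

theorem blockVal_rec {a i : ℕ} (hi : i < a) (j : ℕ) :
    blockVal F a (i + 1) j + blockVal F a i (j + 1) + blockVal F a (i + 1) (j + 1) = 0 := by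
  rcases Nat.lt_or_ge (i + 1) a with h | h
  · obtain ⟨s, hs⟩ : ∃ s, a - 1 - i = s + 1 := ⟨a - 1 - i - 1, by omega⟩
    simp only [blockVal, if_pos h, if_pos hi, hs, show a - 1 - (i + 1) = s by omega, pasc, Nat.cast_add]
    ring
  · rw [blockVal_top_left h, blockVal_top_left h, blockVal_gt (show a ≤ i + (j + 1) by omega), add_zero, add_zero]

theorem exists_eta {σ : F →+* F} (hne : σ ≠ RingHom.id F) (ε : F) (hε : ε = 1 ∨ ε = -1) :
    ∃ η : F, η + ε * σ η ≠ 0 := by
  by_cases h : (1 : F) + ε = 0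
  · obtain ⟨x, hx⟩ : ∃ x, σ x ≠ x := by
      by_contra hc; push Not at hc
      exact hne (RingHom.ext hc)
    refine ⟨x, fun h' => hx ?_⟩
    rcases hε with rfl | rfl
    · linear_combination h' - x * h
    · linear_combination -h'
  · exact ⟨1, by rwa [map_one, mul_one]⟩

/-- The hermitian form on one block. -/
def blockForm (σ : F →+* F) (η : F) (a : ℕ) : Matrix (Fin a) (Fin a) F :=
  Matrix.of fun i j => η * blockVal F a i j + σ (η * blockVal F a j i)

theorem blockForm_herm {σ : F →+* F} (h2 : ∀ x, σ (σ x) = x) (η : F) (a : ℕ) :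
    ((blockForm σ η a).map σ)ᵀ = blockForm σ η a := by
  ext i j
  simp [blockForm, h2, map_add, add_comm]

theorem jordanBlock_mul_apply {a : ℕ} (M : Matrix (Fin a) (Fin a) F) (G : ℕ → ℕ → F)
    (hM : ∀ i j : Fin a, M i j = G i j) (hG : ∀ i j, a ≤ i → G i j = 0) (hG' : ∀ i j, a ≤ j → G i j = 0) :
    (Cfsg.jordanBlock a F)ᵀ * M * (Cfsg.jordanBlock a F) =
      Matrix.of fun i j : Fin a => G i j + G (i + 1) j + G i (j + 1) + G (i + 1) (j + 1) := by
  have key : ∀ (g : ℕ → F), (∀ l, a ≤ l → g l = 0) → ∀ i : Fin a,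
      ∑ l : Fin a, (Cfsg.jordanBlock a F) l i * g l = g i + g (i + 1) := by
    intro g hg i
    rw [Fin.sum_univ_eq_sum_range (fun l => (if l = (i : ℕ) then 1 else if l = (i : ℕ) + 1 then 1 else 0) * g l) a |> fun e =>
      (Finset.sum_congr rfl fun l _ => by rfl).trans e]
    rw [← Finset.sum_subset (s₁ := {(i : ℕ), (i : ℕ) + 1} ∩ Finset.range a) Finset.inter_subset_right]
    · by_cases h : (i : ℕ) + 1 < a
      · rw [show ({(i : ℕ), (i : ℕ) + 1} : Finset ℕ) ∩ Finset.range a = {(i : ℕ), (i : ℕ) + 1} from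
          Finset.inter_eq_left.2 (by intro x hx; simp at hx; rcases hx with rfl | rfl <;> simp [i.isLt, h]),
          Finset.sum_pair (Nat.ne_of_lt (Nat.lt_succ_self (i : ℕ)))]
        simp
      · rw [show ({(i : ℕ), (i : ℕ) + 1} : Finset ℕ) ∩ Finset.range a = {(i : ℕ)} from by
          ext x; simp; omega, Finset.sum_singleton, hg ((i : ℕ) + 1) (by omega)]
        simp
    · intro x hx hx'
      simp at hx'
      rw [if_neg, if_neg, zero_mul] <;> intro e <;> subst e <;> simp at hx hx' <;> omega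
  ext i j
  rw [Matrix.mul_apply]
  have e1 : ∀ l : Fin a, ((Cfsg.jordanBlock a F)ᵀ * M) i l = G i l + G (i + 1) l := fun l => by
    rw [Matrix.mul_apply]
    simp only [Matrix.transpose_apply, hM]
    exact key (fun x => G x l) (fun x hx => hG x l hx) i
  simp only [e1, Matrix.of_apply]
  rw [Finset.sum_congr rfl fun l _ => mul_comm _ _, key (fun y => G i y + G (i + 1) y)
    (fun y hy => by rw [hG' _ y hy, hG' _ y hy, add_zero]) j]
  ring

theorem blockForm_inv {σ : F →+* F} (h2 : ∀ x, σ (σ x) = x) (η : F) (a : ℕ) :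
    (Cfsg.jordanBlock a F)ᵀ * blockForm σ η a * (Cfsg.jordanBlock a F).map σ = blockForm σ η a := by
  have hJ : (Cfsg.jordanBlock a F).map σ = Cfsg.jordanBlock a F := by
    ext i j
    simp [Cfsg.jordanBlock, apply_ite σ]
  rw [hJ, jordanBlock_mul_apply _ (fun i j => if i < a ∧ j < a then η * blockVal F a i j + σ (η * blockVal F a j i) else 0)
    (fun i j => by rw [if_pos ⟨i.isLt, j.isLt⟩]; rfl) (fun i j h => if_neg (by omega)) (fun i j h => if_neg (by omega))]
  ext i j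
  have hext : ∀ x y : ℕ, (if x < a ∧ y < a then η * blockVal F a x y + σ (η * blockVal F a y x) else 0) =
      η * blockVal F a x y + σ (η * blockVal F a y x) := fun x y => by
    split_ifs with h
    · rfl
    · rw [blockVal_gt (by omega), blockVal_gt (by omega), mul_zero, map_zero, add_zero]
  simp only [Matrix.of_apply, hext, blockForm]
  have r1 := blockVal_rec (F := F) i.isLt j
  have r2 := congrArg σ (blockVal_rec (F := F) j.isLt i)
  rw [map_add, map_add, map_zero] at r2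
  simp only [map_mul]
  linear_combination η * r1 + σ η * r2

theorem blockForm_det {σ : F →+* F} {η : F} {a : ℕ} (hη : η + (-1) ^ (a - 1) * σ η ≠ 0) :
    (blockForm σ η a).det ≠ 0 := by
  intro h0
  obtain ⟨w, hw0, hw⟩ := Matrix.exists_mulVec_eq_zero_iff.2 h0
  have key : ∀ (b : ℕ) (hb : b < a), w ⟨b, hb⟩ = 0 := by
    intro b
    induction b using Nat.strong_induction_on with
    | _ b ih =>
      intro hb
      have h := congrFun hw ⟨a - 1 - b, by omega⟩
      rw [Matrix.mulVec, dotProduct, Pi.zero_apply, Finset.sum_eq_single (⟨b, hb⟩ : Fin a)] at h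
      · refine (mul_eq_zero.1 h).resolve_left fun e => hη ?_
        simp only [blockForm, Matrix.of_apply] at e
        rw [blockVal, if_pos (show a - 1 - b < a by omega), show a - 1 - (a - 1 - b) = b by omega, pasc_self, Nat.cast_one,
          blockVal, if_pos hb, pasc_self, Nat.cast_one, mul_one, mul_one, map_mul, map_pow, map_neg, map_one] at e
        have hs : ((-1 : F) ^ b) * (-1) ^ b = 1 := by rw [← mul_pow, neg_one_mul, neg_neg, one_pow]
        have hp : (-1 : F) ^ (a - 1) = (-1) ^ (a - 1 - b) * (-1) ^ b := by rw [← pow_add]; congr 1; omega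
        rw [hp]
        linear_combination (-1 : F) ^ b * e - η * hs
      · intro y _ hy
        rcases lt_or_gt_of_ne (fun e => hy (Fin.ext e)) with hy' | hy'
        · rw [ih y hy' y.isLt, mul_zero]
        · simp only [blockForm, Matrix.of_apply]
          rw [blockVal_gt (by change b < (y : ℕ) at hy'; omega), blockVal_gt (by change b < (y : ℕ) at hy'; omega)]
          simp
      · simp
  exact hw0 (funext fun b => key b b.isLt)

variable [Fintype F]

/-- Every Jordan type occurs in the unitary group. -/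
theorem exists_unitary_type {σ : F →+* F} (hne : σ ≠ RingHom.id F) (h2 : ∀ x, σ (σ x) = x) {t : ℕ} (d : Fin t → ℕ)
    {n : ℕ} (hn : ∑ k, d k = n) :
    ∃ A : Matrix (Fin n) (Fin n) F, Aᵀ * A.map σ = 1 ∧ ∀ j, ((A - 1) ^ j).rank = ∑ k, (d k - j) := by
  classical
  have hη : ∀ k, ∃ η : F, η + (-1) ^ (d k - 1) * σ η ≠ 0 := fun k =>
    exists_eta hne _ (neg_one_pow_eq_or F (d k - 1))
  choose η hη using hη
  let e : ((k : Fin t) × Fin (d k)) ≃ Fin n := Fintype.equivFinOfCardEq (by simp [hn])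
  obtain ⟨H, hH⟩ : ∃ H, H = Matrix.blockDiagonal' fun k => blockForm σ (η k) (d k) := ⟨_, rfl⟩
  obtain ⟨J, hJ⟩ : ∃ J, J = Cfsg.jordanTypeMatrix d F := ⟨_, rfl⟩
  have hHh : (H.map σ)ᵀ = H := by
    rw [hH, Matrix.blockDiagonal'_map _ _ (map_zero σ), Matrix.blockDiagonal'_transpose]
    simp only [blockForm_herm h2]
  have hinv : Jᵀ * H * J.map σ = H := by
    rw [hJ, hH, Cfsg.jordanTypeMatrix, Matrix.blockDiagonal'_map _ _ (map_zero σ), Matrix.blockDiagonal'_transpose,
      ← Matrix.blockDiagonal'_mul, ← Matrix.blockDiagonal'_mul]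
    simp only [blockForm_inv h2]
  have hdet : H.det ≠ 0 := by
    intro h0
    obtain ⟨w, hw0, hw⟩ := Matrix.exists_mulVec_eq_zero_iff.2 h0
    refine hw0 (funext fun ⟨k, i⟩ => ?_)
    have hk : blockForm σ (η k) (d k) *ᵥ (fun i => w ⟨k, i⟩) = 0 := funext fun i => by
      have := congrFun hw ⟨k, i⟩
      simp only [hH, Matrix.mulVec, dotProduct, Fintype.sum_sigma, Pi.zero_apply] at this ⊢
      rw [Finset.sum_eq_single k] at this
      · simpa [Matrix.blockDiagonal'_apply] using this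
      · intro k' _ hk'
        exact Finset.sum_eq_zero fun y _ => by rw [Matrix.blockDiagonal'_apply, dif_neg hk'.symm, zero_mul]
      · simp
    exact congrFun (Matrix.eq_zero_of_mulVec_eq_zero (blockForm_det (hη k)) hk) i
  let τ : F ≃+* F := RingEquiv.ofBijective σ (Function.Involutive.bijective h2)
  have hτ : ⇑τ = ⇑σ := rfl
  obtain ⟨M, hM⟩ : ∃ M, M = H.submatrix e.symm e.symm := ⟨_, rfl⟩
  have hMd : M.det ≠ 0 := by rw [hM, Matrix.det_submatrix_equiv_self]; exact hdet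
  obtain ⟨X, hX⟩ := CfsgLib.AschbacherForm.herm_equiv (σ := τ) (fun h => hne (RingHom.ext fun x => RingEquiv.congr_fun h x))
    h2 (Matrix.GeneralLinearGroup.mkOfDetNeZero M hMd) (by
      show (M.map σ)ᵀ = M
      rw [hM, ← Matrix.submatrix_map, Matrix.transpose_submatrix, hHh])
  change (X : Matrix (Fin n) (Fin n) F)ᵀ * M * (X : Matrix (Fin n) (Fin n) F).map σ = 1 at hX
  obtain ⟨K, hK⟩ : ∃ K, K = J.submatrix e.symm e.symm := ⟨_, rfl⟩
  have hKM : Kᵀ * M * K.map σ = M := by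
    rw [hK, hM, Matrix.transpose_submatrix, ← Matrix.submatrix_map, Matrix.submatrix_mul_equiv, Matrix.submatrix_mul_equiv,
      hinv]
  obtain ⟨A, hA⟩ : ∃ A, A = ((X⁻¹ : GL (Fin n) F) : Matrix (Fin n) (Fin n) F) * K * (X : Matrix (Fin n) (Fin n) F) := ⟨_, rfl⟩
  refine ⟨A, ?_, fun j => CfsgLib.KnownB.Jordan.rank_pow_conj (e := e) ⟨X⁻¹, ?_⟩ j⟩
  · have e1 : (X : Matrix (Fin n) (Fin n) F) * ((X⁻¹ : GL (Fin n) F) : Matrix (Fin n) (Fin n) F) = 1 := X.mul_inv
    have eM : ((X⁻¹ : GL (Fin n) F) : Matrix (Fin n) (Fin n) F)ᵀ * ((X⁻¹ : GL (Fin n) F) : Matrix (Fin n) (Fin n) F).map σ = M := by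
      have h3 := congrArg (fun Z => ((X⁻¹ : GL (Fin n) F) : Matrix (Fin n) (Fin n) F)ᵀ * Z *
        ((X⁻¹ : GL (Fin n) F) : Matrix (Fin n) (Fin n) F).map σ) hX
      simp only [Matrix.mul_one] at h3
      rw [← h3]
      calc ((X⁻¹ : GL (Fin n) F) : Matrix (Fin n) (Fin n) F)ᵀ *
            ((X : Matrix (Fin n) (Fin n) F)ᵀ * M * (X : Matrix (Fin n) (Fin n) F).map σ) *
            ((X⁻¹ : GL (Fin n) F) : Matrix (Fin n) (Fin n) F).map σ
          = ((X : Matrix (Fin n) (Fin n) F) * ((X⁻¹ : GL (Fin n) F) : Matrix (Fin n) (Fin n) F))ᵀ * M *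
            ((X : Matrix (Fin n) (Fin n) F) * ((X⁻¹ : GL (Fin n) F) : Matrix (Fin n) (Fin n) F)).map σ := by
            rw [Matrix.transpose_mul, Matrix.map_mul]; simp only [Matrix.mul_assoc]
        _ = M := by rw [e1, Matrix.transpose_one, Matrix.map_one σ (map_zero σ) (map_one σ), Matrix.one_mul, Matrix.mul_one]
    calc Aᵀ * A.map σ = (X : Matrix (Fin n) (Fin n) F)ᵀ * (Kᵀ * (((X⁻¹ : GL (Fin n) F) : Matrix (Fin n) (Fin n) F)ᵀ *
          ((X⁻¹ : GL (Fin n) F) : Matrix (Fin n) (Fin n) F).map σ) * K.map σ) * (X : Matrix (Fin n) (Fin n) F).map σ := by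
          rw [hA, Matrix.transpose_mul, Matrix.transpose_mul, Matrix.map_mul, Matrix.map_mul]
          simp only [Matrix.mul_assoc]
      _ = 1 := by rw [eM, hKM, hX]
  · show _ = _
    rw [hA, Matrix.mul_assoc (_ * K), X.mul_inv, Matrix.mul_one, hK, hJ]
    rfl

theorem isNilpotent_of_ranks {ι : Type*} [Fintype ι] [DecidableEq ι] {A : Matrix ι ι F} {t : ℕ} {d : Fin t → ℕ} {p : ℕ}
    (hr : ∀ j, ((A - 1) ^ j).rank = ∑ k, (d k - j)) (hd : ∀ k, d k ≤ p) : (A - 1) ^ p = 0 := by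
  have h0 : ((A - 1) ^ p).rank = 0 := by
    rw [hr]; exact Finset.sum_eq_zero fun k _ => Nat.sub_eq_zero_of_le (hd k)
  refine Matrix.toLin'.injective ?_
  rw [map_zero, ← LinearMap.range_eq_bot]
  exact Submodule.finrank_eq_zero.1 h0

/-- A multiset as a list of block sizes. -/
theorem exists_fin (μ : Multiset ℕ) :
    ∃ (t : ℕ) (d : Fin t → ℕ), Multiset.map d (Finset.univ : Finset (Fin t)).val = μ ∧ (∀ k, d k ∈ μ) ∧
      ∑ k, d k = μ.sum ∧ ∀ j, ∑ k, (d k - j) = (μ.map fun a => a - j).sum := by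
  have hmap : Multiset.map (fun k => μ.toList.get k) (Finset.univ : Finset (Fin μ.toList.length)).val = μ := by
    rw [Fin.univ_val_map]
    exact (congrArg _ (List.ofFn_get _)).trans (Multiset.coe_toList μ)
  refine ⟨_, fun k => μ.toList.get k, hmap, fun k => Multiset.mem_toList.1 (List.get_mem _ _), ?_, fun j => ?_⟩
  · exact congrArg Multiset.sum hmap
  · have h := congrArg (fun s => (Multiset.map (fun a => a - j) s).sum) hmap
    simp only [Multiset.map_map] at h
    exact h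

theorem adj_eq {σ : F →+* F} (h2 : ∀ x, σ (σ x) = x) {m : ℕ} {A : Matrix (Fin m) (Fin m) F} :
    CfsgLib.KnownB.UnitaryConj.adj σ A * A = 1 ↔ Aᵀ * A.map σ = 1 := by
  have hs : ∀ M : Matrix (Fin m) (Fin m) F, (M.map σ).map σ = M := fun M => Matrix.ext fun i j => h2 _
  constructor <;> intro h <;> have := congrArg (fun M => M.map σ) h <;>
    simp only [CfsgLib.KnownB.UnitaryConj.adj, Matrix.map_mul, Matrix.transpose_map, hs,
      Matrix.map_one σ (map_zero σ) (map_one σ)] at this ⊢ <;> exact this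

/-- A sub-multiset of the type gives an orthogonal invariant decomposition. -/
theorem exists_split {σ : F →+* F} (hne : σ ≠ RingHom.id F) (h2 : ∀ x, σ (σ x) = x) {n m : ℕ} (hmn : m ≤ n)
    {U : Matrix (Fin n) (Fin n) F} (hU : Uᵀ * U.map σ = 1) (hnil : IsNilpotent (U - 1)) {μ ν : Multiset ℕ}
    (hr : ∀ j, ((U - 1) ^ j).rank = (μ.map fun a => a - j).sum) (hν : ν ≤ μ) (hνs : ν.sum = m) :
    ∃ Q : Matrix (Fin n) (Fin n) F, Qᵀ * Q.map σ = 1 ∧
      ∀ v : Fin n → F, (∀ i : Fin n, m ≤ (i : ℕ) → v i = 0) → ∃ w : Fin n → F, (∀ i : Fin n, m ≤ (i : ℕ) → w i = 0) ∧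
        U *ᵥ (Q *ᵥ v) = Q *ᵥ w := by
  classical
  have hμs : μ.sum = n := by
    have := hr 0
    rw [pow_zero, Matrix.rank_one, Fintype.card_fin] at this
    simpa using this.symm
  obtain ⟨t₁, d₁, hd₁, -, hs₁, hj₁⟩ := exists_fin ν
  obtain ⟨t₂, d₂, hd₂, -, hs₂, hj₂⟩ := exists_fin (μ - ν)
  have hsplit : ν + (μ - ν) = μ := by rw [add_comm]; exact tsub_add_cancel_of_le hν
  have hsum2 : (μ - ν).sum = n - m := by
    have := congrArg Multiset.sum hsplit
    rw [Multiset.sum_add] at this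
    omega
  obtain ⟨A, hA, hAr⟩ := exists_unitary_type hne h2 d₁ (hs₁.trans hνs)
  obtain ⟨B, hB, hBr⟩ := exists_unitary_type hne h2 d₂ (hs₂.trans hsum2)
  let e : Fin m ⊕ Fin (n - m) ≃ Fin n := finSumFinEquiv.trans (finCongr (by omega))
  obtain ⟨V, hV⟩ : ∃ V, V = Matrix.reindex e e (Matrix.fromBlocks A 0 0 B) := ⟨_, rfl⟩
  have hVu : Vᵀ * V.map σ = 1 := by
    rw [hV, Matrix.reindex_apply, Matrix.transpose_submatrix, ← Matrix.submatrix_map, Matrix.submatrix_mul_equiv,
      Matrix.fromBlocks_transpose, Matrix.fromBlocks_map, Matrix.fromBlocks_multiply]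
    simp [hA, hB]
  have hVr : ∀ j, ((V - 1) ^ j).rank = ((U - 1) ^ j).rank := fun j => by
    rw [hV, CfsgLib.InvolTwo.JordanTypes.rank_reindex_sub_one_pow, CfsgLib.InvolTwo.JordanTypes.fromBlocks_diag_sub_one_pow,
      CfsgLib.InvolTwo.JordanTypes.rank_fromBlocks_diag, hr, hAr, hBr, hj₁, hj₂, ← Multiset.sum_add, ← Multiset.map_add, hsplit]
  obtain ⟨N, hN⟩ := hnil
  have hVn : IsNilpotent (V - 1) := ⟨N, by
    have h0 := hVr N
    rw [hN, Matrix.rank_zero] at h0
    refine Matrix.toLin'.injective ?_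
    rw [map_zero, ← LinearMap.range_eq_bot]
    exact Submodule.finrank_eq_zero.1 h0⟩
  obtain ⟨h, hh⟩ := CfsgLib.KnownB.Jordan.isConj_of_rank hVn ⟨N, hN⟩ hVr
  let gU : GL (Fin n) F := ⟨U, (U.map σ)ᵀ, mul_eq_one_comm.1 ((adj_eq h2).2 hU), (adj_eq h2).2 hU⟩
  let gV : GL (Fin n) F := ⟨V, (V.map σ)ᵀ, mul_eq_one_comm.1 ((adj_eq h2).2 hVu), (adj_eq h2).2 hVu⟩
  obtain ⟨Q, hQ, hQV⟩ := CfsgLib.KnownB.UnitaryConj.exists_unitary_conjugator hne h2 (A := gV) (B := gU)
    ((adj_eq h2).2 hVu) ((adj_eq h2).2 hU) (h := h) (Units.ext hh.eq)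
  refine ⟨(Q : Matrix (Fin n) (Fin n) F), (adj_eq h2).1 hQ, fun v hv => ⟨V *ᵥ v, fun i hi => ?_, ?_⟩⟩
  · obtain ⟨x, rfl⟩ := e.surjective i
    rcases x with x | x
    · simp [e] at hi; omega
    · rw [hV, Matrix.reindex_apply, Matrix.mulVec, dotProduct, ← e.sum_comp, Fintype.sum_sum_type]
      simp only [Matrix.submatrix_apply, Equiv.symm_apply_apply, Matrix.fromBlocks_apply₂₁, Matrix.fromBlocks_apply₂₂,
        Matrix.zero_apply, zero_mul, Finset.sum_const_zero, zero_add]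
      exact Finset.sum_eq_zero fun y _ => by rw [hv (e (Sum.inr y)) (by simp [e]), mul_zero]
  · have := congrArg Units.val hQV
    change (Q : Matrix (Fin n) (Fin n) F) * V = U * (Q : Matrix (Fin n) (Fin n) F) at this
    rw [Matrix.mulVec_mulVec, Matrix.mulVec_mulVec, this]

end CfsgLib.ThreeTransp.UnipUnitary
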