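import Cfsg.Agent.Lib.PrimeOrderSp.Blocks
import Cfsg.Agent.Lib.PrimeOrderSp.Model
import Cfsg.Agent.Lib.PrimeOrderSp.Transfer
import Cfsg.Agent.Lib.Classical.UnitaryTransv

/-!
# Nondegenerate invariant blocks of semisimple unitary maps
-/

set_option autoImplicit false
set_option linter.unusedSectionVars false

namespace CfsgLib.ThreeTransp.UnitAtoms

open Polynomial Module CfsgLib.PrimeOrderSp CfsgLib.KnownB.PrimeOrder CfsgLib.Classical.Unitary

universe u v

variable {F : Type u} [Field F] {V : Type v} [AddCommGroup V] [Module F V] {σ : F →+* F} {q : ℕ}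

/-- A nondegenerate hermitian form. -/
structure UForm (σ : F →+* F) (q : ℕ) (B : V →ₗ[F] V →ₛₗ[σ] F) : Prop where
  frob : UFrob σ q
  symm : ∀ u v, B v u = σ (B u v)
  nondeg : ∀ u, (∀ v, B u v = 0) → u = 0

variable {B : V →ₗ[F] V →ₛₗ[σ] F} {f : Module.End F V}

theorem UForm.herm (hh : UForm σ q B) : IsHerm B := ⟨⟨1, fun u v => by rw [one_mul]; exact hh.symm u v⟩, hh.nondeg⟩

theorem exists_aniso (hh : UForm σ q B) {D : Submodule F V} (hD : Nondeg B D) (h0 : D ≠ ⊥) :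
    ∃ v ∈ D, B v v ≠ 0 := by
  by_contra hc
  push Not at hc
  obtain ⟨u, hu, hu0⟩ := Submodule.exists_mem_ne_zero_of_ne_bot h0
  refine hu0 (hD u hu fun w hw => ?_)
  obtain ⟨a, ha⟩ : ∃ a, σ a ≠ a := by
    by_contra h'
    push Not at h'
    exact hh.frob.ne (RingHom.ext h')
  have key : ∀ a : F, a * B u w + σ a * σ (B u w) = 0 := fun a => by
    have e := hc (a • u + w) (add_mem (D.smul_mem a hu) hw)
    simp only [map_add, map_smul, LinearMap.add_apply, LinearMap.smul_apply, map_smulₛₗ, hc u hu, hc w hw,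
      smul_eq_mul, mul_zero, zero_add, add_zero, hh.symm u w] at e
    linear_combination e
  have k1 := key 1
  rw [map_one, one_mul, one_mul] at k1
  have : (a - σ a) * B u w = 0 := by linear_combination key a - σ a * k1
  exact (mul_eq_zero.1 this).resolve_left (sub_ne_zero.2 (Ne.symm ha))

theorem adj_aeval (hh : UForm σ q B) (hf : ∀ u v, B (f u) (f v) = B u v) {g : Module.End F V}
    (hfg : ∀ x, f (g x) = x) (a : F[X]) :
    ∀ x y, B (aeval f a x) y = B x (aeval g (a.map σ) y) := by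
  induction a using Polynomial.induction_on with
  | C c =>
    intro x y
    simp [Module.algebraMap_end_apply, map_smulₛₗ, hh.frob.invol]
  | add a b ha hb =>
    intro x y
    rw [Polynomial.map_add, map_add, map_add, LinearMap.add_apply, LinearMap.add_apply, map_add, map_add,
      LinearMap.add_apply, ha, hb]
  | monomial k c ih =>
    intro x y
    rw [pow_succ, ← mul_assoc, map_mul (aeval f), aeval_X, Module.End.mul_apply, ih,
      show Polynomial.map σ (C c * X ^ k * X) = X * Polynomial.map σ (C c * X ^ k) by rw [Polynomial.map_mul, Polynomial.map_X, mul_comm],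
      map_mul (aeval g) X, aeval_X, Module.End.mul_apply]
    conv_lhs => rw [← hfg (aeval g (Polynomial.map σ (C c * X ^ k)) y)]
    exact hf _ _

variable [FiniteDimensional F V]

theorem nondeg_cyc (hh : UForm σ q B) (hf : ∀ u v, B (f u) (f v) = B u v) {P : F[X]} (hP : Irreducible P) {v : V}
    (hPv : aeval f P v = 0) (hne : B v v ≠ 0) : Nondeg B (cyc f v) := fun u hu hu' => by
  by_contra hu0
  have h1 := cyc_minimal hP hPv (((cyc_inv v).perp hh.herm hf).inf (cyc_inv v)) hu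
    (Submodule.mem_inf.2 ⟨mem_perp.2 hu', hu⟩) hu0
  exact hne ((h1 (mem_cyc_self v)).1 v (mem_cyc_self v))

/-- A space killed by one irreducible polynomial. -/
theorem atom_killed (hh : UForm σ q B) (hf : ∀ u v, B (f u) (f v) = B u v) {P : F[X]} (hP : Irreducible P)
    {D : Submodule F V} (hDi : Inv f D) (hD : Nondeg B D) (h0 : D ≠ ⊥) (hk : ∀ v ∈ D, aeval f P v = 0) :
    ∃ U ≤ D, Inv f U ∧ Nondeg B U ∧ finrank F U = P.natDegree := by
  obtain ⟨v, hv, hne⟩ := exists_aniso hh hD h0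
  exact ⟨cyc f v, cyc_le hDi hv, cyc_inv v, nondeg_cyc hh hf hP (hk v hv) hne,
    finrank_cyc hP (hk v hv) fun e => hne (by rw [e]; simp)⟩

/-- The fixed space splits into lines. -/
theorem atom_fix (hh : UForm σ q B) (hf : ∀ u v, B (f u) (f v) = B u v) {D : Submodule F V} (hDi : Inv f D)
    (hDf : D ≤ fixSp f) (hD : Nondeg B D) (h0 : D ≠ ⊥) :
    ∃ U ≤ D, Inv f U ∧ Nondeg B U ∧ finrank F U = 1 := by
  obtain ⟨U, h1, h2, h3, h4⟩ := atom_killed hh hf (irreducible_X_sub_C (1 : F)) hDi hD h0 (fun v hv => by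
    rw [map_sub, aeval_X, aeval_C, map_one, LinearMap.sub_apply, Module.End.one_apply, mem_fixSp.1 (hDf hv), sub_self])
  exact ⟨U, h1, h2, h3, h4.trans (natDegree_X_sub_C _)⟩

variable [Fintype F]

theorem finrank_conj {L : Type*} [Field L] [Algebra F L] {p k : ℕ} [Fact p.Prime] [CharP F p] (hq : q = p ^ k)
    (hh : UFrob σ q) (P : F[X]) (x : L) : aeval x (P.map σ) ^ q = aeval (x ^ q) P := by
  haveI : CharP L p := charP_of_injective_algebraMap (algebraMap F L).injective p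
  haveI : ExpChar L p := ExpChar.prime Fact.out
  have hφ : ∀ y : L, iterateFrobenius L p k y = y ^ q := fun y => by rw [iterateFrobenius_def, hq]
  rw [← hφ, aeval_def, eval₂_map, hom_eval₂, hφ, aeval_def]
  congr 1
  refine RingHom.ext fun c => ?_
  rw [RingHom.comp_apply, RingHom.comp_apply, hφ, ← map_pow, ← hh.pow, hh.invol]

variable [DecidableEq F] {r : ℕ} [Fact r.Prime] {P : F[X]}

/-- With `ord q = 2 b`, `b` odd, the kernel of a factor is closed under the adjoint. -/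
theorem kill_conj {p k : ℕ} [Fact p.Prime] [CharP F p] (hq : q = p ^ k) (hh : UFrob σ q)
    (hF : Fintype.card F = q ^ 2) {b : ℕ} (hb : Odd b) (hdvd : r ∣ q ^ b + 1) (hP : P ∈ factors F r) :
    P ∣ (P.map σ).comp (X ^ (r - 1)) := by
  have hr0 : r ≠ 0 := (Fact.out : r.Prime).ne_zero
  obtain ⟨hirr, hm, hd, hne⟩ := (mem_factors hr0).1 hP
  haveI := Fact.mk hirr
  have hρ := root_pow_eq_one hr0 hP
  have hρ0 : AdjoinRoot.root P ≠ 0 := fun e => by rw [e, zero_pow hr0] at hρ; exact zero_ne_one hρ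
  have e1 : AdjoinRoot.root P ^ (r - 1) = AdjoinRoot.root P ^ (q ^ b) := by
    refine mul_right_cancel₀ hρ0 ?_
    obtain ⟨c, hc⟩ := hdvd
    rw [← pow_succ, ← pow_succ, Nat.sub_add_cancel (Nat.one_le_iff_ne_zero.2 hr0), hρ, hc, pow_mul, hρ, one_pow]
  refine AdjoinRoot.mk_eq_zero.1 ?_
  rw [← AdjoinRoot.aeval_eq, aeval_comp, map_pow, aeval_X]
  refine eq_zero_of_pow_eq_zero (n := q) ?_
  rw [finrank_conj hq hh, e1, ← pow_mul, ← pow_succ]
  obtain ⟨t, rfl⟩ := hb
  let φ := (FiniteField.frobeniusAlgHom F (AdjoinRoot P)) ^ (t + 1)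
  have hφ : ∀ x, φ x = x ^ Fintype.card F ^ (t + 1) := fun x => by
    simp only [φ, AlgHom.coe_pow, FiniteField.coe_frobeniusAlgHom, pow_iterate]
  rw [show q ^ (2 * t + 1 + 1) = Fintype.card F ^ (t + 1) by rw [hF, ← pow_mul]; ring_nf, ← hφ,
    aeval_algHom_apply, AdjoinRoot.aeval_eq, AdjoinRoot.mk_self, map_zero]

/-- With `ord q` not twice an odd number no factor carries a nondegenerate cyclic space. -/
theorem not_conj {p k : ℕ} [Fact p.Prime] [CharP F p] (hq : q = p ^ k) (hh : UFrob σ q)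
    (hF : Fintype.card F = q ^ 2) (hpar : ∀ t : ℕ, Odd t → ¬ r ∣ q ^ t + 1) (hrq : ¬ r ∣ q) (hP : P ∈ factors F r) :
    ¬ P ∣ (P.map σ).comp (X ^ (r - 1)) := by
  intro hdiv
  have hr0 : r ≠ 0 := (Fact.out : r.Prime).ne_zero
  obtain ⟨hirr, hm, hd, hne⟩ := (mem_factors hr0).1 hP
  haveI := Fact.mk hirr
  haveI : Module.Finite F (AdjoinRoot P) := (AdjoinRoot.powerBasis' hm).finite
  haveI : Finite (AdjoinRoot P) := Module.finite_of_finite F
  have hρ := root_pow_eq_one hr0 hP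
  have h0 : aeval (AdjoinRoot.root P ^ ((r - 1) * q)) P = 0 := by
    have e := AdjoinRoot.mk_eq_zero.2 hdiv
    rw [← AdjoinRoot.aeval_eq, aeval_comp, map_pow, aeval_X] at e
    rw [pow_mul, ← finrank_conj hq hh, e, zero_pow]
    rw [hq]
    exact pow_ne_zero _ (Fact.out : p.Prime).ne_zero
  obtain ⟨⟨s, hlt⟩, hs⟩ := (FiniteField.bijective_frobeniusAlgHom_pow F (AdjoinRoot P)).2
    (AdjoinRoot.liftAlgHom P (Algebra.ofId F (AdjoinRoot P)) (AdjoinRoot.root P ^ ((r - 1) * q)) h0)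
  have e := DFunLike.congr_fun hs (AdjoinRoot.root P)
  simp only [AlgHom.coe_pow, FiniteField.coe_frobeniusAlgHom, pow_iterate] at e
  rw [show AdjoinRoot.liftAlgHom P (Algebra.ofId F (AdjoinRoot P)) (AdjoinRoot.root P ^ ((r - 1) * q)) h0
    (AdjoinRoot.root P) = AdjoinRoot.root P ^ ((r - 1) * q) from AdjoinRoot.lift_root h0] at e
  have h1 : AdjoinRoot.root P ^ ((q ^ 2) ^ s + q) = 1 := by
    rw [pow_add, ← hF, e, ← pow_add]
    obtain ⟨c, rfl⟩ : ∃ c, r = c + 1 := ⟨r - 1, by omega⟩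
    rw [Nat.add_sub_cancel, show c * q + q = (c + 1) * q by ring, pow_mul, hρ, one_pow]
  rw [← orderOf_dvd_iff_pow_eq_one, orderOf_eq_prime hρ (root_ne_one hr0 hP)] at h1
  rcases Nat.eq_zero_or_pos s with rfl | hs0
  · exact hpar 1 odd_one (by simpa [add_comm] using h1)
  · obtain ⟨j, rfl⟩ : ∃ j, s = j + 1 := ⟨s - 1, by omega⟩
    refine hpar (2 * j + 1) ⟨j, rfl⟩ (((Fact.out : r.Prime).dvd_mul.1 ?_).resolve_left hrq)
    rwa [show q * (q ^ (2 * j + 1) + 1) = (q ^ 2) ^ (j + 1) + q by ring]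

theorem inv_pow {g : ℕ} (hfr : f ^ (g + 1) = 1) (x : V) : f ((f ^ g) x) = x := by
  rw [← Module.End.mul_apply, ← pow_succ', hfr, Module.End.one_apply]

/-- The moved space splits into blocks of odd dimension `b`. -/
theorem atom_odd (hh : UForm σ q B) (hf : ∀ u v, B (f u) (f v) = B u v) {p k : ℕ} [Fact p.Prime] [CharP F p]
    (hq : q = p ^ k) (hF : Fintype.card F = q ^ 2) (hr : (r : F) ≠ 0) (hfr : f ^ r = 1) {b : ℕ} (hb : Odd b)
    (hbo : orderOf ((Fintype.card F : ℕ) : ZMod r) = b) (hdvd : r ∣ q ^ b + 1) {D : Submodule F V}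
    (hDm : D ≤ movSp f) (hDi : Inv f D) (hD : Nondeg B D) (h0 : D ≠ ⊥) :
    ∃ U ≤ D, Inv f U ∧ Nondeg B U ∧ finrank F U = b := by
  have hrp : r.Prime := Fact.out
  have hfg : ∀ x, f ((f ^ (r - 1)) x) = x := inv_pow (by rwa [Nat.sub_add_cancel hrp.one_le])
  have hk := (killed_movSp (f := f) hr hfr).mono hDi hDm
  obtain ⟨P, hP, v, hv, hv0, hPv⟩ := exists_factor _ hk.inv h0 hk.kill
  have hdiv := kill_conj hq hh.frob hF hb hdvd hP
  let E : Submodule F V := LinearMap.ker (aeval f P) ⊓ D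
  have hEi : Inv f E := fun x hx => by
    refine Submodule.mem_inf.2 ⟨LinearMap.mem_ker.2 ?_, hDi x hx.2⟩
    have e : aeval f (P * X) x = aeval f (X * P) x := by rw [mul_comm]
    simp only [map_mul, aeval_X, Module.End.mul_apply, LinearMap.mem_ker.1 hx.1, map_zero] at e
    exact e
  have hkE : ∀ x ∈ E, aeval (f ^ (r - 1)) (P.map σ) x = 0 := fun x hx => by
    obtain ⟨c, hc⟩ := hdiv
    have e : aeval f ((P.map σ).comp (X ^ (r - 1))) x = 0 := by
      rw [hc, mul_comm, map_mul, Module.End.mul_apply, LinearMap.mem_ker.1 hx.1, map_zero]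
    rwa [aeval_comp, map_pow, aeval_X] at e
  obtain ⟨E', hE'i, hE'D, hsup, hdis⟩ := exists_compl_inv (isSemisimple_of_pow hr hfr) hEi hDi inf_le_right
  have hEn : Nondeg B E := fun u hu hu' => hD u hu.2 fun w hw => by
    rw [← hsup] at hw
    obtain ⟨a, ha, b', hb', rfl⟩ := Submodule.mem_sup.1 hw
    obtain ⟨y, hy⟩ := LinearMap.injective_iff_surjective.1
      ((injective_iff_map_eq_zero ((aeval f P).restrict fun x hx => Inv.aeval hE'i P hx)).2 fun x hx =>
        Subtype.ext (Submodule.disjoint_def.1 hdis x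
          (Submodule.mem_inf.2 ⟨LinearMap.mem_ker.2 (congrArg Subtype.val hx), hE'D x.2⟩) x.2)) ⟨b', hb'⟩
    have hy' : aeval f P (y : V) = b' := congrArg Subtype.val hy
    rw [map_add, hu' a ha, zero_add]
    refine hh.herm.refl ?_
    rw [← hy', adj_aeval hh hf hfg, hkE u hu, map_zero]
  obtain ⟨U, hU, hUi, hUn, hUr⟩ := atom_killed hh hf (hk.irr P hP) hEi hEn
    (fun e => hv0 ((Submodule.eq_bot_iff _).1 e v ⟨hPv, hv⟩)) fun x hx => hx.1
  exact ⟨U, hU.trans inf_le_right, hUi, hUn, hUr.trans ((hk.deg P hP).trans hbo)⟩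

/-- No nondegenerate cyclic space in the other parity. -/
theorem cyc_ti (hh : UForm σ q B) (hf : ∀ u v, B (f u) (f v) = B u v) {p k : ℕ} [Fact p.Prime] [CharP F p]
    (hq : q = p ^ k) (hF : Fintype.card F = q ^ 2) (hfr : f ^ r = 1)
    (hpar : ∀ t : ℕ, Odd t → ¬ r ∣ q ^ t + 1) (hrq : ¬ r ∣ q) (hP : P ∈ factors F r) {v : V} (hv0 : v ≠ 0)
    (hPv : aeval f P v = 0) : TI B (cyc f v) := by
  have hrp : r.Prime := Fact.out
  have hirr := ((mem_factors hrp.ne_zero).1 hP).1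
  have hfg : ∀ x, f ((f ^ (r - 1)) x) = x := inv_pow (by rwa [Nat.sub_add_cancel hrp.one_le])
  by_contra hT
  have hWn : Nondeg B (cyc f v) := fun u hu hu' => by
    by_contra hu0
    have h1 := cyc_minimal hirr hPv (((cyc_inv v).perp hh.herm hf).inf (cyc_inv v)) hu
      (Submodule.mem_inf.2 ⟨mem_perp.2 hu', hu⟩) hu0
    exact hT fun a ha b hb => (h1 ha).1 b hb
  have hkill : ∀ x ∈ cyc f v, aeval f P x = 0 := by
    rintro _ ⟨a, rfl⟩
    rw [evalAt_apply, ← Module.End.mul_apply, ← map_mul, mul_comm, map_mul, Module.End.mul_apply, hPv, map_zero]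
  have e : aeval f ((P.map σ).comp (X ^ (r - 1))) v = 0 := by
    refine hWn _ ((cyc_inv v).aeval _ (mem_cyc_self v)) fun x hx => hh.herm.refl ?_
    rw [aeval_comp, map_pow, aeval_X, ← adj_aeval hh hf hfg, hkill x hx, map_zero, LinearMap.zero_apply]
  exact not_conj hq hh.frob hF hpar hrq hP ((aeval_eq_zero_iff hirr hPv hv0 _).1 e)

/-- The moved space splits into blocks of dimension `2 b`. -/
theorem atom_even (hh : UForm σ q B) (hf : ∀ u v, B (f u) (f v) = B u v) {p k : ℕ} [Fact p.Prime] [CharP F p]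
    (hq : q = p ^ k) (hF : Fintype.card F = q ^ 2) (hr : (r : F) ≠ 0) (hfr : f ^ r = 1)
    (hpar : ∀ t : ℕ, Odd t → ¬ r ∣ q ^ t + 1) (hrq : ¬ r ∣ q) {b : ℕ}
    (hbo : orderOf ((Fintype.card F : ℕ) : ZMod r) = b) {D : Submodule F V}
    (hDm : D ≤ movSp f) (hDi : Inv f D) (hD : Nondeg B D) (h0 : D ≠ ⊥) :
    ∃ U ≤ D, Inv f U ∧ Nondeg B U ∧ finrank F U = 2 * b := by
  have h := hh.herm
  have hk := (killed_movSp (f := f) hr hfr).mono hDi hDm
  rw [hbo] at hk
  obtain ⟨P, hP, v, hv, hv0, hPv⟩ := exists_factor _ hk.inv h0 hk.kill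
  have hTI : TI B (cyc f v) := cyc_ti hh hf hq hF hfr hpar hrq hP hv0 hPv
  set W := cyc f v with hW
  have hWD : W ≤ D := cyc_le hDi hv
  have hWr : finrank F W = b := (finrank_cyc (hk.irr P hP) hPv hv0).trans (hk.deg P hP)
  obtain ⟨U, hUi, hUD, hsup, hdis⟩ := exists_compl_inv (isSemisimple_of_pow hr hfr)
    (((cyc_inv v).perp h hf).inf hDi) hDi inf_le_right
  have hUr : finrank F U = b := by
    have h1 := finrank_perp h hD hWD
    have h2 := Submodule.finrank_sup_add_finrank_inf_eq (perp B W ⊓ D) U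
    rw [hsup, hdis.eq_bot, finrank_bot, add_zero] at h2
    omega
  have hUW : ∀ y ∈ U, y ∈ perp B W → y = 0 := fun y hy hy' =>
    Submodule.disjoint_def.1 hdis y ⟨hy', hUD hy⟩ hy
  have hWU : ∀ a ∈ W, (∀ y ∈ U, B a y = 0) → a = 0 := fun a ha ha' => hD a (hWD ha) fun x hx => by
    rw [← hsup] at hx
    obtain ⟨y, hy, y', hy', rfl⟩ := Submodule.mem_sup.1 hx
    rw [map_add, ha' y' hy', add_zero]
    exact h.refl (hy.1 a ha)
  have hb0 : 0 < b := by rw [← hk.deg P hP]; exact (hk.irr P hP).natDegree_pos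
  have hU0 : U ≠ ⊥ := fun e => by rw [e, finrank_bot] at hUr; omega
  obtain ⟨Q, hQ, w, hw, hw0, hQw⟩ := exists_factor _ hUi hU0 ((hk.mono hUi hUD).kill)
  have hUTI : TI B U := by
    rw [← Submodule.eq_of_le_of_finrank_eq (cyc_le hUi hw)
      (((finrank_cyc (hk.irr Q hQ) hQw hw0).trans (hk.deg Q hQ)).trans hUr.symm)]
    exact cyc_ti hh hf hq hF hfr hpar hrq hQ hw0 hQw
  have hdis' : W ⊓ U = ⊥ := (Submodule.eq_bot_iff _).2 fun a ha => hUW a ha.2 fun x hx => hTI a ha.1 x hx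
  refine ⟨W ⊔ U, sup_le hWD hUD, (cyc_inv v).sup hUi, fun u hu hu' => ?_, ?_⟩
  · obtain ⟨a, ha, y, hy, rfl⟩ := Submodule.mem_sup.1 hu
    have e1 : a = 0 := hWU a ha fun x hx => by
      have := hu' x (Submodule.mem_sup_right hx)
      rwa [map_add, LinearMap.add_apply, hUTI y hy x hx, add_zero] at this
    have e2 : y = 0 := hUW y hy (mem_perp.2 fun x hx => by
      have := hu' x (Submodule.mem_sup_left hx)
      rwa [map_add, LinearMap.add_apply, hTI a ha x hx, zero_add] at this)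
    rw [e1, e2, add_zero]
  · have h2 := Submodule.finrank_sup_add_finrank_inf_eq W U
    rw [hdis', finrank_bot, add_zero, hWr, hUr] at h2
    rw [h2, two_mul]

end CfsgLib.ThreeTransp.UnitAtoms
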