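import Cfsg.Agent.Lib.ThreeTransp.UnitAtoms
import Cfsg.Agent.Lib.Geometry.UnSplit
import Cfsg.Agent.Lib.Classical.UnitaryOrder

/-!
# Nondegenerate subspaces of a unitary space: their number and the ones invariant under semisimple maps
-/

set_option autoImplicit false
set_option linter.unusedSectionVars false

namespace CfsgLib.ThreeTransp.UnitNondeg

open Matrix Module CfsgLib.PrimeOrderSp CfsgLib.Classical CfsgLib.Classical.Unitary CfsgLib.ThreeTransp.UnitAtoms

universe u v

variable {F : Type u} [Field F]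

section abs

variable {V : Type v} [AddCommGroup V] [Module F V] [FiniteDimensional F V] {σ : F →+* F} {q : ℕ}
  {B : V →ₗ[F] V →ₛₗ[σ] F} {f : Module.End F V}

/-- The determinant of an isometry on a nondegenerate invariant subspace has norm one. -/
theorem det_restrict_norm (hh : UForm σ q B) (hf : ∀ u v, B (f u) (f v) = B u v) {W : Submodule F V}
    (hW : Inv f W) (hWn : Nondeg B W) : LinearMap.det (f.restrict hW) * σ (LinearMap.det (f.restrict hW)) = 1 := by
  classical
  let b := Module.finBasis F W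
  let G : Matrix (Fin (finrank F W)) (Fin (finrank F W)) F := Matrix.of fun i j => B (b i : V) (b j : V)
  obtain ⟨A, hA⟩ : ∃ A, A = LinearMap.toMatrix b b (f.restrict hW) := ⟨_, rfl⟩
  have hcol : ∀ i, f (b i : V) = ∑ k, A k i • (b k : V) := fun i => by
    rw [show f (b i : V) = ((f.restrict hW (b i) : W) : V) from rfl, ← b.sum_repr (f.restrict hW (b i)), Submodule.coe_sum]
    exact Finset.sum_congr rfl fun k _ => by rw [hA, LinearMap.toMatrix_apply]; rfl
  have hG : Aᵀ * G * A.map σ = G := by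
    ext i j
    have e := hf (b i) (b j)
    simp only [hcol, map_sum, LinearMap.sum_apply, map_smul, LinearMap.smul_apply, map_smulₛₗ, smul_eq_mul] at e
    rw [show G i j = B (b i : V) (b j : V) from rfl, ← e]
    simp only [Matrix.mul_apply, Matrix.transpose_apply, Matrix.map_apply, G, Matrix.of_apply, Finset.sum_mul, Finset.mul_sum]
    refine Finset.sum_congr rfl fun x _ => Finset.sum_congr rfl fun y _ => ?_
    ring
  have hG0 : G.det ≠ 0 := by
    intro h0
    obtain ⟨w, hw0, hw⟩ := Matrix.exists_mulVec_eq_zero_iff.2 h0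
    have hbi : ∀ i, B (b i : V) (∑ j, σ (w j) • (b j : V)) = 0 := fun i => by
      have e := congrFun hw i
      simp only [Matrix.mulVec, dotProduct, G, Matrix.of_apply, Pi.zero_apply] at e
      rw [map_sum, ← e]
      exact Finset.sum_congr rfl fun j _ => by rw [map_smulₛₗ, hh.frob.invol, smul_eq_mul, mul_comm]
    have hu : ∑ j, σ (w j) • (b j : V) = 0 := by
      refine hWn _ (Submodule.sum_mem _ fun j _ => W.smul_mem _ (b j).2) fun y hy => hh.herm.refl ?_
      rw [show y = ((⟨y, hy⟩ : W) : V) from rfl, ← b.sum_repr ⟨y, hy⟩, Submodule.coe_sum, map_sum B, LinearMap.sum_apply]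
      exact Finset.sum_eq_zero fun i _ => by
        rw [SetLike.val_smul, map_smul, LinearMap.smul_apply, hbi, smul_zero]
    refine hw0 (funext fun j => ?_)
    have := Fintype.linearIndependent_iff.1 b.linearIndependent (fun j => σ (w j)) (Subtype.ext (by simpa using hu)) j
    exact (map_eq_zero σ).1 this
  have hd := congrArg Matrix.det hG
  rw [Matrix.det_mul, Matrix.det_mul, Matrix.det_transpose, show (A.map σ).det = σ A.det from (σ.map_det _).symm] at hd
  rw [← LinearMap.det_toMatrix b, ← hA]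
  refine mul_right_cancel₀ hG0 ?_
  rw [one_mul]
  linear_combination hd

/-- A scalar power with a nondegenerate invariant subspace of dimension prime to the exponent is a power. -/
theorem exists_root_of_sub (hh : UForm σ q B) (hf : ∀ u v, B (f u) (f v) = B u v) {r : ℕ} (hr : r.Prime) {z : F}
    (hz : z * σ z = 1) (hfr : f ^ r = z • 1) {W : Submodule F V} (hW : Inv f W) (hWn : Nondeg B W)
    (hrm : ¬ r ∣ finrank F W) : ∃ w : F, w * σ w = 1 ∧ w ^ r = z := by
  have hd : LinearMap.det (f.restrict hW) ^ r = z ^ finrank F W := by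
    rw [← map_pow, show (f.restrict hW) ^ r = z • (1 : Module.End F W) from LinearMap.ext fun v => Subtype.ext (by
      have e : ∀ (k : ℕ) (w : W), (((f.restrict hW) ^ k) w : V) = (f ^ k) (w : V) := fun k => by
        induction k with
        | zero => intro w; simp
        | succ k ih => intro w; rw [pow_succ, pow_succ, Module.End.mul_apply, Module.End.mul_apply, ih]; rfl
      rw [e, hfr]; rfl), LinearMap.det_smul, map_one, mul_one]
  have hn := det_restrict_norm hh hf hW hWn
  generalize LinearMap.det (f.restrict hW) = δ at hd hn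
  obtain ⟨b, hb⟩ := Nat.exists_mul_mod_eq_one_of_coprime ((hr.coprime_iff_not_dvd.2 hrm).symm) hr.one_lt
  obtain ⟨a, ha⟩ : ∃ a, finrank F W * b = r * a + 1 :=
    ⟨finrank F W * b / r, by have e := Nat.div_add_mod (finrank F W * b) r; omega⟩
  have hz0 : z ≠ 0 := left_ne_zero_of_mul_eq_one hz
  have hzs : σ z = z⁻¹ := eq_inv_of_mul_eq_one_right hz
  have hds : σ δ = δ⁻¹ := eq_inv_of_mul_eq_one_right hn
  refine ⟨δ ^ b / z ^ a, ?_, ?_⟩
  · rw [map_div₀, map_pow, map_pow, hzs, hds]
    have : δ ≠ 0 := left_ne_zero_of_mul_eq_one hn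
    rw [div_mul_div_comm, ← mul_pow, ← mul_pow, mul_inv_cancel₀ this, mul_inv_cancel₀ hz0, one_pow, one_pow, div_one]
  · rw [div_pow, ← pow_mul, ← pow_mul, mul_comm b, pow_mul, hd, ← pow_mul, ha, pow_succ', mul_comm a r]
    field_simp

variable [Finite F]

/-- Anti-isometric involutions: a plane splits off. -/
theorem atom_plane (hh : UForm σ q B) (h2 : (2 : F) ≠ 0) {g : Module.End F V} (hg : ∀ v, g (g v) = v)
    (hgi : ∀ u v, B (g u) (g v) = -B u v) {D : Submodule F V} (hDi : Inv g D) (hD : Nondeg B D) (h0 : D ≠ ⊥) :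
    ∃ U ≤ D, Inv g U ∧ Nondeg B U ∧ finrank F U = 2 := by
  obtain ⟨u, hu, hu0⟩ := Submodule.exists_mem_ne_zero_of_ne_bot h0
  obtain ⟨e, s, he, he0, hs, hge⟩ : ∃ e, ∃ s : F, e ∈ D ∧ e ≠ 0 ∧ s * s = 1 ∧ g e = s • e := by
    by_cases h : u + g u = 0
    · exact ⟨u, -1, hu, hu0, by ring, by rw [neg_one_smul]; exact eq_neg_of_add_eq_zero_right h⟩
    · exact ⟨u + g u, 1, add_mem hu (hDi u hu), h, one_mul 1, by rw [map_add, hg, one_smul, add_comm]⟩
  have hσs : σ s = s := by
    rcases mul_self_eq_one_iff.1 hs with rfl | rfl <;> simp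
  have hiso : ∀ x, g x = s • x ∨ g x = -s • x → B x x = 0 := fun x hx => by
    have e1 := hgi x x
    rcases hx with hx | hx <;>
      simp only [hx, map_smul, LinearMap.smul_apply, map_smulₛₗ, smul_eq_mul, map_neg, hσs] at e1 <;>
      exact (mul_eq_zero.1 (show (2 : F) * B x x = 0 by linear_combination e1 - (B x x) * hs)).resolve_left h2
  obtain ⟨w', hw', hne⟩ : ∃ w' ∈ D, B e w' ≠ 0 := by
    by_contra hc
    push Not at hc
    exact he0 (hD e he hc)
  obtain ⟨w, hw⟩ : ∃ w, w = w' + (-s) • g w' := ⟨_, rfl⟩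
  have hgw : g w = -s • w := by
    rw [hw, map_add, map_smul, hg, smul_add, smul_smul, show -s * -s = 1 by linear_combination hs, one_smul, add_comm]
  have hew : B e w ≠ 0 := by
    have e1 : s * B e (g w') = -B e w' := by
      have := hgi e w'
      rwa [hge, map_smul, LinearMap.smul_apply, smul_eq_mul] at this
    rw [hw, map_add, map_smulₛₗ, smul_eq_mul, map_neg, hσs, show B e w' + -s * B e (g w') = 2 * B e w' by linear_combination -e1]
    exact mul_ne_zero h2 hne
  have hwe : B w e ≠ 0 := fun e0 => hew (hh.herm.refl e0)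
  have hee := hiso e (Or.inl hge)
  have hww := hiso w (Or.inr hgw)
  have hwD : w ∈ D := hw ▸ add_mem hw' (D.smul_mem _ (hDi w' hw'))
  refine ⟨Submodule.span F ({e, w} : Set V), Submodule.span_le.2 (by rintro _ (rfl | rfl) <;> assumption),
    fun x hx => ?_, fun x hx hx' => ?_, ?_⟩
  · obtain ⟨a, b, rfl⟩ := Submodule.mem_span_pair.1 hx
    rw [map_add, map_smul, map_smul, hge, hgw, smul_smul, smul_smul]
    exact Submodule.mem_span_pair.2 ⟨_, _, rfl⟩
  · obtain ⟨a, b, rfl⟩ := Submodule.mem_span_pair.1 hx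
    have e1 := hx' e (Submodule.subset_span (by simp))
    have e2 := hx' w (Submodule.subset_span (by simp))
    simp only [map_add, map_smul, LinearMap.add_apply, LinearMap.smul_apply, smul_eq_mul, hee, hww, mul_zero,
      zero_add, add_zero, mul_eq_zero, hew, hwe, or_false] at e1 e2
    simp [e1, e2]
  · have hli : LinearIndependent F ![e, w] := LinearIndependent.pair_iff.2 fun a b hab => by
      have e1 := congrArg (fun x => B x e) hab
      have e2 := congrArg (fun x => B x w) hab
      simp only [map_add, map_smul, LinearMap.add_apply, LinearMap.smul_apply, smul_eq_mul, hee, hww, mul_zero,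
        zero_add, add_zero, map_zero, LinearMap.zero_apply, mul_eq_zero, hew, hwe, or_false] at e1 e2
      exact ⟨e2, e1⟩
    have h := finrank_span_eq_card hli
    rwa [Matrix.range_cons_cons_empty, Fintype.card_fin] at h

/-- Anti-isometric involutions have balanced eigenspaces. -/
theorem det_two (hh : UForm σ q B) (h2 : (2 : F) ≠ 0) {g : Module.End F V} (hg : ∀ v, g (g v) = v)
    (hgi : ∀ u v, B (g u) (g v) = -B u v) : ∃ k, finrank F V = 2 * k ∧ LinearMap.det g = (-1) ^ k := by
  let P : Submodule F V := LinearMap.ker (g - 1)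
  let M : Submodule F V := LinearMap.ker (g + 1)
  have hP : ∀ v, v ∈ P ↔ g v = v := fun v => by simp [P, sub_eq_zero]
  have hM : ∀ v, v ∈ M ↔ g v = -v := fun v => by simp [M, add_eq_zero_iff_eq_neg]
  have hc : IsCompl P M := by
    refine ⟨Submodule.disjoint_def.2 fun v h1 h2' => ?_, ?_⟩
    · have e : (2 : F) • v = 0 := by
        rw [two_smul]
        have := ((hP v).1 h1).symm.trans ((hM v).1 h2')
        exact eq_neg_iff_add_eq_zero.1 this
      exact (smul_eq_zero.1 e).resolve_left h2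
    · rw [codisjoint_iff, Submodule.eq_top_iff']
      intro v
      refine Submodule.mem_sup.2 ⟨(2 : F)⁻¹ • (v + g v), (hP _).2 ?_, (2 : F)⁻¹ • (v - g v), (hM _).2 ?_, ?_⟩
      · rw [map_smul, map_add, hg, add_comm]
      · rw [map_smul, map_sub, hg, ← smul_neg, neg_sub]
      · rw [← smul_add, show v + g v + (v - g v) = (2 : F) • v by rw [two_smul]; abel, smul_smul,
          inv_mul_cancel₀ h2, one_smul]
  have hti : ∀ s : F, (s = 1 ∨ s = -1) → ∀ u v, g u = s • u → g v = s • v → B u v = 0 := fun s hs u v hu hv => by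
    have e1 := hgi u v
    rcases hs with rfl | rfl <;>
      simp only [hu, hv, one_smul, neg_one_smul, map_neg, LinearMap.neg_apply, neg_neg] at e1 <;>
      exact (mul_eq_zero.1 (show (2 : F) * B u v = 0 by linear_combination e1)).resolve_left h2
  have hle : ∀ W : Submodule F V, (∀ u ∈ W, ∀ v ∈ W, B u v = 0) → 2 * finrank F W ≤ finrank F V := fun W hW => by
    have h1 := finrank_perp hh.herm hh.herm.nondeg_top (W := W) le_top
    have h2' := Submodule.finrank_mono (show W ≤ perp B W ⊓ ⊤ from le_inf (fun u hu => mem_perp.2 (hW u hu)) le_top)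
    rw [finrank_top] at h1
    omega
  have h1 := hle P fun u hu v hv => hti 1 (Or.inl rfl) u v (by rw [(hP u).1 hu, one_smul]) (by rw [(hP v).1 hv, one_smul])
  have h1' := hle M fun u hu v hv => hti (-1) (Or.inr rfl) u v (by rw [(hM u).1 hu, neg_one_smul])
    (by rw [(hM v).1 hv, neg_one_smul])
  have hsum := Submodule.finrank_add_eq_of_isCompl hc
  refine ⟨finrank F M, by omega, ?_⟩
  let e := Submodule.prodEquivOfIsCompl P M hc
  have hge : g = (e.toLinearMap ∘ₗ (LinearMap.prodMap LinearMap.id ((-1 : F) • LinearMap.id)) ∘ₗ e.symm.toLinearMap) := by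
    refine LinearMap.ext fun v => ?_
    obtain ⟨⟨a, b⟩, rfl⟩ := e.surjective v
    rw [LinearMap.comp_apply, LinearMap.comp_apply, LinearEquiv.coe_coe, LinearEquiv.coe_coe, LinearEquiv.symm_apply_apply]
    simp only [LinearMap.prodMap_apply, LinearMap.id_apply, LinearMap.smul_apply, e, Submodule.coe_prodEquivOfIsCompl',
      SetLike.val_smul]
    rw [map_add, (hP _).1 a.2, (hM _).1 b.2, neg_one_smul]
  rw [hge, LinearMap.det_conj, LinearMap.det_prodMap, LinearMap.det_id, LinearMap.det_smul, LinearMap.det_id, one_mul, mul_one]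

/-- Nondegenerate invariant subspaces from blocks. -/
theorem exists_of_order (hh : UForm σ q B) (hf : ∀ u v, B (f u) (f v) = B u v) {r : ℕ} (hr : (r : F) ≠ 0)
    (hfr : f ^ r = 1) {c : ℕ} (hc : 0 < c)
    (atom : ∀ D ≤ movSp f, Inv f D → Nondeg B D → D ≠ ⊥ → ∃ U ≤ D, Inv f U ∧ Nondeg B U ∧ finrank F U = c)
    {m : ℕ} (hmod : m % c ≤ finrank F V % c) (hm : m ≤ finrank F V) :
    ∃ W : Submodule F V, Inv f W ∧ Nondeg B W ∧ finrank F W = m := by
  have h := hh.herm
  obtain ⟨⟨N, hN⟩, hmov⟩ := exists_sub_of_atoms h hf hc atom (movSp f) le_rfl inv_movSp (nondeg_movSp hr hfr h hf)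
  obtain ⟨-, hfx⟩ := exists_sub_of_atoms h hf one_pos (fun D hD hDi hDn h0 => atom_fix hh hf hDi hD hDn h0)
    (fixSp f) le_rfl (inv_fixSp hr hfr) (nondeg_fixSp hr hfr h hf)
  have hdim := Submodule.finrank_add_eq_of_isCompl (isCompl_fix_mov hr hfr)
  have hml := Nat.mod_add_div m c
  obtain ⟨n₁, hn1, hn2, hn3⟩ : ∃ n₁, n₁ * c ≤ finrank F (movSp f) ∧ n₁ * c ≤ m ∧
      m - n₁ * c ≤ finrank F (fixSp f) := by
    rcases le_or_gt N (m / c) with h' | h'
    · refine ⟨N, by rw [hN, mul_comm], ?_, ?_⟩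
      · calc N * c ≤ (m / c) * c := Nat.mul_le_mul_right _ h'
          _ ≤ m := by rw [mul_comm]; omega
      · have e1 : N * c = c * N := mul_comm _ _
        omega
    · refine ⟨m / c, by rw [hN, mul_comm c N]; exact Nat.mul_le_mul_right _ h'.le, by rw [mul_comm]; omega, ?_⟩
      have e : finrank F (fixSp f) % c = finrank F V % c := by
        rw [show finrank F V = finrank F (fixSp f) + c * N by omega, Nat.add_mul_mod_self_left]
      have := Nat.mod_le (finrank F (fixSp f)) c
      rw [mul_comm]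
      omega
  obtain ⟨U₁, hU₁, hU₁i, hU₁n, hU₁r⟩ := hmov n₁ hn1
  obtain ⟨U₂, hU₂, hU₂i, hU₂n, hU₂r⟩ := hfx (m - n₁ * c) (by omega)
  refine ⟨U₁ ⊔ U₂, hU₁i.sup hU₂i, nondeg_sup_orth h hU₁n hU₂n fun u hu => mem_perp.2 fun w hw =>
    (orth_fix_mov h hf u (hU₂ hu) w (hU₁ hw)).1, ?_⟩
  have h3 := Submodule.finrank_sup_add_finrank_inf_eq U₁ U₂
  rw [((isCompl_fix_mov hr hfr).symm.disjoint.mono hU₁ hU₂).eq_bot, finrank_bot, hU₁r, hU₂r] at h3
  omega

end abs

section model

variable {σ : F →+* F} {q n : ℕ}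

/-- The hermitian form, linear in the first variable. -/
noncomputable def H (σ : F →+* F) (n : ℕ) : (Fin n → F) →ₗ[F] (Fin n → F) →ₛₗ[σ] F := (hermB σ n).flip

theorem H_apply (hh : UFrob σ q) (u v : Fin n → F) : H σ n u v = Cfsg.hermForm n F q u v := by
  rw [H, LinearMap.flip_apply, hermB_eq hh.pow]

variable [Finite F]

theorem uformH (hh : UFrob σ q) : UForm σ q (H σ n) :=
  ⟨hh, fun u v => by simp [H, hermB_apply, map_sum, hh.invol, mul_comm],
    fun u hu => (hermB_nondeg hh.invol n).2 u fun v => hu v⟩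

theorem nondeg_iff (hh : UFrob σ q) {W : Submodule F (Fin n → F)} :
    (∀ u ∈ W, u ≠ 0 → ∃ v ∈ W, Cfsg.hermForm n F q u v ≠ 0) ↔ Nondeg (H σ n) W := by
  constructor
  · intro h u hu hu'
    by_contra hu0
    obtain ⟨v, hv, hne⟩ := h u hu hu0
    exact hne ((H_apply hh u v).symm.trans (hu' v hv))
  · intro h u hu hu0
    by_contra hc
    push Not at hc
    exact hu0 (h u hu fun v hv => (H_apply hh u v).trans (hc v hv))

theorem iso_iff (hh : UFrob σ q) {A : Matrix (Fin n) (Fin n) F} :
    (∀ u v, H σ n (Matrix.toLin' A u) (Matrix.toLin' A v) = H σ n u v) ↔ Aᵀ * A.map σ = 1 := by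
  have hu : ∀ u v, H σ n u v = uh σ u v := fun u v => by rw [H_apply hh, hh.hermForm_eq]
  simp only [hu, Matrix.toLin'_apply, uh]
  constructor
  · intro hg
    ext i j
    have := hg (Pi.single i 1) (Pi.single j 1)
    simp only [mulVec_single_one] at this
    refine Eq.trans ?_ (this.trans ?_)
    · simp [Matrix.mul_apply, dotProduct]
    · simp [Matrix.one_apply, Pi.single_apply, apply_ite σ, eq_comm]
  · intro hg u v
    have : σ ∘ (A *ᵥ v) = A.map σ *ᵥ (σ ∘ v) := funext fun i => RingHom.map_mulVec σ A v i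
    rw [this, dotProduct_mulVec, ← vecMul_transpose, vecMul_vecMul, hg, vecMul_one]

theorem mem_SU_iff_mul (hh : UFrob σ q) {x : Matrix.SpecialLinearGroup (Fin n) F} :
    x ∈ Cfsg.SU n F q ↔ (x : Matrix (Fin n) (Fin n) F)ᵀ * (x : Matrix (Fin n) (Fin n) F).map σ = 1 := by
  rw [← iso_iff hh, mem_SU_iff]
  simp only [H_apply hh, Matrix.toLin'_apply]

theorem det_norm {m : ℕ} {A : Matrix (Fin m) (Fin m) F} (hA : Aᵀ * A.map σ = 1) : A.det * σ A.det = 1 := by
  have h := congrArg Matrix.det hA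
  rwa [Matrix.det_mul, Matrix.det_transpose, Matrix.det_one, show (A.map σ).det = σ A.det from (σ.map_det _).symm] at h

/-- The number of nondegenerate subspaces, times the orders of the two smaller groups, divides the order. -/
theorem card_nondeg_mul_dvd (hh : UFrob σ q) {m : ℕ} (hm : m ≤ n) :
    Nat.card {W : Submodule F (Fin n → F) // finrank F ↥W = m ∧
        (∀ u ∈ W, u ≠ 0 → ∃ v ∈ W, Cfsg.hermForm n F q u v ≠ 0)} *
      (Nat.card (Cfsg.GU m F q) * Nat.card (Cfsg.GU (n - m) F q)) ∣ Nat.card (Cfsg.GU n F q) := by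
  classical
  rcases isEmpty_or_nonempty {W : Submodule F (Fin n → F) // finrank F ↥W = m ∧
      (∀ u ∈ W, u ≠ 0 → ∃ v ∈ W, Cfsg.hermForm n F q u v ≠ 0)} with he | ⟨⟨W₀, hW₀, hn₀⟩⟩
  · haveI := Fintype.ofFinite F
    have hc : Nat.card (Cfsg.GU n F q) ≠ 0 := Nat.card_pos.ne'
    obtain ⟨j⟩ : Nonempty (Fin m ⊕ Fin (n - m) ≃ Fin n) := ⟨finSumFinEquiv.trans (finCongr (by omega))⟩
    exfalso
    let v : Fin m → Fin n → F := fun i => Pi.single (j (Sum.inl i)) 1
    have hv : LinearIndependent F v :=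
      (Pi.linearIndependent_single_one (Fin n) F).comp _ (j.injective.comp Sum.inl_injective)
    refine he.false ⟨Submodule.span F (Set.range v), by rw [finrank_span_eq_card hv, Fintype.card_fin], fun u hu hu0 => ?_⟩
    obtain ⟨c, rfl⟩ := (Submodule.mem_span_range_iff_exists_fun F).1 hu
    obtain ⟨i, hi⟩ : ∃ i, c i ≠ 0 := by
      by_contra h'
      push Not at h'
      exact hu0 (by simp [h'])
    refine ⟨v i, Submodule.subset_span ⟨i, rfl⟩, ?_⟩
    rw [hh.hermForm_eq, uh_single_right]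
    simp [v, Finset.sum_apply, Pi.single_apply, j.injective.eq_iff, hi]
  letI : MulAction (Cfsg.GU n F q) (Submodule F (Fin n → F)) :=
    { smul := fun g W => W.map (Matrix.toLin' (g.1 : Matrix (Fin n) (Fin n) F))
      one_smul := fun W => by
        show W.map (Matrix.toLin' ((1 : GL (Fin n) F) : Matrix (Fin n) (Fin n) F)) = W
        rw [Units.val_one, Matrix.toLin'_one]; exact Submodule.map_id _
      mul_smul := fun a b W => by
        show W.map (Matrix.toLin' ((a.1 * b.1 : GL (Fin n) F) : Matrix (Fin n) (Fin n) F)) = (W.map _).map _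
        rw [Units.val_mul, Matrix.toLin'_mul, Submodule.map_comp] }
  have hiso : ∀ g : Cfsg.GU n F q, ∀ u v, Cfsg.hermForm n F q (g.1.1 *ᵥ u) (g.1.1 *ᵥ v) = Cfsg.hermForm n F q u v :=
    fun g u v => g.2 u v
  have horth : ∀ W : Submodule F (Fin n → F), finrank F W = m → Nondeg (H σ n) W →
      ∃ w : Fin m → Fin n → F, LinearIndependent F w ∧ Submodule.span F (Set.range w) = W ∧
        ∀ i j, uh σ (w i) (w j) = if i = j then 1 else 0 := by
    intro W hW hn
    let B := (hermB σ n).domRestrict₁₂ W W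
    have hB : B.Nondegenerate := by
      refine ⟨fun x hx => Subtype.ext (hn _ x.2 fun v hv => ?_), fun x hx => Subtype.ext (hn _ x.2 fun v hv => ?_)⟩
      · exact (uformH hh).herm.refl (hx ⟨v, hv⟩)
      · exact hx ⟨v, hv⟩
    obtain ⟨b, hb⟩ := CfsgLib.Geometry.exists_orthonormal hh.ne hh.invol
      (⟨fun x y => (hermB_isSymm hh.invol n).eq x.1 y.1⟩ : B.IsSymm) hB
    let b' := b.reindex (finCongr hW)
    refine ⟨fun i => (b' i : Fin n → F), b'.linearIndependent.map' W.subtype W.ker_subtype, ?_, fun i j => ?_⟩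
    · have e := congrArg (Submodule.map W.subtype) b'.span_eq
      rw [Submodule.map_span, Submodule.map_top, Submodule.range_subtype, ← Set.range_comp] at e
      exact e
    · rw [uh_eq_hermB]
      show B (b' j) (b' i) = _
      simp only [b', Module.Basis.reindex_apply, hb, Fin.ext_iff]
      simp [eq_comm]
  have hsub : ∀ W : Submodule F (Fin n → F), (finrank F ↥W = m ∧
      (∀ u ∈ W, u ≠ 0 → ∃ v ∈ W, Cfsg.hermForm n F q u v ≠ 0)) ↔
      W ∈ MulAction.orbit (Cfsg.GU n F q) W₀ := by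
    intro W
    constructor
    · rintro ⟨hW, hn⟩
      obtain ⟨v, hv, hvs, hvg⟩ := horth W₀ hW₀ ((nondeg_iff hh).1 hn₀)
      obtain ⟨w, hw, hws, hwg⟩ := horth W hW ((nondeg_iff hh).1 hn)
      obtain ⟨g, hg, hgv⟩ := exists_gu_map hh v w hv hw fun i j => by rw [hvg, hwg]
      refine ⟨⟨g, hg⟩, ?_⟩
      show W₀.map (Matrix.toLin' (g : Matrix (Fin n) (Fin n) F)) = W
      rw [← hvs, ← hws, Submodule.map_span, ← Set.range_comp]
      exact congrArg (fun f => Submodule.span F (Set.range f)) (funext hgv)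
    · rintro ⟨g, rfl⟩
      have hinj : Function.Injective (Matrix.toLin' (g.1 : Matrix (Fin n) (Fin n) F)) :=
        injective_of_iso (uformH hh).herm fun u v => by simp only [H_apply hh, Matrix.toLin'_apply, hiso g]
      refine ⟨((Submodule.equivMapOfInjective _ hinj W₀).finrank_eq.symm).trans hW₀, ?_⟩
      rintro _ ⟨u, hu, rfl⟩ hu0
      obtain ⟨v, hv, hne⟩ := hn₀ u hu fun e => hu0 (by simp [e])
      exact ⟨_, ⟨v, hv, rfl⟩, fun e => hne ((hiso g u v).symm.trans e)⟩
  obtain ⟨eqv⟩ := CfsgLib.Geometry.UnSplit.nondeg_equiv hh hm W₀ hW₀ fun u hu hu' => by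
    by_contra hu0
    obtain ⟨v, hv, hne⟩ := hn₀ u hu hu0
    exact hne (hu' v hv)
  rw [Nat.card_congr (Equiv.subtypeEquivRight hsub),
    Nat.card_congr (MulAction.orbitEquivQuotientStabilizer (Cfsg.GU n F q) W₀), ← Nat.card_prod,
    ← Nat.card_congr eqv.toEquiv, ← Subgroup.index_mul_card (MulAction.stabilizer (Cfsg.GU n F q) W₀)]
  refine mul_dvd_mul (dvd_refl _) (Subgroup.card_dvd_of_le fun g hg => MulAction.mem_stabilizer_iff.2 ?_)
  show W₀.map (Matrix.toLin' (g.1 : Matrix (Fin n) (Fin n) F)) = W₀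
  have hinj : Function.Injective (Matrix.toLin' (g.1 : Matrix (Fin n) (Fin n) F)) :=
    injective_of_iso (uformH hh).herm fun u v => by simp only [H_apply hh, Matrix.toLin'_apply, hiso g]
  exact Submodule.eq_of_le_of_finrank_eq
    (Submodule.map_le_iff_le_comap.2 fun v hv => (Subgroup.mem_subgroupOf.1 hg v).1 hv)
    (Submodule.equivMapOfInjective _ hinj W₀).finrank_eq.symm

theorem neg_pow_of_dvd {r i : ℕ} (hq : 0 < q)
    (hd : r ∣ (if Even i then q ^ (i + 1) + 1 else q ^ (i + 1) - 1)) : (-(q : ZMod r)) ^ (i + 1) = 1 := by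
  split_ifs at hd with hi
  · rw [← ZMod.natCast_eq_zero_iff, Nat.cast_add, Nat.cast_pow, Nat.cast_one] at hd
    rw [(hi.add_one).neg_pow]
    linear_combination -hd
  · rw [← ZMod.natCast_eq_zero_iff, Nat.cast_sub (Nat.one_le_pow _ _ hq), Nat.cast_pow, Nat.cast_one] at hd
    rw [(Nat.not_even_iff_odd.1 hi).add_one.neg_pow]
    linear_combination hd

theorem dvd_factor {r c : ℕ} (hq : 0 < q) (hc : 0 < c) (h : (-(q : ZMod r)) ^ c = 1) :
    r ∣ (if Even (c - 1) then q ^ (c - 1 + 1) + 1 else q ^ (c - 1 + 1) - 1) := by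
  rw [← ZMod.natCast_eq_zero_iff, Nat.sub_add_cancel hc]
  split_ifs with hi
  · rw [Odd.neg_pow (by rw [← Nat.sub_add_cancel hc]; exact hi.add_one)] at h
    rw [Nat.cast_add, Nat.cast_pow, Nat.cast_one]
    linear_combination -h
  · rw [Even.neg_pow (by rw [← Nat.sub_add_cancel hc]; exact (Nat.not_even_iff_odd.1 hi).add_one)] at h
    rw [Nat.cast_sub (Nat.one_le_pow _ _ hq), Nat.cast_pow, Nat.cast_one]
    linear_combination h

/-- A prime divisor of the number of nondegenerate subspaces. -/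
theorem exists_dvd_of_dvd_card (hF : Nat.card F = q ^ 2) (hh : UFrob σ q) {r m : ℕ} (hr : r.Prime) (hrq : ¬ r ∣ q)
    (hm : m ≤ n) (h : r ∣ Nat.card {W : Submodule F (Fin n → F) // finrank F ↥W = m ∧
        (∀ u ∈ W, u ≠ 0 → ∃ v ∈ W, Cfsg.hermForm n F q u v ≠ 0)}) :
    ∃ j, n - m < j ∧ j ≤ n ∧ (-(q : ZMod r)) ^ j = 1 := by
  have hq : 0 < q := by have := two_le_q hF; omega
  have h1 : r * Nat.card (Cfsg.GU (n - m) F q) ∣ Nat.card (Cfsg.GU n F q) :=
    (mul_dvd_mul h (dvd_mul_left _ (Nat.card (Cfsg.GU m F q)))).trans (card_nondeg_mul_dvd hh hm)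
  rw [card_GU hF, card_GU hF, ← Finset.prod_range_mul_prod_Ico (fun i => if Even i then q ^ (i + 1) + 1 else q ^ (i + 1) - 1)
    (Nat.sub_le n m)] at h1
  set P := ∏ i ∈ Finset.range (n - m), (if Even i then q ^ (i + 1) + 1 else q ^ (i + 1) - 1) with hP
  have hP0 : 0 < P := Finset.prod_pos fun i _ => by
    split_ifs with hi
    · omega
    · exact Nat.sub_pos_of_lt (Nat.one_lt_pow (by omega) (two_le_q hF))
  rw [mul_left_comm (q ^ (n * (n - 1) / 2)) P, ← mul_assoc r, mul_comm _ P] at h1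
  have h2 := (dvd_mul_right r _).trans (Nat.dvd_of_mul_dvd_mul_left hP0 h1)
  rcases hr.dvd_mul.1 h2 with h3 | h3
  · exact absurd (hr.dvd_of_dvd_pow h3) hrq
  · obtain ⟨i, hi, hd⟩ := (Nat.Prime.prime hr).exists_mem_finset_dvd h3
    rw [Finset.mem_Ico] at hi
    exact ⟨i + 1, by omega, by omega, neg_pow_of_dvd hq hd⟩

/-- An element of order `r` of the unitary group. -/
theorem exists_order (hF : Nat.card F = q ^ 2) (hh : UFrob σ q) {r c : ℕ} [Fact r.Prime] (hc : 0 < c)
    (h : (-(q : ZMod r)) ^ c = 1) :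
    ∃ A : Matrix (Fin c) (Fin c) F, Aᵀ * A.map σ = 1 ∧ A ^ r = 1 ∧ A ≠ 1 := by
  have hq : 0 < q := by have := two_le_q hF; omega
  have hd : r ∣ Nat.card (Cfsg.GU c F q) := by
    rw [card_GU hF]
    exact (dvd_factor hq hc h).trans (dvd_mul_of_dvd_right (Finset.dvd_prod_of_mem _ (Finset.mem_range.2 (by omega))) _)
  haveI := Fintype.ofFinite F
  obtain ⟨g, hg⟩ := exists_prime_orderOf_dvd_card' (G := Cfsg.GU c F q) r hd
  refine ⟨(g.1 : Matrix (Fin c) (Fin c) F), (CfsgLib.Geometry.UnSplit.mem_GU_iff_mul hh).1 g.2, ?_, fun e => ?_⟩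
  · rw [← Units.val_pow_eq_pow_val, ← SubmonoidClass.coe_pow, ← hg, pow_orderOf_eq_one]
    rfl
  · have : g = 1 := Subtype.ext (Units.ext e)
    rw [this, orderOf_one] at hg
    exact (Fact.out : r.Prime).ne_one hg.symm

theorem blocks_unitary {ι κ : Type*} [Fintype ι] [DecidableEq ι] [Fintype κ] [DecidableEq κ] (e : ι ≃ κ)
    {M : Matrix ι ι F} (hM : Mᵀ * M.map σ = 1) :
    (Matrix.reindex e e M)ᵀ * (Matrix.reindex e e M).map σ = 1 := by
  rw [Matrix.reindex_apply, Matrix.transpose_submatrix, ← Matrix.submatrix_map, Matrix.submatrix_mul_equiv, hM,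
    Matrix.submatrix_one_equiv]

theorem reindex_pow {ι κ : Type*} [Fintype ι] [DecidableEq ι] [Fintype κ] [DecidableEq κ] (e : ι ≃ κ)
    (M : Matrix ι ι F) (k : ℕ) : (Matrix.reindex e e M) ^ k = Matrix.reindex e e (M ^ k) := by
  rw [← Matrix.reindexAlgEquiv_apply F F, ← Matrix.reindexAlgEquiv_apply F F, map_pow]

theorem blockDiag_unitary {ι : Type*} [Fintype ι] [DecidableEq ι] {A : Matrix ι ι F} (hA : Aᵀ * A.map σ = 1) (N : ℕ) :
    (Matrix.blockDiagonal fun _ : Fin N => A)ᵀ * (Matrix.blockDiagonal fun _ : Fin N => A).map σ = 1 := by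
  rw [Matrix.blockDiagonal_transpose, Matrix.blockDiagonal_map _ _ (map_zero σ), ← Matrix.blockDiagonal_mul]
  simp only [hA]
  exact Matrix.blockDiagonal_one

theorem blockDiag_pow {ι : Type*} [Fintype ι] [DecidableEq ι] {A : Matrix ι ι F} (N k : ℕ) :
    (Matrix.blockDiagonal fun _ : Fin N => A) ^ k = Matrix.blockDiagonal fun _ : Fin N => A ^ k := by
  rw [← Matrix.blockDiagonal_pow]; rfl

/-- Copies of a fixed-point-free element and a trivial part. -/
theorem exists_fix_le {c r : ℕ} {A : Matrix (Fin c) (Fin c) F} (hA : Aᵀ * A.map σ = 1) (hAr : A ^ r = 1)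
    (hAfix : ∀ v, A *ᵥ v = v → v = 0) {N k : ℕ} (hn : c * N + k = n) :
    ∃ x : Matrix (Fin n) (Fin n) F, xᵀ * x.map σ = 1 ∧ x ^ r = 1 ∧ finrank F (fixSp (Matrix.toLin' x)) ≤ k := by
  classical
  let e : (Fin c × Fin N) ⊕ Fin k ≃ Fin n := Fintype.equivFinOfCardEq (by simp [hn])
  obtain ⟨M, hM⟩ : ∃ M, M = Matrix.fromBlocks (Matrix.blockDiagonal fun _ : Fin N => A) 0 0 (1 : Matrix (Fin k) (Fin k) F) :=
    ⟨_, rfl⟩
  refine ⟨Matrix.reindex e e M, blocks_unitary e ?_, ?_, ?_⟩
  · rw [hM, Matrix.fromBlocks_transpose, Matrix.fromBlocks_map, Matrix.fromBlocks_multiply]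
    rw [blockDiag_unitary hA]
    simp [Matrix.map_zero _ (map_zero σ)]
  · rw [reindex_pow, hM, Matrix.fromBlocks_diagonal_pow, blockDiag_pow, hAr, one_pow,
      show (Matrix.blockDiagonal fun _ : Fin N => (1 : Matrix (Fin c) (Fin c) F)) = 1 from Matrix.blockDiagonal_one,
      Matrix.fromBlocks_one, Matrix.reindex_apply, Matrix.submatrix_one_equiv]
  · let L : fixSp (Matrix.toLin' (Matrix.reindex e e M)) →ₗ[F] (Fin k → F) :=
      (LinearMap.funLeft F F (fun i => e (Sum.inr i))).domRestrict _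
    have hL : Function.Injective L := (injective_iff_map_eq_zero L).2 fun v hv => Subtype.ext (funext fun z => ?_)
    · simpa using LinearMap.finrank_le_finrank_of_injective hL
    have hfix : M *ᵥ ((v : Fin n → F) ∘ e) = (v : Fin n → F) ∘ e := by
      have this : (Matrix.reindex e e M) *ᵥ (v : Fin n → F) = v := mem_fixSp.1 v.2
      generalize (v : Fin n → F) = w at this ⊢
      rw [Matrix.reindex_apply, Matrix.submatrix_mulVec_equiv, Equiv.symm_symm] at this
      exact funext fun w => by simpa using congrFun this (e w)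
    obtain ⟨z, rfl⟩ := e.surjective z
    rcases z with ⟨i, j⟩ | i
    · have h0 := hAfix (fun i => (v : Fin n → F) (e (Sum.inl (i, j)))) (funext fun i' => by
        have := congrFun hfix (Sum.inl (i', j))
        simpa [hM, Matrix.mulVec, dotProduct, Fintype.sum_sum_type, Matrix.blockDiagonal_apply, Fintype.sum_prod_type] using this)
      exact congrFun h0 i
    · exact congrFun hv i

/-- A monomial block whose power is a scalar. -/
theorem exists_root_block {r : ℕ} (hr : 0 < r) {z : F} (hz : z * σ z = 1) :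
    ∃ C : Matrix (Fin r) (Fin r) F, Cᵀ * C.map σ = 1 ∧ C ^ r = z • 1 ∧ C.det = (-1) ^ (r - 1) * z := by
  obtain ⟨s, rfl⟩ : ∃ s, r = s + 1 := ⟨r - 1, by omega⟩
  let π : Equiv.Perm (Fin (s + 1)) := finRotate (s + 1)
  let d : Fin (s + 1) → F := fun l => if l = 0 then z else 1
  refine ⟨(Matrix.diagonal d).submatrix π id, ?_, ?_, ?_⟩
  · rw [Matrix.transpose_submatrix, Matrix.diagonal_transpose, ← Matrix.submatrix_map, Matrix.submatrix_mul_equiv,
      Matrix.submatrix_id_id, Matrix.diagonal_map (map_zero σ), Matrix.diagonal_mul_diagonal, ← Matrix.diagonal_one]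
    congr 1
    funext l
    simp only [d, Function.comp_apply]
    split_ifs <;> simp [hz]
  · have hval : ∀ (t : ℕ) (j : Fin (s + 1)), ((π^[t] j : Fin (s + 1)) : ℕ) = ((j : ℕ) + t) % (s + 1) := by
      intro t
      induction t with
      | zero => intro j; simp [Nat.mod_eq_of_lt j.isLt]
      | succ t ih =>
        intro j
        rw [Function.iterate_succ_apply', finRotate_succ_apply, Fin.val_add, ih, Fin.val_one', Nat.add_mod_mod,
          Nat.mod_add_mod, add_assoc]
    have hpow : ∀ (t : ℕ) (v : Fin (s + 1) → F) (j : Fin (s + 1)),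
        ((((Matrix.diagonal d).submatrix π id) ^ t) *ᵥ v) j = (∏ i ∈ Finset.range t, d (π^[i + 1] j)) * v (π^[t] j) := by
      intro t
      induction t with
      | zero => intro v j; simp
      | succ t ih =>
        intro v j
        rw [pow_succ, ← Matrix.mulVec_mulVec, ih, Finset.prod_range_succ, mul_assoc]
        congr 1
        show (Matrix.diagonal d *ᵥ v) (π (π^[t] j)) = _
        rw [Matrix.mulVec_diagonal, ← Function.iterate_succ_apply' π]
    refine Matrix.toLin'.injective (LinearMap.ext fun v => funext fun j => ?_)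
    rw [Matrix.toLin'_apply, Matrix.toLin'_apply, hpow, Matrix.smul_mulVec, Matrix.one_mulVec, Pi.smul_apply, smul_eq_mul]
    have hj := j.isLt
    congr 1
    · rw [Finset.prod_eq_single (s - (j : ℕ))]
      · simp only [d]
        rw [if_pos (Fin.ext (by rw [hval, show (j : ℕ) + (s - (j : ℕ) + 1) = s + 1 by omega, Nat.mod_self]; rfl))]
      · intro i hi hne
        simp only [d]
        rw [if_neg fun e => hne ?_]
        have e' := congrArg Fin.val e
        rw [hval, Fin.val_zero] at e'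
        rw [Finset.mem_range] at hi
        rcases Nat.lt_or_ge ((j : ℕ) + (i + 1)) (s + 1) with h' | h'
        · rw [Nat.mod_eq_of_lt h'] at e'; omega
        · rw [Nat.mod_eq_sub_mod h', Nat.mod_eq_of_lt (by omega)] at e'; omega
      · intro h'; simp at h'
    · exact congrArg v (Fin.ext (by rw [hval, Nat.add_mod_right, Nat.mod_eq_of_lt hj]))
  · rw [Matrix.det_permute, Matrix.det_diagonal, sign_finRotate, Finset.prod_ite_eq' Finset.univ (0 : Fin (s + 1)) fun _ => z]
    simp

/-- An element with given non-power scalar power. -/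
theorem exists_root_elt {r k : ℕ} (hr : 0 < r) (hn : r * k = n) {z : F} (hz : z * σ z = 1) :
    ∃ x : Matrix (Fin n) (Fin n) F, xᵀ * x.map σ = 1 ∧ x ^ r = z • 1 ∧ x.det = ((-1) ^ (r - 1) * z) ^ k := by
  classical
  obtain ⟨C, hC, hCr, hCd⟩ := exists_root_block (σ := σ) hr hz
  let e : Fin r × Fin k ≃ Fin n := Fintype.equivFinOfCardEq (by simp [hn])
  refine ⟨Matrix.reindex e e (Matrix.blockDiagonal fun _ : Fin k => C), blocks_unitary e (blockDiag_unitary hC k), ?_, ?_⟩
  · rw [reindex_pow, blockDiag_pow, hCr, show (fun _ : Fin k => z • (1 : Matrix (Fin r) (Fin r) F)) = z • fun _ : Fin k => 1 from rfl,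
      Matrix.blockDiagonal_smul, show (fun _ : Fin k => (1 : Matrix (Fin r) (Fin r) F)) = 1 from rfl, Matrix.blockDiagonal_one]
    ext i j
    simp [Matrix.one_apply, e.symm.injective.eq_iff]
  · rw [Matrix.det_reindex_self, Matrix.det_blockDiagonal, Finset.prod_const, Finset.card_univ, Fintype.card_fin, hCd]

end model

end CfsgLib.ThreeTransp.UnitNondeg
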