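import Cfsg.Agent.Lib.ThreeTransp.UnitNondeg
import Cfsg.Agent.Lib.PrimeOrderSp.Pairing
import Cfsg.Agent.Lib.Geometry.UnitaryStab

/-!
# Totally isotropic subspaces invariant under semisimple unitary maps
-/

set_option autoImplicit false
set_option linter.unusedSectionVars false

namespace CfsgLib.ThreeTransp.UnitTI

open Polynomial Module CfsgLib.PrimeOrderSp CfsgLib.KnownB.PrimeOrder CfsgLib.Classical CfsgLib.Classical.Unitary
open CfsgLib.ThreeTransp.UnitAtoms CfsgLib.ThreeTransp.UnitNondeg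

universe u v

variable {F : Type u} [Field F] [Fintype F] {σ : F →+* F} {q : ℕ}

section conj

variable {p k : ℕ} [Fact p.Prime] [CharP F p]

/-- Conjugation on `F[X]/(P)` for `P` of odd degree `d`. -/
theorem exists_conj (hh : UFrob σ q) (hq : q = p ^ k) (hq2 : 2 ≤ q) (hF : Fintype.card F = q ^ 2) {P : F[X]}
    (hP : Irreducible P) (hm : P.Monic) {d : ℕ} (hd : Odd d) (hdeg : P.natDegree = d)
    (hroot : AdjoinRoot.root P ^ (q ^ d + 1) = 1) : ∃ bar, IsConj P σ bar := by
  haveI := Fact.mk hP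
  haveI : CharP (AdjoinRoot P) p := charP_of_injective_algebraMap (algebraMap F (AdjoinRoot P)).injective p
  haveI : ExpChar (AdjoinRoot P) p := ExpChar.prime Fact.out
  refine ⟨_, isConj_of_pow hP hm (s := q ^ d) (le_trans hq2 (Nat.le_self_pow ?_ q)) (iterateFrobenius (AdjoinRoot P) p (k * d))
    (fun x => by rw [iterateFrobenius_def, hq, ← pow_mul]) (fun c => ?_) hroot ?_⟩
  · obtain ⟨t, rfl⟩ := hd
    omega
  · obtain ⟨t, rfl⟩ := hd
    rw [pow_succ', pow_mul c, ← hh.pow, pow_mul q, ← hF, FiniteField.pow_card_pow]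
  · rw [card_adjoinRoot hP hm, hdeg, hF, ← pow_mul, ← pow_add, two_mul]

theorem conj_linear (hh : UFrob σ q) (hq : q = p ^ k) (hq2 : 2 ≤ q) (hF : Fintype.card F = q ^ 2) :
    ∃ bar, IsConj (X - C (1 : F)) σ bar := by
  refine exists_conj hh hq hq2 hF (irreducible_X_sub_C 1) (monic_X_sub_C 1) odd_one (natDegree_X_sub_C _) ?_
  have e : AdjoinRoot.root (X - C (1 : F)) = 1 := by
    have := AdjoinRoot.mk_self (f := (X - C (1 : F)))
    rwa [map_sub, AdjoinRoot.mk_X, C_1, map_one, sub_eq_zero] at this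
  rw [e, one_pow]

theorem conj_factor [DecidableEq F] (hh : UFrob σ q) (hq : q = p ^ k) (hq2 : 2 ≤ q) (hF : Fintype.card F = q ^ 2) {r b : ℕ}
    [Fact r.Prime] (hr : (r : F) ≠ 0) (hb : Odd b) (hbo : orderOf ((Fintype.card F : ℕ) : ZMod r) = b)
    (hdvd : r ∣ q ^ b + 1) {P : F[X]} (hP : P ∈ factors F r) : ∃ bar, IsConj P σ bar := by
  obtain ⟨hi, hm, hd, hne⟩ := (mem_factors (Fact.out : r.Prime).ne_zero).1 hP
  refine exists_conj hh hq hq2 hF hi hm hb ((natDegree_eq_orderOf hr hi hm hd hne).trans hbo) ?_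
  obtain ⟨c, hc⟩ := hdvd
  rw [hc, pow_mul, root_pow_eq_one (Fact.out : r.Prime).ne_zero hP, one_pow]

end conj

section abs

variable {V : Type v} [AddCommGroup V] [Module F V] [FiniteDimensional F V] {B : V →ₗ[F] V →ₛₗ[σ] F}
  {f : Module.End F V}

/-- Totally isotropic invariant subspaces when all constituents are self-conjugate. -/
theorem exists_ti_conj (hh : UForm σ q B) (hf : ∀ u v, B (f u) (f v) = B u v) (hss : f.IsSemisimple)
    {S : Finset F[X]} {i : ℕ} {D : Submodule F V} (hD : Nondeg B D) (hk : Killed f S i D)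
    (hm : ∀ P ∈ S, P.Monic) (hconj : ∀ P ∈ S, ∃ bar, IsConj P σ bar) :
    ∃ J : ℕ, finrank F D ≤ (2 * J + S.card) * i ∧
      ∀ j ≤ J, ∃ W, W ≤ D ∧ Inv f W ∧ TI B W ∧ finrank F W = j * i := by
  refine exists_ti hh.herm hf hss S S.card D hD hk fun U hU hUn hUi hani =>
    finrank_aniso_le hh.herm hf S (fun P hP v₁ v₂ h1 h2 n1 n2 ho => ?_) U hUn (hk.mono hUi hU) hani
  obtain ⟨bar, hbar⟩ := hconj P hP
  exact exists_ti_of_pair (hk.irr P hP) hh.herm hbar (hm P hP) hf h1 h2 n1 n2 ho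

variable {r : ℕ} [Fact r.Prime]

/-- Totally isotropic subspaces of the fixed space. -/
theorem exists_ti_fix (hh : UForm σ q B) (hf : ∀ u v, B (f u) (f v) = B u v) {p k : ℕ} [Fact p.Prime] [CharP F p]
    (hq : q = p ^ k) (hq2 : 2 ≤ q) (hF : Fintype.card F = q ^ 2) (hr : (r : F) ≠ 0) (hfr : f ^ r = 1) {l : ℕ}
    (hl : 2 * l ≤ finrank F (fixSp f)) :
    ∃ W, W ≤ fixSp f ∧ Inv f W ∧ TI B W ∧ finrank F W = l := by
  obtain ⟨J, hJ, hW⟩ := exists_ti_conj hh hf (isSemisimple_of_pow hr hfr) (nondeg_fixSp hr hfr hh.herm hf)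
    (killed_fixSp (f := f) hr hfr) (fun P hP => by rw [Finset.mem_singleton.1 hP, ← C_1]; exact monic_X_sub_C _)
    (fun P hP => by rw [Finset.mem_singleton.1 hP, ← C_1]; exact conj_linear hh.frob hq hq2 hF)
  rw [Finset.card_singleton, mul_one] at hJ
  obtain ⟨W, h1, h2, h3, h4⟩ := hW l (by omega)
  exact ⟨W, h1, h2, h3, by rw [h4, mul_one]⟩

/-- Totally isotropic subspaces of the moved space, no self-conjugate constituents. -/
theorem exists_ti_even [DecidableEq F] (hh : UForm σ q B) (hf : ∀ u v, B (f u) (f v) = B u v) {p k : ℕ} [Fact p.Prime]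
    [CharP F p] (hq : q = p ^ k) (hF : Fintype.card F = q ^ 2) (hr : (r : F) ≠ 0) (hfr : f ^ r = 1)
    (hpar : ∀ t : ℕ, Odd t → ¬ r ∣ q ^ t + 1) (hrq : ¬ r ∣ q) {b : ℕ}
    (hbo : orderOf ((Fintype.card F : ℕ) : ZMod r) = b) :
    ∃ J : ℕ, finrank F (movSp f) ≤ 2 * J * b ∧
      ∀ j ≤ J, ∃ W, W ≤ movSp f ∧ Inv f W ∧ TI B W ∧ finrank F W = j * b := by
  have hk := killed_movSp (f := f) hr hfr
  rw [hbo] at hk
  obtain ⟨J, hJ, hW⟩ := exists_ti hh.herm hf (isSemisimple_of_pow hr hfr) (factors F r) 0 (movSp f)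
    (nondeg_movSp hr hfr hh.herm hf) hk fun U hU _ hUi hani => by
      rw [zero_mul, Nat.le_zero, Submodule.finrank_eq_zero]
      by_contra h0
      obtain ⟨P, hP, v, hv, hv0, hPv⟩ := exists_factor _ hUi h0 (hk.mono hUi hU).kill
      exact hv0 (hani P hP v hv hPv (cyc_ti hh hf hq hF hfr hpar hrq hP hv0 hPv))
  exact ⟨J, by rw [add_zero] at hJ; exact hJ, hW⟩

/-- Combining the fixed and the moved part. -/
theorem exists_ti_dim (hh : UForm σ q B) (hf : ∀ u v, B (f u) (f v) = B u v) {p k : ℕ} [Fact p.Prime] [CharP F p]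
    (hq : q = p ^ k) (hq2 : 2 ≤ q) (hF : Fintype.card F = q ^ 2) (hr : (r : F) ≠ 0) (hfr : f ^ r = 1) {b N J t m : ℕ}
    (hb : 0 < b) (hN : finrank F (movSp f) = N * b) (hJ : N ≤ 2 * J + t)
    (hti : ∀ j ≤ J, ∃ W, W ≤ movSp f ∧ Inv f W ∧ TI B W ∧ finrank F W = j * b)
    (hm : 2 * m ≤ finrank F V) (hmod : 2 * (m % b) ≤ finrank F (fixSp f))
    (hcond : t = 0 ∨ (t + 2 * (m / b) ≤ finrank F V / b ∧ 2 * (m % b) ≤ finrank F V % b)) :
    ∃ W : Submodule F V, Inv f W ∧ TI B W ∧ finrank F W = m := by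
  have hdim := Submodule.finrank_add_eq_of_isCompl (isCompl_fix_mov (f := f) hr hfr)
  rw [hN] at hdim
  have hml := Nat.mod_add_div m b
  have hnl := Nat.mod_add_div (finrank F V) b
  obtain ⟨j, hj1, hj2, hj3⟩ : ∃ j, j ≤ J ∧ j * b ≤ m ∧ 2 * (m - j * b) ≤ finrank F (fixSp f) := by
    rcases le_or_gt (m / b) J with h' | h'
    · refine ⟨m / b, h', by rw [mul_comm]; omega, ?_⟩
      rw [mul_comm (m / b) b]
      omega
    · refine ⟨J, le_rfl, (Nat.mul_le_mul_right b h'.le).trans (by rw [mul_comm]; omega), ?_⟩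
      rcases hcond with h0 | ⟨h1, h2⟩
      · have := Nat.mul_le_mul_right b (show N ≤ 2 * J by omega)
        rw [mul_assoc] at this
        omega
      · have h3 := Nat.mul_le_mul_left b h1
        have h4 := Nat.mul_le_mul_right b hJ
        rw [mul_add, mul_left_comm b 2] at h3
        rw [add_mul, mul_assoc, mul_comm t b] at h4
        omega
  obtain ⟨U₁, hU₁, hU₁i, hU₁t, hU₁r⟩ := hti j hj1
  obtain ⟨U₂, hU₂, hU₂i, hU₂t, hU₂r⟩ := exists_ti_fix hh hf hq hq2 hF hr hfr (l := m - j * b) hj3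
  refine ⟨U₁ ⊔ U₂, hU₁i.sup hU₂i, hU₁t.sup hh.herm hU₂t fun u hu => mem_perp.2 fun w hw =>
    (orth_fix_mov hh.herm hf u (hU₂ hu) w (hU₁ hw)).1, ?_⟩
  have h3 := Submodule.finrank_sup_add_finrank_inf_eq U₁ U₂
  rw [((isCompl_fix_mov hr hfr).symm.disjoint.mono hU₁ hU₂).eq_bot, finrank_bot, hU₁r, hU₂r] at h3
  omega

/-- An invariant totally isotropic subspace: a part in the fixed space and a multiple of `b`. -/
theorem ti_decomp [DecidableEq F] (hh : UForm σ q B) (hf : ∀ u v, B (f u) (f v) = B u v) (hr : (r : F) ≠ 0)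
    (hfr : f ^ r = 1) {W : Submodule F V} (hW : Inv f W) (hT : TI B W) :
    ∃ l j : ℕ, finrank F W = l + j * orderOf ((Fintype.card F : ℕ) : ZMod r) ∧ 2 * l ≤ finrank F (fixSp f) ∧
      finrank F (W ⊓ movSp f : Submodule F V) = j * orderOf ((Fintype.card F : ℕ) : ZMod r) := by
  obtain ⟨j, hj⟩ := finrank_dvd (isSemisimple_of_pow hr hfr)
    ((killed_movSp (f := f) hr hfr).mono (hW.inf inv_movSp) inf_le_right)
  rw [mul_comm] at hj
  exact ⟨_, j, by rw [split_inv hr hfr hW, hj], two_mul_ti_le hh.herm (nondeg_fixSp hr hfr hh.herm hf) inf_le_right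
    (hT.mono inf_le_left), hj⟩

/-- The kernel of a self-conjugate factor is nondegenerate. -/
theorem nondeg_ker [DecidableEq F] (hh : UForm σ q B) (hf : ∀ u v, B (f u) (f v) = B u v) {p k : ℕ} [Fact p.Prime]
    [CharP F p] (hq : q = p ^ k) (hF : Fintype.card F = q ^ 2) (hr : (r : F) ≠ 0) (hfr : f ^ r = 1) {b : ℕ} (hb : Odd b)
    (hdvd : r ∣ q ^ b + 1) {P : F[X]} (hP : P ∈ factors F r) : Nondeg B (LinearMap.ker (aeval f P)) := by
  have hfg : ∀ x, f ((f ^ (r - 1)) x) = x := inv_pow (by rwa [Nat.sub_add_cancel (Fact.out : r.Prime).one_le])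
  have hdiv := kill_conj hq hh.frob hF hb hdvd hP
  set E := LinearMap.ker (aeval f P) with hE
  have hEi : Inv f E := fun x hx => by
    rw [hE, LinearMap.mem_ker] at hx ⊢
    have e : aeval f (P * X) x = aeval f (X * P) x := by rw [mul_comm]
    simp only [map_mul, aeval_X, Module.End.mul_apply, hx, map_zero] at e
    exact e
  have hkE : ∀ x ∈ E, aeval (f ^ (r - 1)) (P.map σ) x = 0 := fun x hx => by
    obtain ⟨c, hc⟩ := hdiv
    have e : aeval f ((P.map σ).comp (X ^ (r - 1))) x = 0 := by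
      rw [hc, mul_comm, map_mul, Module.End.mul_apply, LinearMap.mem_ker.1 hx, map_zero]
    rwa [aeval_comp, map_pow, aeval_X] at e
  obtain ⟨E', hE'i, -, hsup, hdis⟩ := exists_compl_inv (isSemisimple_of_pow hr hfr) hEi (W' := ⊤) (fun v _ => trivial) le_top
  intro u hu hu'
  refine hh.nondeg u fun w => ?_
  obtain ⟨a, ha, b', hb', rfl⟩ := Submodule.mem_sup.1 (hsup.symm ▸ (Submodule.mem_top : w ∈ (⊤ : Submodule F V)))
  obtain ⟨y, hy⟩ := LinearMap.injective_iff_surjective.1
    ((injective_iff_map_eq_zero ((aeval f P).restrict fun x hx => Inv.aeval hE'i P hx)).2 fun x hx =>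
      Subtype.ext (Submodule.disjoint_def.1 hdis x (LinearMap.mem_ker.2 (congrArg Subtype.val hx)) x.2)) ⟨b', hb'⟩
  have hy' : aeval f P (y : V) = b' := congrArg Subtype.val hy
  rw [map_add, hu' a ha, zero_add]
  refine hh.herm.refl ?_
  rw [← hy', adj_aeval hh hf hfg, hkE u hu, map_zero]

end abs

section count

variable {n : ℕ}

/-- A prime divisor of the number of totally isotropic subspaces. -/
theorem exists_dvd_of_dvd_card_ti (hF : Fintype.card F = q ^ 2) {r m : ℕ} (hr : r.Prime) (hm : 2 * m ≤ n)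
    (h : r ∣ Nat.card {W : Submodule F (Fin n → F) // finrank F ↥W = m ∧
        (∀ u ∈ W, ∀ v ∈ W, Cfsg.hermForm n F q u v = 0)}) :
    ¬ r ∣ q ∧ ∃ j, n - 2 * m < j ∧ j ≤ n ∧ (-(q : ZMod r)) ^ j = 1 := by
  classical
  have hFN : Nat.card F = q ^ 2 := by rw [Nat.card_eq_fintype_card, hF]
  have hq : 2 ≤ q := two_le_q hFN
  let T := {W : Submodule F (Fin n → F) // finrank F ↥W = m ∧ (∀ u ∈ W, ∀ v ∈ W, Cfsg.hermForm n F q u v = 0)}
  let e : {v : Fin m → Fin n → F // CfsgLib.Geometry.UnitaryStab.IsTIFam F q n v} ≃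
      Σ W : T, {v : Fin m → Fin n → F // LinearIndependent F v ∧ ∀ i, v i ∈ W.1} :=
    { toFun := fun v => ⟨⟨Submodule.span F (Set.range v.1),
          by rw [finrank_span_eq_card v.2.1, Fintype.card_fin], by
          obtain ⟨τ, hτ⟩ := exists_uFrob hFN
          intro x hx y hy
          rw [← H_apply hτ]
          obtain ⟨a, rfl⟩ := (Submodule.mem_span_range_iff_exists_fun F).1 hx
          obtain ⟨c, rfl⟩ := (Submodule.mem_span_range_iff_exists_fun F).1 hy
          simp only [map_sum, LinearMap.sum_apply, map_smul, map_smulₛₗ, LinearMap.smul_apply, smul_eq_mul, H_apply hτ,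
            v.2.2, mul_zero, Finset.sum_const_zero]⟩,
        v.1, v.2.1, fun i => Submodule.subset_span ⟨i, rfl⟩⟩
      invFun := fun x => ⟨x.2.1, x.2.2.1, fun i j => x.1.2.2 _ (x.2.2.2 i) _ (x.2.2.2 j)⟩
      left_inv := fun v => rfl
      right_inv := fun ⟨⟨W, hW, hT⟩, v, hv, hvW⟩ => by
        have := CfsgLib.Geometry.StabCount.span_eq_of_famIn hW hv hvW
        subst this
        rfl }
  haveI : Fintype T := Fintype.ofFinite _
  have hc : Nat.card {v : Fin m → Fin n → F // CfsgLib.Geometry.UnitaryStab.IsTIFam F q n v} =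
      Nat.card T * ∏ i : Fin m, (Fintype.card F ^ m - Fintype.card F ^ (i : ℕ)) := by
    rw [Nat.card_congr e, Nat.card_sigma, Finset.sum_congr rfl fun W _ => CfsgLib.Geometry.StabCount.card_famIn W.2.1,
      Finset.sum_const, Finset.card_univ, Nat.card_eq_fintype_card (α := T), smul_eq_mul]
  have hmul := CfsgLib.Geometry.UnitaryStab.card_fam_mul (F := F) (n := n) hFN m (n - 2 * m) (by omega)
  rw [hc, card_GU hFN, card_GU hFN, Fin.prod_univ_eq_prod_range (fun i => Fintype.card F ^ m - Fintype.card F ^ i) m,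
    Finset.prod_congr rfl fun i hi => show Fintype.card F ^ m - Fintype.card F ^ i =
      q ^ (2 * i) * (Fintype.card F ^ (m - i) - 1) by
      rw [Nat.mul_sub, mul_one, pow_mul, ← hF, ← pow_add, Nat.add_sub_cancel' (Finset.mem_range.1 hi).le],
    Finset.prod_mul_distrib, Finset.prod_pow_eq_pow_sum, ← Finset.mul_sum,
    ← Finset.prod_range_mul_prod_Ico (fun i => if Even i then q ^ (i + 1) + 1 else q ^ (i + 1) - 1)
      (Nat.sub_le n (2 * m))] at hmul
  obtain ⟨rest, hrest⟩ : ∃ rest, n = 2 * m + rest := ⟨n - 2 * m, by omega⟩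
  subst hrest
  rw [Nat.add_sub_cancel_left] at hmul
  have hexp : 2 * (∑ i ∈ Finset.range m, i) + m * (m + 2 * rest) + rest * (rest - 1) / 2 =
      (2 * m + rest) * (2 * m + rest - 1) / 2 := by
    have h1 := Finset.sum_range_id_mul_two m
    rcases Nat.eq_zero_or_pos m with rfl | hm0
    · simp
    obtain ⟨m', rfl⟩ : ∃ m', m = m' + 1 := ⟨m - 1, by omega⟩
    rw [Nat.add_sub_cancel] at h1
    rw [show (2 * (m' + 1) + rest) * (2 * (m' + 1) + rest - 1) =
        rest * (rest - 1) + 2 * ((m' + 1) * m' + (m' + 1) * ((m' + 1) + 2 * rest)) by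
      rcases rest with _ | s
      · simp only [show 2 * (m' + 1) + 0 - 1 = 2 * m' + 1 by omega]; ring
      · simp only [show 2 * (m' + 1) + (s + 1) - 1 = 2 * m' + s + 2 by omega, Nat.add_sub_cancel]; ring,
      Nat.add_mul_div_left _ _ two_pos]
    omega
  set P := ∏ i ∈ Finset.range rest, (if Even i then q ^ (i + 1) + 1 else q ^ (i + 1) - 1) with hP
  set R := ∏ i ∈ Finset.Ico rest (2 * m + rest), (if Even i then q ^ (i + 1) + 1 else q ^ (i + 1) - 1) with hR
  have hP0 : 0 < P := Finset.prod_pos fun i _ => by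
    split_ifs with hi
    · omega
    · exact Nat.sub_pos_of_lt (Nat.one_lt_pow (by omega) hq)
  rw [← hexp, pow_add, pow_add] at hmul
  have h2 : Nat.card T * (∏ i ∈ Finset.range m, (Fintype.card F ^ (m - i) - 1)) = R := by
    refine Nat.eq_of_mul_eq_mul_left (Nat.mul_pos hP0 (show 0 < q ^ (2 * ∑ i ∈ Finset.range m, i) *
      q ^ (m * (m + 2 * rest)) * q ^ (rest * (rest - 1) / 2) by positivity)) ?_
    linear_combination hmul
  have hTd : r ∣ R := h2 ▸ dvd_mul_of_dvd_left h _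
  obtain ⟨i, hi, hd⟩ := (Nat.Prime.prime hr).exists_mem_finset_dvd hTd
  rw [Finset.mem_Ico] at hi
  refine ⟨fun hrq => ?_, i + 1, by omega, by omega, neg_pow_of_dvd (by omega) hd⟩
  have hqi : r ∣ q ^ (i + 1) := hrq.trans (dvd_pow_self q (Nat.succ_ne_zero i))
  split_ifs at hd with he
  · exact hr.not_dvd_one ((Nat.dvd_add_right hqi).1 hd)
  · have h3 := Nat.dvd_sub hqi hd
    rw [Nat.sub_sub_self (Nat.one_le_pow _ _ (by omega))] at h3
    exact hr.not_dvd_one h3

end count

section types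

variable [Fintype F] {n : ℕ}

/-- Blocks killed by given factors, with a trivial part. -/
theorem exists_types [DecidableEq F] (hh : UFrob σ q) {p k : ℕ} [Fact p.Prime] [CharP F p] (hq : q = p ^ k)
    (hF : Fintype.card F = q ^ 2) {r b : ℕ} [Fact r.Prime] (hr : (r : F) ≠ 0) (hb : Odd b) (hdvd : r ∣ q ^ b + 1)
    (hbo : orderOf ((Fintype.card F : ℕ) : ZMod r) = b) {ι : Type} [Fintype ι] [DecidableEq ι]
    (A : ι → Matrix (Fin b) (Fin b) F) (hA : ∀ s, (A s).transpose * (A s).map σ = 1) (hAr : ∀ s, A s ^ r = 1)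
    (P : ι → F[X]) (hP : ∀ s, P s ∈ factors F r) (hPA : ∀ s, aeval (Matrix.toLin' (A s)) (P s) = 0) {e : ℕ}
    (hdim : b * Fintype.card ι + e = n) :
    ∃ x : Matrix (Fin n) (Fin n) F, x.transpose * x.map σ = 1 ∧ x ^ r = 1 ∧ x.det = ∏ s, (A s).det ∧
      ∀ W, Inv (Matrix.toLin' x) W → TI (H σ n) W → ∃ l j : ℕ, finrank F W = l + j * b ∧ 2 * l ≤ e ∧
        j ≤ ∑ Q ∈ factors F r, (Finset.univ.filter fun s => P s = Q).card / 2 := by
  classical
  have hr0 : r ≠ 0 := (Fact.out : r.Prime).ne_zero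
  let E : (Fin b × ι) ⊕ Fin e ≃ Fin n := Fintype.equivFinOfCardEq (by simp [hdim])
  obtain ⟨M, hM⟩ : ∃ M, M = Matrix.fromBlocks (Matrix.blockDiagonal A) 0 0 (1 : Matrix (Fin e) (Fin e) F) := ⟨_, rfl⟩
  obtain ⟨x, hx⟩ : ∃ x, x = Matrix.reindex E E M := ⟨_, rfl⟩
  have hxu : x.transpose * x.map σ = 1 := by
    rw [hx]
    refine blocks_unitary E ?_
    rw [hM, Matrix.fromBlocks_transpose, Matrix.fromBlocks_map, Matrix.fromBlocks_multiply, Matrix.blockDiagonal_transpose,
      Matrix.blockDiagonal_map _ _ (map_zero σ), ← Matrix.blockDiagonal_mul,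
      show (fun s => (A s).transpose * (A s).map σ) = 1 from funext hA, Matrix.blockDiagonal_one]
    simp [Matrix.map_zero _ (map_zero σ)]
  have hxr : x ^ r = 1 := by
    rw [hx, reindex_pow, hM, Matrix.fromBlocks_diagonal_pow, ← Matrix.blockDiagonal_pow,
      show A ^ r = 1 from funext hAr, Matrix.blockDiagonal_one, one_pow, Matrix.fromBlocks_one, Matrix.reindex_apply,
      Matrix.submatrix_one_equiv]
  refine ⟨x, hxu, hxr, ?_, fun W hWi hWt => ?_⟩
  · rw [hx, Matrix.det_reindex_self, hM, Matrix.det_fromBlocks_zero₂₁, Matrix.det_one, mul_one, Matrix.det_blockDiagonal]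
  set g : Module.End F (Fin n → F) := Matrix.toLin' x with hg
  have hgr : g ^ r = 1 := by rw [hg, ← Matrix.toLin'_pow, hxr, Matrix.toLin'_one]; rfl
  have hgi := (iso_iff hh).2 hxu
  let π : ι → ((Fin n → F) →ₗ[F] (Fin b → F)) := fun s => LinearMap.funLeft F F fun i => E (Sum.inl (i, s))
  let π₀ : (Fin n → F) →ₗ[F] (Fin e → F) := LinearMap.funLeft F F fun i => E (Sum.inr i)
  have hval : ∀ (v : Fin n → F) z, g v (E z) = (M.mulVec (v ∘ E)) z := fun v z => by
    rw [hg, Matrix.toLin'_apply, hx, Matrix.reindex_apply, Matrix.submatrix_mulVec_equiv, Equiv.symm_symm,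
      Function.comp_apply, Equiv.symm_apply_apply]
  have hπ : ∀ s v, π s (g v) = Matrix.toLin' (A s) (π s v) := fun s v => funext fun i => by
    show g v (E (Sum.inl (i, s))) = _
    rw [hval]
    simp [hM, π, Matrix.mulVec, dotProduct, Fintype.sum_sum_type, Matrix.blockDiagonal_apply, Fintype.sum_prod_type,
      LinearMap.funLeft_apply]
  have hπ₀ : ∀ v, π₀ (g v) = π₀ v := fun v => funext fun i => by
    show g v (E (Sum.inr i)) = _
    rw [hval]
    simp [hM, π₀, Matrix.mulVec, dotProduct, Fintype.sum_sum_type, Matrix.one_apply, LinearMap.funLeft_apply]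
  have hpoly : ∀ s (Q : F[X]) v, π s (aeval g Q v) = aeval (Matrix.toLin' (A s)) Q (π s v) := fun s Q => by
    induction Q using Polynomial.induction_on with
    | C c => intro v; simp [Module.algebraMap_end_apply]
    | add a c ha hc => intro v; simp [ha v, hc v]
    | monomial j c ih =>
      intro v
      rw [pow_succ, ← mul_assoc, map_mul (aeval g), map_mul (aeval (Matrix.toLin' (A s))), aeval_X, aeval_X,
        Module.End.mul_apply, Module.End.mul_apply, ih, hπ]
  have hpoly₀ : ∀ (Q : F[X]) v, π₀ (aeval g Q v) = Q.eval 1 • π₀ v := fun Q => by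
    induction Q using Polynomial.induction_on with
    | C c => intro v; simp [Module.algebraMap_end_apply]
    | add a c ha hc => intro v; simp [ha v, hc v, add_smul]
    | monomial j c ih =>
      intro v
      rw [pow_succ, ← mul_assoc, map_mul (aeval g), aeval_X, Module.End.mul_apply, ih, hπ₀]
      simp
  have hker : ∀ Q ∈ factors F r, finrank F (LinearMap.ker (aeval g Q)) ≤ b * (Finset.univ.filter fun s => P s = Q).card := by
    intro Q hQ
    obtain ⟨hQi, hQm, hQd, hQne⟩ := (mem_factors hr0).1 hQ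
    let L : LinearMap.ker (aeval g Q) →ₗ[F] ({s // P s = Q} → Fin b → F) :=
      LinearMap.pi fun s => (π s.1).domRestrict _
    have hL : Function.Injective L := (injective_iff_map_eq_zero L).2 fun v hv => Subtype.ext (funext fun z => ?_)
    · refine (LinearMap.finrank_le_finrank_of_injective hL).trans ?_
      rw [Module.finrank_pi_fintype, Finset.sum_congr rfl fun s _ => Module.finrank_fin_fun (n := b) F, Finset.sum_const,
        Finset.card_univ, smul_eq_mul, Fintype.card_subtype, mul_comm]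
    have hkill := LinearMap.mem_ker.1 v.2
    obtain ⟨z, rfl⟩ := E.surjective z
    rcases z with ⟨i, s⟩ | i
    · by_cases hs : P s = Q
      · exact congrFun (congrFun hv ⟨s, hs⟩) i
      · obtain ⟨hPi, hPm, -, -⟩ := (mem_factors hr0).1 (hP s)
        have e0 : π s (v : Fin n → F) = 0 := by
          by_contra h0
          refine hs (Polynomial.eq_of_monic_of_associated hPm hQm (hPi.associated_of_dvd hQi ?_))
          exact (aeval_eq_zero_iff hPi (by rw [hPA, LinearMap.zero_apply]) h0 Q).1 (by rw [← hpoly, hkill, map_zero])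
        exact congrFun e0 i
    · have e1 : Q.eval 1 ≠ 0 := fun e1 => hQne (Polynomial.eq_of_monic_of_associated hQm (by simpa using monic_X_sub_C (1 : F))
        ((irreducible_X_sub_C (1 : F)).associated_of_dvd hQi (dvd_iff_isRoot.2 e1) |>.symm |> fun h => by rwa [C_1] at h))
      have e0 := hpoly₀ Q v
      rw [hkill, map_zero] at e0
      exact congrFun ((smul_eq_zero.1 e0.symm).resolve_left e1) i
  have hfix : finrank F (fixSp g) ≤ e := by
    let L : fixSp g →ₗ[F] (Fin e → F) := π₀.domRestrict _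
    have hL : Function.Injective L := (injective_iff_map_eq_zero L).2 fun v hv => Subtype.ext (funext fun z => ?_)
    · simpa using LinearMap.finrank_le_finrank_of_injective hL
    obtain ⟨z, rfl⟩ := E.surjective z
    rcases z with ⟨i, s⟩ | i
    · obtain ⟨hPi, hPm, -, hne⟩ := (mem_factors hr0).1 (hP s)
      have e0 : π s (v : Fin n → F) = 0 := by
        by_contra h0
        refine hne (Polynomial.eq_of_monic_of_associated hPm (by simpa using monic_X_sub_C (1 : F)) ?_)
        refine hPi.associated_of_dvd (by simpa using irreducible_X_sub_C (1 : F)) ?_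
        refine (aeval_eq_zero_iff hPi (by rw [hPA, LinearMap.zero_apply]) h0 _).1 ?_
        rw [map_sub, aeval_X, map_one, LinearMap.sub_apply, Module.End.one_apply, ← hπ, mem_fixSp.1 v.2, sub_self]
      exact congrFun e0 i
    · exact congrFun hv i
  obtain ⟨l, j, hW, hl, hj⟩ := ti_decomp (uformH hh) hgi hr hgr hWi hWt
  rw [hbo] at hW hj
  refine ⟨l, j, hW, hl.trans hfix, ?_⟩
  have hWk := (killed_movSp (f := g) hr hgr).mono (hWi.inf inv_movSp) inf_le_right
  have hsum := finrank_le_sum hWk.inv (factors F r) hWk.irr (fun Q hQ => monic_factor hr0 hQ) hWk.kill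
  refine Nat.le_of_mul_le_mul_right ((hj ▸ hsum).trans ?_) hb.pos
  rw [Finset.sum_mul]
  refine Finset.sum_le_sum fun Q hQ => ?_
  have hKi : Inv g (LinearMap.ker (aeval g Q)) := fun y hy => by
    rw [LinearMap.mem_ker] at hy ⊢
    have e : aeval g (Q * X) y = aeval g (X * Q) y := by rw [mul_comm]
    simp only [map_mul, aeval_X, Module.End.mul_apply, hy, map_zero] at e
    exact e
  obtain ⟨hQi, -, hQd, hQne⟩ := (mem_factors hr0).1 hQ
  obtain ⟨a, ha⟩ := finrank_dvd (isSemisimple_of_pow hr hgr) (S := {Q}) (i := b)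
    (D := (W ⊓ movSp g) ⊓ LinearMap.ker (aeval g Q))
    ⟨fun R hR => Finset.mem_singleton.1 hR ▸ hQi,
      fun R hR => Finset.mem_singleton.1 hR ▸ (hWk.deg Q hQ).trans hbo,
      hWk.inv.inf hKi, fun y hy => by rw [Finset.prod_singleton]; exact LinearMap.mem_ker.1 hy.2⟩
  have h2 := two_mul_ti_le (uformH hh).herm (nondeg_ker (uformH hh) hgi hq hF hr hgr hb hdvd hQ)
    (inf_le_right : (W ⊓ movSp g) ⊓ LinearMap.ker (aeval g Q) ≤ _) (hWt.mono (inf_le_left.trans inf_le_left))
  have h3 := h2.trans (hker Q hQ)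
  rw [ha] at h3 ⊢
  rw [mul_left_comm] at h3
  have h4 := Nat.le_of_mul_le_mul_left h3 hb.pos
  rw [mul_comm b a]
  exact Nat.mul_le_mul_right b (by omega)

/-- A block of the unitary group for every factor. -/
theorem exists_block_of_factor [DecidableEq F] (hh : UFrob σ q) {p k : ℕ} [Fact p.Prime] [CharP F p] (hq : q = p ^ k)
    (hF : Fintype.card F = q ^ 2) {r b : ℕ} [Fact r.Prime] (hr : (r : F) ≠ 0) (hb : Odd b) (hdvd : r ∣ q ^ b + 1)
    (hbo : orderOf ((Fintype.card F : ℕ) : ZMod r) = b) {Q : F[X]} (hQ : Q ∈ factors F r) :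
    ∃ A : Matrix (Fin b) (Fin b) F, A.transpose * A.map σ = 1 ∧ A ^ r = 1 ∧ aeval (Matrix.toLin' A) Q = 0 := by
  classical
  have hr0 : r ≠ 0 := (Fact.out : r.Prime).ne_zero
  obtain ⟨A, hA, hAr, hA1⟩ := exists_order (F := F) (by rw [Nat.card_eq_fintype_card, hF]) hh (r := r) (c := b) hb.pos (by
    rw [← ZMod.natCast_eq_zero_iff, Nat.cast_add, Nat.cast_pow, Nat.cast_one] at hdvd
    rw [hb.neg_pow]
    linear_combination -hdvd)
  set g : Module.End F (Fin b → F) := Matrix.toLin' A with hg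
  have hgr : g ^ r = 1 := by rw [hg, ← Matrix.toLin'_pow, hAr, Matrix.toLin'_one]; rfl
  have hne : movSp g ≠ ⊥ := fun h0 => hA1 (by
    rw [movSp, LinearMap.range_eq_bot, sub_eq_zero] at h0
    exact Matrix.toLin'.injective (h0.trans Matrix.toLin'_one.symm))
  obtain ⟨P₀, hP₀, v, -, hv0, hPv⟩ := exists_factor _ inv_movSp hne (killed_movSp (f := g) hr hgr).kill
  obtain ⟨hP₀i, hP₀m, hP₀d, hP₀ne⟩ := (mem_factors hr0).1 hP₀
  obtain ⟨hQi, hQm, hQd, hQne⟩ := (mem_factors hr0).1 hQ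
  have hd₀ := (natDegree_eq_orderOf hr hP₀i hP₀m hP₀d hP₀ne).trans hbo
  have htop : cyc g v = ⊤ := Submodule.eq_top_of_finrank_eq (by
    rw [finrank_cyc hP₀i hPv hv0, hd₀, Module.finrank_fin_fun])
  haveI := Fact.mk hP₀i
  haveI := Fact.mk hQi
  haveI : Module.Finite F (AdjoinRoot P₀) := (AdjoinRoot.powerBasis' hP₀m).finite
  haveI : Finite (AdjoinRoot P₀) := Module.finite_of_finite F
  haveI : Module.Finite F (AdjoinRoot Q) := (AdjoinRoot.powerBasis' hQm).finite
  haveI : Finite (AdjoinRoot Q) := Module.finite_of_finite F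
  obtain ⟨ψ⟩ := FiniteField.nonempty_algHom_of_finrank_dvd (F := F) (K := AdjoinRoot Q) (L := AdjoinRoot P₀) (by
    rw [(AdjoinRoot.powerBasis' hP₀m).finrank, AdjoinRoot.powerBasis'_dim, (AdjoinRoot.powerBasis' hQm).finrank,
      AdjoinRoot.powerBasis'_dim, hd₀, (natDegree_eq_orderOf hr hQi hQm hQd hQne).trans hbo])
  haveI : NeZero r := ⟨hr0⟩
  obtain ⟨j, -, hj⟩ := (IsPrimitiveRoot.iff_orderOf.2 (orderOf_eq_prime (root_pow_eq_one hr0 hP₀) (root_ne_one hr0 hP₀))
    ).eq_pow_of_pow_eq_one (ξ := ψ (AdjoinRoot.root Q)) (by rw [← map_pow, root_pow_eq_one hr0 hQ, map_one])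
  refine ⟨A ^ j, ?_, by rw [← pow_mul, mul_comm, pow_mul, hAr, one_pow], ?_⟩
  · refine (iso_iff hh).1 fun u w => ?_
    rw [Matrix.toLin'_pow]
    have hpi : ∀ (i : ℕ) u w, H σ b ((g ^ i) u) ((g ^ i) w) = H σ b u w := fun i => by
      induction i with
      | zero => intro u w; simp
      | succ i ih => intro u w; rw [pow_succ, Module.End.mul_apply, Module.End.mul_apply, ih, (iso_iff hh).2 hA]
    exact hpi j u w
  · have hd : P₀ ∣ Q.comp (X ^ j) := AdjoinRoot.mk_eq_zero.1 (by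
      rw [← AdjoinRoot.aeval_eq, aeval_comp, map_pow, aeval_X, hj, aeval_algHom_apply, AdjoinRoot.aeval_eq,
        AdjoinRoot.mk_self, map_zero])
    rw [Matrix.toLin'_pow, ← hg]
    refine LinearMap.ext fun u => ?_
    obtain ⟨a, rfl⟩ := (show u ∈ cyc g v from htop ▸ Submodule.mem_top)
    obtain ⟨c, hc⟩ := hd
    have e : aeval g (Q.comp (X ^ j)) (evalAt g v a) = 0 := by
      rw [evalAt_apply, ← Module.End.mul_apply, ← map_mul, hc, mul_assoc, mul_comm P₀, map_mul, Module.End.mul_apply, hPv,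
        map_zero]
    rwa [aeval_comp, map_pow, aeval_X] at e

end types

end CfsgLib.ThreeTransp.UnitTI
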