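import Cfsg.Agent.Lib.ThreeTransp.CycloClass
import Cfsg.Agent.Lib.ThreeTransp.DiagModel
import Cfsg.Agent.Lib.ThreeTransp.PolarPair
import Cfsg.Agent.Lib.KnownB.UnitaryConj

/-!
Unitary matrices of degree four whose order is 3 or 5: the classes and centralisers with every determinant.
-/

set_option autoImplicit false

namespace CfsgLib.ThreeTransp.UnitaryFour

open Polynomial Matrix
open CfsgLib.KnownB.UnitaryConj (adj)
open CfsgLib.ThreeTransp.CycloClass (Phi)

variable {F : Type*} [Field F] [Fintype F] {τ : F →+* F} (hτ2 : ∀ a, τ (τ a) = a)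

/-- The basis change from a polar pair of planes to the standard hermitian form. -/
def polarP (μ : F) : Matrix (Fin 4) (Fin 4) F :=
  !![1, 0, 1 / 2, 0; μ, 0, -μ / 2, 0; 0, 1, 0, 1 / 2; 0, μ, 0, -μ / 2]

/-- The pairing of the index sets. -/
abbrev e22 : Fin 2 ⊕ Fin 2 ≃ Fin 4 := finSumFinEquiv

theorem polar_gram (σ : F ≃+* F) (h2 : (2 : F) ≠ 0) {μ : F} (hμ : μ * σ μ = -1) :
    (polarP μ)ᵀ * (polarP μ).map σ = PolarPair.gramJ F e22 := by
  have hJ : PolarPair.gramJ F e22 = !![0, 0, 1, 0; 0, 0, 0, 1; 1, 0, 0, 0; 0, 1, 0, 0] := by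
    ext i j
    fin_cases i <;> fin_cases j <;> rfl
  rw [hJ]
  ext i j
  fin_cases i <;> fin_cases j <;> simp [polarP, Matrix.mul_apply, Fin.sum_univ_four, map_ofNat, div_eq_mul_inv] <;>
    field_simp <;> grind

include hτ2 in
theorem adj_inv {x : GL (Fin 4) F} (hx : adj τ (x : Matrix (Fin 4) (Fin 4) F) * x = 1) :
    ((x⁻¹ : GL (Fin 4) F) : Matrix (Fin 4) (Fin 4) F) = adj τ (x : Matrix (Fin 4) (Fin 4) F) := by
  have := congrArg (· * ((x⁻¹ : GL (Fin 4) F) : Matrix (Fin 4) (Fin 4) F)) hx
  simpa [mul_assoc] using this.symm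

include hτ2 in
/-- The class of an element of order three. -/
theorem class_three (hfix : ∀ ω : F, ω ^ 3 = 1 → τ ω = ω) (h3 : (3 : F) ≠ 0) (h3q : 3 ∣ Fintype.card F - 1)
    {x : GL (Fin 4) F} (hx : adj τ (x : Matrix (Fin 4) (Fin 4) F) * x = 1)
    (hx3 : (x : Matrix (Fin 4) (Fin 4) F) ^ 3 = 1) (hx1 : x ≠ 1) :
    ((x : Matrix (Fin 4) (Fin 4) F).trace = 1 ∧
      (x : Matrix (Fin 4) (Fin 4) F).charpoly = (X - 1) ^ 2 * Phi F 3) ∨
    ((x : Matrix (Fin 4) (Fin 4) F).trace = -2 ∧
      (x : Matrix (Fin 4) (Fin 4) F).charpoly = Phi F 3 ^ 2) := by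
  classical
  haveI : Fact (Nat.Prime 3) := ⟨Nat.prime_three⟩
  obtain ⟨ωu, hωu⟩ := exists_prime_orderOf_dvd_card 3 (G := Fˣ) (by rw [Fintype.card_units]; exact h3q)
  set ω : F := (ωu : F) with hω
  have hω3 : ω ^ 3 = 1 := by rw [hω, ← Units.val_pow_eq_pow_val, ← hωu, pow_orderOf_eq_one, Units.val_one]
  have hω1 : ω ≠ 1 := fun h1 => by
    rw [show ωu = 1 from Units.ext h1, orderOf_one] at hωu
    exact absurd hωu (by norm_num)
  have hsum : 1 + ω + ω ^ 2 = 0 := (mul_eq_zero.1 (show (ω - 1) * (1 + ω + ω ^ 2) = 0 by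
    linear_combination hω3)).resolve_left (sub_ne_zero.2 hω1)
  have hω0 : ω ≠ 0 := fun h => by rw [h] at hω3; simp at hω3
  have hw1 : ω ^ 2 ≠ 1 := fun h => hω1 (by linear_combination hω3 - ω * h)
  have hww : ω ^ 2 ≠ ω := fun h => hω1 (mul_right_cancel₀ hω0 (by linear_combination h))
  have hz : (x : Matrix (Fin 4) (Fin 4) F) ^ 3 = ((1 : F) ^ 3) • 1 := by rw [hx3, one_pow, one_smul]
  obtain ⟨d, hchar, hd⟩ := DiagModel.exists_roots (r := 3) h3q hz
  have hd3 : ∀ i, d i ^ 3 = 1 := fun i => by rw [hd, one_pow]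
  have hcase : ∀ i, d i = 1 ∨ d i = ω ∨ d i = ω ^ 2 := fun i => by
    have : (d i - 1) * ((d i - ω) * (d i - ω ^ 2)) = 0 := by
      linear_combination hd3 i + (d i - d i ^ 2) * hsum + (d i - 1) * hω3
    rcases mul_eq_zero.1 this with h | h
    · exact Or.inl (sub_eq_zero.1 h)
    rcases mul_eq_zero.1 h with h | h
    · exact Or.inr (Or.inl (sub_eq_zero.1 h))
    · exact Or.inr (Or.inr (sub_eq_zero.1 h))
  have hd0 : ∀ i, d i ≠ 0 := fun i h => by
    have := hd3 i; rw [h] at this; simp at this
  let D : GL (Fin 4) F := GeneralLinearGroup.mkOfDetNeZero (diagonal d)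
    (by rw [det_diagonal]; exact Finset.prod_ne_zero_iff.2 fun i _ => hd0 i)
  have hD : (D : Matrix (Fin 4) (Fin 4) F) = diagonal d := rfl
  have hconj : IsConj x D := DiagModel.isConj_diag (r := 3) (by exact_mod_cast h3) one_ne_zero
    (by rw [hx3, one_smul]) hd3 hD hchar
  -- the roots are closed under inversion
  have hinvroots : Finset.univ.val.map d = Finset.univ.val.map (fun i => (d i)⁻¹) := by
    have h1 : ((x⁻¹ : GL (Fin 4) F) : Matrix (Fin 4) (Fin 4) F).charpoly = ∏ i, (X - C (d i)) := by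
      rw [adj_inv hτ2 hx, adj, Matrix.charpoly_transpose, Matrix.charpoly_map, hchar, Polynomial.map_prod]
      refine Finset.prod_congr rfl fun i _ => ?_
      rw [Polynomial.map_sub, map_X, map_C, hfix _ (hd3 i)]
    obtain ⟨g, hg⟩ := isConj_iff.1 hconj
    have h2 : ((x⁻¹ : GL (Fin 4) F) : Matrix (Fin 4) (Fin 4) F).charpoly = ∏ i, (X - C (d i)⁻¹) := by
      have e : x⁻¹ = g⁻¹ * D⁻¹ * g := by rw [← hg]; group
      have e' : ((D⁻¹ : GL (Fin 4) F) : Matrix (Fin 4) (Fin 4) F) = diagonal fun i => (d i)⁻¹ := by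
        rw [Matrix.coe_units_inv, hD]
        exact Matrix.inv_eq_right_inv (by
          rw [diagonal_mul_diagonal, ← diagonal_one]
          exact congrArg _ (funext fun i => mul_inv_cancel₀ (hd0 i)))
      rw [e, Units.val_mul, Units.val_mul, Matrix.coe_units_inv g, Matrix.charpoly_units_conj', e', Matrix.charpoly_diagonal]
    have h := congrArg Polynomial.roots (h1.symm.trans h2)
    rw [Finset.prod_eq_multiset_prod, Finset.prod_eq_multiset_prod,
      show (fun i => X - C (d i)) = (fun a : F => X - C a) ∘ d from rfl,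
      show (fun i => X - C (d i)⁻¹) = (fun a : F => X - C a) ∘ fun i => (d i)⁻¹ from rfl,
      ← Multiset.map_map, ← Multiset.map_map, roots_multiset_prod_X_sub_C, roots_multiset_prod_X_sub_C] at h
    exact h
  set M := Finset.univ.val.map d with hM
  set a := M.count 1
  set b := M.count ω
  have hbc : M.count (ω ^ 2) = b := by
    have hmap : Finset.univ.val.map (fun i => (d i)⁻¹) = M.map (fun a => a⁻¹) := by
      rw [hM, Multiset.map_map]; rfl
    rw [hmap] at hinvroots
    have hwi : ω ^ 2 = ω⁻¹ := eq_inv_of_mul_eq_one_left (by linear_combination hω3)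
    show M.count (ω ^ 2) = M.count ω
    conv_lhs => rw [hinvroots, hwi, Multiset.count_map_eq_count' _ _ inv_injective]
  have hMeq : M = Multiset.replicate a 1 + Multiset.replicate b ω + Multiset.replicate b (ω ^ 2) := by
    refine Multiset.ext.2 fun u => ?_
    simp only [Multiset.count_add, Multiset.count_replicate]
    by_cases h1 : u = 1
    · subst h1; simp [hω1, hw1]; rfl
    by_cases h2 : u = ω
    · subst h2; simp [Ne.symm h1, hww]; rfl
    by_cases h3' : u = ω ^ 2
    · subst h3'; simp [Ne.symm hw1, Ne.symm hww, hbc]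
    rw [if_neg (Ne.symm h1), if_neg (Ne.symm h2), if_neg (Ne.symm h3'), Multiset.count_eq_zero.2]
    intro hu
    obtain ⟨i, -, rfl⟩ := Multiset.mem_map.1 hu
    rcases hcase i with h | h | h <;> contradiction
  have hcard : a + b + b = 4 := by
    have := congrArg Multiset.card hMeq
    simpa [hM, add_assoc] using this.symm
  have hPhi : Phi F 3 = (X - C ω) * (X - C (ω ^ 2)) := by
    have e1 : C (1 : F) + C ω + C (ω ^ 2) = 0 := by rw [← map_add, ← map_add, hsum, map_zero]
    have e2 : C ω * C (ω ^ 2) = 1 := by rw [← map_mul, show ω * ω ^ 2 = 1 by linear_combination hω3, map_one]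
    simp [Phi, Finset.sum_range_succ]
    rw [map_one, map_pow] at e1
    rw [map_pow] at e2
    linear_combination X * e1 - e2
  have hcp : (x : Matrix (Fin 4) (Fin 4) F).charpoly = (X - 1) ^ a * Phi F 3 ^ b := by
    rw [hchar, Finset.prod_eq_multiset_prod, show (fun i => X - C (d i)) = (fun a : F => X - C a) ∘ d from rfl,
      ← Multiset.map_map, ← hM, hMeq]
    simp only [Multiset.map_add, Multiset.map_replicate, Multiset.prod_add, Multiset.prod_replicate, map_one, hPhi,
      mul_pow, mul_assoc]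
  have htr : (x : Matrix (Fin 4) (Fin 4) F).trace = a + b * (ω + ω ^ 2) := by
    obtain ⟨g, hg⟩ := isConj_iff.1 hconj
    rw [← Matrix.trace_units_conj g, ← Units.val_mul, ← Units.val_mul, hg, hD, trace_diagonal,
      Finset.sum_eq_multiset_sum, ← hM, hMeq]
    simp only [Multiset.sum_add, Multiset.sum_replicate, nsmul_eq_mul, mul_one]
    ring
  rcases (show b = 0 ∨ b = 1 ∨ b = 2 by omega) with h | h | h
  · refine absurd ?_ hx1
    have hd1 : ∀ i, d i = 1 := fun i => by
      have hi : d i ∈ M := Multiset.mem_map_of_mem d (Finset.mem_univ i)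
      rw [hMeq, h, Multiset.replicate_zero, Multiset.replicate_zero, add_zero, add_zero] at hi
      exact Multiset.eq_of_mem_replicate hi
    obtain ⟨g, hg⟩ := isConj_iff.1 hconj
    have : D = 1 := Units.ext (by rw [hD, Units.val_one, ← diagonal_one]; exact congrArg _ (funext hd1))
    exact conj_eq_one_iff.1 (hg.trans this)
  · refine Or.inl ⟨?_, by rw [hcp, h, show a = 2 by omega, pow_one]⟩
    rw [htr, h, show a = 2 by omega]; push_cast; linear_combination hsum
  · refine Or.inr ⟨?_, by rw [hcp, h, show a = 0 by omega, pow_zero, one_mul]⟩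
    rw [htr, h, show a = 0 by omega]; push_cast; linear_combination (2 : F) * hsum

set_option maxHeartbeats 1000000 in
include hτ2 in
/-- The class of an element of order five. -/
theorem class_five {T : F} (hT : T ^ 2 + T - 1 = 0) (hτT : τ T = -1 - T) (h5 : (5 : F) ≠ 0)
    (h5q : ¬ 5 ∣ Fintype.card F - 1) {x : GL (Fin 4) F} (hx : adj τ (x : Matrix (Fin 4) (Fin 4) F) * x = 1)
    (hx5 : (x : Matrix (Fin 4) (Fin 4) F) ^ 5 = 1) (hx1 : x ≠ 1) :
    (x : Matrix (Fin 4) (Fin 4) F).charpoly = Phi F 5 := by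
  classical
  set A := (x : Matrix (Fin 4) (Fin 4) F) with hA
  let Q : F → F[X] := fun s => X ^ 2 - C s * X + 1
  have hQdeg : ∀ s, (Q s).natDegree = 2 := fun s => by
    show (X ^ 2 - C s * X + 1 : F[X]).natDegree = 2
    compute_degree!
  have hQm : ∀ s, (Q s).Monic := fun s => by
    show (X ^ 2 - C s * X + 1 : F[X]).Monic
    monicity!
  have hprod : Q T * Q (-1 - T) = Phi F 5 := by
    have e : C T ^ 2 + C T - 1 = 0 := by rw [← map_pow, ← map_add, ← C_1, ← map_sub, hT, map_zero]
    simp only [Q, Phi, Finset.sum_range_succ, Finset.sum_range_zero, map_sub, map_neg, map_one]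
    linear_combination (-X ^ 2) * e
  have hXQ : (X - 1) * (Q T * Q (-1 - T)) = X ^ 5 - 1 := by
    haveI : Fact (Nat.Prime 5) := ⟨by norm_num⟩
    rw [hprod]; exact CycloClass.Phi_mul
  have hirr : ∀ s, Q s ∣ Q T * Q (-1 - T) → Irreducible (Q s) := fun s hs => by
    refine (Polynomial.irreducible_iff_roots_eq_zero_of_degree_le_three (by rw [hQdeg]) (by rw [hQdeg]; omega)).2
      (Multiset.eq_zero_of_forall_notMem fun lam hlam => ?_)
    rw [mem_roots (hQm s).ne_zero] at hlam
    have h0 : (Phi F 5).eval lam = 0 := by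
      rw [← hprod]; exact eval_eq_zero_of_dvd_of_eval_eq_zero hs hlam
    have hl5 : lam ^ 5 = 1 := by
      have := congrArg (eval lam) hXQ
      rw [eval_mul, hprod, h0, mul_zero] at this
      simp at this
      linear_combination -this
    have hl1 : lam = 1 := by
      by_contra hne
      haveI : Fact (Nat.Prime 5) := ⟨by norm_num⟩
      have ho : orderOf lam = 5 := orderOf_eq_prime hl5 hne
      refine h5q ?_
      rw [← ho]
      exact orderOf_dvd_of_pow_eq_one (FiniteField.pow_card_sub_one_eq_one lam (fun h => by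
        rw [h] at hl5; simp at hl5))
    rw [hl1] at h0
    simp [Phi] at h0
    exact h5 (by linear_combination h0)
  have hne : T ≠ -1 - T := fun h => h5 (by linear_combination (4 : F) * (-hT) + (2 * T + 1) * h)
  have hcop : IsCoprime (Q T) (Q (-1 - T)) := by
    refine ((hirr T (dvd_mul_right _ _)).coprime_iff_not_dvd).2 fun hd => hne ?_
    have := eq_of_monic_of_associated (hQm _) (hQm _)
      ((hirr T (dvd_mul_right _ _)).associated_of_dvd (hirr _ (dvd_mul_left _ _)) hd)
    have := congrArg (fun P => P.coeff 1) this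
    simp [Q] at this
    linear_combination -this
  -- each factor divides the characteristic polynomial
  have hmin : minpoly F A ∣ (X - 1) * (Q T * Q (-1 - T)) := by
    rw [hXQ]
    refine minpoly.dvd F A ?_
    rw [map_sub, map_pow, aeval_X, map_one, hx5, sub_self]
  have hW : adj τ A * A = 1 := hx
  have hWx : A * adj τ A = 1 := mul_eq_one_comm.1 hW
  have hI := CfsgLib.KnownB.UnitaryConj.isInvol_adj (n := 4) (σ := τ) hτ2
  have hsym : ∀ s s', τ s' = s → aeval A ((X - 1) * Q s') = 0 → aeval A ((X - 1) * Q s) = 0 := by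
    intro s s' hs h
    simp only [Q, map_mul, map_sub, map_add, map_pow, aeval_X, map_one, aeval_C, Algebra.algebraMap_eq_smul_one,
      smul_mul_assoc, one_mul] at h ⊢
    set W := adj τ A
    have hadj : (W * W - s • W + 1) * (W - 1) = 0 := by
      have := congrArg (adj τ) h
      rw [hI.map_mul] at this
      rw [show adj τ (0 : Matrix (Fin 4) (Fin 4) F) = 0 by simp [adj]] at this
      rw [← this, pow_two]
      simp [adj, Matrix.map_add, Matrix.map_sub, Matrix.map_mul, Matrix.map_smul', hs, W]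
    have e : (W * W - s • W + 1) * (W - 1) * (A * A * A) = -((A - 1) * (A ^ 2 - s • A + 1)) := by
      simp only [sub_mul, add_mul, mul_sub, one_mul, mul_one, smul_mul_assoc, mul_assoc, mul_add, mul_smul_comm]
      simp only [← mul_assoc W A, hW, one_mul, mul_one, pow_two]
      module
    rw [hadj, zero_mul] at e
    exact neg_eq_zero.1 e.symm
  have hkey : ∀ s s', s + s' = -1 → τ s' = s → Q T * Q (-1 - T) = Q s * Q s' → Q s ∣ A.charpoly := by
    intro s s' hss hs hQQ
    by_contra hnd
    have hc : IsCoprime (Q s) (minpoly F A) :=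
      ((hirr s (hQQ ▸ dvd_mul_right _ _)).coprime_iff_not_dvd).2 fun hd => hnd (hd.trans (Matrix.minpoly_dvd_charpoly A))
    have hd : minpoly F A ∣ (X - 1) * Q s' := by
      refine hc.symm.dvd_of_dvd_mul_left ?_
      rw [hQQ] at hmin
      rwa [← mul_assoc, mul_comm (X - 1) (Q s), mul_assoc] at hmin
    obtain ⟨u, hu⟩ := hd
    have h1 : aeval A ((X - 1) * Q s') = 0 := by rw [hu, map_mul, minpoly.aeval, zero_mul]
    have h2 := hsym s s' hs h1
    have h3 : (s - s') • ((A - 1) * A) = 0 := by
      have : aeval A ((X - 1) * Q s' - (X - 1) * Q s) = 0 := by rw [map_sub, h1, h2, sub_zero]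
      rw [show (X - 1) * Q s' - (X - 1) * Q s = C (s - s') * ((X - 1) * X) by simp only [Q, map_sub]; ring] at this
      rwa [map_mul, map_mul, map_sub (aeval A) (X : F[X]) 1, aeval_X, map_one, aeval_C, Algebra.algebraMap_eq_smul_one,
        smul_mul_assoc, one_mul] at this
    have hss' : s - s' ≠ 0 := fun h => by
      rw [sub_eq_zero] at h
      subst h
      have hf : τ s = s := hs
      have hh := congrArg τ hss
      rw [map_add, hf, map_neg, map_one] at hh
      have h0 : Q T * Q (-1 - T) = Q s * Q s := hQQ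
      have hd' : Q s ∣ Q T * Q (-1 - T) := h0 ▸ dvd_mul_right _ _
      rcases (hirr s hd').prime.dvd_or_dvd hd' with hq | hq
      · have := eq_of_monic_of_associated (hQm _) (hQm _) ((hirr s hd').associated_of_dvd (hirr T (dvd_mul_right _ _)) hq)
        rw [this] at h0
        exact hne (by
          have := congrArg (fun P => P.coeff 1) (mul_left_cancel₀ (hQm T).ne_zero h0)
          simp [Q] at this
          first | linear_combination this | linear_combination -this)
      · have := eq_of_monic_of_associated (hQm _) (hQm _)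
          ((hirr s hd').associated_of_dvd (hirr _ (dvd_mul_left _ _)) hq)
        rw [this] at h0
        exact hne (by
          have := congrArg (fun P => P.coeff 1) (mul_right_cancel₀ (hQm (-1 - T)).ne_zero h0)
          simp [Q] at this
          first | linear_combination this | linear_combination -this)
    have h4 := (smul_eq_zero.1 h3).resolve_left hss'
    have h5' := congrArg (· * adj τ A) h4
    rw [mul_assoc, hWx, mul_one, zero_mul, sub_eq_zero] at h5'
    exact hx1 (Units.ext h5')
  have hT' : τ (-1 - T) = T := by rw [← hτT, hτ2]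
  have d1 : Q T ∣ A.charpoly := hkey T (-1 - T) (by ring) hT' rfl
  have d2 : Q (-1 - T) ∣ A.charpoly := hkey (-1 - T) T (by ring) hτT (mul_comm _ _)
  refine (eq_of_monic_of_dvd_of_natDegree_le ?_ (Matrix.charpoly_monic A) (hprod ▸ hcop.mul_dvd d1 d2) ?_)
  · haveI : Fact (Nat.Prime 5) := ⟨by norm_num⟩
    exact CycloClass.Phi_monic
  · haveI : Fact (Nat.Prime 5) := ⟨by norm_num⟩
    rw [Matrix.charpoly_natDegree_eq_dim, Fintype.card_fin, CycloClass.Phi_natDegree]

end CfsgLib.ThreeTransp.UnitaryFour
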